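import Mathlib.RepresentationTheory.Irreducible
import Mathlib.Analysis.Fourier.FiniteAbelian.PontryaginDuality
import Mathlib.LinearAlgebra.Dimension.Constructions
import Mathlib.LinearAlgebra.Dimension.Finrank
import Mathlib.LinearAlgebra.FiniteDimensional.Basic
import Mathlib.LinearAlgebra.Matrix.ToLin

/-!
# Weight spaces of finite abelian subgroups in complex representations

A representation restricted to an abelian subgroup (given as `u : AddChar A G`) splits into
weight spaces; counting the weights in an orbit bounds the degree from below.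
-/

set_option autoImplicit false

namespace CfsgLib.MinDeg

open Module

section Weights

variable {A : Type*} [AddCommGroup A] {V : Type*} [AddCommGroup V] [Module ℂ V]

/-- The simultaneous eigenspace of `E` for the character `ψ`. -/
def weightSpace (E : AddChar A (Module.End ℂ V)) (ψ : AddChar A ℂ) : Submodule ℂ V :=
  ⨅ a, LinearMap.ker (E a - ψ a • 1)

theorem mem_weightSpace {E : AddChar A (Module.End ℂ V)} {ψ : AddChar A ℂ} {v : V} :
    v ∈ weightSpace E ψ ↔ ∀ a, E a v = ψ a • v := by
  simp [weightSpace, sub_eq_zero]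

variable [Fintype A]

/-- The projection to the weight space of `ψ`. -/
noncomputable def weightProj (E : AddChar A (Module.End ℂ V)) (ψ : AddChar A ℂ) :
    Module.End ℂ V :=
  (Fintype.card A : ℂ)⁻¹ • ∑ a, ψ (-a) • E a

theorem weightProj_apply (E : AddChar A (Module.End ℂ V)) (ψ : AddChar A ℂ) (v : V) :
    weightProj E ψ v = (Fintype.card A : ℂ)⁻¹ • ∑ a, ψ (-a) • E a v := by
  simp [weightProj, LinearMap.sum_apply]

theorem weightProj_mem (E : AddChar A (Module.End ℂ V)) (ψ : AddChar A ℂ) (v : V) :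
    weightProj E ψ v ∈ weightSpace E ψ := by
  rw [mem_weightSpace]
  intro b
  rw [weightProj_apply, map_smul, map_sum, smul_comm, Finset.smul_sum (r := ψ b)]
  congr 1
  refine Fintype.sum_equiv (Equiv.addLeft b) _ _ fun a => ?_
  simp only [Equiv.coe_addLeft, map_smul, smul_smul]
  rw [← AddChar.map_add_eq_mul ψ, AddChar.map_add_eq_mul E]
  simp

theorem card_cast_ne_zero : (Fintype.card A : ℂ) ≠ 0 := by
  exact_mod_cast Fintype.card_ne_zero

theorem weightProj_of_mem {E : AddChar A (Module.End ℂ V)} {ψ : AddChar A ℂ} {v : V}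
    (hv : v ∈ weightSpace E ψ) : weightProj E ψ v = v := by
  rw [weightProj_apply]
  have h : ∀ a, ψ (-a) • E a v = v := fun a => by
    rw [mem_weightSpace.1 hv a, smul_smul, ← AddChar.map_add_eq_mul, neg_add_cancel,
      AddChar.map_zero_eq_one, one_smul]
  rw [Finset.sum_congr rfl fun a _ => h a, Finset.sum_const, Finset.card_univ,
    ← Nat.cast_smul_eq_nsmul ℂ, smul_smul, inv_mul_cancel₀ card_cast_ne_zero, one_smul]

theorem weightProj_of_mem_ne {E : AddChar A (Module.End ℂ V)} {ψ ψ' : AddChar A ℂ} (hne : ψ ≠ ψ')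
    {v : V} (hv : v ∈ weightSpace E ψ') : weightProj E ψ v = 0 := by
  rw [weightProj_apply]
  have h : ∀ a, ψ (-a) • E a v = (ψ' / ψ) a • v := fun a => by
    rw [mem_weightSpace.1 hv a, smul_smul, AddChar.div_apply', AddChar.map_neg_eq_inv]
    ring_nf
  rw [Finset.sum_congr rfl fun a _ => h a, ← Finset.sum_smul]
  have h0 : ψ' / ψ ≠ 0 := fun h => hne (div_eq_one.1 (show ψ' / ψ = 1 from h)).symm
  rw [AddChar.sum_eq_zero_iff_ne_zero.2 h0, zero_smul, smul_zero]

/-- The weight spaces of finitely many distinct characters are independent. -/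
theorem sum_finrank_le [FiniteDimensional ℂ V] (E : AddChar A (Module.End ℂ V))
    (T : Finset (AddChar A ℂ)) : ∑ ψ ∈ T, finrank ℂ (weightSpace E ψ) ≤ finrank ℂ V := by
  classical
  let π : V →ₗ[ℂ] ∀ ψ : T, weightSpace E ψ.1 :=
    LinearMap.pi fun ψ => (weightProj E ψ.1).codRestrict _ (weightProj_mem E ψ.1)
  have hπ : Function.Surjective π := by
    intro f
    refine ⟨∑ ψ : T, (f ψ : V), ?_⟩
    funext φ
    apply Subtype.ext
    simp only [π, LinearMap.pi_apply, map_sum, AddSubmonoidClass.coe_finsetSum, LinearMap.codRestrict_apply]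
    rw [Finset.sum_eq_single φ (fun ψ _ hne => weightProj_of_mem_ne
      (fun h => hne (Subtype.ext h.symm)) (f ψ).2) (by simp)]
    exact weightProj_of_mem (f φ).2
  have h := LinearMap.finrank_le_finrank_of_surjective hπ
  rw [Module.finrank_pi_fintype] at h
  rwa [Finset.sum_coe_sort T (fun ψ => finrank ℂ (weightSpace E ψ))] at h

/-- `N` distinct characters, each with weight space of dimension at least `r`. -/
theorem mul_le_finrank [FiniteDimensional ℂ V] (E : AddChar A (Module.End ℂ V))
    (T : Finset (AddChar A ℂ)) (r : ℕ) (h : ∀ ψ ∈ T, r ≤ finrank ℂ (weightSpace E ψ)) :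
    T.card * r ≤ finrank ℂ V :=
  calc T.card * r = ∑ _ψ ∈ T, r := by simp
    _ ≤ ∑ ψ ∈ T, finrank ℂ (weightSpace E ψ) := Finset.sum_le_sum h
    _ ≤ finrank ℂ V := sum_finrank_le E T

theorem sum_weightProj (E : AddChar A (Module.End ℂ V)) (v : V) :
    ∑ ψ : AddChar A ℂ, weightProj E ψ v = v := by
  classical
  simp only [weightProj_apply]
  rw [← Finset.smul_sum, Finset.sum_comm]
  simp only [← Finset.sum_smul, AddChar.sum_apply_eq_ite, neg_eq_zero]
  simp [ite_smul]

/-- If `E a` is not trivial then some character not trivial at `a` occurs. -/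
theorem exists_weight_apply_ne_one (E : AddChar A (Module.End ℂ V)) {a : A} (ha : E a ≠ 1) :
    ∃ ψ : AddChar A ℂ, ψ a ≠ 1 ∧ weightSpace E ψ ≠ ⊥ := by
  by_contra h
  push Not at h
  apply ha
  apply LinearMap.ext
  intro v
  conv_lhs => rw [← sum_weightProj E v]
  rw [map_sum, Module.End.one_apply]
  conv_rhs => rw [← sum_weightProj E v]
  refine Finset.sum_congr rfl fun ψ _ => ?_
  have hmem := weightProj_mem E ψ v
  by_cases hψ : ψ a = 1
  · rw [mem_weightSpace.1 hmem a, hψ, one_smul]
  · rw [h ψ hψ, Submodule.mem_bot] at hmem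
    rw [hmem, map_zero]

/-- If `E` is not trivial then some nontrivial character occurs. -/
theorem exists_weight_ne_zero (E : AddChar A (Module.End ℂ V)) {a : A} (ha : E a ≠ 1) :
    ∃ ψ : AddChar A ℂ, ψ ≠ 0 ∧ weightSpace E ψ ≠ ⊥ := by
  obtain ⟨ψ, hψ, hW⟩ := exists_weight_apply_ne_one E ha
  exact ⟨ψ, fun h => hψ (by simp [h]), hW⟩

end Weights

section Transport

variable {A : Type*} [AddCommGroup A] {G : Type*} [Group G] {V : Type*} [AddCommGroup V]
  [Module ℂ V]

/-- The restriction of `ρ` along `u`. -/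
def resChar (ρ : Representation ℂ G V) (u : AddChar A G) : AddChar A (Module.End ℂ V) :=
  MonoidHom.compAddChar ρ u

@[simp] theorem resChar_apply (ρ : Representation ℂ G V) (u : AddChar A G) (a : A) :
    resChar ρ u a = ρ (u a) := rfl

theorem rep_injective (ρ : Representation ℂ G V) (g : G) : Function.Injective (ρ g) := fun x y h => by
  have := congrArg (ρ g⁻¹) h
  simpa [← Module.End.mul_apply, ← map_mul] using this

/-- An element normalising the subgroup permutes the weight spaces. -/
theorem mapsTo_weightSpace (ρ : Representation ℂ G V) (u : AddChar A G) (g : G) (φ : A ≃+ A)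
    (hg : ∀ a, g * u a = u (φ a) * g) (ψ ψ' : AddChar A ℂ) (hψ : ∀ a, ψ' (φ a) = ψ a) :
    ∀ v ∈ weightSpace (resChar ρ u) ψ, ρ g v ∈ weightSpace (resChar ρ u) ψ' := by
  intro v hv
  rw [mem_weightSpace] at hv ⊢
  intro b
  obtain ⟨a, rfl⟩ := φ.surjective b
  rw [resChar_apply, ← Module.End.mul_apply, ← map_mul, ← hg a, map_mul, Module.End.mul_apply,
    ← resChar_apply ρ u, hv a, map_smul, hψ a]

theorem finrank_weightSpace_le [FiniteDimensional ℂ V] (ρ : Representation ℂ G V) (u : AddChar A G)
    (g : G) (φ : A ≃+ A) (hg : ∀ a, g * u a = u (φ a) * g) (ψ ψ' : AddChar A ℂ)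
    (hψ : ∀ a, ψ' (φ a) = ψ a) :
    finrank ℂ (weightSpace (resChar ρ u) ψ) ≤ finrank ℂ (weightSpace (resChar ρ u) ψ') :=
  LinearMap.finrank_le_finrank_of_injective
    (f := (ρ g).restrict (mapsTo_weightSpace ρ u g φ hg ψ ψ' hψ))
    fun _ _ h => Subtype.ext (rep_injective ρ g (congrArg Subtype.val h))

theorem one_le_finrank_of_ne_bot [FiniteDimensional ℂ V] {W : Submodule ℂ V} (h : W ≠ ⊥) :
    1 ≤ finrank ℂ W := by
  rw [Nat.one_le_iff_ne_zero]
  exact fun h0 => h (Submodule.finrank_eq_zero.1 h0)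

/-- Orbit bound: the weights in an orbit of a normalising set all have the same multiplicity. -/
theorem orbit_mul_le_finrank [Fintype A] [FiniteDimensional ℂ V] (ρ : Representation ℂ G V)
    (u : AddChar A G) (ψ : AddChar A ℂ) (r : ℕ) (hr : r ≤ finrank ℂ (weightSpace (resChar ρ u) ψ))
    (T : Finset (AddChar A ℂ))
    (hT : ∀ ψ' ∈ T, ∃ (g : G) (φ : A ≃+ A), (∀ a, g * u a = u (φ a) * g) ∧ ∀ a, ψ' (φ a) = ψ a) :
    T.card * r ≤ finrank ℂ V := by
  refine mul_le_finrank (resChar ρ u) T r fun ψ' hψ' => ?_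
  obtain ⟨g, φ, hg, hψ⟩ := hT ψ' hψ'
  exact hr.trans (finrank_weightSpace_le ρ u g φ hg ψ ψ' hψ)

end Transport

section Kernel

variable {G : Type*} [Group G]

/-- An irreducible representation of degree at least two of a group that is the normal closure
of a set of elements is non-trivial on one of them. -/
theorem exists_rep_ne_one {k : ℕ} (ρ : Representation ℂ G (Fin k → ℂ)) (hρ : ρ.IsIrreducible)
    (hk : 2 ≤ k) (S : Set G) (hS : Subgroup.normalClosure S = ⊤) : ∃ s ∈ S, ρ s ≠ 1 := by
  by_contra h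
  push Not at h
  have hle : Subgroup.normalClosure S ≤ MonoidHom.ker ρ :=
    Subgroup.normalClosure_le_normal fun s hs => h s hs
  rw [hS] at hle
  have htriv : ∀ g, ρ g = 1 := fun g => hle (Subgroup.mem_top g)
  have : NeZero k := ⟨by omega⟩
  let v : Fin k → ℂ := Pi.single 0 1
  have hv : v ≠ 0 := by simp [v]
  let W : Subrepresentation ρ := ⟨ℂ ∙ v, fun g x hx => by rw [htriv g]; simpa using hx⟩
  rcases hρ.eq_bot_or_eq_top W with hW | hW
  · exact hv ((Submodule.mem_bot ℂ).1 <| by
      have : v ∈ W.toSubmodule := Submodule.mem_span_singleton_self v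
      rw [hW] at this; exact this)
  · have h1 : finrank ℂ (ℂ ∙ v) = 1 := finrank_span_singleton hv
    have h2 : (ℂ ∙ v) = ⊤ := congrArg Subrepresentation.toSubmodule hW
    rw [h2, finrank_top, Module.finrank_fin_fun] at h1
    omega

end Kernel

section Projective

variable {V : Type*} [AddCommGroup V] [Module ℂ V]

/-- Eigenvectors of a family of conjugations with separated eigenvalues are independent. -/
theorem linearIndependent_of_separated {ι κ : Type*} (T : ι → V) (hT : ∀ i, T i ≠ 0)
    (c : κ → Module.End ℂ V) (β : κ → ι → ℂ) (hc : ∀ y i, c y (T i) = β y i • T i)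
    (hsep : ∀ i j, i ≠ j → ∃ y, β y i ≠ β y j) : LinearIndependent ℂ T := by
  classical
  rw [linearIndependent_iff']
  intro s
  induction s using Finset.induction with
  | empty => simp
  | insert j s hj ih =>
    intro g hg
    rw [Finset.sum_insert hj] at hg
    have key : ∀ i ∈ s, g i = 0 := by
      intro i hi
      have hij : i ≠ j := fun h => hj (h ▸ hi)
      obtain ⟨y, hy⟩ := hsep i j hij
      have h1 := congrArg (c y) hg
      have h2 := congrArg (fun v => β y j • v) hg
      simp only [map_add, map_sum, map_smul, hc, map_zero] at h1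
      simp only [smul_add, Finset.smul_sum, smul_zero] at h2
      have h3 : ∑ i ∈ s, (g i * (β y i - β y j)) • T i = 0 := by
        rw [← sub_eq_zero.2 (h1.trans h2.symm)]
        rw [smul_comm (g j) (β y j), add_sub_add_left_eq_sub, ← Finset.sum_sub_distrib]
        refine Finset.sum_congr rfl fun x _ => ?_
        rw [smul_smul, smul_smul, ← sub_smul]
        ring_nf
      exact (mul_eq_zero.1 (ih _ h3 i hi)).resolve_right (sub_ne_zero.2 hy)
    intro i hi
    rcases Finset.mem_insert.1 hi with rfl | hi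
    · have : g i • T i = 0 := by
        rwa [Finset.sum_eq_zero (fun x hx => by rw [key x hx, zero_smul]), add_zero] at hg
      exact (smul_eq_zero.1 this).resolve_right (hT i)
    · exact key i hi

end Projective

section Heisenberg

variable {G : Type*} [Group G] {V : Type*} [AddCommGroup V] [Module ℂ V] [FiniteDimensional ℂ V]

/-- Multiplicity bound: elements stabilising `W` whose commutators act on `W` by scalars that
separate an index set `ι` force `card ι ≤ (finrank W)²`. -/
theorem card_le_sq_finrank {ι κ : Type*} [Fintype ι] (ρ : Representation ℂ G V) (W : Submodule ℂ V)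
    (hW : W ≠ ⊥) (x : ι → G) (y : κ → G) (β : κ → ι → ℂ)
    (hx : ∀ i, ∀ w ∈ W, ρ (x i) w ∈ W) (hy : ∀ j, ∀ w ∈ W, ρ (y j) w ∈ W)
    (hy' : ∀ j, ∀ w ∈ W, ρ (y j)⁻¹ w ∈ W)
    (hcomm : ∀ j i, ∀ w ∈ W, ρ (y j * x i * (y j)⁻¹) w = β j i • ρ (x i) w)
    (hsep : ∀ i i', i ≠ i' → ∃ j, β j i ≠ β j i') :
    Fintype.card ι ≤ finrank ℂ W * finrank ℂ W := by
  let T : ι → Module.End ℂ W := fun i => (ρ (x i)).restrict (hx i)
  let c : κ → Module.End ℂ (Module.End ℂ W) := fun j =>
    (LinearMap.mulLeft ℂ ((ρ (y j)).restrict (hy j))) ∘ₗ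
      (LinearMap.mulRight ℂ ((ρ (y j)⁻¹).restrict (hy' j)))
  have hT : ∀ i, T i ≠ 0 := fun i h => by
    obtain ⟨w, hw, hw0⟩ := Submodule.exists_mem_ne_zero_of_ne_bot hW
    apply hw0
    have : ρ (x i) w = 0 := congrArg Subtype.val (LinearMap.congr_fun h ⟨w, hw⟩)
    exact rep_injective ρ (x i) (this.trans (map_zero _).symm)
  have hc : ∀ j i, c j (T i) = β j i • T i := by
    intro j i
    apply LinearMap.ext
    intro w
    apply Subtype.ext
    have := hcomm j i w.1 w.2
    simpa [c, T, mul_assoc, map_mul] using this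
  have h := (linearIndependent_of_separated T hT c β hc hsep).fintype_card_le_finrank
  rwa [Module.finrank_linearMap] at h

end Heisenberg

end CfsgLib.MinDeg
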