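import Mathlib.LinearAlgebra.Matrix.SpecialLinearGroup
import Mathlib.LinearAlgebra.Matrix.Transvection
import Mathlib.LinearAlgebra.Matrix.NonsingularInverse
import Mathlib.LinearAlgebra.Matrix.SchurComplement
import Mathlib.LinearAlgebra.Matrix.DotProduct
import Mathlib.LinearAlgebra.FiniteDimensional.Basic
import Cfsg.Agent.Lib.MinDeg.Basic

/-!
# Siegel unipotent radicals of hyperbolic unitary / symplectic groups

`F` is a field with involution `star`, `ε = ±1`; the form has matrix `[[0, 1], [ε, 0]]`.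
-/

set_option autoImplicit false

namespace CfsgLib.MinDeg

open Matrix

variable {F : Type*} [Field F] [StarRing F] {m : ℕ}

/-- The matrices `H` with `Hᴴ = -εH`: the parameters of the Siegel radical. -/
def skewPart (m : ℕ) (ε : F) : AddSubgroup (Matrix (Fin m) (Fin m) F) where
  carrier := {H | Hᴴ = -(ε • H)}
  add_mem' {a b} ha hb := by
    simp only [Set.mem_ofPred_eq] at ha hb ⊢
    rw [conjTranspose_add, ha, hb, smul_add, neg_add]
  zero_mem' := by simp
  neg_mem' {a} ha := by
    simp only [Set.mem_ofPred_eq] at ha ⊢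
    rw [conjTranspose_neg, ha, smul_neg]

theorem mem_skewPart {ε : F} {H : Matrix (Fin m) (Fin m) F} :
    H ∈ skewPart m ε ↔ Hᴴ = -(ε • H) := Iff.rfl

/-- The matrix of the form. -/
def formJ (m : ℕ) (ε : F) : Matrix (Fin m ⊕ Fin m) (Fin m ⊕ Fin m) F := fromBlocks 0 1 (ε • 1) 0

/-- Upper Siegel element. -/
def upperU (H : Matrix (Fin m) (Fin m) F) : Matrix (Fin m ⊕ Fin m) (Fin m ⊕ Fin m) F :=
  fromBlocks 1 H 0 1

/-- Lower Siegel element. -/
def lowerU (H : Matrix (Fin m) (Fin m) F) : Matrix (Fin m ⊕ Fin m) (Fin m ⊕ Fin m) F :=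
  fromBlocks 1 0 H 1

/-- Levi element. -/
noncomputable def leviM (A : Matrix (Fin m) (Fin m) F) :
    Matrix (Fin m ⊕ Fin m) (Fin m ⊕ Fin m) F :=
  fromBlocks A 0 0 (A⁻¹)ᴴ

/-- Anti-diagonal element attached to an invertible skew matrix. -/
noncomputable def antiW (S : Matrix (Fin m) (Fin m) F) :
    Matrix (Fin m ⊕ Fin m) (Fin m ⊕ Fin m) F :=
  fromBlocks 0 S (-S⁻¹) 0

omit [StarRing F] in
theorem upperU_mul (H K : Matrix (Fin m) (Fin m) F) : upperU H * upperU K = upperU (H + K) := by
  simp [upperU, fromBlocks_multiply, add_comm]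

omit [StarRing F] in
theorem upperU_zero : upperU (0 : Matrix (Fin m) (Fin m) F) = 1 := by simp [upperU]

omit [StarRing F] in
theorem lowerU_mul (H K : Matrix (Fin m) (Fin m) F) : lowerU H * lowerU K = lowerU (H + K) := by
  simp [lowerU, fromBlocks_multiply]

omit [StarRing F] in
theorem lowerU_zero : lowerU (0 : Matrix (Fin m) (Fin m) F) = 1 := by simp [lowerU]

theorem leviM_one : leviM (1 : Matrix (Fin m) (Fin m) F) = 1 := by simp [leviM]

theorem leviM_mul (A B : Matrix (Fin m) (Fin m) F) : leviM A * leviM B = leviM (A * B) := by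
  simp [leviM, fromBlocks_multiply, Matrix.mul_inv_rev]

theorem leviM_mul_upperU (A H : Matrix (Fin m) (Fin m) F) (hA : A.det ≠ 0) :
    leviM A * upperU H = upperU (A * H * Aᴴ) * leviM A := by
  have h : Aᴴ * (A⁻¹)ᴴ = 1 := by
    rw [← conjTranspose_mul, nonsing_inv_mul A (Ne.isUnit hA), conjTranspose_one]
  simp [leviM, upperU, fromBlocks_multiply, Matrix.mul_assoc, h]

omit [StarRing F] in
theorem antiW_eq (S : Matrix (Fin m) (Fin m) F) (hS : S.det ≠ 0) :
    antiW S = upperU S * lowerU (-S⁻¹) * upperU S := by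
  simp [antiW, upperU, lowerU, fromBlocks_multiply, mul_nonsing_inv S (Ne.isUnit hS),
    nonsing_inv_mul S (Ne.isUnit hS)]

omit [StarRing F] in
theorem antiW_mul_upperU (S H : Matrix (Fin m) (Fin m) F) (hS : S.det ≠ 0) :
    lowerU H * antiW S = antiW S * upperU (-(S * H * S)) := by
  have hu := Ne.isUnit hS
  simp [antiW, upperU, lowerU, fromBlocks_multiply, ← Matrix.mul_assoc, nonsing_inv_mul S hu]

variable {ε : F}

theorem conjTranspose_inv_of_mem {S : Matrix (Fin m) (Fin m) F} (hε : ε * ε = 1)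
    (hS : S ∈ skewPart m ε) : (S⁻¹)ᴴ = -(ε • S⁻¹) := by
  by_cases hd : IsUnit S.det
  · rw [conjTranspose_nonsing_inv, mem_skewPart.1 hS]
    refine inv_eq_right_inv ?_
    simp [Matrix.smul_mul, Matrix.mul_smul, smul_smul, hε, mul_nonsing_inv S hd]
  · simp [nonsing_inv_apply_not_isUnit S hd]

theorem neg_inv_mem {S : Matrix (Fin m) (Fin m) F} (hε : ε * ε = 1) (hS : S ∈ skewPart m ε) :
    -S⁻¹ ∈ skewPart m ε := by
  rw [mem_skewPart, conjTranspose_neg, conjTranspose_inv_of_mem hε hS, smul_neg]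

theorem conj_mem {S H : Matrix (Fin m) (Fin m) F} (hε : ε * ε = 1) (hS : S ∈ skewPart m ε)
    (hH : H ∈ skewPart m ε) : -(S * H * S) ∈ skewPart m ε := by
  rw [mem_skewPart, conjTranspose_neg, conjTranspose_mul, conjTranspose_mul, mem_skewPart.1 hS,
    mem_skewPart.1 hH]
  simp [Matrix.smul_mul, Matrix.mul_smul, smul_smul, hε, Matrix.mul_assoc, mul_comm, mul_left_comm]

theorem congr_mem {H : Matrix (Fin m) (Fin m) F} (A : Matrix (Fin m) (Fin m) F)
    (hH : H ∈ skewPart m ε) : A * H * Aᴴ ∈ skewPart m ε := by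
  rw [mem_skewPart, conjTranspose_mul, conjTranspose_mul, conjTranspose_conjTranspose,
    mem_skewPart.1 hH]
  simp [Matrix.smul_mul, Matrix.mul_smul, Matrix.mul_assoc]

theorem antiW_mul_antiW (S T : Matrix (Fin m) (Fin m) F) (hε : ε * ε = 1)
    (hS : S ∈ skewPart m ε) (hT : T ∈ skewPart m ε) (hTd : T.det ≠ 0) :
    antiW S * antiW T = leviM (-(S * T⁻¹)) := by
  have h1 : (-(S * T⁻¹))⁻¹ = -(T * S⁻¹) := by
    have e : -(S * T⁻¹) = (-1 : F) • (S * T⁻¹) := by simp
    rw [e]
    by_cases hd : IsUnit S.det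
    · refine inv_eq_right_inv ?_
      simp [Matrix.mul_assoc]
      rw [nonsing_inv_mul_cancel_left _ _ (Ne.isUnit hTd), mul_nonsing_inv S hd]
    · have : ¬ IsUnit ((-1 : F) • (S * T⁻¹)).det := by
        rw [isUnit_iff_ne_zero, not_not] at hd ⊢
        rw [det_smul, det_mul, hd, zero_mul, mul_zero]
      rw [nonsing_inv_apply_not_isUnit _ this, nonsing_inv_apply_not_isUnit S hd]
      simp
  simp [antiW, leviM, fromBlocks_multiply, h1, conjTranspose_inv_of_mem hε hS,
    mem_skewPart.1 hT, Matrix.smul_mul, Matrix.mul_smul, smul_smul, hε]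

section Transvections

omit [StarRing F]

variable {ι : Type*} [Fintype ι] [DecidableEq ι]

theorem transvection_triple {i j : ι} (hij : i ≠ j) {a : F} (ha : a ≠ 0) :
    transvection i j a * transvection j i (-a⁻¹) * transvection i j a =
      1 - single i i 1 - single j j 1 + single i j a - single j i a⁻¹ := by
  simp only [Matrix.transvection, Matrix.mul_add, Matrix.add_mul, Matrix.one_mul, Matrix.mul_one,
    single_mul_single_same, single_mul_single_of_ne _ _ _ _ hij, single_mul_single_of_ne _ _ _ _ hij.symm]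
  simp only [← Matrix.single_neg, mul_neg, neg_mul, mul_inv_cancel₀ ha, inv_mul_cancel₀ ha]
  simp
  abel

theorem diag_pair {i j : ι} (hij : i ≠ j) {a : F} (ha : a ≠ 0) :
    (diagonal fun k => if k = i then a else if k = j then a⁻¹ else 1) =
      (transvection i j a * transvection j i (-a⁻¹) * transvection i j a) *
        (transvection i j (-1) * transvection j i (-(-1)⁻¹) * transvection i j (-1)) := by
  rw [transvection_triple hij ha, transvection_triple hij (neg_ne_zero.2 (one_ne_zero' F))]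
  simp only [Matrix.mul_add, Matrix.add_mul, Matrix.sub_mul, Matrix.mul_sub, Matrix.one_mul,
    Matrix.mul_one, single_mul_single_same, single_mul_single_of_ne _ _ _ _ hij,
    single_mul_single_of_ne _ _ _ _ hij.symm]
  ext k l
  simp only [Matrix.add_apply, Matrix.sub_apply, Matrix.one_apply, Matrix.single_apply,
    diagonal_apply, Matrix.zero_apply]
  grind

/-- A submonoid containing all transvections contains every matrix of determinant one. -/
theorem mem_of_det_eq_one [Nontrivial ι] (K : Submonoid (Matrix ι ι F))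
    (htr : ∀ (i j : ι), i ≠ j → ∀ c : F, transvection i j c ∈ K) (A : Matrix ι ι F)
    (hA : A.det = 1) : A ∈ K := by
  suffices ∀ M : SpecialLinearGroup ι F, (M : Matrix ι ι F) ∈ K from this ⟨A, hA⟩
  intro M
  refine Matrix.SpecialLinearGroup.diagonal_transvection_induction'
    (fun M : SpecialLinearGroup ι F => (M : Matrix ι ι F) ∈ K) M (fun i j hij c hc => ?_)
    (fun i j hij c => htr i j hij c) (fun X Y hX hY => K.mul_mem hX hY)
  rw [SpecialLinearGroup.diag2n_coe, diag_pair hij hc]
  exact K.mul_mem (K.mul_mem (K.mul_mem (htr i j hij _) (htr j i hij.symm _)) (htr i j hij _))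
    (K.mul_mem (K.mul_mem (htr i j hij _) (htr j i hij.symm _)) (htr i j hij _))

theorem diag_mul_single (d : ι → F) (i j : ι) (x : F) :
    diagonal d * single i j x = single i j (d i * x) := by
  ext k l
  rw [diagonal_mul]
  simp only [single_apply]
  grind

theorem single_mul_diag (d : ι → F) (i j : ι) (x : F) :
    single i j x * diagonal d = single i j (x * d j) := by
  ext k l
  rw [mul_diagonal]
  simp only [single_apply]
  grind

end Transvections

/-- There is a skew `H` making `A + H C` invertible. -/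
theorem exists_skew_det_ne_zero {t : F} (ht : star t = -(ε * t)) (ht0 : t ≠ 0)
    (A C : Matrix (Fin m) (Fin m) F) (hinj : ∀ x, A *ᵥ x = 0 → C *ᵥ x = 0 → x = 0)
    (hiso : Aᴴ * C + ε • (Cᴴ * A) = 0) (hε : ε * ε = 1) :
    ∃ H ∈ skewPart m ε, (A + H * C).det ≠ 0 := by
  obtain ⟨N, hN⟩ := Submodule.exists_isCompl (LinearMap.range A.mulVecLin)
  let b := Module.finBasis F N
  let P : Matrix (Fin m) (Fin (Module.finrank F N)) F := Matrix.of fun i j => (b j : Fin m → F) i
  have hPmul : ∀ y, P *ᵥ y = ((∑ j, y j • b j : N) : Fin m → F) := fun y => by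
    ext i
    simp [P, mulVec, dotProduct, Finset.sum_apply, mul_comm]
  refine ⟨t • (P * Pᴴ), ?_, ?_⟩
  · rw [mem_skewPart, conjTranspose_smul, conjTranspose_mul, conjTranspose_conjTranspose, ht,
      smul_smul, neg_smul]
  · intro hdet
    obtain ⟨x, hx0, hx⟩ := exists_mulVec_eq_zero_iff.2 hdet
    rw [add_mulVec, Matrix.smul_mul, smul_mulVec, ← mulVec_mulVec, ← mulVec_mulVec] at hx
    set y := Pᴴ *ᵥ (C *ᵥ x) with hy
    have hPy : P *ᵥ y ∈ N := by rw [hPmul]; exact Submodule.coe_mem _
    have hAN : A *ᵥ x ∈ N := by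
      rw [eq_neg_of_add_eq_zero_left hx]
      exact N.neg_mem (N.smul_mem t hPy)
    have hAx : A *ᵥ x = 0 :=
      (Submodule.disjoint_def.1 hN.disjoint) _ ⟨x, rfl⟩ hAN
    rw [hAx, zero_add, smul_eq_zero] at hx
    have hy0 : y = 0 := by
      have h1 : (∑ j, y j • b j : N) = 0 :=
        Subtype.ext ((hPmul y).symm.trans (hx.resolve_left ht0))
      funext j
      have := congrArg (fun v => b.repr v j) h1
      simpa [Finsupp.single_apply] using this
    apply hx0
    refine hinj x hAx (star_eq_zero.1 ((dotProduct_eq_zero_iff).1 fun z => ?_))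
    obtain ⟨_, ⟨u, rfl⟩, n, hn, rfl⟩ := Submodule.mem_sup.1
      (show z ∈ LinearMap.range A.mulVecLin ⊔ N by rw [hN.sup_eq_top]; exact Submodule.mem_top)
    rw [dotProduct_add, mulVecLin_apply]
    have h1 : star (C *ᵥ x) ⬝ᵥ (A *ᵥ u) = 0 := by
      have hz : Cᴴ * A = -(ε • (Aᴴ * C)) := by
        calc Cᴴ * A = ε • (ε • (Cᴴ * A)) := by rw [smul_smul, hε, one_smul]
          _ = ε • (-(Aᴴ * C)) := by rw [eq_neg_of_add_eq_zero_right hiso]
          _ = -(ε • (Aᴴ * C)) := smul_neg _ _
      rw [star_mulVec, ← dotProduct_mulVec, mulVec_mulVec, hz, neg_mulVec, smul_mulVec,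
        dotProduct_neg, dotProduct_smul, ← mulVec_mulVec, dotProduct_mulVec, ← star_mulVec, hAx]
      simp
    have h2 : star (C *ᵥ x) ⬝ᵥ n = 0 := by
      have hn' : n = P *ᵥ fun j => b.repr ⟨n, hn⟩ j := by rw [hPmul, b.sum_repr]
      have : star (C *ᵥ x) ᵥ* P = star y := by rw [hy, star_mulVec Pᴴ, conjTranspose_conjTranspose]
      rw [hn', dotProduct_mulVec, this, hy0]
      simp
    rw [h1, h2, add_zero]

/-- A group realised as matrices preserving the hyperbolic form, containing both Siegel radicals. -/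
structure SiegelData (G : Type*) [Group G] (F : Type*) [Field F] [StarRing F] (m : ℕ) (ε : F) where
  f : G →* Matrix (Fin m ⊕ Fin m) (Fin m ⊕ Fin m) F
  inj : Function.Injective f
  isometry : ∀ g, (f g)ᴴ * formJ m ε * f g = formJ m ε
  detCond : ∀ g, (f g).det = 1 ∨ ∀ x : F, star x = x
  upper : skewPart m ε → G
  upper_spec : ∀ H, f (upper H) = upperU H.1
  lower : skewPart m ε → G
  lower_spec : ∀ H, f (lower H) = lowerU H.1

section Generation

variable {G : Type*} [Group G] (D : SiegelData G F m ε)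

/-- The Siegel radical as an `AddChar`. -/
def SiegelData.radical : AddChar (skewPart m ε) G where
  toFun := D.upper
  map_zero_eq_one' := D.inj (by rw [D.upper_spec, map_one, ZeroMemClass.coe_zero, upperU_zero])
  map_add_eq_mul' H K := D.inj (by
    rw [map_mul, D.upper_spec, D.upper_spec, D.upper_spec, upperU_mul, AddMemClass.coe_add])

theorem SiegelData.f_radical (H : skewPart m ε) : D.f (D.radical H) = upperU H.1 := D.upper_spec H

variable {t : F}

theorem scalarSkew_mem (ht : star t = -(ε * t)) :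
    t • (1 : Matrix (Fin m) (Fin m) F) ∈ skewPart m ε := by
  rw [mem_skewPart, conjTranspose_smul, conjTranspose_one, ht, smul_smul, neg_smul]

theorem scalarSkew_det (ht0 : t ≠ 0) : (t • (1 : Matrix (Fin m) (Fin m) F)).det ≠ 0 := by
  simp [det_smul, ht0]

/-- Elements of a submonoid containing both radicals: Levi elements with real determinant. -/
theorem leviM_mem (hε : ε * ε = 1) (hm : 2 ≤ m) (ht : star t = -(ε * t)) (ht0 : t ≠ 0)
    (K : Submonoid (Matrix (Fin m ⊕ Fin m) (Fin m ⊕ Fin m) F))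
    (hU : ∀ H ∈ skewPart m ε, upperU H ∈ K) (hL : ∀ H ∈ skewPart m ε, lowerU H ∈ K)
    (A : Matrix (Fin m) (Fin m) F) (hA : A.det ≠ 0) (hA' : star A.det = A.det) :
    leviM A ∈ K := by
  have : Nontrivial (Fin m) := Fin.nontrivial_iff_two_le.2 hm
  have hpair : ∀ S T, S ∈ skewPart m ε → T ∈ skewPart m ε → S.det ≠ 0 → T.det ≠ 0 →
      leviM (-(S * T⁻¹)) ∈ K := by
    intro S T hS hT hSd hTd
    rw [← antiW_mul_antiW S T hε hS hT hTd, antiW_eq S hSd, antiW_eq T hTd]
    exact K.mul_mem (K.mul_mem (K.mul_mem (hU S hS) (hL _ (neg_inv_mem hε hS))) (hU S hS))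
      (K.mul_mem (K.mul_mem (hU T hT) (hL _ (neg_inv_mem hε hT))) (hU T hT))
  let L : Submonoid (Matrix (Fin m) (Fin m) F) :=
    { carrier := {X | leviM X ∈ K}
      one_mem' := by
        show leviM (1 : Matrix (Fin m) (Fin m) F) ∈ K
        rw [leviM_one]; exact K.one_mem
      mul_mem' := fun {a b} ha hb => by
        show leviM (a * b) ∈ K
        rw [← leviM_mul]; exact K.mul_mem ha hb }
  have hεs : star ε = ε := by
    rcases mul_self_eq_one_iff.1 hε with h | h <;> simp [h]
  have htr : ∀ i j : Fin m, i ≠ j → ∀ c : F, transvection i j c ∈ L := by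
    intro i j hij c
    by_cases hc : c = 0
    · subst hc; rw [transvection_zero]; exact L.one_mem
    -- `P` is skew with `transvection * P` skew as well
    let p := star (t / c)
    let r := -(ε * (t / c))
    let P : Matrix (Fin m) (Fin m) F :=
      diagonal (fun k => if k = i ∨ k = j then 0 else t) + single i j p + single j i r
    have hP : P ∈ skewPart m ε := by
      rw [mem_skewPart]
      simp only [P, conjTranspose_add, diagonal_conjTranspose, conjTranspose_single, p, r,
        star_neg, star_mul', star_star, hεs]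
      ext k l
      simp only [Matrix.add_apply, Matrix.neg_apply, Matrix.smul_apply, diagonal_apply,
        single_apply, Pi.star_apply, smul_eq_mul, apply_ite (star : F → F), star_zero, star_mul', hεs]
      grind
    have hPsq : P * (diagonal (fun k => if k = i ∨ k = j then 0 else t⁻¹) + single i j r⁻¹ +
        single j i p⁻¹) = 1 := by
      have hp : p ≠ 0 := by simp [p, ht0, hc]
      have hr : r ≠ 0 := by
        simp [r, ht0, hc]; rintro rfl; simp at hε
      simp only [P, Matrix.mul_add, Matrix.add_mul, diagonal_mul_diagonal, diag_mul_single,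
        single_mul_diag, single_mul_single_same, single_mul_single_of_ne _ _ _ _ hij,
        single_mul_single_of_ne _ _ _ _ hij.symm]
      ext k l
      simp only [Matrix.add_apply, diagonal_apply, single_apply, Matrix.one_apply,
        Matrix.zero_apply]
      grind
    have hPd : P.det ≠ 0 := fun h => by simpa [h] using congrArg Matrix.det hPsq
    have hEP : transvection i j c * P ∈ skewPart m ε := by
      have e : transvection i j c * P = P + single i i (c * r) := by
        simp only [Matrix.transvection, Matrix.add_mul, Matrix.one_mul, P, Matrix.mul_add,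
          single_mul_diag, single_mul_single_same, single_mul_single_of_ne _ _ _ _ hij.symm]
        ext k l
        simp only [Matrix.add_apply, single_apply, diagonal_apply, Matrix.zero_apply]
        grind
      rw [e]
      refine (skewPart m ε).add_mem hP ?_
      have hcr : c * r = -(ε * t) := by simp only [r]; field_simp
      rw [mem_skewPart, conjTranspose_single, hcr, smul_single, star_neg, star_mul', hεs, ht,
        ← single_neg, smul_eq_mul]
    have := hpair _ (-P) hEP (neg_mem hP) (by rw [det_mul, det_transvection_of_ne i j hij, one_mul]; exact hPd)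
      (by rw [det_neg]; exact mul_ne_zero (pow_ne_zero _ (by simp)) hPd)
    have hinv : (-P)⁻¹ = -P⁻¹ := inv_eq_right_inv (by simp [mul_nonsing_inv P (Ne.isUnit hPd)])
    rw [hinv, Matrix.mul_neg, neg_neg, mul_nonsing_inv_cancel_right _ _ (Ne.isUnit hPd)] at this
    exact this
  have hsl : ∀ X : Matrix (Fin m) (Fin m) F, X.det = 1 → X ∈ L := mem_of_det_eq_one L htr
  obtain ⟨i₀⟩ : Nonempty (Fin m) := ⟨⟨0, by omega⟩⟩
  let d : Fin m → F := fun k => if k = i₀ then A.det else 1
  have hdd : (diagonal d).det = A.det := by simp [det_diagonal, d, Finset.prod_ite_eq']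
  have hdL : diagonal d ∈ L := by
    have hmem : t • diagonal d ∈ skewPart m ε := by
      rw [mem_skewPart, conjTranspose_smul, diagonal_conjTranspose, ht, smul_smul, neg_smul]
      congr
      funext k
      by_cases hk : k = i₀ <;> simp [d, hk, hA']
    have h := hpair _ _ (neg_mem hmem) (scalarSkew_mem ht)
      (by rw [det_neg, det_smul, hdd]; exact mul_ne_zero (pow_ne_zero _ (by simp))
            (mul_ne_zero (pow_ne_zero _ ht0) hA))
      (scalarSkew_det ht0)
    have hinv : (t • (1 : Matrix (Fin m) (Fin m) F))⁻¹ = t⁻¹ • 1 :=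
      inv_eq_right_inv (by simp [smul_smul, ht0])
    rw [hinv, Matrix.neg_mul, neg_neg, Matrix.smul_mul, Matrix.mul_smul, Matrix.mul_one, smul_smul,
      mul_inv_cancel₀ ht0, one_smul] at h
    exact h
  have hX : A * (diagonal d)⁻¹ ∈ L := hsl _ (by
    rw [det_mul, det_nonsing_inv, hdd, Ring.inverse_eq_inv', mul_inv_cancel₀ hA])
  have := L.mul_mem hX hdL
  rwa [nonsing_inv_mul_cancel_right _ _ (Ne.isUnit (hdd.symm ▸ hA))] at this

/-- Every isometry (of determinant one, unless `star` is trivial) is generated by the radicals. -/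
theorem isometry_mem (hε : ε * ε = 1) (hm : 2 ≤ m) (ht : star t = -(ε * t)) (ht0 : t ≠ 0)
    (K : Submonoid (Matrix (Fin m ⊕ Fin m) (Fin m ⊕ Fin m) F))
    (hU : ∀ H ∈ skewPart m ε, upperU H ∈ K) (hL : ∀ H ∈ skewPart m ε, lowerU H ∈ K)
    (g : Matrix (Fin m ⊕ Fin m) (Fin m ⊕ Fin m) F) (hg : gᴴ * formJ m ε * g = formJ m ε)
    (hd : g.det = 1 ∨ ∀ x : F, star x = x) : g ∈ K := by
  obtain ⟨A, B, C, E, rfl⟩ : ∃ A B C E, g = fromBlocks A B C E :=
    ⟨_, _, _, _, (fromBlocks_toBlocks g).symm⟩
  rw [formJ, fromBlocks_conjTranspose, fromBlocks_multiply, fromBlocks_multiply,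
    fromBlocks_inj] at hg
  simp only [Matrix.mul_zero, add_zero, zero_add, Matrix.mul_one, Matrix.mul_smul, Matrix.smul_mul] at hg
  obtain ⟨h11, h12, h21, h22⟩ := hg
  have hinj : ∀ x, A *ᵥ x = 0 → C *ᵥ x = 0 → x = 0 := by
    intro x hA hC
    have h := congrArg (fun M => M *ᵥ x) h21
    simp only [add_mulVec, smul_mulVec, ← mulVec_mulVec, hA, hC, mulVec_zero, smul_zero,
      add_zero, one_mulVec] at h
    exact (smul_eq_zero.1 h.symm).resolve_left (by rintro rfl; simp at hε)
  obtain ⟨H, hH, hA'⟩ := exists_skew_det_ne_zero ht ht0 A C hinj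
    (by rw [add_comm]; exact h11) hε
  set A' := A + H * C with hA'def
  set B' := B + H * E with hB'def
  have hHh : Hᴴ = -(ε • H) := hH
  have k11 : ε • (Cᴴ * A') + A'ᴴ * C = 0 := by
    rw [← h11]
    simp only [hA'def, conjTranspose_add, conjTranspose_mul, hHh, Matrix.mul_add, Matrix.add_mul,
      Matrix.mul_neg, Matrix.neg_mul, Matrix.smul_mul, Matrix.mul_smul, smul_add, Matrix.mul_assoc]
    abel
  have k12 : ε • (Cᴴ * B') + A'ᴴ * E = 1 := by
    rw [← h12]
    simp only [hA'def, hB'def, conjTranspose_add, conjTranspose_mul, hHh, Matrix.mul_add, Matrix.add_mul,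
      Matrix.mul_neg, Matrix.neg_mul, Matrix.smul_mul, Matrix.mul_smul, smul_add, Matrix.mul_assoc]
    abel
  have k22 : ε • (Eᴴ * B') + B'ᴴ * E = 0 := by
    rw [← h22]
    simp only [hB'def, conjTranspose_add, conjTranspose_mul, hHh, Matrix.mul_add, Matrix.add_mul,
      Matrix.mul_neg, Matrix.neg_mul, Matrix.smul_mul, Matrix.mul_smul, smul_add, Matrix.mul_assoc]
    abel
  have hu := Ne.isUnit hA'
  set X := C * A'⁻¹ with hXdef
  have hX : X ∈ skewPart m ε := by
    have h : ε • Xᴴ + X = 0 := by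
      have := congrArg (fun M => (A'⁻¹)ᴴ * M * A'⁻¹) k11
      simp only [Matrix.mul_add, Matrix.add_mul, Matrix.mul_smul, Matrix.smul_mul, Matrix.mul_zero,
        Matrix.zero_mul] at this
      rw [← this, hXdef, conjTranspose_mul]
      congr 1
      · rw [Matrix.mul_assoc, Matrix.mul_assoc, mul_nonsing_inv A' hu, Matrix.mul_one]
      · rw [← Matrix.mul_assoc, ← conjTranspose_mul, mul_nonsing_inv A' hu, conjTranspose_one,
          Matrix.one_mul]
    rw [mem_skewPart]
    calc Xᴴ = ε • (ε • Xᴴ) := by rw [smul_smul, hε, one_smul]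
      _ = ε • (-X) := by rw [eq_neg_of_add_eq_zero_left h]
      _ = -(ε • X) := smul_neg _ _
  set E' := E - X * B' with hE'def
  have j12 : A'ᴴ * E' = 1 := by
    rw [← k12, hE'def, Matrix.mul_sub, ← Matrix.mul_assoc, hXdef, ← Matrix.mul_assoc A'ᴴ C,
      eq_neg_of_add_eq_zero_right k11]
    simp only [Matrix.neg_mul, Matrix.smul_mul, Matrix.mul_assoc, mul_nonsing_inv_cancel_left _ _ hu]
    abel
  have hE' : E' = (A'⁻¹)ᴴ := by
    calc E' = (A'⁻¹)ᴴ * (A'ᴴ * E') := by
            rw [← Matrix.mul_assoc, ← conjTranspose_mul, mul_nonsing_inv A' hu, conjTranspose_one,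
              Matrix.one_mul]
      _ = (A'⁻¹)ᴴ := by rw [j12, Matrix.mul_one]
  set Y := A'⁻¹ * B' with hYdef
  have hY : Y ∈ skewPart m ε := by
    have e22 : ε • (E'ᴴ * B') + B'ᴴ * E' = 0 := by
      rw [← k22, hE'def]
      simp only [conjTranspose_sub, conjTranspose_mul, mem_skewPart.1 hX, Matrix.sub_mul,
        Matrix.mul_sub, Matrix.neg_mul, Matrix.mul_neg, Matrix.smul_mul, Matrix.mul_smul, smul_sub, smul_neg,
        smul_smul, hε, one_smul, Matrix.mul_assoc]
      abel
    rw [hE', conjTranspose_conjTranspose] at e22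
    rw [mem_skewPart, hYdef, conjTranspose_mul, eq_neg_iff_add_eq_zero, add_comm]
    exact e22
  have hfac : fromBlocks A B C E = upperU (-H) * lowerU X * leviM A' * upperU Y := by
    simp only [upperU, lowerU, leviM, fromBlocks_multiply, hYdef, ← hE']
    simp only [hE'def, hXdef, hA'def, hB'def, Matrix.mul_zero, Matrix.zero_mul, Matrix.one_mul,
      Matrix.mul_one, add_zero, zero_add, fromBlocks_inj]
    rw [← hA'def]
    simp only [Matrix.add_mul, Matrix.neg_mul, Matrix.one_mul, mul_nonsing_inv_cancel_left _ _ hu,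
      Matrix.mul_assoc, nonsing_inv_mul A' hu, Matrix.mul_one]
    simp only [hA'def, Matrix.mul_add, Matrix.mul_sub]
    refine ⟨?_, ?_, trivial, ?_⟩ <;> abel
  have hdA : star A'.det = A'.det := by
    rcases hd with hd | hd
    · rw [hfac] at hd
      simp only [det_mul, upperU, lowerU, leviM, det_fromBlocks_zero₂₁, det_fromBlocks_zero₁₂,
        det_one, one_mul, mul_one, det_conjTranspose, det_nonsing_inv, Ring.inverse_eq_inv',
        star_inv₀] at hd
      exact (eq_of_mul_inv_eq_one hd).symm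
    · exact hd _
  rw [hfac]
  exact K.mul_mem (K.mul_mem (K.mul_mem (hU _ ((skewPart m ε).neg_mem hH)) (hL _ hX))
    (leviM_mem hε hm ht ht0 K hU hL A' hA' hdA)) (hU _ hY)

/-- The Siegel radical normally generates. -/
theorem SiegelData.normalClosure_eq_top (hε : ε * ε = 1) (hm : 2 ≤ m) (ht : star t = -(ε * t))
    (ht0 : t ≠ 0) : Subgroup.normalClosure (Set.range D.radical) = ⊤ := by
  rw [eq_top_iff]
  intro g _
  set N := Subgroup.normalClosure (Set.range D.radical)
  have hu : ∀ H, D.upper H ∈ N := fun H => Subgroup.subset_normalClosure ⟨H, rfl⟩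
  have hU : ∀ H ∈ skewPart m ε, upperU H ∈ N.toSubmonoid.map D.f := fun H hH =>
    ⟨_, hu ⟨H, hH⟩, D.upper_spec _⟩
  let S := t • (1 : Matrix (Fin m) (Fin m) F)
  have hS : S ∈ skewPart m ε := scalarSkew_mem ht
  let w := D.upper ⟨S, hS⟩ * D.lower ⟨-S⁻¹, neg_inv_mem hε hS⟩ * D.upper ⟨S, hS⟩
  have hw : D.f w = antiW S := by
    rw [antiW_eq S (scalarSkew_det ht0)]
    simp [w, D.upper_spec, D.lower_spec]
  have hL : ∀ H ∈ skewPart m ε, lowerU H ∈ N.toSubmonoid.map D.f := by
    intro H hH
    refine ⟨D.lower ⟨H, hH⟩, ?_, D.lower_spec _⟩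
    clear_value w
    have e : D.lower ⟨H, hH⟩ = w * D.upper ⟨_, conj_mem hε hS hH⟩ * w⁻¹ := by
      rw [eq_mul_inv_iff_mul_eq]
      apply D.inj
      rw [map_mul, map_mul, D.lower_spec, D.upper_spec, hw,
        antiW_mul_upperU S H (scalarSkew_det ht0)]
    rw [e]
    exact Subgroup.normalClosure_normal.conj_mem _ (hu _) w
  obtain ⟨g', hg', e⟩ := isometry_mem hε hm ht ht0 _ hU hL _ (D.isometry g) (D.detCond g)
  rwa [D.inj e] at hg'

/-- Levi elements with real determinant lie in the group. -/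
theorem SiegelData.exists_levi (hε : ε * ε = 1) (hm : 2 ≤ m) (ht : star t = -(ε * t))
    (ht0 : t ≠ 0) (A : Matrix (Fin m) (Fin m) F) (hA : A.det ≠ 0) (hA' : star A.det = A.det) :
    ∃ g, D.f g = leviM A :=
  MonoidHom.mem_mrange.1 <| leviM_mem hε hm ht ht0 (MonoidHom.mrange D.f)
    (fun H hH => ⟨D.upper ⟨H, hH⟩, D.upper_spec _⟩)
    (fun H hH => ⟨D.lower ⟨H, hH⟩, D.lower_spec _⟩) A hA hA'

/-- Conjugation action of `A` on the radical parameters. -/
noncomputable def congrEquiv (ε : F) (A : Matrix (Fin m) (Fin m) F) (hA : A.det ≠ 0) :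
    skewPart m ε ≃+ skewPart m ε where
  toFun H := ⟨A * H.1 * Aᴴ, congr_mem A H.2⟩
  invFun H := ⟨A⁻¹ * H.1 * (A⁻¹)ᴴ, congr_mem A⁻¹ H.2⟩
  left_inv H := Subtype.ext <| by
    simp only [Matrix.mul_assoc, ← conjTranspose_mul, nonsing_inv_mul A (Ne.isUnit hA),
      conjTranspose_one, Matrix.mul_one, nonsing_inv_mul_cancel_left _ _ (Ne.isUnit hA)]
  right_inv H := Subtype.ext <| by
    simp only [Matrix.mul_assoc, ← conjTranspose_mul, mul_nonsing_inv A (Ne.isUnit hA),
      conjTranspose_one, Matrix.mul_one, mul_nonsing_inv_cancel_left _ _ (Ne.isUnit hA)]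
  map_add' H K := Subtype.ext <| by simp [Matrix.mul_add, Matrix.add_mul]

/-- Degree bound from a Siegel radical: enough weights in each orbit of non-trivial characters. -/
theorem SiegelData.degree_bound [Fintype (skewPart m ε)] (hε : ε * ε = 1) (hm : 2 ≤ m)
    (ht : star t = -(ε * t)) (ht0 : t ≠ 0) (N : ℕ) {k : ℕ}
    (ρ : Representation ℂ G (Fin k → ℂ)) (hρ : ρ.IsIrreducible) (hk : 2 ≤ k)
    (hN : ∀ ψ : AddChar (skewPart m ε) ℂ, ψ ≠ 0 → weightSpace (resChar ρ D.radical) ψ ≠ ⊥ →
      ∃ T : Finset (AddChar (skewPart m ε) ℂ), N ≤ T.card ∧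
      ∀ ψ' ∈ T, ∃ (A : Matrix (Fin m) (Fin m) F) (hA : A.det ≠ 0),
        star A.det = A.det ∧ ∀ H, ψ' (congrEquiv ε A hA H) = ψ H) : N ≤ k := by
  obtain ⟨_, ⟨H, rfl⟩, hH⟩ :=
    exists_rep_ne_one ρ hρ hk _ (D.normalClosure_eq_top hε hm ht ht0)
  obtain ⟨ψ, hψ, hW⟩ := exists_weight_ne_zero (resChar ρ D.radical) (a := H) hH
  obtain ⟨T, hTN, hT⟩ := hN ψ hψ hW
  refine hTN.trans ?_
  have := orbit_mul_le_finrank ρ D.radical ψ 1 (one_le_finrank_of_ne_bot hW) T fun ψ' hψ' => by
    obtain ⟨A, hA, hA', h⟩ := hT ψ' hψ'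
    obtain ⟨g, hg⟩ := D.exists_levi hε hm ht ht0 A hA hA'
    refine ⟨g, congrEquiv ε A hA, fun a => D.inj ?_, h⟩
    rw [map_mul, map_mul, hg, D.f_radical, D.f_radical]
    exact leviM_mul_upperU A a.1 hA
  rw [mul_one, Module.finrank_fin_fun] at this
  exact this

end Generation

end CfsgLib.MinDeg
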