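import Mathlib.FieldTheory.Finite.Basic
import Mathlib.Algebra.Polynomial.Roots
import Mathlib.LinearAlgebra.Dual.Lemmas
import Cfsg.Agent.Lib.MinDeg.Hyperbolic

/-!
# Orbits of skew-Hermitian matrices over a finite field

`F` has `q²` elements and `star x = x ^ q`.  Every orbit of nonzero skew-Hermitian `m × m`
matrices under `X ↦ B X Bᴴ` (`det B` fixed by `star`) has at least `(q^(2m) - 1)/(q+1)` elements.
-/

set_option autoImplicit false

namespace CfsgLib.MinDeg

open Matrix Finset

section Field

variable {F : Type*} [Field F] [StarRing F] [Fintype F] [DecidableEq F] {q : ℕ}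

omit [StarRing F] in
theorem card_filter_pow_le {n : ℕ} (hn : 1 < n) (c : F) :
    #{x : F | x ^ n = c * x} ≤ n := by
  classical
  set P : Polynomial F := Polynomial.X ^ n - Polynomial.C c * Polynomial.X with hP
  have hd : (Polynomial.C c * Polynomial.X : Polynomial F).degree < n :=
    lt_of_le_of_lt (Polynomial.degree_C_mul_X_le c) (by exact_mod_cast hn)
  have hdeg : P.natDegree ≤ n := by
    refine Polynomial.natDegree_sub_le_iff_left ?_ |>.2 (by simp)
    exact (Polynomial.natDegree_C_mul_le _ _).trans (by simp; omega)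
  have hne : P ≠ 0 := by
    intro h
    have h1 := congrArg (fun Q : Polynomial F => Q.coeff n) h
    simp [hP, Polynomial.coeff_X, show n ≠ 1 by omega, show (1 : ℕ) ≠ n by omega] at h1
  calc #{x : F | x ^ n = c * x} ≤ P.roots.toFinset.card := by
        refine Finset.card_le_card fun x hx => ?_
        simp only [mem_filter, mem_univ, true_and] at hx
        rw [Multiset.mem_toFinset, Polynomial.mem_roots hne]
        simp [hP, hx]
    _ ≤ Multiset.card P.roots := Multiset.toFinset_card_le _
    _ ≤ n := (Polynomial.card_roots' P).trans hdeg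

omit [StarRing F] in
theorem card_filter_pow_const_le {n : ℕ} (hn : 0 < n) (c : F) : #{x : F | x ^ n = c} ≤ n := by
  classical
  calc #{x : F | x ^ n = c} ≤ (Polynomial.nthRoots n c).toFinset.card := by
        refine Finset.card_le_card fun x hx => ?_
        simpa [Polynomial.mem_nthRoots hn] using hx
    _ ≤ Multiset.card (Polynomial.nthRoots n c) := Multiset.toFinset_card_le _
    _ ≤ n := Polynomial.card_nthRoots n c

theorem one_lt_of_card (hF : Fintype.card F = q ^ 2) : 1 < q := by
  have h := Fintype.one_lt_card (α := F)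
  rw [hF] at h
  by_contra hq
  interval_cases q <;> simp at h

theorem sq_sub_one (q : ℕ) : q ^ 2 - 1 = (q - 1) * (q + 1) := by
  rw [mul_comm, show q ^ 2 - 1 = q ^ 2 - 1 ^ 2 from by simp, Nat.sq_sub_sq]

theorem card_fixed_skew (hF : Fintype.card F = q ^ 2) (hs : ∀ x : F, star x = x ^ q) :
    #{x : F | star x = x} = q ∧ #{x : F | star x = -x} = q := by
  have hq := one_lt_of_card hF
  have hfix : #{x : F | star x = x} ≤ q := by
    simpa [hs] using card_filter_pow_le hq (1 : F)
  have hskew : #{x : F | star x = -x} ≤ q := by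
    simpa [hs] using card_filter_pow_le hq (-1 : F)
  have hsum : Fintype.card F ≤ q * #{x : F | star x = x} := by
    have hsub : Finset.image (fun x : F => x + star x) univ ⊆ ({x : F | star x = x} : Finset F) := by
      intro y hy
      obtain ⟨x, -, rfl⟩ := mem_image.1 hy
      simp [add_comm]
    have h := card_le_mul_card_image (f := fun x : F => x + star x) univ #{x : F | star x = -x} ?_
    · rw [card_univ] at h
      calc Fintype.card F ≤ _ := h
        _ ≤ q * #{x : F | star x = x} := Nat.mul_le_mul hskew (card_le_card hsub)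
    · intro y hy
      obtain ⟨x₀, -, rfl⟩ := mem_image.1 hy
      refine Finset.card_le_card_of_injOn (fun x => x - x₀) (fun x hx => ?_) (fun a _ b _ h => by simpa using h)
      simp only [coe_filter, mem_univ, true_and, Set.mem_ofPred_eq] at hx ⊢
      rw [star_sub]
      linear_combination hx
  have h1 : #{x : F | star x = x} = q := by
    refine le_antisymm hfix ?_
    rw [hF, sq] at hsum
    exact Nat.le_of_mul_le_mul_left hsum (by omega)
  refine ⟨h1, le_antisymm hskew ?_⟩
  obtain ⟨x, hx⟩ : ∃ x : F, star x ≠ x := by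
    by_contra h
    push Not at h
    rw [filter_true_of_mem fun x _ => h x, card_univ, hF] at h1
    nlinarith
  have ht : x - star x ≠ 0 := sub_ne_zero.2 fun h => hx h.symm
  have hts : star (x - star x) = -(x - star x) := by simp
  calc q = #{x : F | star x = x} := h1.symm
    _ ≤ _ := Finset.card_le_card_of_injOn (fun y => y * (x - star x)) (fun y hy => by
          simp only [coe_filter, mem_univ, true_and, Set.mem_ofPred_eq] at hy ⊢
          rw [star_mul', hy, hts, mul_neg])
        (fun a _ b _ h => mul_right_cancel₀ ht h)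

theorem exists_star_ne (hF : Fintype.card F = q ^ 2) (hs : ∀ x : F, star x = x ^ q) :
    ∃ x : F, star x ≠ x := by
  by_contra h
  push Not at h
  have h1 := (card_fixed_skew hF hs).1
  rw [filter_true_of_mem fun x _ => h x, card_univ, hF] at h1
  nlinarith [one_lt_of_card hF]

theorem exists_skew_ne_zero (hF : Fintype.card F = q ^ 2) (hs : ∀ x : F, star x = x ^ q) :
    ∃ t : F, t ≠ 0 ∧ star t = -t := by
  obtain ⟨x, hx⟩ := exists_star_ne hF hs
  exact ⟨x - star x, sub_ne_zero.2 fun h => hx h.symm, by simp⟩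

theorem exists_trace_ne_zero (hF : Fintype.card F = q ^ 2) (hs : ∀ x : F, star x = x ^ q) :
    ∃ t : F, t + star t ≠ 0 := by
  by_contra h
  push Not at h
  have h1 := (card_fixed_skew hF hs).2
  rw [filter_true_of_mem fun x _ => eq_neg_of_add_eq_zero_right (h x), card_univ, hF] at h1
  nlinarith [one_lt_of_card hF]

/-- The norm onto the fixed field is surjective. -/
theorem exists_norm_eq (hF : Fintype.card F = q ^ 2) (hs : ∀ x : F, star x = x ^ q) {a : F}
    (ha : star a = a) : ∃ c : F, c * star c = a := by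
  rcases eq_or_ne a 0 with rfl | ha0
  · exact ⟨0, by simp⟩
  have hq := one_lt_of_card hF
  have hsub : ({x : F | x ≠ 0} : Finset F).image (fun c => c * star c) ⊆
      ({x : F | star x = x} : Finset F).erase 0 := by
    intro y hy
    obtain ⟨x, hx, rfl⟩ := mem_image.1 hy
    simp only [mem_filter, mem_univ, true_and] at hx
    simp [hx, mul_comm]
  have hcard : (({x : F | star x = x} : Finset F).erase 0).card ≤
      (({x : F | x ≠ 0} : Finset F).image (fun c => c * star c)).card := by
    rw [card_erase_of_mem (by simp), (card_fixed_skew hF hs).1]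
    have h := card_le_mul_card_image (f := fun c : F => c * star c) {x : F | x ≠ 0} (q + 1)
      (fun b _ => (Finset.card_le_card (by
        intro x hx
        simp only [mem_filter] at hx ⊢
        exact ⟨mem_univ _, by rw [pow_succ', ← hs, hx.2]⟩)).trans
          (card_filter_pow_const_le (by omega) b))
    rw [filter_ne', card_erase_of_mem (mem_univ _), card_univ, hF, sq_sub_one, mul_comm] at h
    simpa [filter_ne'] using Nat.le_of_mul_le_mul_left h (by omega)
  have := (Finset.eq_of_subset_of_card_le hsub hcard).symm ▸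
    (show a ∈ ({x : F | star x = x} : Finset F).erase 0 by simp [ha, ha0])
  obtain ⟨c, -, hc⟩ := mem_image.1 this
  exact ⟨c, hc⟩

end Field

section LinearAlgebra

variable {F : Type*} [Field F] {m : ℕ}

theorem det_one_add_vecMulVec (u v : Fin m → F) : (1 + vecMulVec u v).det = 1 + v ⬝ᵥ u := by
  rw [vecMulVec_eq Unit, det_one_add_replicateCol_mul_replicateRow]

theorem one_add_vecMulVec_mulVec (u v x : Fin m → F) :
    (1 + vecMulVec u v) *ᵥ x = x + (v ⬝ᵥ x) • u := by
  rw [add_mulVec, one_mulVec, vecMulVec_mulVec, op_smul_eq_smul]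

/-- A functional with prescribed values on two independent vectors. -/
theorem exists_dot_eq (u w : Fin m → F) (hu : u ≠ 0) (hw : ∀ c : F, w ≠ c • u) (a b : F) :
    ∃ f : Fin m → F, f ⬝ᵥ u = a ∧ f ⬝ᵥ w = b := by
  have hli : LinearIndependent F ![u, w] := by
    rw [LinearIndependent.pair_iff' hu]
    exact fun c h => hw c h.symm
  obtain ⟨L, hL⟩ := LinearMap.exists_extend ((Module.Basis.span hli).constr F ![a, b])
  have key : ∀ i, L (![u, w] i) = ![a, b] i := fun i => by
    have := LinearMap.congr_fun hL (Module.Basis.span hli i)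
    rw [LinearMap.comp_apply, Submodule.subtype_apply, Module.Basis.constr_basis,
      Module.Basis.span_apply] at this
    exact this
  refine ⟨fun i => L (Pi.single i 1), ?_, ?_⟩
  · have k0 : L u = a := key 0
    rw [← k0]
    conv_rhs => rw [pi_eq_sum_univ' u, map_sum]
    simp [dotProduct, mul_comm]
  · have k1 : L w = b := key 1
    rw [← k1]
    conv_rhs => rw [pi_eq_sum_univ' w, map_sum]
    simp [dotProduct, mul_comm]

theorem exists_dot_eq_one (u : Fin m → F) (hu : u ≠ 0) : ∃ f : Fin m → F, f ⬝ᵥ u = 1 := by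
  obtain ⟨i, hi⟩ := Function.ne_iff.1 hu
  exact ⟨Pi.single i (u i)⁻¹, by simpa using inv_mul_cancel₀ hi⟩

theorem exists_det_one_of_indep (u w : Fin m → F) (hu : u ≠ 0) (hw : ∀ c : F, w ≠ c • u) :
    ∃ B : Matrix (Fin m) (Fin m) F, B.det = 1 ∧ B *ᵥ u = w := by
  obtain ⟨f, h1, h2⟩ := exists_dot_eq u w hu hw 1 1
  refine ⟨1 + vecMulVec (w - u) f, ?_, ?_⟩
  · rw [det_one_add_vecMulVec, dotProduct_sub, h1, h2, sub_self, add_zero]
  · rw [one_add_vecMulVec_mulVec, h1, one_smul, add_sub_cancel]

/-- `SL_m` is transitive on nonzero vectors. -/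
theorem exists_det_one_mulVec (hm : 2 ≤ m) (u w : Fin m → F) (hu : u ≠ 0) (hw : w ≠ 0) :
    ∃ B : Matrix (Fin m) (Fin m) F, B.det = 1 ∧ B *ᵥ u = w := by
  by_cases h : ∀ c : F, w ≠ c • u
  · exact exists_det_one_of_indep u w hu h
  push Not at h
  obtain ⟨c, rfl⟩ := h
  obtain ⟨z, hz⟩ : ∃ z, z ∉ (Submodule.span F {u}) := by
    by_contra hall
    push Not at hall
    have h1 : Module.finrank F (Submodule.span F {u}) = 1 := finrank_span_singleton hu
    rw [show Submodule.span F {u} = ⊤ from eq_top_iff.2 fun z _ => hall z, finrank_top,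
      Module.finrank_fin_fun] at h1
    omega
  have hz1 : ∀ d : F, z ≠ d • u := fun d h => hz (Submodule.mem_span_singleton.2 ⟨d, h.symm⟩)
  have hz0 : z ≠ 0 := fun h => hz1 0 (by simp [h])
  obtain ⟨B₁, d₁, e₁⟩ := exists_det_one_of_indep u z hu hz1
  have hc : c ≠ 0 := fun h => hw (by simp [h])
  obtain ⟨B₂, d₂, e₂⟩ := exists_det_one_of_indep z (c • u) hz0 fun d h => by
    rcases eq_or_ne d 0 with rfl | hd
    · exact hw (by simpa using h)
    · exact hz1 (d⁻¹ * c) (by rw [← smul_smul, h, smul_smul, inv_mul_cancel₀ hd, one_smul])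
  exact ⟨B₂ * B₁, by rw [det_mul, d₁, d₂, one_mul], by rw [← mulVec_mulVec, e₁, e₂]⟩

end LinearAlgebra

section Orbit

variable {F : Type*} [Field F] [StarRing F] [Fintype F] [DecidableEq F] {q m : ℕ}

/-- The congruence orbit under matrices with real determinant. -/
noncomputable def realOrbit (X : Matrix (Fin m) (Fin m) F) :
    Finset (Matrix (Fin m) (Fin m) F) := by
  classical
  exact {Y | ∃ B : Matrix (Fin m) (Fin m) F, B.det ≠ 0 ∧ star B.det = B.det ∧ Y = B * X * Bᴴ}

theorem mem_realOrbit {X Y : Matrix (Fin m) (Fin m) F} : Y ∈ realOrbit X ↔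
    ∃ B : Matrix (Fin m) (Fin m) F, B.det ≠ 0 ∧ star B.det = B.det ∧ Y = B * X * Bᴴ := by
  simp [realOrbit]

theorem mem_realOrbit_of_det_one {X : Matrix (Fin m) (Fin m) F} (B : Matrix (Fin m) (Fin m) F)
    (hB : B.det = 1) : B * X * Bᴴ ∈ realOrbit X := by
  classical
  exact mem_realOrbit.2 ⟨B, by simp [hB], by simp [hB], rfl⟩

theorem mulVec_mem_realOrbit {X : Matrix (Fin m) (Fin m) F} {B C : Matrix (Fin m) (Fin m) F}
    (hB : B.det = 1) (hC : C.det ≠ 0) (hC' : star C.det = C.det) :
    C * (B * X * Bᴴ) * Cᴴ ∈ realOrbit X := by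
  classical
  refine mem_realOrbit.2 ⟨C * B, by simp [hB, hC], by simp [hB, hC'], ?_⟩
  simp [conjTranspose_mul, Matrix.mul_assoc]

omit [Fintype F] [DecidableEq F] in
theorem dot_skew (X : Matrix (Fin m) (Fin m) F) (hX : Xᴴ = -X) (y z : Fin m → F) :
    star (star y ⬝ᵥ X *ᵥ z) = -(star z ⬝ᵥ X *ᵥ y) := by
  rw [star_dotProduct, star_star, star_mulVec, hX, vecMul_neg, neg_dotProduct, ← dotProduct_mulVec]

omit [Fintype F] [DecidableEq F] in
theorem vecMul_eq_neg_star (X : Matrix (Fin m) (Fin m) F) (hX : Xᴴ = -X) (w : Fin m → F) :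
    star w ᵥ* X = -star (X *ᵥ w) := by
  rw [star_mulVec, hX, vecMul_neg, neg_neg]

theorem card_ne_zero_vec (hF : Fintype.card F = q ^ 2) :
    #{u : Fin m → F | u ≠ 0} = q ^ (2 * m) - 1 := by
  rw [filter_ne', card_erase_of_mem (mem_univ _), card_univ, Fintype.card_fun, Fintype.card_fin,
    hF, ← pow_mul]

/-- An orbit of rank one. -/
theorem card_orbit_rank_one (hF : Fintype.card F = q ^ 2) (hs : ∀ x : F, star x = x ^ q)
    (hm : 2 ≤ m) (u : Fin m → F) (hu : u ≠ 0) (c : F) (hc : c ≠ 0) :
    q ^ (2 * m) - 1 ≤ (q + 1) * (realOrbit (c • vecMulVec u (star u))).card := by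
  classical
  let f : (Fin m → F) → Matrix (Fin m) (Fin m) F := fun v => c • vecMulVec v (star v)
  have hsub : ({v : Fin m → F | v ≠ 0} : Finset _).image f ⊆ realOrbit (c • vecMulVec u (star u)) := by
    intro Y hY
    obtain ⟨v, hv, rfl⟩ := mem_image.1 hY
    simp only [mem_filter, mem_univ, true_and] at hv
    obtain ⟨B, hB, hBu⟩ := exists_det_one_mulVec hm u v hu hv
    refine mem_realOrbit.2 ⟨B, by simp [hB], by simp [hB], ?_⟩
    simp only [f, Matrix.mul_smul, Matrix.smul_mul, mul_vecMulVec, vecMulVec_mul, hBu]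
    rw [← star_mulVec, hBu]
  rw [← card_ne_zero_vec hF]
  refine le_trans ?_ (Nat.mul_le_mul_left _ (card_le_card hsub))
  refine card_le_mul_card_image _ _ fun Y hY => ?_
  obtain ⟨v₀, hv₀, rfl⟩ := mem_image.1 hY
  simp only [mem_filter, mem_univ, true_and] at hv₀
  obtain ⟨i, hi⟩ := Function.ne_iff.1 hv₀
  have hsi : star (v₀ i) ≠ 0 := star_ne_zero.2 hi
  refine le_trans (Finset.card_le_card_of_injOn (fun v => v i / v₀ i) (fun v hv => ?_) ?_)
    (card_filter_pow_const_le (show 0 < q + 1 by omega) (1 : F))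
  · simp only [coe_filter, mem_filter, mem_univ, true_and, Set.mem_ofPred_eq] at hv ⊢
    have hm' := smul_right_injective _ hc hv.2
    have hii := congrFun (congrFun hm' i) i
    simp only [vecMulVec_apply, Pi.star_apply] at hii
    rw [pow_succ', ← hs, star_div₀, div_mul_div_comm, hii,
      div_self (mul_ne_zero hi hsi)]
  · intro a ha b hb hab
    simp only [coe_filter, mem_filter, mem_univ, true_and, Set.mem_ofPred_eq] at ha hb
    have ha' := smul_right_injective _ hc ha.2
    have hb' := smul_right_injective _ hc hb.2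
    have hai : a i = b i := (div_left_inj' hi).1 hab
    have hbi : star (b i) ≠ 0 := by
      intro h
      have hii := congrFun (congrFun hb' i) i
      simp only [vecMulVec_apply, Pi.star_apply, h, mul_zero] at hii
      exact mul_ne_zero hi hsi hii.symm
    funext j
    have e1 := congrFun (congrFun ha' j) i
    have e2 := congrFun (congrFun hb' j) i
    simp only [vecMulVec_apply, Pi.star_apply, hai] at e1 e2
    exact mul_right_cancel₀ hbi (e1.trans e2.symm)

/-- Every orbit of a nonzero skew-Hermitian matrix is big. -/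
theorem card_realOrbit (hF : Fintype.card F = q ^ 2) (hs : ∀ x : F, star x = x ^ q) (hm : 2 ≤ m)
    (X : Matrix (Fin m) (Fin m) F) (hX : Xᴴ = -X) (hX0 : X ≠ 0) :
    q ^ (2 * m) - 1 ≤ (q + 1) * (realOrbit X).card := by
  classical
  have hq := one_lt_of_card hF
  -- an anisotropic vector
  obtain ⟨v, hv⟩ : ∃ v, star v ⬝ᵥ X *ᵥ v ≠ 0 := by
    by_contra hall
    push Not at hall
    obtain ⟨t, ht⟩ := exists_star_ne hF hs
    apply hX0
    ext i j
    simp only [Matrix.zero_apply]
    have e : ∀ c : F, c * X i j + star c * X j i = 0 := by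
      intro c
      have := hall (Pi.single i 1 + c • Pi.single j 1)
      have hi := hall (Pi.single i 1)
      have hj := hall (Pi.single j 1)
      simp only [star_add, star_smul, Pi.star_single, star_one, mulVec_add, mulVec_smul,
        mulVec_single_one, add_dotProduct, dotProduct_add, smul_dotProduct, dotProduct_smul,
        single_one_dotProduct, col_apply, smul_eq_mul] at this hi hj
      rw [hi, hj] at this
      linear_combination this
    have e1 := e 1
    rw [one_mul, star_one, one_mul] at e1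
    have e2 := e t
    have : (t - star t) * X i j = 0 := by linear_combination e2 - star t * e1
    exact (mul_eq_zero.1 this).resolve_left (sub_ne_zero.2 fun h => ht h.symm)
  have hv0 : v ≠ 0 := fun h => hv (by simp [h])
  set a := star v ⬝ᵥ X *ᵥ v with ha
  have hsa : star a = -a := dot_skew X hX v v
  by_cases hiso : ∃ w, star w ⬝ᵥ X *ᵥ w = 0 ∧ X *ᵥ w ≠ 0
  swap
  · -- rank one
    push Not at hiso
    have hker : ∀ z, star v ⬝ᵥ X *ᵥ z = 0 → X *ᵥ z = 0 := by
      intro z hz
      refine hiso z ?_
      by_contra hb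
      set b := star z ⬝ᵥ X *ᵥ z with hbdef
      have hsb : star b = -b := dot_skew X hX z z
      obtain ⟨c, hc⟩ := exists_norm_eq hF hs (a := -b / a) (by rw [star_div₀, star_neg, hsa, hsb, neg_neg, div_neg, neg_div])
      have hc0 : c ≠ 0 := by rintro rfl; simp [hv] at hc; exact hb (by have := hc.symm; field_simp at this; simpa using this)
      have hzv : star z ⬝ᵥ X *ᵥ v = 0 := by
        have h := dot_skew X hX v z
        rw [hz, star_zero] at h
        exact neg_eq_zero.1 h.symm
      have hy : star (c • v + z) ⬝ᵥ X *ᵥ (c • v + z) = 0 := by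
        simp only [star_add, star_smul, mulVec_add, mulVec_smul, add_dotProduct, dotProduct_add,
          smul_dotProduct, dotProduct_smul, smul_eq_mul, hz, hzv, ← ha, ← hbdef]
        have : c * star c * a = -b := by rw [hc, div_mul_cancel₀ _ hv]
        linear_combination this
      have := congrArg (fun w => star v ⬝ᵥ w) (hiso _ hy)
      simp only [mulVec_add, mulVec_smul, dotProduct_add, dotProduct_smul, hz, ← ha,
        dotProduct_zero, add_zero, smul_eq_mul] at this
      exact mul_ne_zero hc0 hv this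
    have hXe : X = (-a⁻¹) • vecMulVec (X *ᵥ v) (star (X *ᵥ v)) := by
      refine Matrix.ext_of_mulVec_single fun i => ?_
      set z := (Pi.single i 1 : Fin m → F) with hzdef
      have h0 : star v ⬝ᵥ X *ᵥ (z - ((star v ⬝ᵥ X *ᵥ z) / a) • v) = 0 := by
        rw [mulVec_sub, mulVec_smul, dotProduct_sub, dotProduct_smul, smul_eq_mul, ← ha,
          div_mul_cancel₀ _ hv, sub_self]
      have h1 := hker _ h0
      rw [mulVec_sub, mulVec_smul, sub_eq_zero] at h1
      rw [h1, smul_mulVec, vecMulVec_mulVec, op_smul_eq_smul, smul_smul,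
        dotProduct_mulVec, vecMul_eq_neg_star X hX, neg_dotProduct]
      congr 1
      rw [div_eq_mul_inv]; ring
    have hu0 : X *ᵥ v ≠ 0 := fun h => hv (by rw [ha, h, dotProduct_zero])
    rw [hXe]
    exact card_orbit_rank_one hF hs hm _ hu0 _ (neg_ne_zero.2 (inv_ne_zero hv))
  · -- an isotropic vector outside the radical
    obtain ⟨w, hw, hXw⟩ := hiso
    have hw0 : w ≠ 0 := fun h => hXw (by simp [h])
    obtain ⟨B₀, hB₀, hB₀v⟩ := exists_det_one_mulVec hm v w hv0 hw0
    set X₁ := B₀ᴴ * X * B₀ with hX₁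
    have hX₁mem : X₁ = B₀ᴴ * X * B₀ᴴᴴ := by rw [conjTranspose_conjTranspose]
    have hdB₀ : B₀ᴴ.det = 1 := by rw [det_conjTranspose, hB₀, star_one]
    set u₁ := X₁ *ᵥ v with hu₁def
    have hu₁ : u₁ = B₀ᴴ *ᵥ (X *ᵥ w) := by rw [hu₁def, hX₁, ← mulVec_mulVec, ← mulVec_mulVec, hB₀v]
    have hu₁0 : u₁ ≠ 0 := fun h => hXw (by
      have hinj := mulVec_injective_iff_isUnit.2 ((isUnit_iff_isUnit_det _).2 (hdB₀ ▸ isUnit_one))
      exact hinj (by rw [← hu₁, h, mulVec_zero]))
    have hvu₁ : star v ⬝ᵥ u₁ = 0 := by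
      rw [hu₁, dotProduct_mulVec, ← star_mulVec, hB₀v, hw]
    let φ : (Fin m → F) → F := fun u => star v ⬝ᵥ u
    obtain ⟨z₀, hz₀⟩ : ∃ z₀, φ z₀ = 1 := (exists_dot_eq_one (star v) (star_ne_zero.2 hv0)).imp fun z hz => (dotProduct_comm _ _).trans hz
    let K : Finset (Fin m → F) := {u | φ u = 0}
    let S₁ : Finset (Fin m → F) := {u | star (φ u) = -φ u ∧ φ u ≠ 0}
    let S₀ : Finset (Fin m → F) := {u | φ u = 0 ∧ ∀ c : F, u ≠ c • u₁}
    let S₂ : Finset (Fin m → F) := (({c : F | star c = c} : Finset F).erase 0).image (fun c => c • u₁)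
    have hsub : S₁ ∪ S₀ ∪ S₂ ⊆ (realOrbit X).image (fun Y => Y *ᵥ v) := by
      intro u hu
      rw [mem_image]
      simp only [mem_union, S₁, S₀, S₂, mem_filter, mem_univ, true_and, mem_image, mem_erase] at hu
      rcases hu with (⟨h1, h2⟩ | ⟨h1, h2⟩) | ⟨c, ⟨hc0, hc⟩, rfl⟩
      · obtain ⟨c, hc⟩ := exists_norm_eq hF hs (a := φ u / a) (by rw [star_div₀, h1, hsa, neg_div_neg_eq])
        have hc0 : c ≠ 0 := by rintro rfl; simp [hv] at hc; exact h2 (by have := hc.symm; field_simp at this; simpa using this)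
        obtain ⟨B, hB, hBv⟩ := exists_det_one_mulVec hm v (c • v) hv0 (smul_ne_zero hc0 hv0)
        have hdB : Bᴴ.det = 1 := by rw [det_conjTranspose, hB, star_one]
        set u₂ := (Bᴴ * X * Bᴴᴴ) *ᵥ v with hu₂
        have hφ₂ : star v ⬝ᵥ u₂ = φ u := by
          rw [hu₂, conjTranspose_conjTranspose, ← mulVec_mulVec, ← mulVec_mulVec, hBv,
            dotProduct_mulVec, ← star_mulVec, hBv, mulVec_smul, dotProduct_smul, star_smul,
            smul_dotProduct, ← ha, smul_eq_mul, smul_eq_mul, ← mul_assoc, hc, div_mul_cancel₀ _ hv]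
        set C := 1 + vecMulVec ((φ u)⁻¹ • (u - u₂)) (star v) with hC
        have hdC : C.det = 1 := by
          rw [hC, det_one_add_vecMulVec, dotProduct_smul, dotProduct_sub, hφ₂]; simp [φ]
        have hCv : Cᴴ *ᵥ v = v := by
          rw [hC, conjTranspose_add, conjTranspose_one, conjTranspose_vecMulVec, star_star,
            one_add_vecMulVec_mulVec, star_smul, smul_dotProduct]
          have : star (u - u₂) ⬝ᵥ v = 0 := by
            rw [star_dotProduct, dotProduct_sub, hφ₂]; simp [φ]
          rw [this]; simp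
        refine ⟨_, mulVec_mem_realOrbit hdB (hdC ▸ one_ne_zero) (by rw [hdC, star_one]), ?_⟩
        rw [← mulVec_mulVec, hCv, ← mulVec_mulVec, ← hu₂, hC, one_add_vecMulVec_mulVec, hφ₂,
          smul_smul, mul_inv_cancel₀ h2, one_smul, add_sub_cancel]
      · obtain ⟨f, hf1, hf2⟩ := exists_dot_eq u₁ u hu₁0 h2 1 1
        set C := 1 + vecMulVec (u - u₁) f with hC
        have hdC : C.det = 1 := by
          rw [hC, det_one_add_vecMulVec, dotProduct_sub, hf1, hf2, sub_self, add_zero]
        have hCv : Cᴴ *ᵥ v = v := by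
          rw [hC, conjTranspose_add, conjTranspose_one, conjTranspose_vecMulVec,
            one_add_vecMulVec_mulVec]
          have : star (u - u₁) ⬝ᵥ v = 0 := by
            rw [star_dotProduct, dotProduct_sub, hvu₁, show star v ⬝ᵥ u = 0 from h1]; simp
          rw [this]; simp
        refine ⟨_, mulVec_mem_realOrbit hdB₀ (hdC ▸ one_ne_zero) (by rw [hdC, star_one]), ?_⟩
        rw [← hX₁mem, ← mulVec_mulVec, hCv, ← mulVec_mulVec, ← hu₁def, hC,
          one_add_vecMulVec_mulVec, hf1, one_smul, add_sub_cancel]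
      · obtain ⟨f, hf⟩ := exists_dot_eq_one u₁ hu₁0
        set C := 1 + vecMulVec ((c - 1) • u₁) f with hC
        have hdC : C.det = c := by
          rw [hC, det_one_add_vecMulVec, dotProduct_smul, hf]; simp
        have hCv : Cᴴ *ᵥ v = v := by
          rw [hC, conjTranspose_add, conjTranspose_one, conjTranspose_vecMulVec,
            one_add_vecMulVec_mulVec, star_smul, smul_dotProduct]
          have : star u₁ ⬝ᵥ v = 0 := by
            rw [star_dotProduct, hvu₁, star_zero]
          rw [this]; simp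
        refine ⟨_, mulVec_mem_realOrbit hdB₀ (hdC ▸ hc0) (by rw [hdC, hc]), ?_⟩
        rw [← hX₁mem, ← mulVec_mulVec, hCv, ← mulVec_mulVec, ← hu₁def, hC,
          one_add_vecMulVec_mulVec, hf, one_smul]
        module
    -- sizes
    have hφsub : ∀ x y, φ (x - y) = φ x - φ y := fun x y => dotProduct_sub _ _ _
    have hφsmul : ∀ (c : F) x, φ (c • x) = c * φ x := fun c x => by simp [φ]
    have hφadd : ∀ x y, φ (x + y) = φ x + φ y := fun x y => dotProduct_add _ _ _
    have hK : K.card * q ^ 2 = q ^ (2 * m) := by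
      have h : (univ : Finset (Fin m → F)).card = (K ×ˢ (univ : Finset F)).card := by
        refine Finset.card_nbij' (fun u => (u - φ u • z₀, φ u)) (fun p => p.1 + p.2 • z₀)
          ?_ ?_ ?_ ?_
        · intro u _; simp [K, hφsub, hφsmul, hz₀]
        · intro p _; simp
        · intro u _; simp
        · intro p hp
          simp only [K, coe_product, Set.mem_prod, coe_filter, mem_univ, true_and,
            Set.mem_ofPred_eq] at hp
          simp [hφadd, hφsmul, hz₀, hp.1]
      rw [card_univ, card_product, card_univ, Fintype.card_fun, Fintype.card_fin, hF, ← pow_mul] at h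
      exact h.symm
    have hS₁ : (q - 1) * K.card ≤ S₁.card := by
      calc (q - 1) * K.card = ((({x : F | star x = -x} : Finset F).erase 0) ×ˢ K).card := by
            rw [card_product, card_erase_of_mem (by simp), (card_fixed_skew hF hs).2]
        _ ≤ S₁.card := by
          refine Finset.card_le_card_of_injOn (fun p => p.2 + p.1 • z₀) (fun p hp => ?_) ?_
          · simp only [coe_product, Set.mem_prod, coe_erase, coe_filter, mem_univ, true_and,
              Set.mem_ofPred_eq, Set.mem_diff, Set.mem_singleton_iff, K] at hp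
            simp [S₁, hφadd, hφsmul, hz₀, hp.2, hp.1.1, hp.1.2]
          · intro p hp p' hp' h
            simp only [coe_product, Set.mem_prod, coe_filter, mem_univ, true_and,
              Set.mem_ofPred_eq, K] at hp hp'
            have h1 := congrArg φ h
            simp [hφadd, hφsmul, hz₀, hp.2, hp'.2] at h1
            simp only [h1, add_left_inj] at h
            exact Prod.ext h1 h
    have hS₀ : K.card ≤ S₀.card + q ^ 2 := by
      calc K.card ≤ (S₀ ∪ (univ : Finset F).image (fun c => c • u₁)).card := by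
            refine card_le_card fun u hu => ?_
            by_cases hcu : ∀ c : F, u ≠ c • u₁
            · exact mem_union_left _ (by simpa [S₀, K, hcu] using hu)
            · push Not at hcu
              obtain ⟨c, rfl⟩ := hcu
              exact mem_union_right _ (by simp)
        _ ≤ S₀.card + q ^ 2 := (card_union_le _ _).trans <| by
              gcongr
              exact card_image_le.trans (by rw [card_univ, hF])
    have hS₂ : S₂.card = q - 1 := by
      rw [card_image_of_injective _ (smul_left_injective F hu₁0), card_erase_of_mem (by simp),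
        (card_fixed_skew hF hs).1]
    have hd1 : Disjoint S₁ S₀ := by
      rw [Finset.disjoint_left]; intro u h h'; simp [S₁, S₀] at h h'; exact h.2 h'.1
    have hd2 : Disjoint (S₁ ∪ S₀) S₂ := by
      rw [Finset.disjoint_left]; intro u h h'
      simp only [S₂, mem_image] at h'
      obtain ⟨c, -, rfl⟩ := h'
      simp only [mem_union, S₁, S₀, mem_filter, mem_univ, true_and, hφsmul] at h
      rcases h with ⟨-, h⟩ | ⟨-, h⟩
      · exact h (by rw [show φ u₁ = 0 from hvu₁, mul_zero])
      · exact h c rfl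
    have htot : S₁.card + S₀.card + (q - 1) ≤ (realOrbit X).card := by
      rw [← hS₂, ← card_union_of_disjoint hd1, ← card_union_of_disjoint hd2]
      exact (card_le_card hsub).trans card_image_le
    obtain ⟨j, rfl⟩ : ∃ j, m = j + 2 := ⟨m - 2, by omega⟩
    have hKv : K.card = q ^ (2 * j + 2) := by
      apply Nat.eq_of_mul_eq_mul_right (show 0 < q ^ 2 by positivity)
      rw [hK, ← pow_add]; ring_nf
    obtain ⟨r, rfl⟩ : ∃ r, q = r + 1 := ⟨q - 1, by omega⟩
    simp only [Nat.add_sub_cancel] at hS₁ htot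
    have hp : (r + 1) ^ 2 * (r + 1) ≤ (r + 1) ^ (2 * j + 2) * (r + 1) := by
      gcongr <;> omega
    rw [show 2 * (j + 2) = (2 * j + 2) + 2 by ring, pow_add, ← hKv]
    rw [← hKv] at hp
    apply Nat.sub_le_of_le_add
    nlinarith [Nat.mul_le_mul_left (r + 2) htot]

end Orbit

section Dual

variable {F : Type*} [Field F] [StarRing F] [Fintype F] {q m : ℕ}

/-- Degree bound for groups with a Hermitian Siegel radical. -/
theorem SiegelData.herm_degree_bound {G : Type*} [Group G] (D : SiegelData G F m (1 : F))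
    (hF : Fintype.card F = q ^ 2) (hs : ∀ x : F, star x = x ^ q) (hm : 2 ≤ m) {k : ℕ}
    (ρ : Representation ℂ G (Fin k → ℂ)) (hρ : ρ.IsIrreducible) (hk : 2 ≤ k) :
    (q ^ (2 * m) - 1) / (q + 1) ≤ k := by
  classical
  haveI : Fintype (skewPart m (1 : F)) := Fintype.ofFinite _
  obtain ⟨t, ht0, ht⟩ := exists_skew_ne_zero hF hs
  obtain ⟨r, hr⟩ := exists_trace_ne_zero hF hs
  obtain ⟨e, he⟩ : ∃ e : AddChar F ℂ, e (r + star r) ≠ 1 := AddChar.exists_apply_ne_zero.2 hr
  let χ : skewPart m (1 : F) → AddChar (skewPart m (1 : F)) ℂ := fun X =>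
    { toFun := fun H => e (H.1 * X.1).trace
      map_zero_eq_one' := by simp [e.map_zero_eq_one]
      map_add_eq_mul' := fun H K => by simp [Matrix.add_mul, e.map_add_eq_mul] }
  have hskew : ∀ X : skewPart m (1 : F), X.1ᴴ = -X.1 := fun X => by
    simpa using mem_skewPart.1 X.2
  have hinj : Function.Injective χ := by
    intro X X' h
    by_contra hne
    have hd : X.1 - X'.1 ≠ 0 := sub_ne_zero.2 fun h => hne (Subtype.ext h)
    obtain ⟨i, j, hij⟩ : ∃ i j, (X.1 - X'.1) i j ≠ 0 := by
      by_contra hall; push Not at hall; exact hd (Matrix.ext hall)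
    set Y : Matrix (Fin m) (Fin m) F := single j i (r / (X.1 - X'.1) i j) with hY
    have htr : (Y * (X.1 - X'.1)).trace = r := by
      rw [hY, trace_single_mul, smul_eq_mul, div_mul_cancel₀ _ hij]
    have hmem : Y - Yᴴ ∈ skewPart m (1 : F) := by simp [mem_skewPart]
    have hH := DFunLike.congr_fun h ⟨Y - Yᴴ, hmem⟩
    change e ((Y - Yᴴ) * X.1).trace = e ((Y - Yᴴ) * X'.1).trace at hH
    apply he
    have e2 : ((Y - Yᴴ) * X.1).trace = ((Y - Yᴴ) * X'.1).trace + (r + star r) := by
      have hst : (Yᴴ * (X.1 - X'.1)).trace = -star r := by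
        rw [← htr, ← trace_conjTranspose, conjTranspose_mul, conjTranspose_sub, hskew, hskew,
          trace_mul_comm (-X.1 - -X'.1) Yᴴ, ← trace_neg, ← Matrix.mul_neg]
        congr 2; abel
      rw [← sub_eq_iff_eq_add', ← trace_sub, ← Matrix.mul_sub, Matrix.sub_mul, trace_sub, hst, htr,
        sub_neg_eq_add]
    rw [e2, e.map_add_eq_mul] at hH
    exact (mul_eq_left₀ (e.val_isUnit _).ne_zero).1 hH
  have hbij : Function.Bijective χ :=
    (Fintype.bijective_iff_injective_and_card χ).2 ⟨hinj, AddChar.card_eq.symm⟩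
  refine D.degree_bound (t := t) (one_mul 1) hm (by simp [ht]) ht0 _ ρ hρ hk fun ψ hψ _ => ?_
  obtain ⟨X, rfl⟩ := hbij.2 ψ
  have hX0 : X.1 ≠ 0 := fun h => hψ <| DFunLike.ext _ _ fun H => by
    show e (H.1 * X.1).trace = 1
    simp [h, e.map_zero_eq_one]
  have horb : ∀ Y ∈ realOrbit X.1, Y ∈ skewPart m (1 : F) := fun Y hY => by
    obtain ⟨B, -, -, rfl⟩ := mem_realOrbit.1 hY; exact congr_mem B X.2
  refine ⟨(realOrbit X.1).attach.image fun Y => χ ⟨Y.1, horb _ Y.2⟩, ?_, ?_⟩
  · rw [card_image_of_injective, card_attach]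
    swap
    · exact fun Y Y' h => Subtype.ext (Subtype.mk.inj (hinj h))
    exact Nat.div_le_of_le_mul (card_realOrbit hF hs hm X.1 (hskew X) hX0)
  · intro ψ' hψ'
    obtain ⟨⟨Y, hY⟩, -, rfl⟩ := mem_image.1 hψ'
    obtain ⟨B, hB, hB', rfl⟩ := mem_realOrbit.1 hY
    have hBu := Ne.isUnit hB
    refine ⟨(Bᴴ)⁻¹, by simp [det_conjTranspose, hB], by simp [det_conjTranspose, hB'], fun H => ?_⟩
    show e (((Bᴴ)⁻¹ * H.1 * ((Bᴴ)⁻¹)ᴴ) * (B * X.1 * Bᴴ)).trace = e (H.1 * X.1).trace
    congr 1
    rw [conjTranspose_nonsing_inv, conjTranspose_conjTranspose, Matrix.mul_assoc (Bᴴ⁻¹ * H.1),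
      ← Matrix.mul_assoc B⁻¹, ← Matrix.mul_assoc B⁻¹, nonsing_inv_mul B hBu, Matrix.one_mul,
      ← Matrix.mul_assoc, trace_mul_comm, ← Matrix.mul_assoc, ← Matrix.mul_assoc,
      mul_nonsing_inv _ (by rw [det_conjTranspose, hB']; exact hBu), Matrix.one_mul]

end Dual

end CfsgLib.MinDeg
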