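import Cfsg.Agent.Lib.MinDeg.SympGroup
import Cfsg.Agent.Lib.MinDeg.HermOrbit
import Mathlib.NumberTheory.LegendreSymbol.AddCharacter

/-!
# Orbits of symmetric matrices in odd characteristic; the symplectic degree bound for odd `q`
-/

set_option autoImplicit false

namespace CfsgLib.MinDeg

open Matrix Finset

variable {F : Type*} [Field F] [Fintype F] {m : ℕ}

theorem two_ne_zero_of_odd (hodd : Odd (Fintype.card F)) : (2 : F) ≠ 0 :=
  Ring.two_ne_zero fun h => by
    have := FiniteField.even_card_iff_char_two.1 h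
    exact Nat.not_even_iff_odd.2 hodd (Nat.even_iff.2 this)

/-- A binary form with an invertible pair of values represents every value. -/
theorem exists_sq_add (h2 : (2 : F) ≠ 0) {a b : F} (ha : a ≠ 0) (hb : b ≠ 0) (ν : F) :
    ∃ x y : F, a * x ^ 2 + b * y ^ 2 = ν := by
  classical
  have hinj : ∀ c : F, c ≠ 0 → Fintype.card F ≤
      2 * ((univ : Finset F).image fun x => c * x ^ 2).card := by
    intro c hc
    rw [← card_univ]
    refine card_le_mul_card_image _ _ fun y hy => ?_
    obtain ⟨x₀, -, rfl⟩ := mem_image.1 hy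
    refine (card_le_card (t := {x₀, -x₀}) fun x hx => ?_).trans card_le_two
    simp only [mem_filter, mem_univ, true_and] at hx
    simpa using sq_eq_sq_iff_eq_or_eq_neg.1 (mul_left_cancel₀ hc hx)
  by_contra hne
  push Not at hne
  let A := (univ : Finset F).image fun x => a * x ^ 2
  let B := ((univ : Finset F).image fun y => b * y ^ 2).image (fun z => ν - z)
  have hdisj : Disjoint A B := by
    rw [Finset.disjoint_left]
    intro z hz hz'
    simp only [A, B, mem_image, mem_univ, true_and, exists_exists_eq_and] at hz hz'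
    obtain ⟨x, rfl⟩ := hz
    obtain ⟨y, hy⟩ := hz'
    exact hne x y (by rw [← hy]; ring)
  have hle := card_le_univ (A ∪ B)
  rw [card_union_of_disjoint hdisj, card_image_of_injective _ (sub_right_injective (b := ν))] at hle
  -- the two images have sizes at least `q / 2`, and odd `q` makes them overlap
  have hA := hinj a ha
  have hB := hinj b hb
  have hodd : Odd (Fintype.card F) := by
    rcases Nat.even_or_odd (Fintype.card F) with h | h
    · exact absurd (FiniteField.even_card_iff_char_two.2 (Nat.even_iff.1 h))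
        fun hc => h2 (by haveI : CharP F 2 := hc ▸ ringChar.charP F; exact CharTwo.two_eq_zero)
    · exact h
  obtain ⟨r, hr⟩ := hodd
  change A.card + _ ≤ _ at hle
  change Fintype.card F ≤ 2 * A.card at hA
  omega

/-- Congruence orbit of a symmetric matrix. -/
noncomputable def symOrbit (X : Matrix (Fin m) (Fin m) F) : Finset (Matrix (Fin m) (Fin m) F) := by
  classical
  exact {Y | ∃ B : Matrix (Fin m) (Fin m) F, B.det ≠ 0 ∧ Y = B * X * Bᵀ}

theorem mem_symOrbit {X Y : Matrix (Fin m) (Fin m) F} :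
    Y ∈ symOrbit X ↔ ∃ B : Matrix (Fin m) (Fin m) F, B.det ≠ 0 ∧ Y = B * X * Bᵀ := by
  simp [symOrbit]

/-- Every nonzero symmetric matrix has a large orbit. -/
theorem card_symOrbit (h2 : (2 : F) ≠ 0) (hm : 2 ≤ m) (X : Matrix (Fin m) (Fin m) F) (hX : Xᵀ = X)
    (hX0 : X ≠ 0) : Fintype.card F ^ m - 1 ≤ 2 * (symOrbit X).card := by
  classical
  set q := Fintype.card F with hq
  have hsym : ∀ y z : Fin m → F, y ⬝ᵥ X *ᵥ z = z ⬝ᵥ X *ᵥ y := fun y z => by
    rw [dotProduct_mulVec, ← mulVec_transpose, hX, dotProduct_comm]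
  obtain ⟨v, hv⟩ : ∃ v, v ⬝ᵥ X *ᵥ v ≠ 0 := by
    by_contra hall
    push Not at hall
    apply hX0
    ext i j
    have := hall (Pi.single i 1 + Pi.single j 1)
    have hi := hall (Pi.single i 1)
    have hj := hall (Pi.single j 1)
    simp only [mulVec_add, add_dotProduct, dotProduct_add, mulVec_single_one,
      single_one_dotProduct, col_apply] at this hi hj
    rw [hi, hj, show X j i = X i j by rw [← congrFun (congrFun hX i) j, transpose_apply]] at this
    simp only [Matrix.zero_apply]
    refine (mul_eq_zero.1 (show (2 : F) * X i j = 0 by linear_combination this)).resolve_left h2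
  set a := v ⬝ᵥ X *ᵥ v with ha
  have hv0 : v ≠ 0 := fun h => hv (by rw [ha, h]; simp)
  by_cases hb : ∃ z, v ⬝ᵥ X *ᵥ z = 0 ∧ z ⬝ᵥ X *ᵥ z ≠ 0
  · -- every nonzero value is represented
    obtain ⟨z, hz, hzz⟩ := hb
    have hrep : ∀ ν : F, ν ≠ 0 → ∃ w, w ≠ 0 ∧ w ⬝ᵥ X *ᵥ w = ν := by
      intro ν hν
      obtain ⟨x, y, hxy⟩ := exists_sq_add h2 hv hzz ν
      have e : (x • v + y • z) ⬝ᵥ X *ᵥ (x • v + y • z) = ν := by
        simp only [mulVec_add, mulVec_smul, add_dotProduct, dotProduct_add, smul_dotProduct,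
          dotProduct_smul, smul_eq_mul, hz, hsym z v, ← ha]
        linear_combination hxy
      exact ⟨_, fun h => hν (by rw [← e, h]; simp), e⟩
    obtain ⟨i, hi⟩ := Function.ne_iff.1 hv0
    let S : Finset (Fin m → F) := {u | v ⬝ᵥ u ≠ 0}
    have hsub : S ⊆ (symOrbit X).image fun Y => Y *ᵥ v := by
      intro u hu
      simp only [S, mem_filter, mem_univ, true_and] at hu
      obtain ⟨w, hw0, hw⟩ := hrep _ hu
      obtain ⟨B, hB, hBv⟩ := exists_det_one_mulVec hm v w hv0 hw0
      set u₂ := Bᵀ *ᵥ (X *ᵥ w) with hu₂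
      have hφ : v ⬝ᵥ u₂ = v ⬝ᵥ u := by
        rw [hu₂, dotProduct_mulVec, vecMul_transpose, hBv, hw]
      set C := 1 + vecMulVec ((v ⬝ᵥ u)⁻¹ • (u - u₂)) v with hC
      have hdC : C.det = 1 := by
        rw [hC, det_one_add_vecMulVec, dotProduct_smul, dotProduct_sub, hφ]; simp
      have hCv : Cᵀ *ᵥ v = v := by
        rw [hC, transpose_add, transpose_one, transpose_vecMulVec, one_add_vecMulVec_mulVec,
          smul_dotProduct, sub_dotProduct, dotProduct_comm u v, dotProduct_comm u₂ v, hφ]
        simp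
      refine mem_image.2 ⟨_, mem_symOrbit.2 ⟨C * Bᵀ, by simp [hdC, hB], rfl⟩, ?_⟩
      rw [transpose_mul, transpose_transpose]
      simp only [← mulVec_mulVec, hCv, hBv, ← hu₂]
      rw [hC, one_add_vecMulVec_mulVec, hφ, smul_smul, mul_inv_cancel₀ hu, one_smul, add_sub_cancel]
    have hS : q ^ m ≤ 2 * S.card := by
      have h : (univ : Finset (Fin m → F)).card ≤ S.card + ({u : Fin m → F | v ⬝ᵥ u = 0} : Finset _).card := by
        refine le_trans (card_le_card fun u _ => ?_) (card_union_le _ _)
        by_cases h : v ⬝ᵥ u = 0 <;> simp [S, h]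
      have h' : ({u : Fin m → F | v ⬝ᵥ u = 0} : Finset _).card ≤ S.card := by
        refine Finset.card_le_card_of_injOn (fun u => u + Pi.single i (v i)⁻¹) (fun u hu => ?_)
          (fun _ _ _ _ h => add_right_cancel h)
        simp only [coe_filter, mem_univ, true_and, Set.mem_ofPred_eq] at hu
        simp [S, dotProduct_add, hu, mul_inv_cancel₀ hi]
      simp only [card_univ, Fintype.card_fun, Fintype.card_fin, ← hq] at h
      omega
    have := (card_le_card hsub).trans card_image_le
    omega
  · -- rank one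
    push Not at hb
    have hker : ∀ z, v ⬝ᵥ X *ᵥ z = 0 → X *ᵥ z = 0 := by
      intro z hz
      refine dotProduct_eq_zero_iff.1 fun w => ?_
      rw [dotProduct_comm]
      set w' := w - ((v ⬝ᵥ X *ᵥ w) / a) • v
      have hw' : v ⬝ᵥ X *ᵥ w' = 0 := by
        simp only [w', mulVec_sub, mulVec_smul, dotProduct_sub, dotProduct_smul, smul_eq_mul, ← ha]
        rw [div_mul_cancel₀ _ hv, sub_self]
      have e1 := hb (w' + z) (by simp [mulVec_add, hw', hz])
      simp only [mulVec_add, add_dotProduct, dotProduct_add, hb z hz, hb w' hw', hsym z w'] at e1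
      have e2 : w' ⬝ᵥ X *ᵥ z = 0 :=
        (mul_eq_zero.1 (show (2 : F) * (w' ⬝ᵥ X *ᵥ z) = 0 by linear_combination e1)).resolve_left h2
      simp only [w', sub_dotProduct, smul_dotProduct, hz, smul_eq_mul, mul_zero, sub_zero] at e2
      exact e2
    have hXe : X = a⁻¹ • vecMulVec (X *ᵥ v) (X *ᵥ v) := by
      refine Matrix.ext_of_mulVec_single fun i => ?_
      set z := (Pi.single i 1 : Fin m → F)
      have h0 : v ⬝ᵥ X *ᵥ (z - ((v ⬝ᵥ X *ᵥ z) / a) • v) = 0 := by
        rw [mulVec_sub, mulVec_smul, dotProduct_sub, dotProduct_smul, smul_eq_mul, ← ha,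
          div_mul_cancel₀ _ hv, sub_self]
      have h1 := hker _ h0
      rw [mulVec_sub, mulVec_smul, sub_eq_zero] at h1
      rw [h1, smul_mulVec, vecMulVec_mulVec, op_smul_eq_smul, smul_smul, dotProduct_comm (X *ᵥ v),
        ← hsym]
      congr 1
      rw [div_eq_mul_inv, mul_comm]
    set u := X *ᵥ v with hu
    have hu0 : u ≠ 0 := fun h => hv (by rw [ha, h, dotProduct_zero])
    let f : (Fin m → F) → Matrix (Fin m) (Fin m) F := fun w => a⁻¹ • vecMulVec w w
    have hsub : ({w : Fin m → F | w ≠ 0} : Finset _).image f ⊆ symOrbit X := by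
      intro Y hY
      obtain ⟨w, hw, rfl⟩ := mem_image.1 hY
      simp only [mem_filter, mem_univ, true_and] at hw
      obtain ⟨B, hB, hBu⟩ := exists_det_one_mulVec hm u w hu0 hw
      refine mem_symOrbit.2 ⟨B, by simp [hB], ?_⟩
      rw [hXe]
      simp only [f, Matrix.mul_smul, Matrix.smul_mul, mul_vecMulVec, vecMulVec_mul, vecMul_transpose,
        hBu]
    calc q ^ m - 1 = ({w : Fin m → F | w ≠ 0} : Finset _).card := by
          rw [filter_ne', card_erase_of_mem (mem_univ _), card_univ, Fintype.card_fun, Fintype.card_fin]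
      _ ≤ 2 * (({w : Fin m → F | w ≠ 0} : Finset _).image f).card := by
          refine card_le_mul_card_image _ _ fun Y hY => ?_
          obtain ⟨w₀, hw₀, rfl⟩ := mem_image.1 hY
          simp only [mem_filter, mem_univ, true_and] at hw₀
          obtain ⟨i, hi⟩ := Function.ne_iff.1 hw₀
          refine (card_le_card (t := {w₀, -w₀}) fun w hw => ?_).trans card_le_two
          simp only [mem_filter] at hw
          have hm' := smul_right_injective _ (inv_ne_zero hv) hw.2
          have e := fun k => congrFun (congrFun hm' k) i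
          simp only [vecMulVec_apply] at e
          rcases sq_eq_sq_iff_eq_or_eq_neg.1
            (show w i ^ 2 = w₀ i ^ 2 by rw [sq, sq]; exact e i) with h | h
          · have : w = w₀ := funext fun k => by
              have := e k; rw [h] at this; exact mul_right_cancel₀ hi this
            simp [this]
          · have : w = -w₀ := funext fun k => by
              have := e k; rw [h] at this
              refine mul_right_cancel₀ (neg_ne_zero.2 hi) ?_
              rw [this, Pi.neg_apply]
              show w₀ k * w₀ i = -w₀ k * -w₀ i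
              ring
            simp [this]
      _ ≤ _ := Nat.mul_le_mul_left _ (card_le_card hsub)

section Bound

variable [StarRing F]

/-- A finite-dimensional representation of `Sp_2m(q)`, `q` odd, that is non-trivial on the Siegel
radical has dimension at least `(q^m - 1)/2`. -/
theorem symp_odd_bound (hs : ∀ x : F, star x = x) (h2 : (2 : F) ≠ 0) (hm : 2 ≤ m) {V : Type*}
    [AddCommGroup V] [Module ℂ V] [FiniteDimensional ℂ V]
    (ρ : Representation ℂ (Matrix.symplecticGroup (Fin m) F) V) (H₀ : skewPart m (-1 : F))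
    (hne : ρ ((sympData hs m).radical H₀) ≠ 1) :
    (Fintype.card F ^ m - 1) / 2 ≤ Module.finrank ℂ V := by
  classical
  haveI : Fintype (skewPart m (-1 : F)) := Fintype.ofFinite _
  set D := sympData hs m
  obtain ⟨ψ, hψ, hW⟩ := exists_weight_ne_zero (resChar ρ D.radical) (a := H₀) hne
  obtain ⟨e, he⟩ : ∃ e : AddChar F ℂ, e 1 ≠ 1 := AddChar.exists_apply_ne_zero.2 one_ne_zero
  let χ : skewPart m (-1 : F) → AddChar (skewPart m (-1 : F)) ℂ := fun X =>
    { toFun := fun H => e (H.1 * X.1).trace
      map_zero_eq_one' := by simp [e.map_zero_eq_one]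
      map_add_eq_mul' := fun H K => by simp [Matrix.add_mul, e.map_add_eq_mul] }
  have hsymm : ∀ X : skewPart m (-1 : F), X.1ᵀ = X.1 := fun X => (mem_skewPart_neg_one hs).1 X.2
  have hinj : Function.Injective χ := by
    intro X X' h
    by_contra hne
    have hd : X.1 - X'.1 ≠ 0 := sub_ne_zero.2 fun h => hne (Subtype.ext h)
    obtain ⟨i, j, hij⟩ : ∃ i j, (X.1 - X'.1) i j ≠ 0 := by
      by_contra hall; push Not at hall; exact hd (Matrix.ext hall)
    set Y : Matrix (Fin m) (Fin m) F := single j i ((2⁻¹ : F) / (X.1 - X'.1) i j) with hY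
    have htr : (Y * (X.1 - X'.1)).trace = 2⁻¹ := by
      rw [hY, trace_single_mul, smul_eq_mul, div_mul_cancel₀ _ hij]
    have hmem : Y + Yᵀ ∈ skewPart m (-1 : F) := by
      rw [mem_skewPart_neg_one hs]; simp [add_comm]
    have hH := DFunLike.congr_fun h ⟨Y + Yᵀ, hmem⟩
    change e ((Y + Yᵀ) * X.1).trace = e ((Y + Yᵀ) * X'.1).trace at hH
    apply he
    have e2 : ((Y + Yᵀ) * X.1).trace = ((Y + Yᵀ) * X'.1).trace + 1 := by
      have hst : (Yᵀ * (X.1 - X'.1)).trace = 2⁻¹ := by
        rw [← htr, ← trace_transpose, transpose_mul, transpose_transpose, transpose_sub, hsymm,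
          hsymm, trace_mul_comm]
      rw [← sub_eq_iff_eq_add', ← trace_sub, ← Matrix.mul_sub, Matrix.add_mul, trace_add, hst, htr,
        ← two_mul, mul_inv_cancel₀ h2]
    rw [e2, e.map_add_eq_mul] at hH
    exact (mul_eq_left₀ (e.val_isUnit _).ne_zero).1 hH
  obtain ⟨X, rfl⟩ := ((Fintype.bijective_iff_injective_and_card χ).2 ⟨hinj, AddChar.card_eq.symm⟩).2 ψ
  have hX0 : X.1 ≠ 0 := fun h => hψ <| DFunLike.ext _ _ fun H => by
    show e (H.1 * X.1).trace = 1
    simp [h, e.map_zero_eq_one]
  have horb : ∀ Y ∈ symOrbit X.1, Y ∈ skewPart m (-1 : F) := fun Y hY => by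
    obtain ⟨B, -, rfl⟩ := mem_symOrbit.1 hY
    rw [mem_skewPart_neg_one hs, transpose_mul, transpose_mul, transpose_transpose, hsymm,
      Matrix.mul_assoc]
  let T := (symOrbit X.1).attach.image fun Y => χ ⟨Y.1, horb _ Y.2⟩
  have hT : T.card = (symOrbit X.1).card := by
    rw [card_image_of_injective, card_attach]
    exact fun Y Y' h => Subtype.ext (Subtype.mk.inj (hinj h))
  have h1 := orbit_mul_le_finrank ρ D.radical (χ X) 1 (one_le_finrank_of_ne_bot hW) T fun ψ' hψ' => by
    obtain ⟨⟨Y, hY⟩, -, rfl⟩ := mem_image.1 hψ'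
    obtain ⟨B, hB, rfl⟩ := mem_symOrbit.1 hY
    have hBu := Ne.isUnit hB
    set A := (Bᵀ)⁻¹ with hAdef
    have hA : A.det ≠ 0 := by simp [hAdef, det_nonsing_inv, hB]
    obtain ⟨g, hg⟩ := D.exists_levi (t := (1 : F)) (by ring) hm (by simp) one_ne_zero A hA (hs _)
    refine ⟨g, congrEquiv (-1) A hA, fun H => D.inj ?_, fun H => ?_⟩
    · rw [map_mul, map_mul, hg, D.f_radical, D.f_radical]
      exact leviM_mul_upperU A H.1 hA
    · show e ((A * H.1 * Aᴴ) * (B * X.1 * Bᵀ)).trace = e (H.1 * X.1).trace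
      congr 1
      rw [hAdef, conjTranspose_eq hs, transpose_nonsing_inv, transpose_transpose,
        Matrix.mul_assoc (Bᵀ⁻¹ * H.1), ← Matrix.mul_assoc B⁻¹, ← Matrix.mul_assoc B⁻¹,
        nonsing_inv_mul B hBu, Matrix.one_mul, ← Matrix.mul_assoc, trace_mul_comm,
        ← Matrix.mul_assoc, ← Matrix.mul_assoc,
        mul_nonsing_inv _ (by rwa [det_transpose]), Matrix.one_mul]
  rw [mul_one, hT] at h1
  refine (Nat.div_le_of_le_mul ?_).trans h1
  exact card_symOrbit h2 hm X.1 (hsymm X) hX0

end Bound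

end CfsgLib.MinDeg
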