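import Cfsg.Agent.Lib.MinDeg.TriCore
import Mathlib.GroupTheory.NoncommPiCoprod

/-!
# Joint eigenvectors of families of root subgroups

`sl` is a family of abelian subgroups ("slots") of a group, given as additive characters into the
group. A weight prescribes a linear character on every slot. An element that maps the slots into
the group generated by the slots carries a joint eigenspace into another one; moving a weight by
suitable elements, one slot after the other, gives lower bounds for the number of weights.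
-/

set_option autoImplicit false
set_option linter.unusedSectionVars false

namespace CfsgLib.MinDeg.Slots

open Module

variable {ι : Type*} {P : ι → Type*} [∀ i, AddCommGroup (P i)] {G : Type*} [Group G]
variable {V : Type*} [AddCommGroup V] [Module ℂ V]
variable (ρ : Representation ℂ G V) (sl : ∀ i, AddChar (P i) G)

/-- A weight: a linear character on every slot. -/
abbrev Wgt (P : ι → Type*) [∀ i, AddCommGroup (P i)] := ∀ i, AddChar (P i) ℂ

/-- The joint eigenspace of the slots in `L` for the weight `θ`. -/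
def eigSp (L : Set ι) (θ : Wgt P) : Submodule ℂ V :=
  ⨅ i ∈ L, ⨅ u, LinearMap.ker (ρ (sl i u) - θ i u • (1 : Module.End ℂ V))

theorem mem_eigSp {L : Set ι} {θ : Wgt P} {v : V} :
    v ∈ eigSp ρ sl L θ ↔ ∀ i ∈ L, ∀ u, ρ (sl i u) v = θ i u • v := by
  simp [eigSp, sub_eq_zero]

theorem eigSp_mono {L L' : Set ι} (h : L ⊆ L') {θ θ' : Wgt P} (hθ : ∀ i ∈ L, θ i = θ' i) :
    eigSp ρ sl L' θ' ≤ eigSp ρ sl L θ := fun v hv => by
  rw [mem_eigSp] at hv ⊢
  intro i hi u
  rw [hv i (h hi) u, hθ i hi]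

/-- The subgroup generated by the slots in `N`. -/
def slG (N : Set ι) : Subgroup G := Subgroup.closure {g | ∃ i ∈ N, ∃ u, g = sl i u}

theorem sl_mem {N : Set ι} {i : ι} (hi : i ∈ N) (u : P i) : sl i u ∈ slG sl N :=
  Subgroup.subset_closure ⟨i, hi, u, rfl⟩

theorem slG_mono {N N' : Set ι} (h : N ⊆ N') : slG sl N ≤ slG sl N' :=
  Subgroup.closure_mono fun _ ⟨i, hi, u, e⟩ => ⟨i, h hi, u, e⟩

theorem rho_inv_cancel (g : G) (v : V) : ρ g⁻¹ (ρ g v) = v := by
  rw [← Module.End.mul_apply, ← map_mul, inv_mul_cancel, map_one, Module.End.one_apply]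

/-- The vectors on which an element is a scalar. -/
theorem exists_scalar_inv {g : G} {v : V} {c : ℂ} (h : ρ g v = c • v) :
    ∃ d : ℂ, ρ g⁻¹ v = d • v := by
  by_cases hv : v = 0
  · exact ⟨0, by simp [hv]⟩
  have hc : c ≠ 0 := fun h0 => hv (rep_injective ρ g (by rw [h, h0, zero_smul, map_zero]))
  refine ⟨c⁻¹, ?_⟩
  have e := congrArg (ρ g⁻¹) h
  rw [rho_inv_cancel, map_smul] at e
  conv_rhs => rw [e, smul_smul, inv_mul_cancel₀ hc, one_smul]

/-- Elements generated by slots with trivial weight fix the eigenspace. -/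
theorem fix_of_triv {L N : Set ι} {θ : Wgt P} (hN : N ⊆ L) (h0 : ∀ i ∈ N, θ i = 0) {y : G}
    (hy : y ∈ slG sl N) {v : V} (hv : v ∈ eigSp ρ sl L θ) : ρ y v = v := by
  induction hy using Subgroup.closure_induction with
  | mem g hg =>
    obtain ⟨i, hi, u, rfl⟩ := hg
    rw [(mem_eigSp ρ sl).1 hv i (hN hi) u, h0 i hi, AddChar.zero_apply, one_smul]
  | one => rw [map_one, Module.End.one_apply]
  | mul a b _ _ ha hb => rw [map_mul, Module.End.mul_apply, hb, ha]
  | inv a _ ha => conv_lhs => rw [← ha, rho_inv_cancel]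

/-- Elements generated by the slots act on the eigenspace by scalars. -/
theorem scalar_of_mem {L : Set ι} (θ : Wgt P) {y : G} (hy : y ∈ slG sl L) :
    ∃ c : ℂ, ∀ v ∈ eigSp ρ sl L θ, ρ y v = c • v := by
  induction hy using Subgroup.closure_induction with
  | mem g hg =>
    obtain ⟨i, hi, u, rfl⟩ := hg
    exact ⟨θ i u, fun v hv => (mem_eigSp ρ sl).1 hv i hi u⟩
  | one => exact ⟨1, fun v _ => by rw [map_one, Module.End.one_apply, one_smul]⟩
  | mul a b _ _ ha hb =>
    obtain ⟨c, hc⟩ := ha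
    obtain ⟨d, hd⟩ := hb
    exact ⟨d * c, fun v hv => by
      rw [map_mul, Module.End.mul_apply, hd v hv, map_smul, hc v hv, smul_smul]⟩
  | inv a _ ha =>
    obtain ⟨c, hc⟩ := ha
    refine ⟨c⁻¹, fun v hv => ?_⟩
    by_cases hv0 : v = 0
    · simp [hv0]
    have h := hc v hv
    have hc0 : c ≠ 0 := fun h0 => hv0 (rep_injective ρ a (by rw [h, h0, zero_smul, map_zero]))
    have e := congrArg (ρ a⁻¹) h
    rw [rho_inv_cancel, map_smul] at e
    conv_rhs => rw [e, smul_smul, inv_mul_cancel₀ hc0, one_smul]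

/-- An element mapping the slots into the group they generate moves eigenspaces. -/
theorem exists_moved [FiniteDimensional ℂ V] {L : Set ι} {θ : Wgt P}
    (hW : eigSp ρ sl L θ ≠ ⊥) (g : G) (hg : ∀ x ∈ L, ∀ u, g * sl x u * g⁻¹ ∈ slG sl L) :
    ∃ θ' : Wgt P,
      (∀ x ∈ L, ∀ u, ∀ v ∈ eigSp ρ sl L θ, ρ (g * sl x u * g⁻¹) v = θ' x u • v) ∧
      (∀ v ∈ eigSp ρ sl L θ, ρ g⁻¹ v ∈ eigSp ρ sl L θ') ∧
      finrank ℂ (eigSp ρ sl L θ) ≤ finrank ℂ (eigSp ρ sl L θ') := by
  classical
  obtain ⟨w, hw, hw0⟩ := Submodule.exists_mem_ne_zero_of_ne_bot hW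
  have hsc : ∀ x : ι, ∀ u : P x, ∃ c : ℂ, x ∈ L → ∀ v ∈ eigSp ρ sl L θ,
      ρ (g * sl x u * g⁻¹) v = c • v := by
    intro x u
    by_cases hx : x ∈ L
    · obtain ⟨c, hc⟩ := scalar_of_mem ρ sl θ (hg x hx u)
      exact ⟨c, fun _ => hc⟩
    · exact ⟨1, fun h => absurd h hx⟩
  choose c hc using hsc
  have hmul : ∀ x ∈ L, ∀ u u', c x (u + u') = c x u * c x u' := by
    intro x hx u u'
    refine smul_left_injective ℂ hw0 ?_
    show _ • w = _ • w
    have e : g * sl x (u + u') * g⁻¹ = g * sl x u * g⁻¹ * (g * sl x u' * g⁻¹) := by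
      rw [AddChar.map_add_eq_mul]; group
    rw [← hc x (u + u') hx w hw, e, map_mul, Module.End.mul_apply, hc x u' hx w hw, map_smul,
      hc x u hx w hw, smul_smul, mul_comm]
  have hone : ∀ x ∈ L, c x 0 = 1 := by
    intro x hx
    refine smul_left_injective ℂ hw0 ?_
    show _ • w = _ • w
    rw [← hc x 0 hx w hw, AddChar.map_zero_eq_one, mul_one, mul_inv_cancel, map_one,
      Module.End.one_apply, one_smul]
  let θ' : Wgt P := fun x => if hx : x ∈ L then
    { toFun := c x, map_zero_eq_one' := hone x hx, map_add_eq_mul' := hmul x hx } else 0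
  have hθ' : ∀ x ∈ L, ∀ u, θ' x u = c x u := fun x hx u => by simp [θ', dif_pos hx]
  have hmem : ∀ v ∈ eigSp ρ sl L θ, ρ g⁻¹ v ∈ eigSp ρ sl L θ' := by
    intro v hv
    rw [mem_eigSp]
    intro x hx u
    rw [hθ' x hx, ← map_smul, ← hc x u hx v hv, ← Module.End.mul_apply, ← Module.End.mul_apply,
      ← map_mul, ← map_mul]
    congr 2
    group
  exact ⟨θ', fun x hx u v hv => by rw [hθ' x hx]; exact hc x u hx v hv, hmem,
    LinearMap.finrank_le_finrank_of_injective (f := (ρ g⁻¹).restrict hmem)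
      fun _ _ h => Subtype.ext (rep_injective ρ g⁻¹ (congrArg Subtype.val h))⟩

/-- The moved weight at a slot that only gains trivial slots. -/
theorem moved_eq {L N : Set ι} {θ θ' : Wgt P} (hW : eigSp ρ sl L θ ≠ ⊥) {g : G} {x : ι}
    (hx : x ∈ L) (hN : N ⊆ L) (h0 : ∀ i ∈ N, θ i = 0)
    (h : ∀ u, ∃ y ∈ slG sl N, g * sl x u * g⁻¹ = sl x u * y)
    (hθ' : ∀ u, ∀ v ∈ eigSp ρ sl L θ, ρ (g * sl x u * g⁻¹) v = θ' x u • v) : θ' x = θ x := by
  obtain ⟨w, hw, hw0⟩ := Submodule.exists_mem_ne_zero_of_ne_bot hW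
  refine AddChar.ext _ _ fun u => smul_left_injective ℂ hw0 ?_
  show _ • w = _ • w
  obtain ⟨y, hy, e⟩ := h u
  rw [← hθ' u w hw, e, map_mul, Module.End.mul_apply, fix_of_triv ρ sl hN h0 hy hw,
    (mem_eigSp ρ sl).1 hw x hx u]

/-- The moved weight at a slot that gains a multiple of the slot `e` and trivial slots. -/
theorem moved_target {L N : Set ι} {θ θ' : Wgt P} (hW : eigSp ρ sl L θ ≠ ⊥) {g : G} {x e : ι}
    (hx : x ∈ L) (he : e ∈ L) (hN : N ⊆ L) (h0 : ∀ i ∈ N, θ i = 0) (C : P x → P e)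
    (h : ∀ u, ∃ y ∈ slG sl N, g * sl x u * g⁻¹ = sl x u * sl e (C u) * y)
    (hθ' : ∀ u, ∀ v ∈ eigSp ρ sl L θ, ρ (g * sl x u * g⁻¹) v = θ' x u • v) (u : P x) :
    θ' x u = θ x u * θ e (C u) := by
  obtain ⟨w, hw, hw0⟩ := Submodule.exists_mem_ne_zero_of_ne_bot hW
  refine smul_left_injective ℂ hw0 ?_
  show _ • w = _ • w
  obtain ⟨y, hy, e'⟩ := h u
  rw [← hθ' u w hw, e', map_mul, Module.End.mul_apply, fix_of_triv ρ sl hN h0 hy hw, map_mul,
    Module.End.mul_apply, (mem_eigSp ρ sl).1 hw e he, map_smul, (mem_eigSp ρ sl).1 hw x hx,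
    smul_smul, mul_comm]

/-- `g` maps the slot `x` to itself times slots in `N`. -/
def Keeps (g : G) (x : ι) (N : Set ι) : Prop :=
  ∀ u, ∃ y ∈ slG sl N, g * sl x u * g⁻¹ = sl x u * y

/-- A translation: a family of elements moving the slot `a` along the slot `e`, keeping the slots
in `prev` and in `Z` up to slots in `Z`, and every pairing value occurs. -/
def IsTrans (L Z : Set ι) (e : ι) (prev : Set ι) (a : ι) : Prop :=
  ∀ lam : AddChar (P e) ℂ, lam ≠ 0 → ∀ χ : AddChar (P a) ℂ, ∃ (g : G) (C : P a → P e),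
    (∀ x ∈ L, ∀ u, g * sl x u * g⁻¹ ∈ slG sl L) ∧
    (∀ x ∈ insert e (Z ∪ prev), Keeps sl g x Z) ∧
    (∀ u, ∃ y ∈ slG sl Z, g * sl a u * g⁻¹ = sl a u * sl e (C u) * y) ∧
    ∀ u, χ u = lam (C u)

/-- The translations of the slots of a list, in this order. -/
def IsCell (L Z : Set ι) (e : ι) : List ι → Prop
  | [] => True
  | a :: l => IsCell L Z e l ∧ IsTrans sl L Z e {x | x ∈ l} a

/-- By translations a weight takes prescribed values on the slots of a cell. -/
theorem cell [FiniteDimensional ℂ V] {L Z : Set ι} {e : ι} (he : e ∈ L) (hZ : Z ⊆ L) {θ : Wgt P}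
    (hθe : θ e ≠ 0) (hθZ : ∀ i ∈ Z, θ i = 0) {d : ℕ} (hd : 0 < d)
    (hθ : d ≤ finrank ℂ (eigSp ρ sl L θ)) :
    ∀ (l : List ι), (∀ a ∈ l, a ∈ L) → l.Nodup → IsCell sl L Z e l → ∀ f : Wgt P,
      ∃ θ' : Wgt P, θ' e = θ e ∧ (∀ i ∈ Z, θ' i = 0) ∧ (∀ a ∈ l, θ' a = f a) ∧
        d ≤ finrank ℂ (eigSp ρ sl L θ')
  | [], _, _, _, _ => ⟨θ, rfl, hθZ, by simp, hθ⟩
  | a :: l, hl, hnd, ⟨hc, ht⟩, f => by
    obtain ⟨θ₁, h1e, h1Z, h1l, h1d⟩ := cell he hZ hθe hθZ hd hθ l
      (fun b hb => hl b (List.mem_cons_of_mem _ hb)) (List.nodup_cons.1 hnd).2 hc f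
    have hW : eigSp ρ sl L θ₁ ≠ ⊥ := fun h => by rw [h, finrank_bot] at h1d; omega
    obtain ⟨g, C, hgL, hkeep, htar, hχ⟩ := ht (θ₁ e) (h1e ▸ hθe) (f a / θ₁ a)
    obtain ⟨θ', hθ', -, hle⟩ := exists_moved ρ sl hW g hgL
    have hk : ∀ x ∈ insert e (Z ∪ {x | x ∈ l}), x ∈ L → θ' x = θ₁ x := fun x hx hxL =>
      moved_eq ρ sl hW hxL hZ h1Z (hkeep x hx) fun u => hθ' x hxL u
    refine ⟨θ', (hk e (Set.mem_insert _ _) he).trans h1e,
      fun i hi => (hk i (by simp [hi]) (hZ hi)).trans (h1Z i hi), fun b hb => ?_, h1d.trans hle⟩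
    have haL : a ∈ L := hl a (List.mem_cons_self ..)
    rcases List.mem_cons.1 hb with rfl | hb
    · refine AddChar.ext _ _ fun u => ?_
      rw [moved_target ρ sl hW haL he hZ h1Z C htar (fun u => hθ' b haL u) u, ← hχ u,
        AddChar.div_apply']
      field_simp [((θ₁ b).val_isUnit u).ne_zero]
    · exact (hk b (by simp [hb]) (hl b (List.mem_cons_of_mem _ hb))).trans (h1l b hb)

/-- A slot is fixed by a vector on which two elements with suitable commutator are scalars. -/
theorem triv_of_comm {v : V} {N : Set ι} (hv : v ≠ 0)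
    (hN : ∀ i ∈ N, ∀ u, ρ (sl i u) v = v) {w : ι} (u : P w) {cw : ℂ}
    (hw : ρ (sl w u) v = cw • v) {g x y : G} (hg : ∃ c : ℂ, ρ g v = c • v)
    (hx : ∃ c : ℂ, ρ x v = c • v) (hy : y ∈ slG sl N)
    (h : g * x * g⁻¹ = x * sl w u * y) : cw = 1 := by
  obtain ⟨c, hc⟩ := hg
  obtain ⟨b, hb⟩ := hx
  obtain ⟨c', hc'⟩ := exists_scalar_inv ρ hc
  have hyv : ρ y v = v := by
    clear h
    induction hy using Subgroup.closure_induction with
    | mem g hg => obtain ⟨i, hi, u, rfl⟩ := hg; exact hN i hi u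
    | one => rw [map_one, Module.End.one_apply]
    | mul a b _ _ ha hb => rw [map_mul, Module.End.mul_apply, hb, ha]
    | inv a _ ha => conv_lhs => rw [← ha, rho_inv_cancel]
  have e1 : ρ (g * x * g⁻¹) v = (c' * b * c) • v := by
    rw [map_mul, map_mul, Module.End.mul_apply, Module.End.mul_apply, hc', map_smul, hb, map_smul,
      map_smul, hc, smul_smul, smul_smul]
  have e2 : (c' * c) • v = v := by
    have := congrArg (ρ g) hc'
    rw [← Module.End.mul_apply, ← map_mul, mul_inv_cancel, map_one, Module.End.one_apply,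
      map_smul, hc, smul_smul] at this
    exact this.symm
  rw [h, map_mul, Module.End.mul_apply, hyv, map_mul, Module.End.mul_apply, hw, map_smul, hb,
    smul_smul] at e1
  have hb0 : b ≠ 0 := fun h0 => hv (rep_injective ρ x (by rw [hb, h0, zero_smul, map_zero]))
  have e3 : c' * c = 1 := smul_left_injective ℂ hv (e2.trans (one_smul ℂ v).symm)
  have := smul_left_injective ℂ hv e1
  refine mul_right_cancel₀ hb0 ?_
  linear_combination this + b * e3

/-- Weights distinct on `L` have independent eigenvectors. -/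
theorem card_le_finrank [FiniteDimensional ℂ V] {α : Type*} [Fintype α] {L : Set ι}
    (θ : α → Wgt P) (W : Submodule ℂ V) (hW : ∀ a, eigSp ρ sl L (θ a) ⊓ W ≠ ⊥)
    (hsep : ∀ a b, a ≠ b → ∃ i ∈ L, θ a i ≠ θ b i) : Fintype.card α ≤ finrank ℂ W := by
  choose v hv hv0 using fun a => Submodule.exists_mem_ne_zero_of_ne_bot (hW a)
  have hli : LinearIndependent ℂ v := linearIndependent_of_separated v hv0
    (fun j : Σ i : L, P i.1 => ρ (sl j.1.1 j.2)) (fun j a => θ a j.1.1 j.2)
    (fun j a => (mem_eigSp ρ sl).1 (hv a).1 j.1.1 j.1.2 j.2) fun a b hab => by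
      obtain ⟨i, hi, hne⟩ := hsep a b hab
      obtain ⟨u, hu⟩ := DFunLike.ne_iff.1 hne
      exact ⟨⟨⟨i, hi⟩, u⟩, hu⟩
  have hli' : LinearIndependent ℂ (fun a => (⟨v a, (hv a).2⟩ : W)) :=
    LinearIndependent.of_comp W.subtype hli
  exact hli'.fintype_card_le_finrank

/-- Weights non-trivial on `L` give vectors independent of the vectors fixed by the slots in `L`. -/
theorem card_add_le_finrank [FiniteDimensional ℂ V] {α : Type*} [Fintype α] {L : Set ι}
    (θ : α → Wgt P) (W : Submodule ℂ V) (hW : ∀ a, eigSp ρ sl L (θ a) ⊓ W ≠ ⊥)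
    (hsep : ∀ a b, a ≠ b → ∃ i ∈ L, θ a i ≠ θ b i) (hnz : ∀ a, ∃ i ∈ L, θ a i ≠ 0)
    (h0 : eigSp ρ sl L 0 ≤ W) :
    Fintype.card α + finrank ℂ (eigSp ρ sl L 0) ≤ finrank ℂ W := by
  classical
  choose v hv hv0 using fun a => Submodule.exists_mem_ne_zero_of_ne_bot (hW a)
  have hli : LinearIndependent ℂ v := linearIndependent_of_separated v hv0
    (fun j : Σ i : L, P i.1 => ρ (sl j.1.1 j.2)) (fun j a => θ a j.1.1 j.2)
    (fun j a => (mem_eigSp ρ sl).1 (hv a).1 j.1.1 j.1.2 j.2) fun a b hab => by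
      obtain ⟨i, hi, hne⟩ := hsep a b hab
      obtain ⟨u, hu⟩ := DFunLike.ne_iff.1 hne
      exact ⟨⟨⟨i, hi⟩, u⟩, hu⟩
  have hdis : Submodule.span ℂ (Set.range v) ⊓ eigSp ρ sl L 0 = ⊥ := by
    refine (Submodule.eq_bot_iff _).2 fun x hx => ?_
    obtain ⟨hxs, hxf⟩ := Submodule.mem_inf.1 hx
    obtain ⟨c, rfl⟩ := (Submodule.mem_span_range_iff_exists_fun ℂ).1 hxs
    refine Finset.sum_eq_zero fun a _ => ?_
    obtain ⟨i, hi, hne⟩ := hnz a
    obtain ⟨u, hu⟩ := AddChar.ne_zero_iff.1 hne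
    have h1 := (mem_eigSp ρ sl).1 hxf i hi u
    have h2 : ∑ b, (c b * (θ b i u - 1)) • v b = 0 := by
      rw [Pi.zero_apply, AddChar.zero_apply, one_smul, map_sum] at h1
      rw [← sub_eq_zero] at h1
      rw [← h1, ← Finset.sum_sub_distrib]
      refine Finset.sum_congr rfl fun b _ => ?_
      rw [map_smul, (mem_eigSp ρ sl).1 (hv b).1 i hi u, smul_smul, mul_sub, mul_one, sub_smul]
    have h3 := Fintype.linearIndependent_iff.1 hli _ h2 a
    rw [(mul_eq_zero.1 h3).resolve_right (sub_ne_zero.2 hu), zero_smul]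
  have h := Submodule.finrank_sup_add_finrank_inf_eq (Submodule.span ℂ (Set.range v)) (eigSp ρ sl L 0)
  rw [hdis, finrank_bot, add_zero, finrank_span_eq_card hli] at h
  rw [← h]
  exact Submodule.finrank_mono (sup_le (Submodule.span_le.2 (by
    rintro x ⟨a, rfl⟩; exact (hv a).2)) h0)

section Abelian

variable {n : ℕ} {Q : Fin n → Type*} [∀ i, AddCommGroup (Q i)]

/-- The product of pairwise commuting slots as one character. -/
def prodChar (s : ∀ i, AddChar (Q i) G)
    (hc : Pairwise fun i j => ∀ a b, Commute (s i a) (s j b)) : AddChar (∀ i, Q i) G where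
  toFun a := MonoidHom.noncommPiCoprod (fun i => (s i).toMonoidHom)
    (fun i j hij x y => hc hij x.toAdd y.toAdd) fun i => Multiplicative.ofAdd (a i)
  map_zero_eq_one' := map_one _
  map_add_eq_mul' a b := map_mul _ (fun i => Multiplicative.ofAdd (a i))
    fun i => Multiplicative.ofAdd (b i)

theorem prodChar_single (s : ∀ i, AddChar (Q i) G)
    (hc : Pairwise fun i j => ∀ a b, Commute (s i a) (s j b)) (i : Fin n) (u : Q i) :
    prodChar s hc (Pi.single i u) = s i u := by
  show MonoidHom.noncommPiCoprod (fun i => (s i).toMonoidHom)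
    (fun i j hij x y => hc hij x.toAdd y.toAdd)
    (fun j => Multiplicative.ofAdd ((Pi.single i u : ∀ k, Q k) j)) = _
  rw [show (fun j => Multiplicative.ofAdd ((Pi.single i u : ∀ k, Q k) j)) =
    (Pi.mulSingle i (Multiplicative.ofAdd u) : ∀ k, Multiplicative (Q k)) by
      funext j
      by_cases h : j = i
      · subst h; simp
      · simp [h]]
  exact MonoidHom.noncommPiCoprod_mulSingle (N := fun i => Multiplicative (Q i)) _ i
    (Multiplicative.ofAdd u)

end Abelian

section Decomp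

variable {A : Type*} [AddCommGroup A] [Fintype A] (E : AddChar A (Module.End ℂ V))

theorem weightProj_apply_comm {v : V} {a : A} {c : ℂ} (h : E a v = c • v) (ψ : AddChar A ℂ) :
    E a (weightProj E ψ v) = c • weightProj E ψ v := by
  rw [weightProj_apply, map_smul, map_sum, smul_comm, Finset.smul_sum (r := c)]
  congr 1
  refine Finset.sum_congr rfl fun b _ => ?_
  rw [map_smul, ← Module.End.mul_apply, ← AddChar.map_add_eq_mul, add_comm,
    AddChar.map_add_eq_mul, Module.End.mul_apply, h, map_smul, smul_comm]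

open Classical in
/-- The dimension of the vectors fixed by a set of elements of an abelian group is the sum of the
dimensions of the weight spaces of the characters trivial on the set. -/
theorem finrank_fixed_eq [FiniteDimensional ℂ V] (S : Set A) (U : Submodule ℂ V)
    (hU : ∀ v, v ∈ U ↔ ∀ a ∈ S, E a v = v) :
    finrank ℂ U = ∑ ψ ∈ Finset.univ.filter (fun ψ : AddChar A ℂ => ∀ a ∈ S, ψ a = 1),
      finrank ℂ (weightSpace E ψ) := by
  set T := Finset.univ.filter (fun ψ : AddChar A ℂ => ∀ a ∈ S, ψ a = 1) with hT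
  let π : U →ₗ[ℂ] ∀ ψ : T, weightSpace E ψ.1 :=
    LinearMap.pi fun ψ => ((weightProj E ψ.1).codRestrict _ (weightProj_mem E ψ.1)) ∘ₗ U.subtype
  have hzero : ∀ v ∈ U, ∀ ψ ∉ T, weightProj E ψ v = 0 := by
    intro v hv ψ hψ
    simp only [hT, Finset.mem_filter, Finset.mem_univ, true_and, not_forall] at hψ
    obtain ⟨a, ha, hne⟩ := hψ
    have h1 := weightProj_apply_comm E (show E a v = (1 : ℂ) • v by rw [one_smul, (hU v).1 hv a ha]) ψ
    rw [mem_weightSpace.1 (weightProj_mem E ψ v) a] at h1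
    exact (smul_eq_zero.1 (by rw [sub_smul, h1, sub_self] : (ψ a - 1) • weightProj E ψ v = 0)).resolve_left
      (sub_ne_zero.2 hne)
  have hinj : Function.Injective π := by
    rw [← LinearMap.ker_eq_bot, Submodule.eq_bot_iff]
    rintro ⟨v, hv⟩ h0
    apply Subtype.ext
    show v = 0
    rw [← sum_weightProj E v]
    refine Finset.sum_eq_zero fun ψ _ => ?_
    by_cases hψ : ψ ∈ T
    · exact congrArg Subtype.val (congrFun (LinearMap.mem_ker.1 h0) ⟨ψ, hψ⟩)
    · exact hzero v hv ψ hψ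
  have hmem : ∀ ψ : T, ∀ w ∈ weightSpace E ψ.1, w ∈ U := fun ψ w hw => (hU w).2 fun a ha => by
    rw [mem_weightSpace.1 hw a, (Finset.mem_filter.1 ψ.2).2 a ha, one_smul]
  have hsurj : Function.Surjective π := by
    intro f
    refine ⟨⟨∑ ψ : T, (f ψ : V), Submodule.sum_mem _ fun ψ _ => hmem ψ _ (f ψ).2⟩, ?_⟩
    funext φ
    apply Subtype.ext
    simp only [π, LinearMap.pi_apply, LinearMap.comp_apply, Submodule.subtype_apply,
      map_sum, AddSubmonoidClass.coe_finsetSum, LinearMap.codRestrict_apply]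
    rw [Finset.sum_eq_single φ (fun ψ _ hne => weightProj_of_mem_ne
      (fun h => hne (Subtype.ext h.symm)) (f ψ).2) (by simp)]
    exact weightProj_of_mem (f φ).2
  rw [(LinearEquiv.ofBijective π ⟨hinj, hsurj⟩).finrank_eq, Module.finrank_pi_fintype,
    Finset.sum_coe_sort T (fun ψ => finrank ℂ (weightSpace E ψ))]

end Decomp

section Shear

variable {A B : Type*} [AddCommGroup A] [Fintype A] [AddCommGroup B] [Fintype B]

/-- Two commuting slots on an invariant subspace, sheared by elements moving the first along the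
second: every character of the second slot other than the trivial one extends in all ways with
equal multiplicity. -/
theorem shear [FiniteDimensional ℂ V] (M Ma Mb Mab : Submodule ℂ V) (a : AddChar A G)
    (b : AddChar B G) (hcomm : ∀ x y, Commute (a x) (b y))
    (ha : ∀ x, ∀ v ∈ M, ρ (a x) v ∈ M) (hb : ∀ y, ∀ v ∈ M, ρ (b y) v ∈ M)
    (hMa : ∀ v, v ∈ Ma ↔ v ∈ M ∧ ∀ x, ρ (a x) v = v)
    (hMb : ∀ v, v ∈ Mb ↔ v ∈ M ∧ ∀ y, ρ (b y) v = v)
    (hMab : ∀ v, v ∈ Mab ↔ v ∈ Ma ∧ v ∈ Mb)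
    (hg : ∀ lam : AddChar B ℂ, lam ≠ 0 → ∀ χ : AddChar A ℂ, ∃ (g : G) (C : A → B),
      (∀ v ∈ M, ρ g⁻¹ v ∈ M) ∧ (∀ x, g * a x * g⁻¹ = a x * b (C x)) ∧
      (∀ y, g * b y * g⁻¹ = b y) ∧ ∀ x, χ x = lam (C x)) :
    Fintype.card A * finrank ℂ Ma + finrank ℂ Mb =
      finrank ℂ M + Fintype.card A * finrank ℂ Mab := by
  classical
  let u : AddChar (A × B) G :=
    { toFun := fun p => a p.1 * b p.2
      map_zero_eq_one' := by simp
      map_add_eq_mul' := fun p p' => by
        simp only [Prod.fst_add, Prod.snd_add, AddChar.map_add_eq_mul, mul_assoc]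
        rw [← mul_assoc (a p'.1), (hcomm p'.1 p.2).eq, mul_assoc] }
  have hu : ∀ p, ∀ v ∈ M, ρ (u p) v ∈ M := fun p v hv => by
    show ρ (a p.1 * b p.2) v ∈ M
    rw [map_mul, Module.End.mul_apply]; exact ha _ _ (hb _ _ hv)
  let E : AddChar (A × B) (Module.End ℂ M) :=
    { toFun := fun p => (ρ (u p)).restrict (hu p)
      map_zero_eq_one' := LinearMap.ext fun v => Subtype.ext (by simp)
      map_add_eq_mul' := fun p p' => LinearMap.ext fun v => Subtype.ext (by
        simp [AddChar.map_add_eq_mul]) }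
  have hE : ∀ p, ∀ v : M, (E p v : V) = ρ (a p.1 * b p.2) v := fun _ _ => rfl
  obtain ⟨mk, hm⟩ : ∃ mk : AddChar A ℂ × AddChar B ℂ → AddChar (A × B) ℂ,
      ∀ c p, mk c p = c.1 p.1 * c.2 p.2 := ⟨fun c =>
    { toFun := fun p => c.1 p.1 * c.2 p.2
      map_zero_eq_one' := by simp
      map_add_eq_mul' := fun p p' => by
        simp only [Prod.fst_add, Prod.snd_add, AddChar.map_add_eq_mul]; ring }, fun _ _ => rfl⟩
  have hmk : Function.Bijective mk := by
    refine ⟨fun c c' h => Prod.ext (AddChar.ext _ _ fun x => ?_) (AddChar.ext _ _ fun y => ?_),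
      fun ψ => ⟨(ψ.compAddMonoidHom (AddMonoidHom.inl A B),
        ψ.compAddMonoidHom (AddMonoidHom.inr A B)), AddChar.ext _ _ fun p => ?_⟩⟩
    · simpa [hm] using DFunLike.congr_fun h (x, 0)
    · simpa [hm] using DFunLike.congr_fun h (0, y)
    · rw [hm]
      show ψ (p.1, 0) * ψ (0, p.2) = ψ p
      rw [← AddChar.map_add_eq_mul]; simp
  let f : AddChar A ℂ × AddChar B ℂ → ℕ := fun c => finrank ℂ (weightSpace E (mk c))
  have sum_f : ∀ (S : Set (A × B)) (U : Submodule ℂ V), U ≤ M →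
      (∀ v ∈ M, v ∈ U ↔ ∀ p ∈ S, ρ (a p.1 * b p.2) v = v) →
      finrank ℂ U = ∑ c ∈ Finset.univ.filter (fun c => ∀ p ∈ S, mk c p = 1), f c := by
    intro S U hU hS
    rw [← (Submodule.comapSubtypeEquivOfLe hU).finrank_eq,
      finrank_fixed_eq E S (U.comap M.subtype) fun v => by
        rw [Submodule.mem_comap, Submodule.subtype_apply, hS v v.2]
        simp only [← hE, SetLike.coe_eq_coe]]
    refine (Finset.sum_bij (fun c _ => mk c) (fun c hc => by simpa using hc)
      (fun c _ c' _ h => hmk.1 h) (fun ψ hψ => ?_) fun c _ => rfl).symm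
    obtain ⟨c, rfl⟩ := hmk.2 ψ
    exact ⟨c, by simpa using hψ, rfl⟩
  have eM : finrank ℂ M = ∑ c, f c := by
    rw [sum_f ∅ M le_rfl (fun v hv => ⟨fun _ p hp => absurd hp (Set.notMem_empty p), fun _ => hv⟩)]
    simp
  have ea : finrank ℂ Ma = ∑ χ : AddChar B ℂ, f (0, χ) := by
    rw [sum_f (Set.range fun x => (x, (0 : B))) Ma (fun v hv => ((hMa v).1 hv).1) (fun v hv => by
      simp [hMa, hv])]
    refine Finset.sum_bij (fun c _ => c.2) (fun _ _ => Finset.mem_univ _) (fun c hc c' hc' h => ?_)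
      (fun χ _ => ⟨(0, χ), by simp [hm], rfl⟩) fun c hc => ?_
    · simp only [Finset.mem_filter, Finset.mem_univ, true_and, Set.forall_mem_range] at hc hc'
      refine Prod.ext (AddChar.ext _ _ fun x => ?_) h
      have h1 := hc x; have h2 := hc' x
      simp [hm] at h1 h2
      rw [h1, h2]
    · simp only [Finset.mem_filter, Finset.mem_univ, true_and, Set.forall_mem_range] at hc
      congr 1
      refine Prod.ext (AddChar.ext _ _ fun x => ?_) rfl
      simpa [hm] using hc x
  have eb : finrank ℂ Mb = ∑ χ : AddChar A ℂ, f (χ, 0) := by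
    rw [sum_f (Set.range fun y => ((0 : A), y)) Mb (fun v hv => ((hMb v).1 hv).1) (fun v hv => by
      simp [hMb, hv])]
    refine Finset.sum_bij (fun c _ => c.1) (fun _ _ => Finset.mem_univ _) (fun c hc c' hc' h => ?_)
      (fun χ _ => ⟨(χ, 0), by simp [hm], rfl⟩) fun c hc => ?_
    · simp only [Finset.mem_filter, Finset.mem_univ, true_and, Set.forall_mem_range] at hc hc'
      refine Prod.ext h (AddChar.ext _ _ fun y => ?_)
      have h1 := hc y; have h2 := hc' y
      simp [hm] at h1 h2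
      rw [h1, h2]
    · simp only [Finset.mem_filter, Finset.mem_univ, true_and, Set.forall_mem_range] at hc
      congr 1
      refine Prod.ext rfl (AddChar.ext _ _ fun y => ?_)
      simpa [hm] using hc y
  have eab : finrank ℂ Mab = f (0, 0) := by
    have hS : ∀ v ∈ M, v ∈ Mab ↔ ∀ p ∈ (Set.univ : Set (A × B)), ρ (a p.1 * b p.2) v = v := by
      intro v hv
      refine ⟨fun h p _ => ?_, fun h => (hMab v).2 ⟨(hMa v).2 ⟨hv, fun x => ?_⟩,
        (hMb v).2 ⟨hv, fun y => ?_⟩⟩⟩
      · obtain ⟨h1, h2⟩ := (hMab v).1 h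
        rw [map_mul, Module.End.mul_apply, ((hMb v).1 h2).2, ((hMa v).1 h1).2]
      · simpa using h (x, 0) (Set.mem_univ _)
      · simpa using h (0, y) (Set.mem_univ _)
    rw [sum_f Set.univ Mab (fun v hv => ((hMa v).1 ((hMab v).1 hv).1).1) hS]
    refine Finset.sum_eq_single ((0 : AddChar A ℂ), (0 : AddChar B ℂ)) (fun c hc hne => ?_)
      (fun h => ?_)
    · refine absurd (hmk.1 (AddChar.ext _ _ fun p => ?_)) hne
      simp only [Finset.mem_filter] at hc
      refine (hc.2 p (Set.mem_univ _)).trans ?_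
      rw [hm, AddChar.zero_apply, AddChar.zero_apply, one_mul]
    · refine absurd ?_ h
      simp only [Finset.mem_filter]
      refine ⟨Finset.mem_univ _, fun p _ => ?_⟩
      rw [hm, AddChar.zero_apply, AddChar.zero_apply, one_mul]
  have key : ∀ (lam : AddChar B ℂ), lam ≠ 0 → ∀ χ χ' : AddChar A ℂ, f (χ, lam) ≤ f (χ', lam) := by
    intro lam hlam χ χ'
    obtain ⟨g, C, hgM, hga, hgb, hC⟩ := hg lam hlam (χ' / χ)
    have hmaps : ∀ v ∈ weightSpace E (mk (χ, lam)),
        (ρ g⁻¹).restrict hgM v ∈ weightSpace E (mk (χ', lam)) := by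
      intro v hv
      rw [mem_weightSpace] at hv ⊢
      intro p
      apply Subtype.ext
      rw [hE, SetLike.val_smul]
      show ρ (a p.1 * b p.2) (ρ g⁻¹ (v : V)) = mk (χ', lam) p • ρ g⁻¹ (v : V)
      have hv' : ρ (a p.1 * b (C p.1 + p.2)) (v : V) = mk (χ, lam) (p.1, C p.1 + p.2) • (v : V) := by
        have := congrArg Subtype.val (hv (p.1, C p.1 + p.2))
        rwa [hE] at this
      calc ρ (a p.1 * b p.2) (ρ g⁻¹ (v : V))
          = ρ g⁻¹ (ρ (g * a p.1 * g⁻¹ * (g * b p.2 * g⁻¹)) (v : V)) := by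
            rw [← Module.End.mul_apply, ← Module.End.mul_apply, ← map_mul, ← map_mul]
            congr 2; group
        _ = ρ g⁻¹ (mk (χ, lam) (p.1, C p.1 + p.2) • (v : V)) := by
            rw [hga, hgb, mul_assoc, ← AddChar.map_add_eq_mul, hv']
        _ = _ := by
            rw [map_smul]
            congr 1
            rw [hm, hm]
            show χ p.1 * lam (C p.1 + p.2) = χ' p.1 * lam p.2
            rw [AddChar.map_add_eq_mul, ← hC, AddChar.div_apply']
            field_simp [(χ.val_isUnit p.1).ne_zero]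
    exact LinearMap.finrank_le_finrank_of_injective (f := ((ρ g⁻¹).restrict hgM).restrict hmaps)
      fun v w h => Subtype.ext (Subtype.ext (rep_injective ρ g⁻¹
        (congrArg (fun z : weightSpace E (mk (χ', lam)) => ((z : M) : V)) h)))
  rw [ea, eb, eab, eM, Fintype.sum_prod_type_right]
  rw [← Finset.add_sum_erase _ _ (Finset.mem_univ (0 : AddChar B ℂ)),
    ← Finset.add_sum_erase _ (fun lam => ∑ χ, f (χ, lam)) (Finset.mem_univ (0 : AddChar B ℂ)),
    mul_add, Finset.mul_sum]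
  rw [Finset.sum_congr rfl (g := fun lam => ∑ χ, f (χ, lam)) fun lam hlam => by
    have hl := Finset.ne_of_mem_erase hlam
    rw [Finset.sum_congr rfl fun χ _ => le_antisymm (key lam hl χ 0) (key lam hl 0 χ),
      Finset.sum_const, Finset.card_univ, AddChar.card_eq, smul_eq_mul]]
  ring

end Shear

end CfsgLib.MinDeg.Slots
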