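import Mathlib.RingTheory.Coprime.Lemmas
import Mathlib.RingTheory.Int.Basic
import Mathlib.Tactic.IntervalCases
import Mathlib.Tactic.LinearCombination
import Mathlib.Tactic.Linarith

/-!
# The arithmetic behind the orthogonal degree bounds
-/

set_option autoImplicit false

namespace CfsgLib.MinDeg.OrthBd

/-- The degree bound, for dimension `2 * (i + 3)`. -/
def NB (ε q : ℤ) : ℕ → ℤ
  | 0 => q * (q ^ 2 + ε * q + 1)
  | i + 1 => NB ε q i + ((q ^ (i + 3) - ε) * (q ^ (i + 2) + ε) + 1)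

theorem NB_mul {ε q : ℤ} (hε : ε = 1 ∨ ε = -1) :
    ∀ i, NB ε q i * (q ^ 2 - 1) = (q ^ (i + 3) - ε) * (q ^ (i + 2) + ε * q)
  | 0 => by rcases hε with rfl | rfl <;> simp only [NB] <;> ring
  | i + 1 => by
    rw [NB, add_mul, NB_mul hε i]
    rcases hε with rfl | rfl <;> ring

/-- The generic exclusion. -/
theorem int_core {ε q f : ℤ} {j : ℕ} (hε : ε = 1 ∨ ε = -1) (hq : 2 ≤ q) (hj : 1 ≤ j)
    (hf : f * (q ^ 2 - 1) = (q ^ 2 * q ^ j - ε) * (q * q ^ j + ε * q))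
    (hdvd : (f + (q ^ 2 * q ^ j - ε) * (q * q ^ j + ε)) * (q ^ 2 - 1) ∣
      (q ^ 3 * q ^ j - ε) * (q ^ 2 * q ^ j + ε) * ((q ^ 2 * q ^ j - ε) * (q * q ^ j + ε)) *
        (f + ε * q ^ j * (q ^ 2 - q) - 1)) : False := by
  set u := q ^ j with hu
  have hqu : q ≤ u := by
    rw [hu]
    calc q = q ^ 1 := (pow_one q).symm
      _ ≤ q ^ j := pow_le_pow_right₀ (by omega) hj
  have hε2 : ε * ε = 1 := by rcases hε with rfl | rfl <;> norm_num
  set B := q ^ 2 + q - 1 with hB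
  set Y := q ^ 3 * u + ε * B with hY
  set χ := f + ε * u * (q ^ 2 - q) - 1 with hχ
  set A := (q ^ 3 * u - ε) * (q ^ 2 * u + ε) * (q * u + ε) with hA
  have hd : (f + (q ^ 2 * u - ε) * (q * u + ε)) * (q ^ 2 - 1) = (q ^ 2 * u - ε) * Y := by
    rw [hY, hB]
    linear_combination hf
  have hX : q ^ 2 * u - ε ≠ 0 := by
    have : 4 ≤ q ^ 2 * u := by nlinarith
    omega
  have h1 : Y ∣ A * χ := by
    rw [hd, show (q ^ 3 * u - ε) * (q ^ 2 * u + ε) * ((q ^ 2 * u - ε) * (q * u + ε)) * χ =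
      (q ^ 2 * u - ε) * (A * χ) by rw [hA]; ring] at hdvd
    exact (mul_dvd_mul_iff_left hX).1 hdvd
  -- the two congruences
  have h2 : Y ∣ q ^ 3 * A + ε * (q * (q ^ 2 - 1) ^ 2) := by
    set α := -ε * (B + 1)
    set β := ε * (q - B)
    set γ := ε * (q ^ 2 - B)
    refine ⟨Y ^ 2 + (α + β + γ) * Y + (α * β + α * γ + β * γ), ?_⟩
    simp only [hA, hY, hB, α, β, γ]
    rcases hε with rfl | rfl <;> ring
  have h3 : Y ∣ q ^ 3 * (χ * (q ^ 2 - 1)) + (q ^ 2 - 1) * B ^ 2 := by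
    refine ⟨q ^ 3 * u + ε * ((q ^ 2 - 1) ^ 2 - q), ?_⟩
    simp only [hχ, hY, hB]
    rcases hε with rfl | rfl <;> linear_combination q ^ 3 * hf
  have h4 : Y ∣ q * ((q ^ 2 - 1) ^ 2 * B ^ 2) := by
    have a1 : Y ∣ ε * (q * (q ^ 2 - 1) ^ 2) * χ := by
      have := dvd_sub (h2.mul_right χ) (h1.mul_left (q ^ 3))
      refine this.trans (dvd_of_eq ?_)
      ring
    have a2 : Y ∣ q * (q ^ 2 - 1) * (q ^ 3 * (χ * (q ^ 2 - 1))) := by
      have := a1.mul_left (ε * q ^ 3)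
      refine this.trans (dvd_of_eq ?_)
      linear_combination (q ^ 4 * (q ^ 2 - 1) ^ 2 * χ) * hε2
    have := dvd_sub (h3.mul_left (q * (q ^ 2 - 1))) a2
    refine this.trans (dvd_of_eq ?_)
    ring
  have hcq : IsCoprime Y q := ⟨-ε, ε * q ^ 2 * u + q + 1, by
    simp only [hY, hB]
    linear_combination (-(q ^ 2 + q - 1)) * hε2⟩
  have hcB : IsCoprime Y B := by
    have hqB : IsCoprime q B := ⟨q + 1, -1, by rw [hB]; ring⟩
    have : IsCoprime (q ^ 3 * u) B := hqB.pow_left.mul_left (by rw [hu]; exact hqB.pow_left)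
    rw [hY]
    exact this.add_mul_right_left ε
  have h5 : Y ∣ (q ^ 2 - 1) ^ 2 :=
    (hcB.pow_right).dvd_of_dvd_mul_right (hcq.dvd_of_dvd_mul_left h4)
  have hpos : 0 < (q ^ 2 - 1) ^ 2 := pow_pos (by nlinarith) 2
  have hle := Int.le_of_dvd hpos h5
  have hq4 : q ^ 4 ≤ q ^ 3 * u := by nlinarith [pow_nonneg (show (0:ℤ) ≤ q by omega) 3]
  have hBε : -B ≤ ε * B := by
    have : 0 ≤ B := by rw [hB]; nlinarith
    rcases hε with rfl | rfl <;> omega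
  rw [hY] at hle
  nlinarith

/-- Exclusions in the smallest hyperbolic case. -/
theorem int_plus {q f : ℤ} (hq : 4 ≤ q) (hlo : 2 * q - 2 ≤ f) (hhi : f ≤ 2 * q)
    (hdvd : (f + (q ^ 2 - 1) * (q + 1)) * (q ^ 2 - 1) ∣
      (q ^ 3 - 1) * (q ^ 2 + 1) * ((q ^ 2 - 1) * (q + 1)) * (f + (q ^ 2 - q) - 1)) : False := by
  have hne : q ^ 2 - 1 ≠ 0 := by nlinarith
  obtain ⟨c, rfl⟩ : ∃ c, f = 2 * q + c := ⟨f - 2 * q, by ring⟩
  set d := q ^ 3 + q ^ 2 + q + c - 1 with hd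
  have h1 : d ∣ (q ^ 3 - 1) * (q ^ 2 + 1) * (q + 1) * (q ^ 2 + q + c - 1) := by
    rw [show (2 * q + c + (q ^ 2 - 1) * (q + 1)) * (q ^ 2 - 1) = (q ^ 2 - 1) * d by rw [hd]; ring,
      show (q ^ 3 - 1) * (q ^ 2 + 1) * ((q ^ 2 - 1) * (q + 1)) * (2 * q + c + (q ^ 2 - q) - 1) =
        (q ^ 2 - 1) * ((q ^ 3 - 1) * (q ^ 2 + 1) * (q + 1) * (q ^ 2 + q + c - 1)) by ring] at hdvd
    exact (mul_dvd_mul_iff_left hne).1 hdvd
  have hc1 : -2 ≤ c := by omega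
  have hc2 : c ≤ 0 := by omega
  obtain rfl | rfl | rfl : c = -2 ∨ c = -1 ∨ c = 0 := by omega
  · have h2 : d ∣ 24 * q ^ 2 + 12 * q - 36 := by
      have := dvd_sub h1 (dvd_mul_right d (q ^ 5 + q ^ 4 - 3 * q ^ 3 + 3 * q ^ 2 - q - 13))
      refine this.trans (dvd_of_eq ?_)
      rw [hd]; ring
    by_cases hbig : 24 ≤ q
    · have := Int.le_of_dvd (by nlinarith) h2
      rw [hd] at this
      nlinarith
    · rw [hd] at h2
      interval_cases q <;> norm_num at h2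
  · have h2 : d ∣ 12 * q ^ 2 + 6 * q - 12 := by
      have := dvd_sub h1 (dvd_mul_right d (q ^ 5 + q ^ 4 - 2 * q ^ 3 + 2 * q ^ 2 - q - 7))
      refine this.trans (dvd_of_eq ?_)
      rw [hd]; ring
    by_cases hbig : 13 ≤ q
    · have := Int.le_of_dvd (by nlinarith) h2
      rw [hd] at this
      nlinarith
    · rw [hd] at h2
      interval_cases q <;> norm_num at h2
  · have h2 : d ∣ 4 * q ^ 2 + 2 * q - 2 := by
      have := dvd_sub h1 (dvd_mul_right d (q ^ 5 + q ^ 4 - q ^ 3 + q ^ 2 - q - 3))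
      refine this.trans (dvd_of_eq ?_)
      rw [hd]; ring
    have := Int.le_of_dvd (by nlinarith) h2
    rw [hd] at this
    nlinarith

/-- The extra exclusion in the smallest elliptic case. -/
theorem int_minus {q : ℤ} (hq : 3 ≤ q)
    (hdvd : (q ^ 3 - q ^ 2 + q - 1 + (q ^ 3 + 1) * (q ^ 2 - 1)) * (q ^ 2 - 1) ∣
      (q ^ 4 + 1) * (q ^ 3 - 1) * ((q ^ 3 + 1) * (q ^ 2 - 1)) * (q - 2)) : False := by
  have hne : q ^ 2 - 1 ≠ 0 := by nlinarith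
  set Y := q ^ 4 + q ^ 3 + q ^ 2 + q + 2 with hY
  have h1 : Y ∣ (q ^ 4 + 1) * (q ^ 6 - 1) * (q - 2) := by
    rw [show (q ^ 3 - q ^ 2 + q - 1 + (q ^ 3 + 1) * (q ^ 2 - 1)) * (q ^ 2 - 1) =
        (q ^ 2 - 1) * ((q - 1) * Y) by rw [hY]; ring,
      show (q ^ 4 + 1) * (q ^ 3 - 1) * ((q ^ 3 + 1) * (q ^ 2 - 1)) * (q - 2) =
        (q ^ 2 - 1) * ((q ^ 4 + 1) * (q ^ 6 - 1) * (q - 2)) by ring] at hdvd
    exact (dvd_mul_left Y (q - 1)).trans ((mul_dvd_mul_iff_left hne).1 hdvd)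
  have h2 : Y ∣ 2 * q ^ 3 + 4 * q ^ 2 - 6 * q + 12 := by
    have := dvd_sub (dvd_mul_right Y (q ^ 7 - 3 * q ^ 6 + 2 * q ^ 5 + 2 * q ^ 2 - 7 * q + 7)) h1
    refine this.trans (dvd_of_eq ?_)
    rw [hY]; ring
  have := Int.le_of_dvd (by nlinarith) h2
  rw [hY] at this
  nlinarith [mul_nonneg (pow_nonneg (show (0 : ℤ) ≤ q by omega) 3) (show (0 : ℤ) ≤ q - 3 by omega),
    mul_nonneg (pow_nonneg (show (0 : ℤ) ≤ q by omega) 2) (show (0 : ℤ) ≤ q - 3 by omega)]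

end CfsgLib.MinDeg.OrthBd
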