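import Cfsg.Agent.Lib.MinDeg.OrthClass
import Cfsg.Agent.Lib.MinDeg.OrthNum
import Cfsg.Agent.Lib.Char.Kernel

/-!
# The degree bound for representations with singular weights only
-/

set_option autoImplicit false

namespace CfsgLib.MinDeg.OrthBd

open QuadraticMap Module CfsgLib.Classical.Quad

universe u v

section Defs

variable {F : Type u} [Field F] {V : Type u} [AddCommGroup V] [Module F V]
variable {R : QuadraticForm F V} {U : Type v} [AddCommGroup U] [Module ℂ U]

/-- The indicator of zero. -/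
noncomputable def singInd (c : F) : ℕ :=
  haveI := _root_.Classical.decEq F
  if c = 0 then 1 else 0

theorem singInd_zero : singInd (0 : F) = 1 := by
  classical
  simp [singInd]

theorem singInd_of_ne {c : F} (hc : c ≠ 0) : singInd c = 0 := by
  classical
  simp [singInd, hc]

theorem singInd_le_one (c : F) : singInd c ≤ 1 := by
  classical
  simp only [singInd]
  split_ifs <;> simp

theorem singInd_sq (s c : F) (hs : s ≠ 0) : singInd (s * s * c) = singInd c := by
  by_cases hc : c = 0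
  · simp [hc]
  · rw [singInd_of_ne hc, singInd_of_ne (mul_ne_zero (mul_ne_zero hs hs) hc)]

/-- All singular weights once, no other weights, and the fixing property. -/
def Sing1 (ρ : Representation ℂ (siegelGroup (plane R)) U) (ψ : AddChar F ℂ) : Prop :=
  MultEq ρ ψ singInd ∧ FixProp ρ ψ

variable [Fintype F] [Fintype V] [FiniteDimensional ℂ U]

theorem sing1_fixedRep (hnd : NDPolar R) {ψ : AddChar F ℂ} (hψ : ψ.IsPrimitive)
    (ρ : Representation ℂ (siegelGroup (plane (plane R))) U) (h : Sing1 ρ ψ) :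
    Sing1 (fixedRep ρ ψ) ψ :=
  ⟨multEq_fixedRep hnd hψ ρ h.2 h.1 singInd_sq, fixProp_fixedRep hnd hψ ρ h.2⟩

omit [Fintype F] [Fintype V] [FiniteDimensional ℂ U] in
theorem finite_siegelGroup [Finite V] (R : QuadraticForm F V) : Finite (siegelGroup R) := by
  haveI : Finite (Orth R) :=
    Finite.of_injective (fun g => (⇑g.1 : V → V)) fun g h hgh => orth_ext fun x => congrFun hgh x
  exact inferInstance

/-- The count of the weights of a representation with singular weights only. -/
theorem finrank_eq_sing1 (hnd : NDPolar R) {ψ : AddChar F ℂ} (hψ : ψ.IsPrimitive)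
    (ρ : Representation ℂ (siegelGroup (plane R)) U) (h : Sing1 ρ ψ) :
    (finrank ℂ U : ℤ) = mult ρ ψ 0 + ((Nat.card {v : V // R v = 0} : ℤ) - 1) := by
  classical
  rw [← sum_mult_eq hnd hψ ρ, ← Finset.add_sum_erase _ _ (Finset.mem_univ (0 : V)),
    Finset.sum_congr rfl fun x hx => h.1 x (Finset.ne_of_mem_erase hx)]
  push_cast
  congr 1
  have hz : ∀ x : V, (singInd (R x) : ℤ) = if R x = 0 then 1 else 0 := fun x => by
    split_ifs with hx <;> simp [hx, singInd_zero, singInd_of_ne]
  rw [Finset.sum_congr rfl fun x _ => hz x, Finset.sum_erase_eq_sub (Finset.mem_univ _),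
    Finset.sum_boole, Nat.card_eq_fintype_card, Fintype.card_subtype]
  simp

/-- An irreducible constituent with the same weights. -/
theorem exists_irreducible_sing1 (hnd : NDPolar R) (P : Frame (plane R))
    (htrans : ∀ a b : V, a ≠ 0 → b ≠ 0 → R a = 0 → R b = 0 → ∃ g : siegelGroup R, g.1.1 a = b)
    {p₀ : V} (hp : R p₀ = 0) (hp0 : p₀ ≠ 0) {ψ : AddChar F ℂ} (hψ : ψ.IsPrimitive)
    (ρ : Representation ℂ (siegelGroup (plane R)) U) (h : Sing1 ρ ψ) :
    ∃ W : Subrepresentation ρ, W.toRepresentation.IsIrreducible ∧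
      Sing1 W.toRepresentation ψ := by
  classical
  haveI := finite_siegelGroup (plane R)
  -- the radical acts non-trivially
  obtain ⟨w, hw⟩ : ∃ w, ρ (rad R w) ≠ 1 := by
    by_contra hc
    push Not at hc
    have h1 : mult ρ ψ p₀ = 1 := by rw [h.1 p₀ hp0, hp, singInd_zero]
    obtain ⟨v, hv, hv0⟩ := Submodule.exists_mem_ne_zero_of_ne_bot
      (p := WS ρ ψ p₀) (fun hb => by rw [mult, hb, finrank_bot] at h1; exact zero_ne_one h1)
    refine hp0 (wchar_injective hnd hψ ((DFunLike.ext _ _ fun w => ?_).trans (wchar_zero R ψ).symm))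
    have h2 := mem_WS.1 hv w
    rw [hc w, Module.End.one_apply] at h2
    rw [AddChar.zero_apply, wchar_apply]
    exact smul_left_injective ℂ hv0 (show ψ (polar R w p₀) • v = (1 : ℂ) • v by rw [one_smul, ← h2])
  obtain ⟨W, hW, hWg⟩ := CfsgLib.CharKernel.exists_irreducible_sub_ne_one ρ _ hw
  refine ⟨W, hW, ?_⟩
  set σ := W.toRepresentation with hσ
  have hsub : ∀ (x : V) (z : W.toSubmodule), z ∈ WS σ ψ x → (z : U) ∈ WS ρ ψ x := fun x z hz =>
    mem_WS.2 fun w => congrArg Subtype.val (mem_WS.1 hz w)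
  have hle : ∀ x, mult σ ψ x ≤ mult ρ ψ x := fun x =>
    LinearMap.finrank_le_finrank_of_injective
      (f := (W.toSubmodule.subtype.comp (WS σ ψ x).subtype).codRestrict (WS ρ ψ x)
        fun z => hsub x z.1 z.2)
      fun a b hab => Subtype.ext (Subtype.ext (congrArg Subtype.val hab :))
  obtain ⟨χ, hχ, hχW⟩ := exists_weight_ne_zero (resChar σ (rad R)) (a := w) hWg
  obtain ⟨x, rfl⟩ := (wchar_bijective hnd hψ).2 χ
  have hx0 : x ≠ 0 := fun h0 => hχ (by rw [h0, wchar_zero])
  have hx1 : 1 ≤ mult σ ψ x := one_le_finrank_of_ne_bot hχW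
  have hRx : R x = 0 := by
    by_contra hne
    have h1 := hle x
    rw [h.1 x hx0, singInd_of_ne hne] at h1
    omega
  refine ⟨fun y hy => le_antisymm ((hle y).trans (h.1 y hy).le) ?_, ?_⟩
  · by_cases hRy : R y = 0
    · obtain ⟨g, hg⟩ := htrans x y hx0 hy hRx hRy
      rw [hRy, singInd_zero, ← hg, mult_map]
      exact hx1
    · rw [singInd_of_ne hRy]
      exact Nat.zero_le _
  · intro a b y ha hb hy0 hay hby z hz
    exact Subtype.ext (h.2 a b y ha hb hy0 hay hby _ (hsub y z hz))

end Defs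

section Divide

variable {F : Type u} [Field F] [Fintype F] {V : Type u} [AddCommGroup V] [Module F V] [Fintype V]
variable {R : QuadraticForm F V} {U : Type v} [AddCommGroup U] [Module ℂ U] [FiniteDimensional ℂ U]

/-- The character value at a long root element. -/
theorem trace_root (hnd : NDPolar R) {ψ : AddChar F ℂ} (hψ : ψ.IsPrimitive)
    (ρ : Representation ℂ (siegelGroup (plane (plane R))) U) (h : Sing1 ρ ψ) :
    LinearMap.trace ℂ U (ρ (rad (plane R) ((1, 0), 0))) =
      (((mult ρ ψ 0 : ℤ) + ((Nat.card F : ℤ) * Nat.card {p : V // R p = 0} - Nat.card V - 1) : ℤ) : ℂ) := by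
  classical
  rw [trace_rad (ndPolar_plane hnd) hψ, Fintype.sum_eq_add_sum_compl (0 : (F × F) × V)]
  simp only [polar_zero_right, AddChar.map_zero_eq_one, mul_one]
  push_cast
  congr 1
  have hz : ∀ x : (F × F) × V, x ≠ 0 → (mult ρ ψ x : ℂ) * ψ (polar (plane R) ((1, 0), 0) x) =
      if plane R x = 0 then ψ x.1.2 else 0 := by
    intro x hx
    rw [h.1 x hx]
    have hp : polar (plane R) ((1, 0), 0) x = x.1.2 := by simp [polar_plane]
    rw [hp]
    split_ifs with h0
    · simp [h0, singInd_zero]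
    · simp [singInd_of_ne h0]
  rw [Finset.compl_eq_univ_sdiff, Finset.sdiff_singleton_eq_erase,
    Finset.sum_congr rfl fun x hx => hz x (Finset.ne_of_mem_erase hx),
    Finset.sum_erase_eq_sub (Finset.mem_univ _)]
  simp only [QuadraticMap.map_zero, if_true, Prod.fst_zero, Prod.snd_zero, AddChar.map_zero_eq_one]
  congr 1
  rw [Fintype.sum_prod_type, Fintype.sum_prod_type, Finset.sum_comm,
    ← Finset.add_sum_erase _ _ (Finset.mem_univ (0 : F))]
  have h0 : (∑ a : F, ∑ p : V, if plane R ((a, (0 : F)), p) = 0 then ψ (0 : F) else 0) =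
      (Nat.card F : ℂ) * Nat.card {p : V // R p = 0} := by
    simp only [plane_apply, mul_zero, zero_add, AddChar.map_zero_eq_one, Finset.sum_boole,
      Finset.sum_const, Finset.card_univ, nsmul_eq_mul, Nat.card_eq_fintype_card,
      Fintype.card_subtype]
  have h1 : ∀ b ∈ Finset.univ.erase (0 : F),
      (∑ a : F, ∑ p : V, if plane R ((a, b), p) = 0 then ψ b else 0) =
        (Nat.card V : ℂ) * ψ b := by
    intro b hb
    have hb0 := Finset.ne_of_mem_erase hb
    rw [Finset.sum_comm, Finset.sum_congr rfl fun p _ =>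
      show (∑ a : F, if plane R ((a, b), p) = 0 then ψ b else 0) = ψ b from ?_]
    · simp [Finset.card_univ, Nat.card_eq_fintype_card]
    rw [Finset.sum_eq_single (-(R p) / b) (fun a _ ha => if_neg fun hc => ha (by
      rw [plane_apply] at hc
      rw [eq_div_iff hb0]
      linear_combination hc)) (by simp), if_pos (by
      rw [plane_apply]
      show -(R p) / b * b + R p = 0
      rw [div_mul_cancel₀ _ hb0]
      ring)]
  rw [h0, Finset.sum_congr rfl h1, ← Finset.mul_sum, Finset.sum_erase_eq_sub (Finset.mem_univ _),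
    AddChar.sum_eq_zero_of_ne_one (show ψ ≠ 1 from fun he => hψ one_ne_zero (by rw [he]; ext; simp)),
    AddChar.map_zero_eq_one]
  ring

/-- The divisibility satisfied by an irreducible representation with singular weights only. -/
theorem dvd_of_sing1 (hnd : NDPolar R) (P : Frame (plane (plane R)))
    (htrans : ∀ a b : (F × F) × V, a ≠ 0 → b ≠ 0 → plane R a = 0 → plane R b = 0 →
      ∃ g : siegelGroup (plane R), g.1.1 a = b)
    {ψ : AddChar F ℂ} (hψ : ψ.IsPrimitive)
    (ρ : Representation ℂ (siegelGroup (plane (plane R))) U) (hirr : ρ.IsIrreducible)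
    (h : Sing1 ρ ψ) :
    (finrank ℂ U : ℤ) * ((Nat.card F : ℤ) ^ 2 - 1) ∣
      ((Nat.card {v : (F × F) × (F × F) × V // plane (plane R) v = 0} : ℤ) - 1) *
        ((Nat.card {v : (F × F) × V // plane R v = 0} : ℤ) - 1) *
          ((mult ρ ψ 0 : ℤ) + ((Nat.card F : ℤ) * Nat.card {p : V // R p = 0} - Nat.card V - 1)) := by
  classical
  haveI := finite_siegelGroup (plane (plane R))
  haveI := hirr
  have he0 : (((1 : F), (0 : F)), (0 : V)) ≠ 0 := by simp
  set z : ℤ := (mult ρ ψ 0 : ℤ) + ((Nat.card F : ℤ) * Nat.card {p : V // R p = 0} - Nat.card V - 1)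
  have h1 := finrank_dvd_class_mul ρ (rad (plane R) ((1, 0), 0)) z (trace_root hnd hψ ρ h)
  have h2 : (Nat.card {g // IsConj (rad (plane R) ((1, 0), 0)) g} : ℤ) *
      (Nat.card F * ((Nat.card F : ℤ) ^ 2 - 1)) =
      ((Nat.card {v : (F × F) × (F × F) × V // plane (plane R) v = 0} : ℤ) - 1) *
        (Nat.card F * ((Nat.card {v : (F × F) × V // plane R v = 0} : ℤ) - 1)) := by
    rw [← card_detOne, ← card_rootPair (ndPolar_plane hnd),
      ← card_class_mul (ndPolar_plane hnd) P htrans (Q_eVec R) he0]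
    push_cast
    rfl
  have hq0 : (Nat.card F : ℤ) ≠ 0 := by exact_mod_cast Nat.card_pos.ne'
  refine (mul_dvd_mul_iff_left hq0).1 ?_
  have h3 := mul_dvd_mul_right h1 ((Nat.card F : ℤ) * ((Nat.card F : ℤ) ^ 2 - 1))
  convert h3 using 1
  · ring
  · linear_combination (-z) * h2

end Divide

section Recursion

variable {F : Type u} [Field F] [Fintype F]

/-- The bound for representations with singular weights only, with a slack. -/
def SingBd (ψ : AddChar F ℂ) {V : Type u} [AddCommGroup V] [Module F V] (R : QuadraticForm F V)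
    (ε : ℤ) (i : ℕ) (slack : ℤ) : Prop :=
  ∀ (U : Type) [AddCommGroup U] [Module ℂ U] [FiniteDimensional ℂ U]
    (ρ : Representation ℂ (siegelGroup (plane R)) U), Sing1 ρ ψ →
      NB ε (Nat.card F : ℤ) i ≤ (finrank ℂ U : ℤ) + slack

variable {V : Type u} [AddCommGroup V] [Module F V] [Fintype V]
variable {R : QuadraticForm F V} {ψ : AddChar F ℂ}

omit [Fintype F] in
theorem polar_zk (x y : Fin 0 → F) : polar (⇑(zeroKernel F)) x y = 0 := by simp [polar]

theorem two_le_card : (2 : ℤ) ≤ Nat.card F := by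
  have h := Fintype.one_lt_card (α := F)
  rw [← Nat.card_eq_fintype_card] at h
  exact_mod_cast h

/-- One step up, given a bound one level down and the exclusion of the near misses. -/
theorem singBd_step (hψ : ψ.IsPrimitive) {ε : ℤ} {i : ℕ} (hR : EvenForm R ε (i + 2)) {slack : ℤ}
    (hb : SingBd ψ R ε i slack)
    (hexcl : ∀ (U : Type) [AddCommGroup U] [Module ℂ U] [FiniteDimensional ℂ U]
      (ρ : Representation ℂ (siegelGroup (plane (plane R))) U), Sing1 ρ ψ →
      ∀ f : ℤ, (mult ρ ψ 0 : ℤ) = f → NB ε (Nat.card F : ℤ) i - slack ≤ f →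
        f < NB ε (Nat.card F : ℤ) i →
      (f + ((Nat.card F : ℤ) ^ (i + 3) - ε) * ((Nat.card F : ℤ) ^ (i + 2) + ε)) *
          ((Nat.card F : ℤ) ^ 2 - 1) ∣
        ((Nat.card F : ℤ) ^ (i + 4) - ε) * ((Nat.card F : ℤ) ^ (i + 3) + ε) *
          (((Nat.card F : ℤ) ^ (i + 3) - ε) * ((Nat.card F : ℤ) ^ (i + 2) + ε)) *
          (f + ε * (Nat.card F : ℤ) ^ (i + 1) * ((Nat.card F : ℤ) ^ 2 - (Nat.card F : ℤ)) - 1) →
      False) :
    SingBd ψ (plane R) ε (i + 1) 0 := by
  classical
  intro U _ _ _ ρ h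
  set q : ℤ := (Nat.card F : ℤ) with hq
  have hR' := hR.plane
  obtain ⟨P⟩ := hR.nonempty_frame
  obtain ⟨P'⟩ := hR'.nonempty_frame
  have he0 : (((1 : F), (0 : F)), (0 : V)) ≠ 0 := by simp
  obtain ⟨W, hW, hWs⟩ := exists_irreducible_sing1 hR'.nd P'
    (fun a b ha hb' hRa hRb => exists_siegel_map_level hR'.nd P ha hb' (hRa.trans hRb.symm))
    (Q_eVec R) he0 hψ ρ h
  have hle := Submodule.finrank_le W.toSubmodule
  have hd := finrank_eq_sing1 hR'.nd hψ _ hWs
  have hf := hb _ (fixedRep W.toRepresentation ψ) (sing1_fixedRep hR.nd hψ _ hWs)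
  have hdiv := dvd_of_sing1 hR.nd P'
    (fun a b ha hb' hRa hRb => exists_siegel_map_level hR'.nd P ha hb' (hRa.trans hRb.symm)) hψ
    W.toRepresentation hW hWs
  set f : ℤ := (mult W.toRepresentation ψ 0 : ℤ) with hfdef
  have hf0 : (finrank ℂ (WS W.toRepresentation ψ 0) : ℤ) = f := rfl
  have hqq : (Nat.card V : ℤ) = q ^ (2 * (i + 2)) := by rw [hR.card_space]; push_cast; rfl
  have hS : q * (Nat.card {p : V // R p = 0} : ℤ) - (Nat.card V : ℤ) - 1 =
      ε * q ^ (i + 1) * (q ^ 2 - q) - 1 := by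
    rw [hR.card_zero, hqq, show i + 2 - 1 = i + 1 by omega]
    rcases hR.heps with rfl | rfl <;> ring
  rw [hd, hR'.plane.card_zero, hR'.card_zero, hS, show i + 2 + 1 + 1 - 1 = i + 3 by omega,
    show i + 2 + 1 - 1 = i + 2 by omega] at hdiv
  rw [hR'.card_zero, show i + 2 + 1 - 1 = i + 2 by omega] at hd
  have h3 : i + 2 + 1 = i + 3 := rfl
  have h4 : i + 2 + 1 + 1 = i + 4 := rfl
  rw [h3] at hd
  rw [h4, h3] at hdiv
  simp only [add_sub_cancel_left, ← add_sub_assoc, ← hq] at hdiv hd
  rw [hf0] at hf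
  have hW' : (finrank ℂ W.toSubmodule : ℤ) ≤ (finrank ℂ U : ℤ) := by exact_mod_cast hle
  have hε := hR.heps
  by_cases hlt : f < NB ε q i
  · exact absurd hdiv (fun hdiv => hexcl _ W.toRepresentation hWs f rfl (by linarith) hlt hdiv)
  push Not at hlt
  rcases eq_or_lt_of_le hlt with heq | hgt
  · -- the generic exclusion
    exfalso
    refine int_core (ε := ε) (q := q) (f := f) (j := i + 1) hε two_le_card (by omega) ?_ ?_
    · rw [← heq, NB_mul hε]
      ring
    · refine (dvd_of_eq ?_).trans (hdiv.trans (dvd_of_eq ?_)) <;> ring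
  · rw [NB]
    linarith

/-- The bound all the way up the tower. -/
theorem singBd_tower (hψ : ψ.IsPrimitive) {ε : ℤ} {i : ℕ} (hR : EvenForm R ε (i + 2))
    (hb : SingBd ψ R ε i 0) : ∀ j, SingBd ψ (TQ R j) ε (i + j) 0
  | 0 => hb
  | j + 1 => by
    cases nonempty_fintype (TV F V j)
    have h := evenForm_TQ hR j
    rw [show i + 2 + j = i + j + 2 by omega] at h
    exact singBd_step hψ h (singBd_tower hψ hR hb j) fun _ _ _ _ _ _ f _ h1 h2 _ => by linarith

/-- The elliptic base. -/
theorem singBd_baseMinus (hψ : ψ.IsPrimitive) {a b : F} (hab : IsAniso a b) :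
    SingBd ψ (baseMinus a b) (-1) 0 1 := by
  classical
  intro U _ _ _ ρ h
  have hE := evenForm_baseMinus hab
  have hd := finrank_eq_sing1 hE.nd hψ ρ h
  rw [hd, hE.card_zero, NB]
  have : (0 : ℤ) ≤ (mult ρ ψ 0 : ℤ) := Nat.cast_nonneg _
  norm_num
  linarith

/-- The hyperbolic base. -/
theorem singBd_basePlus (hψ : ψ.IsPrimitive) (h3 : 3 < Fintype.card F) :
    SingBd ψ (basePlus F) 1 0 0 := by
  classical
  intro U _ _ _ ρ h
  set q : ℤ := (Nat.card F : ℤ) with hq
  have hq4 : 4 ≤ q := by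
    rw [hq, Nat.card_eq_fintype_card]
    exact_mod_cast h3
  have hE := evenForm_basePlus (F := F)
  obtain ⟨P⟩ := hE.nonempty_frame
  have hnd1 : NDPolar (plane (zeroKernel F)) := ndPolar_plane ndPolar_zeroKernel
  have he0 : (((1 : F), (0 : F)), (0 : (F × F) × (Fin 0 → F))) ≠ 0 := by simp
  have htrans : ∀ a b : (F × F) × ((F × F) × (Fin 0 → F)), a ≠ 0 → b ≠ 0 → basePlus F a = 0 →
      basePlus F b = 0 → ∃ g : siegelGroup (basePlus F), g.1.1 a = b := by
    intro a b ha hb hRa hRb
    have p1 : IsHPair (basePlus F) ((1, 0), 0) ((0, 1), 0) := ⟨by simp [basePlus, plane_apply],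
      by simp [basePlus, plane_apply], by simp [basePlus, polar_plane, polar_zero_right]⟩
    have p2 : IsHPair (basePlus F) (0, ((1, 0), 0)) (0, ((0, 1), 0)) :=
      ⟨by simp [basePlus, plane_apply], by simp [basePlus, plane_apply],
        by simp [basePlus, plane_apply, polar]⟩
    obtain ⟨g, hg, hga⟩ := exists_siegel_to_pair hE.nd p1 p2
      (by simp [basePlus, polar_plane, polar_zero_right, polar_zk])
      (by simp [basePlus, polar_plane, polar_zero_right, polar_zk])
      (by simp [basePlus, polar_plane, polar_zero_right, polar_zk]) hRa ha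
    obtain ⟨g', hg', hgb⟩ := exists_siegel_to_pair hE.nd p1 p2
      (by simp [basePlus, polar_plane, polar_zero_right, polar_zk])
      (by simp [basePlus, polar_plane, polar_zero_right, polar_zk])
      (by simp [basePlus, polar_plane, polar_zero_right, polar_zk]) hRb hb
    refine ⟨⟨g'⁻¹ * g, mul_mem (inv_mem hg') hg⟩, ?_⟩
    show (g'⁻¹ * g).1 a = b
    rw [mul_apply, hga, ← hgb, inv_apply_self]
  obtain ⟨W, hW, hWs⟩ := exists_irreducible_sing1 (R := basePlus F) hE.nd P htrans (Q_eVec _) he0 hψ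
    ρ h
  have hle := Submodule.finrank_le W.toSubmodule
  have hd := finrank_eq_sing1 hE.nd hψ _ hWs
  have hf := finrank_eq_sing1 hnd1 hψ (fixedRep W.toRepresentation ψ)
    (sing1_fixedRep hnd1 hψ _ hWs)
  have hdiv := dvd_of_sing1 (R := plane (zeroKernel F)) hnd1 P htrans hψ W.toRepresentation hW hWs
  set f : ℤ := (mult W.toRepresentation ψ 0 : ℤ) with hfdef
  have hz1 : (Nat.card {v : (F × F) × (Fin 0 → F) // plane (zeroKernel F) v = 0} : ℤ) = 2 * q - 1 := by
    rw [card_plane_zero_level, if_pos rfl]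
  have hz2 := hE.card_zero
  have hz3 := hE.plane.card_zero
  rw [← hq, show (2 : ℕ) - 1 = 1 from rfl, pow_one] at hz2
  rw [← hq, show (2 : ℕ) + 1 - 1 = 2 from rfl] at hz3
  unfold basePlus at hz2 hz3 hd
  rw [hd, hz3, hz2, hz1, card_plane_space, Nat.card_fun, Nat.card_fin] at hdiv
  rw [hz2] at hd
  rw [hz1] at hf
  have hf0 : (finrank ℂ (WS W.toRepresentation ψ 0) : ℤ) = f := rfl
  rw [hf0] at hf
  have hm0 : (0 : ℤ) ≤ (mult (fixedRep W.toRepresentation ψ) ψ 0 : ℤ) := Nat.cast_nonneg _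
  have hW' : (finrank ℂ W.toSubmodule : ℤ) ≤ (finrank ℂ U : ℤ) := by exact_mod_cast hle
  push_cast at hdiv
  simp only [NB]
  by_cases hhi : f ≤ 2 * q
  · exfalso
    refine int_plus (f := f) hq4 (by linarith) hhi ?_
    have hdiv' : (f + (1 + (q ^ 2 - 1) * (q + 1) - 1)) * (q ^ 2 - 1) ∣
        (1 + (q ^ 3 - 1) * (q ^ 2 + 1) - 1) * (1 + (q ^ 2 - 1) * (q + 1) - 1) *
          (f + (q * (2 * q - 1) - q ^ 2 * q ^ 0 - 1)) := hdiv
    refine (dvd_of_eq ?_).trans (hdiv'.trans (dvd_of_eq ?_)) <;> ring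
  · nlinarith

end Recursion

end CfsgLib.MinDeg.OrthBd
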