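import Cfsg.Agent.Lib.MinDeg.OrthTop
import Cfsg.Agent.Lib.Char.Integral

/-!
# The class of long root elements, and the divisibility it gives
-/

set_option autoImplicit false

namespace CfsgLib.MinDeg.OrthBd

open QuadraticMap Module CfsgLib.Classical.Quad

universe u v

section Fibre

variable {F : Type u} [Field F] {V : Type u} [AddCommGroup V] [Module F V]
variable (Q : QuadraticForm F V)

/-- Ordered bases of totally singular planes. -/
def RootPair : Type u :=
  {p : V × V // p.1 ≠ 0 ∧ Q p.1 = 0 ∧ Q p.2 = 0 ∧ polar Q p.1 p.2 = 0 ∧ ∀ c : F, c • p.1 ≠ p.2}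

/-- The long root element attached to a basis of a totally singular plane. -/
def rootElt (p : RootPair Q) : Orth Q := siegel Q p.1.1 p.1.2 p.2.2.1 p.2.2.2.2.1

/-- An isometry permutes bases of totally singular planes. -/
def rootPairMap (g : Orth Q) : RootPair Q ≃ RootPair Q where
  toFun p := ⟨(g.1 p.1.1, g.1 p.1.2), orth_ne_zero g p.2.1, by rw [orth_Q, p.2.2.1],
    by rw [orth_Q, p.2.2.2.1], by rw [orth_polar, p.2.2.2.2.1],
    fun c h => p.2.2.2.2.2 c (g.1.injective (by rw [map_smul]; exact h))⟩
  invFun p := ⟨((g⁻¹).1 p.1.1, (g⁻¹).1 p.1.2), orth_ne_zero g⁻¹ p.2.1, by rw [orth_Q, p.2.2.1],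
    by rw [orth_Q, p.2.2.2.1], by rw [orth_polar, p.2.2.2.2.1],
    fun c h => p.2.2.2.2.2 c ((g⁻¹).1.injective (by rw [map_smul]; exact h))⟩
  left_inv p := Subtype.ext (Prod.ext (inv_apply_self g _) (inv_apply_self g _))
  right_inv p := Subtype.ext (Prod.ext (self_apply_inv g _) (self_apply_inv g _))

theorem rootElt_map (g : Orth Q) (p : RootPair Q) :
    rootElt Q (rootPairMap Q g p) = g * rootElt Q p * g⁻¹ :=
  (siegel_conj g _ _).symm

/-- The parameters of a matrix of determinant one. -/
abbrev DetOne (F : Type u) [Field F] : Type u :=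
  {m : (F × F) × (F × F) // m.1.1 * m.2.2 - m.1.2 * m.2.1 = 1}

theorem card_detOne [Fintype F] :
    (Nat.card (DetOne F) : ℤ) = Nat.card F * ((Nat.card F : ℤ) ^ 2 - 1) := by
  have h := (evenForm_basePlus (F := F)).card_level 1 one_ne_zero
  rw [pow_one] at h
  rw [← h]
  congr 1
  refine Nat.card_congr
    { toFun := fun m => ⟨((m.1.1.1, m.1.2.2), ((m.1.1.2, -m.1.2.1), 0)), by
        have := m.2
        simp [basePlus, plane_apply]
        linear_combination this⟩
      invFun := fun v => ⟨((v.1.1.1, v.1.2.1.1), (-v.1.2.1.2, v.1.1.2)), by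
        have := v.2
        simp [basePlus, plane_apply] at this ⊢
        linear_combination this⟩
      left_inv := fun m => Subtype.ext (by simp)
      right_inv := fun v => Subtype.ext (Prod.ext rfl (Prod.ext (by simp) (Subsingleton.elim _ _))) }

variable [FiniteDimensional F V]

theorem card_rootElt_fibre (hnd : NDPolar Q) (p₀ : RootPair Q) :
    Nat.card {p : RootPair Q // rootElt Q p = rootElt Q p₀} = Nat.card (DetOne F) := by
  classical
  obtain ⟨⟨e, t⟩, he0, he, ht, het, hindep⟩ := p₀
  have hte : polar Q t e = 0 := by rw [polar_comm, het]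
  have hli : LinearIndependent F ![e, t] := by
    refine not_smul_eq_of_indep (fun h0 => ?_) fun c hc => ?_
    · have := hindep 0
      simp only [zero_smul] at this
      exact this h0.symm
    · by_cases hc0 : c = 0
      · exact he0 (by rw [← hc, hc0, zero_smul])
      · exact hindep c⁻¹ (by
          show c⁻¹ • e = t
          rw [← hc, smul_smul, inv_mul_cancel₀ hc0, one_smul])
  obtain ⟨x₁, hx11, hx12⟩ := exists_polar_pair hnd hli 1 0
  let mk : DetOne F → RootPair Q := fun m =>
    ⟨(m.1.1.1 • e + m.1.1.2 • t, m.1.2.1 • e + m.1.2.2 • t), by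
      obtain ⟨⟨⟨a, b⟩, c, d⟩, hdet⟩ := m
      simp only at hdet ⊢
      refine ⟨fun h => ?_, ?_, ?_, ?_, fun s h => ?_⟩
      · obtain ⟨h1, h2⟩ := (LinearIndependent.pair_iff.1 hli) a b h
        rw [h1, h2] at hdet
        simp at hdet
      · simp [QuadraticMap.map_add Q, QuadraticMap.map_smul, he, ht, het]
      · simp [QuadraticMap.map_add Q, QuadraticMap.map_smul, he, ht, het]
      · simp [het, hte, polar_singular_self he, polar_singular_self ht]
      · obtain ⟨h1, h2⟩ := (LinearIndependent.pair_iff.1 hli) (s * a - c) (s * b - d) (by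
          linear_combination (norm := module) h)
        rw [sub_eq_zero] at h1 h2
        rw [← h1, ← h2] at hdet
        exact one_ne_zero (α := F) (by linear_combination -hdet)⟩
  have hmk : ∀ m, rootElt Q (mk m) = rootElt Q ⟨(e, t), he0, he, ht, het, hindep⟩ := fun m => by
    obtain ⟨⟨⟨a, b⟩, c, d⟩, hdet⟩ := m
    simp only at hdet
    refine orth_ext fun x => ?_
    simp only [rootElt, mk, siegel_apply, QuadraticMap.map_add Q, QuadraticMap.map_smul, he, ht,
      het, polar_add_right, polar_smul_left, polar_smul_right, smul_eq_mul, mul_zero, add_zero,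
      zero_mul, sub_zero]
    linear_combination (norm := module) hdet • (polar Q x e • t - polar Q x t • e)
  refine (Nat.card_congr (Equiv.ofBijective (fun m => (⟨mk m, hmk m⟩ :
    {p : RootPair Q // rootElt Q p = rootElt Q ⟨(e, t), he0, he, ht, het, hindep⟩})) ⟨?_, ?_⟩)).symm
  · intro m m' h
    have h1 : (mk m).1 = (mk m').1 :=
      congrArg (fun p : {p : RootPair Q // _} => p.1.1) h
    obtain ⟨h2, h3⟩ := Prod.ext_iff.1 h1
    simp only [mk] at h2 h3
    obtain ⟨e1, e2⟩ := (LinearIndependent.pair_iff.1 hli) (m.1.1.1 - m'.1.1.1) (m.1.1.2 - m'.1.1.2)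
      (by linear_combination (norm := module) h2)
    obtain ⟨e3, e4⟩ := (LinearIndependent.pair_iff.1 hli) (m.1.2.1 - m'.1.2.1) (m.1.2.2 - m'.1.2.2)
      (by linear_combination (norm := module) h3)
    exact Subtype.ext (Prod.ext (Prod.ext (sub_eq_zero.1 e1) (sub_eq_zero.1 e2))
      (Prod.ext (sub_eq_zero.1 e3) (sub_eq_zero.1 e4)))
  · rintro ⟨⟨⟨u, w⟩, hu0, hu, hw, huw, hind'⟩, heq⟩
    have key : ∀ x, polar Q x u • w + (-(polar Q x w)) • u =
        polar Q x e • t + (-(polar Q x t)) • e := by
      intro x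
      have h := congrArg (fun g : Orth Q => g.1 x) heq
      simp only [rootElt, siegel_apply, hw, ht, zero_mul, sub_zero] at h
      linear_combination (norm := module) h
    have hli' : LinearIndependent F ![u, w] := by
      refine not_smul_eq_of_indep (fun h0 => ?_) fun c hc => ?_
      · have := hind' 0
        simp only [zero_smul] at this
        exact this h0.symm
      · by_cases hc0 : c = 0
        · exact hu0 (by rw [← hc, hc0, zero_smul])
        · exact hind' c⁻¹ (by
            show c⁻¹ • u = w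
            rw [← hc, smul_smul, inv_mul_cancel₀ hc0, one_smul])
    obtain ⟨y₁, hy11, hy12⟩ := exists_polar_pair hnd hli' 1 0
    obtain ⟨y₂, hy21, hy22⟩ := exists_polar_pair hnd hli' 0 1
    have h1 := key y₁
    have h2 := key y₂
    rw [polar_comm Q y₁ u, hy11, polar_comm Q y₁ w, hy12] at h1
    rw [polar_comm Q y₂ u, hy21, polar_comm Q y₂ w, hy22] at h2
    set a := polar Q y₂ t with ha
    set b := -(polar Q y₂ e) with hb
    set c := -(polar Q y₁ t) with hc
    set d := polar Q y₁ e with hd
    have hu' : u = a • e + b • t := by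
      rw [ha, hb]
      linear_combination (norm := module) -h2
    have hw' : w = c • e + d • t := by
      rw [hc, hd]
      linear_combination (norm := module) h1
    have hdet : a * d - b * c = 1 := by
      have h3 := key x₁
      rw [hu', hw'] at h3
      simp only [polar_add_right, polar_smul_right, smul_eq_mul, polar_comm Q x₁ e, hx11,
        polar_comm Q x₁ t, hx12] at h3
      obtain ⟨-, h4⟩ := (LinearIndependent.pair_iff.1 hli) 0 (a * d - b * c - 1) (by
        linear_combination (norm := module) h3)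
      exact sub_eq_zero.1 h4
    exact ⟨⟨((a, b), (c, d)), hdet⟩, Subtype.ext (Subtype.ext (Prod.ext hu'.symm hw'.symm))⟩

end Fibre

section Count

variable {F : Type u} [Field F] [Fintype F] {V : Type u} [AddCommGroup V] [Module F V] [Finite V]
variable {R : QuadraticForm F V}

/-- The number of ordered bases of totally singular planes of `plane R`. -/
theorem card_rootPair (hnd : NDPolar R) :
    (Nat.card (RootPair (plane R)) : ℤ) =
      ((Nat.card {v : (F × F) × V // plane R v = 0} : ℤ) - 1) *
        (Nat.card F * ((Nat.card {p : V // R p = 0} : ℤ) - 1)) := by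
  classical
  haveI : FiniteDimensional F V := Module.Finite.of_finite
  cases nonempty_fintype V
  let S := {v : {v : (F × F) × V // plane R v = 0} // v ≠ ⟨0, QuadraticMap.map_zero _⟩}
  let S₀ := {v : {p : V // R p = 0} // v ≠ ⟨0, QuadraticMap.map_zero _⟩}
  have hS : ∀ v : S, v.1.1 ≠ 0 := fun v h => v.2 (Subtype.ext h)
  choose mv hmv using fun v : S => exists_refl_singular (ndPolar_plane hnd) (hS v)
    (show (((1 : F), (0 : F)), (0 : V)) ≠ 0 by simp) v.1.2 (Q_eVec R)
  let e : RootPair (plane R) ≃ S × (F × S₀) :=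
    { toFun := fun p =>
        let v : S := ⟨⟨p.1.1, p.2.2.1⟩, fun h => p.2.1 (congrArg Subtype.val h)⟩
        let w := (mv v).1 p.1.2
        (v, (w.1.1, ⟨⟨w.2, by
          have h1 : polar (plane R) ((1, 0), 0) w = 0 := by
            rw [← hmv v, orth_polar, p.2.2.2.2.1]
          have hb : w.1.2 = 0 := by simpa [polar_plane] using h1
          have h2 : plane R w = 0 := by rw [orth_Q, p.2.2.2.1]
          rw [plane_apply, hb] at h2
          simpa using h2⟩, fun h => by
            have h1 : polar (plane R) ((1, 0), 0) w = 0 := by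
              rw [← hmv v, orth_polar, p.2.2.2.2.1]
            have hb : w.1.2 = 0 := by simpa [polar_plane] using h1
            refine p.2.2.2.2.2 w.1.1 ((mv v).1.injective ?_)
            rw [map_smul, show (mv v).1 p.1.1 = _ from hmv v]
            refine Prod.ext (Prod.ext ?_ ?_) ?_
            · simp [w]
            · simpa [w] using hb.symm
            · simpa [w] using (congrArg Subtype.val h).symm⟩))
      invFun := fun y => ⟨(y.1.1.1, ((mv y.1)⁻¹).1 ((y.2.1, 0), y.2.2.1.1)), hS y.1, y.1.1.2, by
          rw [orth_Q, plane_apply]; simp [y.2.2.1.2], by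
          rw [← orth_polar (mv y.1), self_apply_inv, hmv]; simp [polar_plane],
          fun c h => y.2.2.2 (Subtype.ext (by
            have h' := congrArg (fun z => ((mv y.1).1 z).2) h
            simpa [map_smul, hmv, self_apply_inv, eq_comm] using h'))⟩
      left_inv := fun p => by
        refine Subtype.ext (Prod.ext rfl ?_)
        set v : S := ⟨⟨p.1.1, p.2.2.1⟩, fun h => p.2.1 (congrArg Subtype.val h)⟩ with hv
        show ((mv v)⁻¹).1 ((((mv v).1 p.1.2).1.1, 0), ((mv v).1 p.1.2).2) = p.1.2
        have h1 : polar (plane R) ((1, 0), 0) ((mv v).1 p.1.2) = 0 := by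
          rw [← hmv v, orth_polar, p.2.2.2.2.1]
        have hb : ((mv v).1 p.1.2).1.2 = 0 := by simpa [polar_plane] using h1
        rw [show ((((mv v).1 p.1.2).1.1, (0 : F)), ((mv v).1 p.1.2).2) = (mv v).1 p.1.2 from
          Prod.ext (Prod.ext rfl hb.symm) rfl, inv_apply_self]
      right_inv := fun y => by
        refine Prod.ext rfl (Prod.ext ?_ (Subtype.ext (Subtype.ext ?_)))
        · show ((mv y.1).1 (((mv y.1)⁻¹).1 _)).1.1 = y.2.1
          rw [self_apply_inv]
        · show ((mv y.1).1 (((mv y.1)⁻¹).1 _)).2 = y.2.2.1.1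
          rw [self_apply_inv] }
  have hsub : ∀ (α : Type u) [Fintype α] [DecidableEq α] (a : α),
      (Nat.card {x : α // x ≠ a} : ℤ) = Nat.card α - 1 := fun α _ _ a => by
    rw [Nat.card_eq_fintype_card, Nat.card_eq_fintype_card, Fintype.card_subtype_compl,
      Fintype.card_subtype_eq, Nat.cast_sub (Fintype.card_pos_iff.2 ⟨a⟩)]
    simp
  rw [Nat.card_congr e, Nat.card_prod, Nat.card_prod]
  push_cast
  rw [hsub, hsub]

/-- The order of the class of long root elements. -/
theorem card_class_mul (hnd : NDPolar R) (P : Frame (plane R))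
    (htrans : ∀ a b : V, a ≠ 0 → b ≠ 0 → R a = 0 → R b = 0 → ∃ g : siegelGroup R, g.1.1 a = b)
    {p₀ : V} (hp : R p₀ = 0) (hp0 : p₀ ≠ 0) :
    Nat.card {g : siegelGroup (plane R) // IsConj (rad R p₀) g} * Nat.card (DetOne F) =
      Nat.card (RootPair (plane R)) := by
  classical
  haveI : FiniteDimensional F V := Module.Finite.of_finite
  cases nonempty_fintype V
  have hnd' := ndPolar_plane hnd
  haveI : Finite (RootPair (plane R)) := Subtype.finite
  haveI : Finite (Orth (plane R)) := Finite.of_injective (fun g => (⇑g.1 : (F × F) × V → (F × F) × V))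
    fun g h hgh => orth_ext fun x => congrFun hgh x
  have he0 : (((1 : F), (0 : F)), (0 : V)) ≠ 0 := by simp
  let base : RootPair (plane R) := ⟨(((1, 0), 0), (0, p₀)), he0, Q_eVec R, by simp [plane_apply, hp],
    polar_eVec R p₀, fun c h => hp0 (by simpa using (congrArg Prod.snd h).symm)⟩
  have hbase : rootElt (plane R) base = (rad R p₀ : Orth (plane R)) := rfl
  -- every root element lies in the class
  have hconj : ∀ p : RootPair (plane R), ∃ g : siegelGroup (plane R),
      rootElt (plane R) p = g.1 * (rad R p₀).1 * g.1⁻¹ := by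
    intro p
    obtain ⟨g₁, hg₁⟩ := exists_siegel_map_level hnd' P p.2.1 he0 (by rw [p.2.2.1, Q_eVec])
    set w := g₁.1.1 p.1.2 with hw
    have hwe : polar (plane R) ((1, 0), 0) w = 0 := by
      rw [← hg₁, orth_polar, p.2.2.2.2.1]
    have hb : w.1.2 = 0 := by simpa [polar_plane] using hwe
    have hRw : R w.2 = 0 := by
      have h2 : plane R w = 0 := by rw [hw, orth_Q, p.2.2.2.1]
      rw [plane_apply, hb] at h2
      simpa using h2
    have hw0 : w.2 ≠ 0 := by
      intro h
      refine p.2.2.2.2.2 w.1.1 (g₁.1.1.injective ?_)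
      rw [map_smul, hg₁, ← hw]
      refine Prod.ext (Prod.ext ?_ ?_) ?_ <;> simp [hb, h]
    obtain ⟨g₂, hg₂⟩ := htrans p₀ w.2 hp0 hw0 hp hRw
    refine ⟨g₁⁻¹ * lift R g₂, ?_⟩
    have h1 : g₁.1 * rootElt (plane R) p * g₁.1⁻¹ = (rad R w.2).1 := by
      rw [rootElt, siegel_conj, rad_val,
        siegel_congr (u' := ((1, 0), 0)) (w' := w) _ _ (Q_eVec R) hwe hg₁ rfl,
        ← siegel_add_smul w.1.1 (Q_eVec R) (polar_eVec R w.2)]
      refine siegel_congr _ _ _ _ rfl (Prod.ext (Prod.ext ?_ ?_) ?_) <;> simp [hb]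
    have h2 : (rad R w.2).1 = (lift R g₂).1 * (rad R p₀).1 * (lift R g₂).1⁻¹ := by
      rw [eq_mul_inv_iff_mul_eq]
      have h3 := (congrArg Subtype.val (lift_mul_rad R g₂ p₀)).symm
      rw [show actEquiv R g₂.1 p₀ = w.2 from hg₂] at h3
      exact h3
    rw [h2] at h1
    show rootElt (plane R) p = (g₁.1⁻¹ * (lift R g₂).1) * (rad R p₀).1 * (g₁.1⁻¹ * (lift R g₂).1)⁻¹
    rw [show rootElt (plane R) p = g₁.1⁻¹ * (g₁.1 * rootElt (plane R) p * g₁.1⁻¹) * g₁.1 by group,
      h1]
    group
  let Cl := {g : siegelGroup (plane R) // IsConj (rad R p₀) g}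
  choose gOf hgOf using hconj
  let Φ : RootPair (plane R) → Cl := fun p =>
    ⟨gOf p * rad R p₀ * (gOf p)⁻¹, isConj_iff.2 ⟨gOf p, rfl⟩⟩
  have hΦ : ∀ p, (Φ p).1.1 = rootElt (plane R) p := fun p => (hgOf p).symm
  have hfib : ∀ c : Cl, Nat.card {p // Φ p = c} = Nat.card (DetOne F) := by
    intro c
    obtain ⟨g, hg⟩ := isConj_iff.1 c.2
    rw [← card_rootElt_fibre (plane R) hnd' base]
    refine Nat.card_congr ((rootPairMap (plane R) g.1).symm.subtypeEquiv fun p => ?_)
    have hgc : c.1.1 = g.1 * (rad R p₀).1 * g.1⁻¹ := by rw [← hg]; rfl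
    have hpp : rootElt (plane R) p =
        g.1 * rootElt (plane R) ((rootPairMap (plane R) g.1).symm p) * g.1⁻¹ := by
      rw [← rootElt_map, Equiv.apply_symm_apply]
    constructor
    · intro h
      have h1 := congrArg (fun x : Cl => x.1.1) h
      simp only [hΦ] at h1
      rw [hgc, hpp] at h1
      rw [hbase]
      exact mul_left_cancel (mul_right_cancel h1)
    · intro h
      refine Subtype.ext (Subtype.ext ?_)
      rw [hΦ, hgc, hpp, h, hbase]
  cases nonempty_fintype Cl
  rw [← Nat.card_congr (Equiv.sigmaFiberEquiv Φ), Nat.card_sigma,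
    Finset.sum_congr rfl fun c _ => hfib c, Finset.sum_const, Finset.card_univ, smul_eq_mul,
    ← Nat.card_eq_fintype_card]

end Count

section Divide

/-- The divisibility given by the central character of a class. -/
theorem finrank_dvd_class_mul {G : Type*} [Group G] [Finite G] {U : Type*} [AddCommGroup U]
    [Module ℂ U] [FiniteDimensional ℂ U] (ρ : Representation ℂ G U) [ρ.IsIrreducible] (g : G)
    (z : ℤ) (hz : LinearMap.trace ℂ U (ρ g) = (z : ℂ)) :
    (finrank ℂ U : ℤ) ∣ (Nat.card {x : G // IsConj g x} : ℤ) * z := by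
  classical
  cases nonempty_fintype G
  have h := CfsgLib.Char.isIntegral_index_mul_char_div ρ g
  rw [← CfsgLib.Char.card_conjClass g, ← Fintype.card_subtype, ← Nat.card_eq_fintype_card,
    show ρ.character g = (z : ℂ) from hz] at h
  have hd : finrank ℂ U ≠ 0 := (CfsgLib.Char.finrank_pos_of_irreducible ρ).ne'
  set K := Nat.card {x : G // IsConj g x}
  obtain ⟨n, hn⟩ := CfsgLib.Char.exists_int_of_isIntegral_ratCast
    (q := ((K : ℚ) * z / (finrank ℂ U : ℚ))) (by push_cast; exact h)
  rw [eq_div_iff (Nat.cast_ne_zero.2 hd)] at hn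
  refine ⟨n, ?_⟩
  have : (K : ℤ) * z = n * (finrank ℂ U : ℤ) := by exact_mod_cast hn.symm
  linear_combination this

end Divide

end CfsgLib.MinDeg.OrthBd
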