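import Cfsg.Agent.Lib.Classical.Quad.Omega
import Cfsg.Agent.Lib.Classical.Quad.Model

/-!
# Even dimensional orthogonal spaces, as towers of hyperbolic planes over a small base
-/

set_option autoImplicit false

namespace CfsgLib.MinDeg.OrthBd

open QuadraticMap Module CfsgLib.Classical.Quad

universe u

section Count

variable {F : Type u} [Field F] {V : Type u} [AddCommGroup V] [Module F V]

theorem card_plane_level [Finite F] [Finite V] (R : QuadraticForm F V) (c : F) :
    (Nat.card {v : (F × F) × V // plane R v = c} : ℤ) =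
      Nat.card F * Nat.card {p : V // R p = c} + (Nat.card F - 1) * Nat.card V := by
  classical
  cases nonempty_fintype F
  cases nonempty_fintype V
  let e : {v : (F × F) × V // plane R v = c} ≃
      (F × {p : V // R p = c}) ⊕ ({a : F // a ≠ 0} × V) :=
    { toFun := fun v => if h : v.1.1.1 = 0 then Sum.inl (v.1.1.2, ⟨v.1.2, by
          have := v.2
          rw [plane_apply, h] at this
          simpa using this⟩)
        else Sum.inr (⟨v.1.1.1, h⟩, v.1.2)
      invFun := fun s => s.elim (fun y => ⟨((0, y.1), y.2.1), by simp [plane_apply, y.2.2]⟩)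
        (fun y => ⟨((y.1.1, (c - R y.2) / y.1.1), y.2), by
          rw [plane_apply]
          show y.1.1 * ((c - R y.2) / y.1.1) + R y.2 = c
          rw [mul_div_cancel₀ _ y.1.2]
          ring⟩)
      left_inv := fun v => by
        by_cases h : v.1.1.1 = 0
        · simp only [dif_pos h, Sum.elim_inl]
          exact Subtype.ext (Prod.ext (Prod.ext h.symm rfl) rfl)
        · simp only [dif_neg h, Sum.elim_inr]
          refine Subtype.ext (Prod.ext (Prod.ext rfl ?_) rfl)
          have hv := v.2
          rw [plane_apply] at hv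
          show (c - R v.1.2) / v.1.1.1 = v.1.1.2
          rw [div_eq_iff h]
          linear_combination -hv
      right_inv := fun s => by
        rcases s with y | y
        · simp
        · simp [y.1.2] }
  rw [Nat.card_congr e, Nat.card_sum, Nat.card_prod, Nat.card_prod]
  have h : Nat.card {a : F // a ≠ 0} = Nat.card F - 1 := by
    rw [Nat.card_eq_fintype_card, Nat.card_eq_fintype_card, Fintype.card_subtype_compl,
      Fintype.card_subtype_eq]
  have hq : 1 ≤ Nat.card F := Nat.card_pos
  rw [h]
  push_cast [hq]
  ring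

theorem card_plane_space [Finite F] [Finite V] :
    Nat.card ((F × F) × V) = Nat.card F ^ 2 * Nat.card V := by
  rw [Nat.card_prod, Nat.card_prod]
  ring

end Count

/-- The invariants of a nondegenerate form of type `ε` on a space of dimension `2 * m`. -/
structure EvenForm {F : Type u} [Field F] {V : Type u} [AddCommGroup V] [Module F V]
    (R : QuadraticForm F V) (ε : ℤ) (m : ℕ) : Prop where
  nd : NDPolar R
  two_le : 2 ≤ m
  heps : ε = 1 ∨ ε = -1
  card_space : Nat.card V = Nat.card F ^ (2 * m)
  card_zero : (Nat.card {v : V // R v = 0} : ℤ) =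
    1 + ((Nat.card F : ℤ) ^ m - ε) * ((Nat.card F : ℤ) ^ (m - 1) + ε)
  card_level : ∀ c : F, c ≠ 0 → (Nat.card {v : V // R v = c} : ℤ) =
    (Nat.card F : ℤ) ^ (m - 1) * ((Nat.card F : ℤ) ^ m - ε)
  exists_pairA : ∃ u z a : V, IsHPair R u z ∧ polar R a u = 0 ∧ polar R a z = 0 ∧ R a ≠ 0

section Step

variable {F : Type u} [Field F] {V : Type u} [AddCommGroup V] [Module F V]
variable {R : QuadraticForm F V} {ε : ℤ} {m : ℕ}

theorem EvenForm.plane [Finite F] [Finite V] (h : EvenForm R ε m) :
    EvenForm (CfsgLib.Classical.Quad.plane R) ε (m + 1) := by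
  obtain ⟨i, rfl⟩ : ∃ i, m = i + 2 := ⟨m - 2, by have := h.two_le; omega⟩
  refine ⟨ndPolar_plane h.nd, by omega, h.heps, ?_, ?_, fun c hc => ?_, ?_⟩
  · rw [card_plane_space, h.card_space, ← pow_add]
    ring_nf
  · rw [card_plane_level, h.card_zero, h.card_space]
    rw [show i + 2 + 1 - 1 = i + 2 by omega, show i + 2 - 1 = i + 1 by omega]
    rcases h.heps with rfl | rfl <;> push_cast <;> ring
  · rw [card_plane_level, h.card_level c hc, h.card_space]
    rw [show i + 2 + 1 - 1 = i + 2 by omega, show i + 2 - 1 = i + 1 by omega]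
    push_cast
    ring
  · obtain ⟨-, -, a, -, -, -, ha⟩ := h.exists_pairA
    refine ⟨((1, 0), 0), ((0, 1), 0), (0, a), ⟨by simp [plane_apply], by simp [plane_apply],
      by simp [polar_plane, polar_zero_right]⟩, by simp [polar_plane, polar_zero_right],
      by simp [polar_plane, polar_zero_right], by simpa [plane_apply] using ha⟩

/-- The plane over an even form has a frame. -/
theorem EvenForm.nonempty_frame (h : EvenForm R ε m) :
    Nonempty (Frame (CfsgLib.Classical.Quad.plane R)) := by
  obtain ⟨u, z, a, hp, h1, h2, h3⟩ := h.exists_pairA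
  exact ⟨{ e₁ := ((1, 0), 0)
           f₁ := ((0, 1), 0)
           e₂ := (0, u)
           f₂ := (0, z)
           a := (0, a)
           pair₁ := ⟨by simp [plane_apply], by simp [plane_apply],
             by simp [polar_plane, polar_zero_right]⟩
           pair₂ := ⟨by simpa [plane_apply] using hp.1, by simpa [plane_apply] using hp.2.1,
             by simpa [polar_plane] using hp.2.2⟩
           e₁e₂ := by simp [polar_plane]
           e₁f₂ := by simp [polar_plane]
           f₁e₂ := by simp [polar_plane]
           f₁f₂ := by simp [polar_plane]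
           ae₁ := by simp [polar_plane, polar_zero_right]
           af₁ := by simp [polar_plane, polar_zero_right]
           ae₂ := by simpa [polar_plane] using h1
           af₂ := by simpa [polar_plane] using h2
           Qa := by simpa [plane_apply] using h3 }⟩

end Step

section Tower

variable (F : Type u) [Field F]

/-- The underlying types of the tower of planes. -/
def TV (W : Type u) : ℕ → Type u
  | 0 => W
  | j + 1 => (F × F) × TV W j

instance tvAddCommGroup (W : Type u) [AddCommGroup W] : ∀ j, AddCommGroup (TV F W j)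
  | 0 => inferInstanceAs (AddCommGroup W)
  | j + 1 =>
    letI := tvAddCommGroup W j
    inferInstanceAs (AddCommGroup ((F × F) × TV F W j))

instance tvModule (W : Type u) [AddCommGroup W] [Module F W] : ∀ j, Module F (TV F W j)
  | 0 => inferInstanceAs (Module F W)
  | j + 1 =>
    letI := tvModule W j
    inferInstanceAs (Module F ((F × F) × TV F W j))

instance tvFinite (W : Type u) [Finite F] [Finite W] : ∀ j, Finite (TV F W j)
  | 0 => inferInstanceAs (Finite W)
  | j + 1 =>
    letI := tvFinite W j
    inferInstanceAs (Finite ((F × F) × TV F W j))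

variable {F} {W : Type u} [AddCommGroup W] [Module F W]

/-- The forms of the tower. -/
def TQ (R : QuadraticForm F W) : ∀ j, QuadraticForm F (TV F W j)
  | 0 => R
  | j + 1 => plane (TQ R j)

theorem evenForm_TQ [Finite F] [Finite W] {R : QuadraticForm F W} {ε : ℤ} {m : ℕ}
    (h : EvenForm R ε m) : ∀ j, EvenForm (TQ R j) ε (m + j)
  | 0 => h
  | j + 1 => (evenForm_TQ h j).plane

/-- Being isometric. -/
def Isom {V V' : Type u} [AddCommGroup V] [Module F V] [AddCommGroup V'] [Module F V']
    (Q : QuadraticForm F V) (Q' : QuadraticForm F V') : Prop :=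
  ∃ e : V ≃ₗ[F] V', ∀ x, Q' (e x) = Q x

theorem Isom.plane {V V' : Type u} [AddCommGroup V] [Module F V] [AddCommGroup V'] [Module F V']
    {Q : QuadraticForm F V} {Q' : QuadraticForm F V'} (h : Isom Q Q') :
    Isom (CfsgLib.Classical.Quad.plane Q) (CfsgLib.Classical.Quad.plane Q') := by
  obtain ⟨e, he⟩ := h
  exact ⟨(LinearEquiv.refl F (F × F)).prodCongr e, fun x => by simp [plane_apply, he]⟩

theorem Isom.trans {V V' V'' : Type u} [AddCommGroup V] [Module F V] [AddCommGroup V']
    [Module F V'] [AddCommGroup V''] [Module F V''] {Q : QuadraticForm F V}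
    {Q' : QuadraticForm F V'} {Q'' : QuadraticForm F V''} (h : Isom Q Q') (h' : Isom Q' Q'') :
    Isom Q Q'' := by
  obtain ⟨e, he⟩ := h
  obtain ⟨e', he'⟩ := h'
  exact ⟨e.trans e', fun x => by rw [LinearEquiv.trans_apply, he', he]⟩

theorem isom_hypForm_zero (R : QuadraticForm F W) : Isom (hypForm 0 R) R :=
  ⟨hypZeroEquiv, fun v => by simp [hypZeroEquiv, hypForm_apply]⟩

theorem isom_hypForm_succ (R : QuadraticForm F W) (m : ℕ) :
    Isom (hypForm (m + 1) R) (plane (hypForm m R)) :=
  ⟨hypSuccEquiv m, plane_hypSuccEquiv m R⟩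

theorem isom_hypForm_tower {W₀ : Type u} [AddCommGroup W₀] [Module F W₀] {R : QuadraticForm F W}
    {R₀ : QuadraticForm F W₀} {i : ℕ} (h : Isom (hypForm i R) R₀) :
    ∀ j, Isom (hypForm (i + j) R) (TQ R₀ j)
  | 0 => h
  | j + 1 => (isom_hypForm_succ R (i + j)).trans (isom_hypForm_tower h j).plane

end Tower

section Bases

variable {F : Type u} [Field F] [Fintype F]

/-- The base of the tower of type `+`. -/
def basePlus (F : Type u) [Field F] : QuadraticForm F ((F × F) × ((F × F) × (Fin 0 → F))) :=
  plane (plane (zeroKernel F))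

/-- The base of the tower of type `-`. -/
def baseMinus {F : Type u} [Field F] (a b : F) : QuadraticForm F ((F × F) × (Fin 2 → F)) :=
  plane (binForm a b)

omit [Fintype F] in
theorem isom_basePlus : Isom (hypForm 2 (zeroKernel F)) (basePlus F) :=
  (isom_hypForm_succ (zeroKernel F) 1).trans
    ((isom_hypForm_succ (zeroKernel F) 0).trans (isom_hypForm_zero _).plane).plane

omit [Fintype F] in
theorem isom_baseMinus (a b : F) : Isom (hypForm 1 (binForm a b)) (baseMinus a b) :=
  (isom_hypForm_succ (binForm a b) 0).trans (isom_hypForm_zero _).plane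

theorem card_plane_zero_level [DecidableEq F] (c : F) :
    (Nat.card {v : (F × F) × (Fin 0 → F) // plane (zeroKernel F) v = c} : ℤ) =
      if c = 0 then 2 * (Nat.card F : ℤ) - 1 else (Nat.card F : ℤ) - 1 := by
  rw [card_plane_level]
  split_ifs with h
  · subst h
    have h1 : Nat.card {p : Fin 0 → F // zeroKernel F p = 0} = 1 := by
      rw [Nat.card_eq_one_iff_unique]
      exact ⟨inferInstance, ⟨⟨0, rfl⟩⟩⟩
    rw [h1]
    simp
    ring
  · have h1 : Nat.card {p : Fin 0 → F // zeroKernel F p = c} = 0 :=
      @Nat.card_of_isEmpty _ ⟨fun p => h (p.2.symm.trans rfl)⟩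
    rw [h1]
    simp

theorem evenForm_basePlus : EvenForm (basePlus F) 1 2 := by
  refine ⟨ndPolar_plane (ndPolar_plane ndPolar_zeroKernel), le_rfl, Or.inl rfl, ?_, ?_,
    fun c hc => ?_, ?_⟩
  · rw [card_plane_space, card_plane_space, Nat.card_fun, Nat.card_fin]
    ring
  · classical
    rw [basePlus, card_plane_level, card_plane_zero_level, if_pos rfl, card_plane_space,
      Nat.card_fun, Nat.card_fin]
    push_cast
    ring
  · classical
    rw [basePlus, card_plane_level, card_plane_zero_level, if_neg hc, card_plane_space,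
      Nat.card_fun, Nat.card_fin]
    push_cast
    ring
  · exact ⟨((1, 0), 0), ((0, 1), 0), (0, ((1, 1), 0)), ⟨by simp [basePlus, plane_apply],
      by simp [basePlus, plane_apply], by simp [basePlus, polar_plane, polar_zero_right]⟩,
      by simp [basePlus, polar_plane, polar_zero_right],
      by simp [basePlus, polar_plane, polar_zero_right], by simp [basePlus, plane_apply]⟩

theorem evenForm_baseMinus {a b : F} (hab : IsAniso a b) : EvenForm (baseMinus a b) (-1) 2 := by
  refine ⟨ndPolar_plane (ndPolar_binForm hab), le_rfl, Or.inr rfl, ?_, ?_, fun c hc => ?_, ?_⟩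
  · rw [card_plane_space, Nat.card_fun, Nat.card_fin]
    ring
  · have h1 : Nat.card {p : Fin 2 → F // binForm a b p = 0} = 1 := by
      rw [Nat.card_eq_one_iff_unique]
      exact ⟨⟨fun x y => Subtype.ext (by rw [binForm_eq_zero hab x.2, binForm_eq_zero hab y.2])⟩,
        ⟨⟨0, QuadraticMap.map_zero _⟩⟩⟩
    rw [baseMinus, card_plane_level, h1, Nat.card_fun, Nat.card_fin]
    push_cast
    ring
  · rw [baseMinus, card_plane_level, card_level_binForm hab hc, Nat.card_fun, Nat.card_fin,
      ← Nat.card_eq_fintype_card (α := F)]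
    push_cast
    ring
  · exact ⟨((1, 0), 0), ((0, 1), 0), (0, ![1, 0]), ⟨by simp [baseMinus, plane_apply],
      by simp [baseMinus, plane_apply], by simp [baseMinus, polar_plane, polar_zero_right]⟩,
      by simp [baseMinus, polar_plane, polar_zero_right],
      by simp [baseMinus, polar_plane, polar_zero_right],
      by simp [baseMinus, plane_apply, binForm_apply]⟩

end Bases

end CfsgLib.MinDeg.OrthBd
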