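import Cfsg.Agent.Lib.MinDeg.OrthWeights

/-!
# The weights of the fixed vectors of the radical
-/

set_option autoImplicit false

namespace CfsgLib.MinDeg.OrthBd

open QuadraticMap Module CfsgLib.Classical.Quad

universe u v

section Swap

variable {F : Type u} [Field F] {V : Type u} [AddCommGroup V] [Module F V] (R : QuadraticForm F V)

/-- The element exchanging the first two planes, with signs. -/
noncomputable def swapN : siegelGroup (plane (plane R)) :=
  let X : siegelGroup (plane (plane R)) :=
    ⟨siegel (plane (plane R)) (0, ((1, 0), 0)) ((0, 1), 0) (by simp [plane_apply])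
      (by simp [polar_plane, polar_zero_right]), siegel_mem _ _⟩
  let Y : siegelGroup (plane (plane R)) :=
    ⟨siegel (plane (plane R)) ((1, 0), 0) (0, ((0, -1), 0)) (by simp [plane_apply])
      (by simp [polar_plane, polar_zero_right]), siegel_mem _ _⟩
  X * Y * X

theorem swapN_apply (t : (F × F) × ((F × F) × V)) :
    (swapN R).1.1 t = (t.2.1, ((-t.1.1, -t.1.2), t.2.2)) := by
  obtain ⟨⟨a, b⟩, ⟨c, d⟩, p⟩ := t
  simp [swapN, siegel_apply, polar_plane, plane_apply, polar_zero_right]

theorem swapN_rad (w : V) :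
    swapN R * lift (plane R) (rad R w) = rad (plane R) (0, w) * swapN R := by
  apply Subtype.ext
  refine orth_ext fun t => ?_
  obtain ⟨⟨a, b⟩, ⟨c, d⟩, p⟩ := t
  show (swapN R).1.1 ((liftOrth (plane R) (rad R w).1).1 _) =
    (rad (plane R) (0, w)).1.1 ((swapN R).1.1 _)
  simp only [swapN_apply, liftOrth_apply, rad_val, siegel_apply]
  simp [polar_plane, plane_apply, polar_zero_right]

theorem swapN_rad_eVec (c : F) :
    swapN R * rad (plane R) ((c, 0), 0) = rad (plane R) ((c, 0), 0) * swapN R := by
  apply Subtype.ext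
  refine orth_ext fun t => ?_
  obtain ⟨⟨a, b⟩, ⟨s, d⟩, p⟩ := t
  show (swapN R).1.1 ((rad (plane R) ((c, 0), 0)).1.1 _) =
    (rad (plane R) ((c, 0), 0)).1.1 ((swapN R).1.1 _)
  simp only [swapN_apply, rad_val, siegel_apply]
  simp [polar_plane, plane_apply, polar_zero_right]
  ring_nf
  simp

theorem swapN_lift_lift (g : siegelGroup R) :
    swapN R * lift (plane R) (lift R g) = lift (plane R) (lift R g) * swapN R := by
  apply Subtype.ext
  refine orth_ext fun t => ?_
  show (swapN R).1.1 ((liftOrth (plane R) (liftOrth R g.1)).1 t) =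
    (liftOrth (plane R) (liftOrth R g.1)).1 ((swapN R).1.1 t)
  simp [swapN_apply, liftOrth_apply]

end Swap

section Inherit

variable {F : Type u} [Field F] [Fintype F] {V : Type u} [AddCommGroup V] [Module F V] [Fintype V]
variable {R : QuadraticForm F V} {U : Type v} [AddCommGroup U] [Module ℂ U] [FiniteDimensional ℂ U]

/-- Multiplicities depending only on the value of the form. -/
def MultEq (ρ : Representation ℂ (siegelGroup (plane R)) U) (ψ : AddChar F ℂ) (M : F → ℕ) : Prop :=
  ∀ x, x ≠ 0 → mult ρ ψ x = M (R x)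

omit [Fintype V] in
/-- Sum of a character over a hyperplane, multiplied by the order of the field. -/
theorem card_mul_sum_orth [Fintype V] (hnd : NDPolar R) {ψ : AddChar F ℂ} (hψ : ψ.IsPrimitive)
    [DecidableEq F] [DecidableEq V] (p p₀ : V) :
    (Fintype.card F : ℂ) * ∑ w, (if polar R w p = 0 then ψ (-(polar R w p₀)) else 0) =
      Fintype.card V * ((Finset.univ.filter fun t : F => t • p = p₀).card : ℂ) := by
  have h1 : ∀ w, (Fintype.card F : ℂ) * (if polar R w p = 0 then ψ (-(polar R w p₀)) else 0) =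
      ∑ t : F, ψ (polar R w (t • p - p₀)) := by
    intro w
    simp only [polar_sub_right, sub_eq_add_neg, polar_add_right, polar_neg_right, polar_smul_right,
      smul_eq_mul, AddChar.map_add_eq_mul, ← Finset.sum_mul]
    rw [AddChar.sum_mulShift _ hψ]
    split_ifs with h <;> simp
  rw [Finset.mul_sum, Finset.sum_congr rfl fun w _ => h1 w, Finset.sum_comm]
  have h2 : ∀ x : V, (∑ w, ψ (polar R w x)) = if x = 0 then (Fintype.card V : ℂ) else 0 := by
    intro x
    rw [show (∑ w, ψ (polar R w x)) = ∑ w, wchar R ψ x w from rfl, AddChar.sum_eq_ite]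
    have : wchar R ψ x = 0 ↔ x = 0 := by
      rw [← wchar_zero R ψ]
      exact (wchar_injective hnd hψ).eq_iff
    simp only [this]
  simp only [h2, sub_eq_zero, Finset.sum_ite, Finset.sum_const_zero, add_zero, Finset.sum_const,
    nsmul_eq_mul]
  ring

theorem trace_fixed_rad [DecidableEq F] [DecidableEq V] (hnd : NDPolar R) {ψ : AddChar F ℂ}
    (hψ : ψ.IsPrimitive) (ρ : Representation ℂ (siegelGroup (plane (plane R))) U)
    (hfix : FixProp ρ ψ) (w : V) :
    LinearMap.trace ℂ _ (fixedRep ρ ψ (rad R w)) =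
      ∑ x, (mult ρ ψ x : ℂ) * ψ (polar R w x.2) -
        ∑ x : (F × F) × V, if x ≠ 0 ∧ (w = 0 ∨ (x.1.2 = 0 ∧ polar R w x.2 = 0)) then
          (mult ρ ψ x : ℂ) else 0 := by
  have hnd' : NDPolar (plane R) := ndPolar_plane hnd
  have hcond : ∀ x : (F × F) × V, (rad R w).1.1 x = x ↔ (w = 0 ∨ (x.1.2 = 0 ∧ polar R w x.2 = 0)) := by
    intro x
    rw [rad_val, siegel_apply]
    constructor
    · intro h
      by_cases hw : w = 0
      · exact Or.inl hw
      right
      have hb : x.1.2 = 0 := by
        have h2 := congrArg Prod.snd h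
        simp [polar_plane, polar_zero_right] at h2
        exact h2.resolve_right hw
      refine ⟨hb, ?_⟩
      have h1 := congrArg (fun z : (F × F) × V => z.1.1) h
      simp [polar_plane, polar_zero_right, hb, polar_comm R x.2 w] at h1
      exact h1
    · rintro (rfl | ⟨hb, hp⟩)
      · simp [plane_apply, polar_plane, polar_zero_right]
      · simp [polar_plane, polar_zero_right, hb, polar_comm R x.2 w, hp]
  have key : ∀ x : (F × F) × V, x ≠ 0 → (rad R w).1.1 x = x →
      ∀ v ∈ WS ρ ψ x, ρ (lift (plane R) (rad R w)) v = v := by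
    intro x hx0 hx v hv
    rcases (hcond x).1 hx with rfl | ⟨hb, hp⟩
    · rw [AddChar.map_zero_eq_one, map_one, map_one]
      rfl
    · exact hfix _ _ x (Q_eVec R) (polar_eVec R w) hx0 (by simp [polar_plane, hb])
        (by simp [polar_plane, hp]) v hv
  have h := trace_lift hnd' hψ ρ (rad R w) key
  have hconj : LinearMap.trace ℂ U (ρ (lift (plane R) (rad R w))) =
      LinearMap.trace ℂ U (ρ (rad (plane R) (0, w))) := by
    have e : rad (plane R) (0, w) = swapN R * lift (plane R) (rad R w) * (swapN R)⁻¹ := by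
      rw [swapN_rad, mul_inv_cancel_right]
    rw [e, map_mul ρ, map_mul ρ, LinearMap.trace_mul_comm, ← mul_assoc, ← map_mul ρ, inv_mul_cancel,
      map_one, one_mul]
  have e1 : ∀ x : (F × F) × V, polar (plane R) (0, w) x = polar R w x.2 := fun x => by
    simp [polar_plane]
  rw [hconj, trace_rad hnd' hψ] at h
  simp only [e1] at h
  rw [h, eq_sub_iff_add_eq]
  congr 1
  refine Finset.sum_congr rfl fun x _ => ?_
  simp only [hcond]

/-- The fixed vectors of the radical have the same multiplicities one level down. -/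
theorem multEq_fixedRep (hnd : NDPolar R) {ψ : AddChar F ℂ} (hψ : ψ.IsPrimitive)
    (ρ : Representation ℂ (siegelGroup (plane (plane R))) U) (hfix : FixProp ρ ψ) {M : F → ℕ}
    (hM : MultEq ρ ψ M) (hsq : ∀ (s : F) (c : F), s ≠ 0 → M (s * s * c) = M c) :
    MultEq (fixedRep ρ ψ) ψ M := by
  classical
  intro p₀ hp₀
  set q : ℂ := (Fintype.card F : ℂ) with hq
  set P : ℂ := (Fintype.card V : ℂ) with hP
  set c₀ := R p₀ with hc₀
  set S : ℂ := ∑ d, (M d : ℂ) with hS
  have h := finrank_weightSpace_mul_card (resChar (fixedRep ρ ψ) (rad R)) (wchar R ψ p₀)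
  simp only [resChar_apply, trace_fixed_rad hnd hψ ρ hfix, wchar_apply, polar_neg_left, mul_sub,
    Finset.sum_sub_distrib, Finset.mul_sum] at h
  rw [Finset.sum_comm, Finset.sum_comm
    (f := fun (w : V) (x : (F × F) × V) => ψ (-polar R w p₀) * if x ≠ 0 ∧ _ then _ else (0 : ℂ))] at h
  -- the character sum
  have h2 : ∀ x : V, (∑ w, ψ (polar R w x)) = if x = 0 then P else 0 := by
    intro x
    rw [show (∑ w, ψ (polar R w x)) = ∑ w, wchar R ψ x w from rfl, AddChar.sum_eq_ite]
    have : wchar R ψ x = 0 ↔ x = 0 := by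
      rw [← wchar_zero R ψ]
      exact (wchar_injective hnd hψ).eq_iff
    simp only [this, hP]
  have hA : ∀ x : (F × F) × V, (∑ w, ψ (-polar R w p₀) * ((mult ρ ψ x : ℂ) * ψ (polar R w x.2))) =
      if x.2 = p₀ then P * mult ρ ψ x else 0 := by
    intro x
    have : ∀ w, ψ (-polar R w p₀) * ((mult ρ ψ x : ℂ) * ψ (polar R w x.2)) =
        (mult ρ ψ x : ℂ) * ψ (polar R w (x.2 - p₀)) := fun w => by
      rw [polar_sub_right, sub_eq_add_neg, AddChar.map_add_eq_mul]
      ring
    rw [Finset.sum_congr rfl fun w _ => this w, ← Finset.mul_sum, h2]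
    simp only [sub_eq_zero]
    split_ifs <;> ring
  have hB : ∀ x : (F × F) × V,
      q * (∑ w, ψ (-polar R w p₀) *
        (if x ≠ 0 ∧ (w = 0 ∨ (x.1.2 = 0 ∧ polar R w x.2 = 0)) then (mult ρ ψ x : ℂ) else 0)) =
      if x.1.2 = 0 then P * ∑ t : F, (if t • x.2 = p₀ then (mult ρ ψ x : ℂ) else 0)
        else q * mult ρ ψ x := by
    intro x
    by_cases hb : x.1.2 = 0
    · rw [if_pos hb]
      by_cases hx : x = 0
      · subst hx
        rw [Finset.sum_eq_zero fun w _ => by simp, mul_zero, Finset.sum_eq_zero fun t _ => by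
          simp [Ne.symm hp₀], mul_zero]
      · have hw : ∀ w, ψ (-polar R w p₀) *
            (if x ≠ 0 ∧ (w = 0 ∨ (x.1.2 = 0 ∧ polar R w x.2 = 0)) then (mult ρ ψ x : ℂ) else 0) =
            (mult ρ ψ x : ℂ) * (if polar R w x.2 = 0 then ψ (-(polar R w p₀)) else 0) := by
          intro w
          by_cases h0 : polar R w x.2 = 0
          · simp [hx, hb, h0]
            ring
          · have : w ≠ 0 := fun hw => h0 (by simp [hw])
            simp [h0, this]
        rw [Finset.sum_congr rfl fun w _ => hw w, ← Finset.mul_sum, mul_left_comm, hq,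
          card_mul_sum_orth hnd hψ, Finset.sum_ite, Finset.sum_const_zero, add_zero,
          Finset.sum_const, nsmul_eq_mul, hP]
        ring
    · rw [if_neg hb]
      have hx : x ≠ 0 := fun h => hb (by simp [h])
      rw [Finset.sum_eq_single (0 : V) (fun w _ hw => by simp [hb, hw]) (by simp)]
      simp [hx]
  rw [Finset.sum_congr rfl fun x _ => hA x] at h
  replace h := congrArg (fun z => q * z) h
  simp only [mul_sub] at h
  rw [Finset.mul_sum (s := Finset.univ) (f := fun x : (F × F) × V => ∑ w, ψ (-polar R w p₀) * _) q,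
    Finset.sum_congr rfl fun x _ => hB x] at h
  -- the two totals
  have hab : (∑ x : (F × F) × V, if x.2 = p₀ then P * (mult ρ ψ x : ℂ) else 0) =
      P * (q * (M c₀ : ℂ) + (q - 1) * S) := by
    rw [Fintype.sum_prod_type]
    simp only [Finset.sum_ite_eq', Finset.mem_univ, if_true]
    have hm : ∀ ab : F × F, (mult ρ ψ (ab, p₀) : ℂ) = M (ab.1 * ab.2 + c₀) := fun ab => by
      rw [hM _ (fun h => hp₀ (congrArg Prod.snd h)), plane_apply]
    simp only [hm, ← Finset.mul_sum]
    congr 1
    rw [Fintype.sum_prod_type, ← Finset.add_sum_erase _ _ (Finset.mem_univ (0 : F))]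
    congr 1
    · simp [hq, Finset.card_univ]
    · rw [Finset.sum_congr rfl fun a ha => show ∑ b, (M (a * b + c₀) : ℂ) = S from
        Fintype.sum_equiv ((Equiv.mulLeft₀ a (Finset.ne_of_mem_erase ha)).trans (Equiv.addRight c₀))
          _ _ fun b => rfl, Finset.sum_const, Finset.card_erase_of_mem (Finset.mem_univ _),
        Finset.card_univ, nsmul_eq_mul, Nat.cast_sub Fintype.card_pos, hq]
      simp
  have hKsum : (∑ x : (F × F) × V, if x.1.2 = 0 then
        P * ∑ t : F, (if t • x.2 = p₀ then (mult ρ ψ x : ℂ) else 0)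
        else q * (mult ρ ψ x : ℂ)) =
      P * (q * ((q - 1) * M c₀)) + q * (P * (q - 1) * S) := by
    rw [Finset.sum_ite, ← Finset.mul_sum, ← Finset.mul_sum, Finset.sum_filter, Finset.sum_filter]
    congr 1
    · congr 1
      rw [Fintype.sum_prod_type, Fintype.sum_prod_type]
      simp only [Finset.sum_ite_irrel, Finset.sum_const_zero, Finset.sum_ite_eq', Finset.mem_univ,
        if_true]
      rw [Finset.sum_congr rfl fun a _ => Finset.sum_comm]
      have hterm : ∀ (a t : F), (∑ p : V, if t • p = p₀ then (mult ρ ψ ((a, 0), p) : ℂ) else 0) =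
          if t = 0 then 0 else (M c₀ : ℂ) := by
        intro a t
        split_ifs with ht
        · subst ht
          exact Finset.sum_eq_zero fun p _ => by simp [Ne.symm hp₀]
        · rw [Finset.sum_eq_single (t⁻¹ • p₀) (fun p _ hp => if_neg fun h => hp (by
              rw [← h, smul_smul, inv_mul_cancel₀ ht, one_smul])) (by simp)]
          rw [if_pos (by rw [smul_smul, mul_inv_cancel₀ ht, one_smul]),
            hM _ (fun h => hp₀ (by simpa [ht] using congrArg Prod.snd h)), plane_apply]
          simp [QuadraticMap.map_smul, hsq t⁻¹ c₀ (inv_ne_zero ht), ← hc₀]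
      simp only [hterm]
      rw [Finset.sum_const, Finset.sum_ite, Finset.sum_const_zero, zero_add, Finset.sum_const,
        Finset.filter_ne', Finset.card_erase_of_mem (Finset.mem_univ _), Finset.card_univ,
        nsmul_eq_mul, nsmul_eq_mul, Nat.cast_sub Fintype.card_pos, hq]
      simp
    · congr 1
      rw [Fintype.sum_prod_type, Fintype.sum_prod_type, Finset.sum_comm]
      have hterm : ∀ b : F, (∑ a : F, ∑ p : V, if ¬b = 0 then (mult ρ ψ ((a, b), p) : ℂ) else 0) =
          if b = 0 then 0 else P * S := by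
        intro b
        split_ifs with hb
        · simp
        · rw [Finset.sum_comm, Finset.sum_congr rfl fun p _ =>
            show (∑ a : F, (mult ρ ψ ((a, b), p) : ℂ)) = S from ?_]
          · simp [hP, Finset.card_univ]
          rw [Finset.sum_congr rfl fun a _ => show (mult ρ ψ ((a, b), p) : ℂ) = M (a * b + R p) by
            rw [hM _ (fun h => hb (congrArg (fun z : (F × F) × V => z.1.2) h)), plane_apply]]
          exact Fintype.sum_equiv ((Equiv.mulRight₀ b hb).trans (Equiv.addRight (R p)))
            _ _ fun a => rfl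
      simp only [hterm]
      rw [Finset.sum_ite, Finset.sum_const_zero, zero_add, Finset.sum_const, Finset.filter_ne',
        Finset.card_erase_of_mem (Finset.mem_univ _), Finset.card_univ, nsmul_eq_mul,
        Nat.cast_sub Fintype.card_pos, hq]
      simp
      ring
  rw [hab, hKsum] at h
  have hne : q * P ≠ 0 := mul_ne_zero (Nat.cast_ne_zero.2 Fintype.card_ne_zero)
    (Nat.cast_ne_zero.2 Fintype.card_ne_zero)
  have h3 : q * P * (mult (fixedRep ρ ψ) ψ p₀ : ℂ) = q * P * (M c₀ : ℂ) := by
    change q * ((mult (fixedRep ρ ψ) ψ p₀ : ℂ) * _) = _ at h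
    rw [← hP] at h
    linear_combination h
  exact_mod_cast mul_left_cancel₀ hne h3

/-- The fixed vectors of the radical keep the fixing property. -/
theorem fixProp_fixedRep (hnd : NDPolar R) {ψ : AddChar F ℂ} (hψ : ψ.IsPrimitive)
    (ρ : Representation ℂ (siegelGroup (plane (plane R))) U) (hfix : FixProp ρ ψ) :
    FixProp (fixedRep ρ ψ) ψ := by
  classical
  intro a w p₀ ha hw hp₀ hap hwp v hv
  have hnd' : NDPolar (plane R) := ndPolar_plane hnd
  set g : siegelGroup R := ⟨siegel R a w ha hw, siegel_mem ha hw⟩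
  apply Subtype.ext
  rw [fixedRep_apply]
  refine rep_injective ρ (swapN R) ?_
  rw [← Module.End.mul_apply, ← map_mul, swapN_lift_lift, map_mul, Module.End.mul_apply]
  set v' := ρ (swapN R) (v : U) with hv'
  have hsum : v' = ∑ y, WP ρ ψ y v' := by
    rw [← LinearMap.sum_apply, sum_WP hnd' hψ ρ]
    rfl
  rw [hsum, map_sum]
  refine Finset.sum_congr rfl fun y _ => ?_
  by_cases hz : WP ρ ψ y v' = 0
  · rw [hz, map_zero]
  have hmem := (isProj_WP ρ ψ y).map_mem v'
  -- eigenvalues of `v'`
  have hvv := mem_WS.1 hv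
  have e1 : ∀ w' : V, ρ (rad (plane R) (0, w')) v' = ψ (polar R w' p₀) • v' := by
    intro w'
    rw [hv', ← Module.End.mul_apply, ← map_mul, ← swapN_rad, map_mul, Module.End.mul_apply]
    have := congrArg Subtype.val (hvv w')
    rw [fixedRep_apply] at this
    rw [this]
    simp
  have e2 : ∀ c : F, ρ (rad (plane R) ((c, 0), 0)) v' = v' := by
    intro c
    rw [hv', ← Module.End.mul_apply, ← map_mul, ← swapN_rad_eVec, map_mul, Module.End.mul_apply]
    have := mem_WS.1 v.2 ((c, 0), 0)
    rw [polar_zero_right, AddChar.map_zero_eq_one, one_smul] at this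
    rw [this]
  have key : ∀ (z : (F × F) × V) (s : ℂ), ρ (rad (plane R) z) v' = s • v' →
      ψ (polar (plane R) z y) = s := by
    intro z s hzs
    have hcomm : WP ρ ψ y (ρ (rad (plane R) z) v') = ρ (rad (plane R) z) (WP ρ ψ y v') := by
      simp only [WP, weightProj_apply, map_smul, map_sum, resChar_apply]
      congr 1
      refine Finset.sum_congr rfl fun t _ => ?_
      rw [← Module.End.mul_apply (ρ (rad (plane R) t)), ← map_mul,
        ← AddChar.map_add_eq_mul (rad (plane R)), add_comm, AddChar.map_add_eq_mul, map_mul,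
        Module.End.mul_apply]
    rw [hzs, map_smul, (mem_WS.1 hmem z)] at hcomm
    exact (smul_left_injective ℂ hz hcomm).symm
  have hb : y.1.2 = 0 := by
    by_contra hb
    refine hψ hb (DFunLike.ext _ _ fun c => ?_)
    have h1 := key ((c, 0), 0) 1 (by rw [e2, one_smul])
    rw [AddChar.mulShift_apply, AddChar.one_apply, mul_comm]
    simpa [polar_plane, polar_zero_right] using h1
  have hp : y.2 = p₀ := by
    refine wchar_injective hnd hψ (DFunLike.ext _ _ fun w' => ?_)
    have h1 := key (0, w') _ (e1 w')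
    simpa [wchar_apply, polar_plane] using h1
  have hy0 : y ≠ 0 := fun h => hp₀ (by rw [← hp, h]; rfl)
  have hg : lift R g = ⟨siegel (plane R) (0, a) (0, w) (by simp [plane_apply, ha])
      (by simp [polar_plane, hw]), siegel_mem _ _⟩ :=
    Subtype.ext (liftOrth_siegel R ha hw)
  rw [hg]
  exact hfix _ _ y (by simp [plane_apply, ha]) (by simp [polar_plane, hw]) hy0
    (by simp [polar_plane, hp, hap, hb]) (by simp [polar_plane, hp, hwp, hb]) _ hmem

end Inherit

end CfsgLib.MinDeg.OrthBd
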