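import Cfsg.Agent.Lib.MinDeg.OrthBound
import Mathlib.Algebra.Polynomial.Roots

/-!
# The degree bound for the Siegel group of an even dimensional form
-/

set_option autoImplicit false

namespace CfsgLib.MinDeg.OrthBd

open QuadraticMap Module CfsgLib.Classical.Quad

universe u v

section Arith

theorem arith_level {ε q u : ℤ} (hε : ε = 1 ∨ ε = -1) (hq : 4 ≤ q) (hu : q ^ 2 ≤ u) :
    2 * ((q ^ 2 * u - ε) * (q * u + ε * q)) ≤ (q - 1) * (u * (q * u - ε)) * (q ^ 2 - 1) := by
  have h1 : 0 ≤ (q - 4) * (u * u) := by nlinarith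
  have h2 : 16 ≤ u := by nlinarith
  have h3 : 2 * q ^ 3 + 4 * q ≤ q * (q - 1) * (q ^ 2 - 1) := by nlinarith [mul_nonneg (mul_nonneg (show (0:ℤ) ≤ q by omega) (show (0:ℤ) ≤ q by omega)) (show (0:ℤ) ≤ q - 4 by omega)]
  have h4 := mul_le_mul_of_nonneg_right h3 (mul_nonneg (show (0:ℤ) ≤ u by omega) (show (0:ℤ) ≤ u by omega))
  rcases hε with rfl | rfl <;> nlinarith [mul_le_mul_of_nonneg_left hu (show (0:ℤ) ≤ q * u by nlinarith)]

theorem arith_sing {ε q u : ℤ} (hε : ε = 1 ∨ ε = -1) (hq : 2 ≤ q) (hu : q ^ 2 ≤ u) :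
    (q ^ 2 * u - ε) * (q * u + ε * q) ≤ 2 * ((q * u - ε) * (u + ε)) * (q ^ 2 - 1) := by
  have h2 : 4 ≤ u := by nlinarith
  have h3 : q ^ 3 + 2 * q ≤ 2 * q * (q ^ 2 - 1) := by nlinarith
  have h4 := mul_le_mul_of_nonneg_right h3 (mul_nonneg (show (0:ℤ) ≤ u by omega) (show (0:ℤ) ≤ u by omega))
  rcases hε with rfl | rfl <;> nlinarith [mul_le_mul_of_nonneg_left hu (show (0:ℤ) ≤ q * u by nlinarith)]

theorem arith_mixed {q u : ℤ} (hq : 2 ≤ q) (hu : q ^ 2 ≤ u) :
    (q ^ 2 * u + 1) * (q * u - q) ≤ (u * (q * u + 1) + (q * u + 1) * (u - 1)) * (q ^ 2 - 1) := by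
  have h2 : 4 ≤ u := by nlinarith
  have h3 : q ^ 3 + 2 * q ≤ 2 * q * (q ^ 2 - 1) := by nlinarith
  have h4 := mul_le_mul_of_nonneg_right h3 (mul_nonneg (show (0:ℤ) ≤ u by omega) (show (0:ℤ) ≤ u by omega))
  nlinarith [mul_le_mul_of_nonneg_left hu (show (0:ℤ) ≤ q * u by nlinarith)]

theorem arith_double {q u : ℤ} (hq : 2 ≤ q) (hu : q ^ 2 ≤ u) :
    (q ^ 2 * u + 1) * (q * u - q) ≤ 2 * (u * (q * u + 1)) * (q ^ 2 - 1) := by
  have h2 : 4 ≤ u := by nlinarith
  have h3 : q ^ 3 ≤ 2 * q * (q ^ 2 - 1) := by nlinarith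
  have h4 := mul_le_mul_of_nonneg_right h3 (mul_nonneg (show (0:ℤ) ≤ u by omega) (show (0:ℤ) ≤ u by omega))
  nlinarith [mul_nonneg (show (0:ℤ) ≤ q by omega) (show (0:ℤ) ≤ u by omega)]

theorem le_of_mul_bound {ε q N d L : ℤ} {i : ℕ} (hε : ε = 1 ∨ ε = -1) (hq : 2 ≤ q)
    (hN : N = NB ε q i) (hL : L ≤ d)
    (h : (q ^ (i + 3) - ε) * (q ^ (i + 2) + ε * q) ≤ L * (q ^ 2 - 1)) : N ≤ d := by
  rw [← NB_mul hε] at h
  exact hN ▸ (le_of_mul_le_mul_right h (by nlinarith)).trans hL

end Arith

section Chain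

variable {F : Type u} [Field F] [Fintype F]

/-- The indicator of a value. -/
noncomputable def levInd (c d : F) : ℕ :=
  haveI := _root_.Classical.decEq F
  if d = c then 1 else 0

omit [Fintype F] in
theorem levInd_self (c : F) : levInd c c = 1 := by
  classical
  simp [levInd]

omit [Fintype F] in
theorem levInd_of_ne {c d : F} (h : d ≠ c) : levInd c d = 0 := by
  classical
  simp [levInd, h]

theorem sq_eq_one_of_card_le (h3 : Fintype.card F ≤ 3) {s : F} (hs : s ≠ 0) : s * s = 1 := by
  have h2 := Fintype.one_lt_card (α := F)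
  have h := FiniteField.pow_card_sub_one_eq_one s hs
  obtain hc | hc : Fintype.card F = 2 ∨ Fintype.card F = 3 := by omega
  · rw [hc] at h
    simp only [show 2 - 1 = 1 from rfl, pow_one] at h
    rw [h, one_mul]
  · rw [hc] at h
    rw [← _root_.sq]
    exact h

/-- The bound for representations with a single non-singular level of weights. -/
def LevBd (ψ : AddChar F ℂ) {V : Type u} [AddCommGroup V] [Module F V] (R : QuadraticForm F V)
    (c : F) (i : ℕ) : Prop :=
  ∀ (U : Type) [AddCommGroup U] [Module ℂ U] [FiniteDimensional ℂ U]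
    (ρ : Representation ℂ (siegelGroup (plane R)) U), MultEq ρ ψ (levInd c) → FixProp ρ ψ →
      NB (-1) (Nat.card F : ℤ) i ≤ (finrank ℂ U : ℤ)

variable {V : Type u} [AddCommGroup V] [Module F V] [Fintype V] {R : QuadraticForm F V}
variable {ψ : AddChar F ℂ} {U : Type v} [AddCommGroup U] [Module ℂ U] [FiniteDimensional ℂ U]

theorem finrank_eq_lev (hnd : NDPolar R) (hψ : ψ.IsPrimitive) {c : F} (hc : c ≠ 0)
    (ρ : Representation ℂ (siegelGroup (plane R)) U) (h : MultEq ρ ψ (levInd c)) :
    (finrank ℂ U : ℤ) = mult ρ ψ 0 + (Nat.card {v : V // R v = c} : ℤ) := by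
  classical
  rw [← sum_mult_eq hnd hψ ρ, ← Finset.add_sum_erase _ _ (Finset.mem_univ (0 : V)),
    Finset.sum_congr rfl fun x hx => h x (Finset.ne_of_mem_erase hx)]
  push_cast
  congr 1
  have hz : ∀ x : V, (levInd c (R x) : ℤ) = if R x = c then 1 else 0 := fun x => by
    split_ifs with hx <;> simp [hx, levInd_self, levInd_of_ne]
  rw [Finset.sum_congr rfl fun x _ => hz x, Finset.sum_erase _ (by simp [Ne.symm hc]),
    Finset.sum_boole, Nat.card_eq_fintype_card, Fintype.card_subtype]

theorem levBd_step (hψ : ψ.IsPrimitive) (h3 : Fintype.card F ≤ 3) {i : ℕ}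
    (hR : EvenForm R (-1) (i + 2)) {c : F} (hc : c ≠ 0) (hb : LevBd ψ R c i) :
    LevBd ψ (plane R) c (i + 1) := by
  intro U _ _ _ ρ hM hfix
  have hsq : ∀ (s d : F), s ≠ 0 → levInd c (s * s * d) = levInd c d := fun s d hs => by
    rw [sq_eq_one_of_card_le h3 hs, one_mul]
  have hd := finrank_eq_lev hR.plane.nd hψ hc ρ hM
  have hf : NB (-1) (Nat.card F : ℤ) i ≤ (mult ρ ψ 0 : ℤ) :=
    hb _ (fixedRep ρ ψ) (multEq_fixedRep hR.nd hψ ρ hfix hM hsq) (fixProp_fixedRep hR.nd hψ ρ hfix)
  rw [hR.plane.card_level c hc, show i + 2 + 1 - 1 = i + 2 by omega] at hd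
  rw [hd, NB]
  have hp : (0 : ℤ) < (Nat.card F : ℤ) ^ (i + 2) := pow_pos (by linarith [two_le_card (F := F)]) _
  have : (0 : ℤ) ≤ (Nat.card F : ℤ) ^ (i + 3) := pow_nonneg (Nat.cast_nonneg _) _
  rw [show i + 2 + 1 = i + 3 from rfl]
  nlinarith

theorem levBd_base (hψ : ψ.IsPrimitive) (hR : EvenForm R (-1) 3) {c : F} (hc : c ≠ 0) :
    LevBd ψ R c 1 := by
  intro U _ _ _ ρ hM _
  have hd := finrank_eq_lev hR.nd hψ hc ρ hM
  rw [hR.card_level c hc] at hd
  have hq := two_le_card (F := F)
  refine le_of_mul_bound (ε := -1) (L := (Nat.card F : ℤ) ^ 2 * ((Nat.card F : ℤ) ^ 3 + 1))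
    (Or.inr rfl) hq rfl ?_ ?_
  · rw [hd, show (3 : ℕ) - 1 = 2 from rfl]
    have : (0 : ℤ) ≤ (mult ρ ψ 0 : ℤ) := Nat.cast_nonneg _
    linarith
  · set q := (Nat.card F : ℤ)
    norm_num
    nlinarith [mul_nonneg (mul_nonneg (show (0:ℤ) ≤ q by omega) (show (0:ℤ) ≤ q - 1 by omega)) (show (0:ℤ) ≤ q ^ 2 - 1 by nlinarith)]

theorem levBd_tower {W : Type u} [AddCommGroup W] [Module F W] [Fintype W] {R₀ : QuadraticForm F W}
    (hψ : ψ.IsPrimitive) (h3 : Fintype.card F ≤ 3) (hR : EvenForm R₀ (-1) 2) {c : F} (hc : c ≠ 0) :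
    ∀ j, LevBd ψ (TQ R₀ (j + 1)) c (j + 1)
  | 0 => by
    cases nonempty_fintype (TV F W 1)
    exact levBd_base hψ (evenForm_TQ hR 1) hc
  | j + 1 => by
    cases nonempty_fintype (TV F W (j + 1))
    have h := evenForm_TQ hR (j + 1)
    rw [show 2 + (j + 1) = j + 1 + 2 by omega] at h
    exact levBd_step hψ h3 h hc (levBd_tower hψ h3 hR hc j)

end Chain

section Main

variable {F : Type u} [Field F] [Fintype F] {W : Type u} [AddCommGroup W] [Module F W] [Fintype W]
variable {R₂ : QuadraticForm F W} {ψ : AddChar F ℂ}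

/-- The bound, given the bounds for the two special kinds of weights. -/
theorem finrank_bound (hψ : ψ.IsPrimitive) {ε : ℤ} {i : ℕ} (h₁ : EvenForm (plane R₂) ε (i + 2))
    (h₂ : NDPolar R₂) (hB : HasQuad R₂ ∨ IsGoodPlane R₂) (hq : 4 ≤ Fintype.card F ∨ ε = -1)
    (hC : i = 0 ∨ EvenForm R₂ ε (i + 1))
    (hsing : SingBd ψ (plane (plane R₂)) ε (i + 1) 0)
    (hlev : Fintype.card F ≤ 3 → ∀ c : F, c ≠ 0 → LevBd ψ (plane (plane R₂)) c (i + 1))
    {k : ℕ} (ρ : Representation ℂ (siegelGroup (plane (plane (plane R₂)))) (Fin k → ℂ))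
    (hρ : ρ.IsIrreducible) (hk : 2 ≤ k) :
    NB ε (Nat.card F : ℤ) (i + 1) ≤ (k : ℤ) := by
  classical
  revert hρ
  revert ρ
  set R := plane (plane R₂) with hRdef
  intro ρ hρ
  have hR : EvenForm R ε (i + 3) := h₁.plane
  obtain ⟨P⟩ := h₁.nonempty_frame
  obtain ⟨P'⟩ := hR.nonempty_frame
  set q : ℤ := (Nat.card F : ℤ) with hqdef
  have hq2 : 2 ≤ q := two_le_card
  set u := q ^ (i + 2) with hu
  have hu2 : q ^ 2 ≤ u := pow_le_pow_right₀ (by omega) (by omega)
  have hfin : (finrank ℂ (Fin k → ℂ) : ℤ) = k := by simp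
  have harith : ∀ L : ℤ, L ≤ k → (q ^ 2 * u - ε) * (q * u + ε * q) ≤ L * (q ^ 2 - 1) →
      NB ε q (i + 1) ≤ k := fun L hL h =>
    le_of_mul_bound hR.heps hq2 rfl hL (by
      rw [hu] at h
      refine le_trans (le_of_eq ?_) h
      ring)
  -- sums over levels
  have hsum : ∀ (p : (F × F) × ((F × F) × W) → Prop) (r : ℕ),
      (∀ y, p y → y ≠ 0) → (∀ y, p y → r ≤ mult ρ ψ y) → (r * Nat.card {y // p y} : ℤ) ≤ k := by
    intro p r hp0 hpr
    have h := (Finset.sum_le_sum (s := Finset.univ.filter p) fun y hy =>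
      hpr y (Finset.mem_filter.1 hy).2).trans (sum_mult_le hR.nd hψ ρ _)
    rw [Finset.sum_const, ← Fintype.card_subtype, ← Nat.card_eq_fintype_card, smul_eq_mul,
      Module.finrank_fin_fun, mul_comm] at h
    exact_mod_cast h
  have hlevel : ∀ c : F, c ≠ 0 → (Nat.card {y // R y = c} : ℤ) = u * (q * u - ε) := fun c hc => by
    rw [hR.card_level c hc, hu, show i + 3 - 1 = i + 2 by omega, ← hqdef]
    ring
  have hsingc : (Nat.card {y // R y = 0 ∧ y ≠ 0} : ℤ) = (q * u - ε) * (u + ε) := by
    have h0 : Nat.card {y // R y = 0} = Nat.card {y // R y = 0 ∧ y ≠ 0} + 1 := by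
      rw [Nat.card_eq_fintype_card, Nat.card_eq_fintype_card, Fintype.card_subtype,
        Fintype.card_subtype, show (Finset.univ.filter fun y => R y = 0 ∧ y ≠ 0) =
          (Finset.univ.filter fun y => R y = 0).erase 0 by ext y; simp [and_comm],
        Finset.card_erase_add_one (by simp)]
    have h1 := hR.card_zero
    rw [h0, ← hqdef, show i + 3 - 1 = i + 2 by omega] at h1
    push_cast at h1
    rw [hu, show q * q ^ (i + 2) = q ^ (i + 3) by rw [← pow_succ']]
    linarith
  have hmeq : ∀ {x y : (F × F) × ((F × F) × W)}, x ≠ 0 → y ≠ 0 → R x = R y →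
      mult ρ ψ x = mult ρ ψ y := fun hx hy h => mult_eq_of_level hR.nd P ρ ψ hx hy h
  have hfix : ∀ (c : F) (hm : ∀ x, x ≠ 0 → mult ρ ψ x ≤ 1),
      (∀ x, x ≠ 0 → mult ρ ψ x ≠ 0 → R x = c) → (c = 0 ∨ ∃ m', EvenForm R₂ ε m') → FixProp ρ ψ := by
    intro c hm hc hCc
    refine fixProp_of_le_one ρ ψ hm fun a w x ha hw hx hmx hax hwx => ?_
    refine siegel_mem_commutator_stab h₁ h₂ hB ?_ ha hw hx hax hwx
    rcases hCc with h | h
    · exact Or.inl ((hc x hx hmx).trans h)
    · exact Or.inr h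
  -- a weight
  obtain ⟨s, ⟨w, rfl⟩, hw⟩ := exists_rep_ne_one ρ hρ hk _ (normalClosure_rad hR.nd P')
  obtain ⟨χ, hχ, hχW⟩ := exists_weight_ne_zero (resChar ρ (rad R)) (a := w) hw
  obtain ⟨x₀, rfl⟩ := (wchar_bijective hR.nd hψ).2 χ
  have hx₀ : x₀ ≠ 0 := fun h0 => hχ (by rw [h0, wchar_zero])
  have hx₀1 : 1 ≤ mult ρ ψ x₀ := one_le_finrank_of_ne_bot hχW
  by_cases hns : ∃ x, x ≠ 0 ∧ R x ≠ 0 ∧ 1 ≤ mult ρ ψ x
  · obtain ⟨x, hx, hRx, hx1⟩ := hns
    set c := R x with hc
    by_cases hq4 : 4 ≤ Fintype.card F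
    · -- many levels
      set Sq : Finset F := (Finset.univ.erase 0).image (fun s : F => s * s * c) with hSq
      have hSq0 : ∀ d ∈ Sq, d ≠ 0 := fun d hd => by
        obtain ⟨s, hs, rfl⟩ := Finset.mem_image.1 hd
        exact mul_ne_zero (mul_ne_zero (Finset.ne_of_mem_erase hs) (Finset.ne_of_mem_erase hs)) hRx
      have hlow : ∀ y, R y ∈ Sq → 1 ≤ mult ρ ψ y := by
        intro y hy
        have hy0 : y ≠ 0 := fun h => hSq0 _ hy (by rw [h, QuadraticMap.map_zero])
        obtain ⟨s, hs, hsy⟩ := Finset.mem_image.1 hy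
        obtain ⟨z, hz0, hzR, hzm⟩ := exists_mult_scale hR.nd P' ρ ψ
          (inv_ne_zero (Finset.ne_of_mem_erase hs)) hx
        rw [inv_inv, ← hc, hsy] at hzR
        rw [← hmeq hz0 hy0 hzR]
        omega
      have hcard : (Nat.card {y // R y ∈ Sq} : ℤ) = (Sq.card : ℤ) * (u * (q * u - ε)) := by
        rw [Nat.card_eq_fintype_card, Fintype.card_subtype,
          Finset.card_eq_sum_card_fiberwise (f := fun y => R y) (t := Sq)
            (s := Finset.univ.filter fun y => R y ∈ Sq) (fun y hy => (Finset.mem_filter.1 hy).2),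
          Nat.cast_sum]
        rw [Finset.sum_congr rfl fun d hd => ?_, Finset.sum_const, nsmul_eq_mul]
        rw [← hlevel d (hSq0 d hd), Nat.card_eq_fintype_card, Fintype.card_subtype]
        congr 2
        ext y
        simp only [Finset.mem_filter, Finset.mem_univ, true_and]
        exact ⟨fun h => h.2, fun h => ⟨h ▸ hd, h⟩⟩
      have hhalf : q - 1 ≤ 2 * (Sq.card : ℤ) := by
        have h := Finset.card_le_mul_card_image (f := fun s : F => s * s * c)
          (Finset.univ.erase (0 : F)) 2 (fun d _ => by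
            have h2 := Polynomial.card_roots' (Polynomial.X ^ 2 - Polynomial.C (d / c))
            rw [Polynomial.natDegree_X_pow_sub_C] at h2
            refine le_trans ?_ ((Multiset.toFinset_card_le _).trans h2)
            refine Finset.card_le_card fun s hs => ?_
            have hsd := (Finset.mem_filter.1 hs).2
            rw [Multiset.mem_toFinset, Polynomial.mem_roots']
            refine ⟨Polynomial.X_pow_sub_C_ne_zero (by norm_num) _, ?_⟩
            simp [← hsd, hRx, _root_.sq])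
        rw [Finset.card_erase_of_mem (Finset.mem_univ _), Finset.card_univ, ← hSq,
          ← Nat.card_eq_fintype_card] at h
        have h1 : 1 ≤ Nat.card F := Nat.card_pos
        rw [hqdef]
        omega
      have h := hsum (fun y => R y ∈ Sq) 1
        (fun y hy h => hSq0 _ hy (by rw [h, QuadraticMap.map_zero])) hlow
      rw [hcard, Nat.cast_one, one_mul] at h
      have hq4' : 4 ≤ q := by rw [hqdef, Nat.card_eq_fintype_card]; exact_mod_cast hq4
      have ha := arith_level hR.heps hq4' hu2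
      have hpos : 0 ≤ u * (q * u - ε) := by rw [← hlevel c hRx]; exact Nat.cast_nonneg _
      refine harith _ h ?_
      nlinarith [mul_le_mul_of_nonneg_right hhalf (mul_nonneg hpos (show (0:ℤ) ≤ q ^ 2 - 1 by nlinarith))]
    · -- two or three elements
      have hq3 : Fintype.card F ≤ 3 := by omega
      obtain rfl : ε = -1 := hq.resolve_left hq4
      by_cases hother : ∃ y, y ≠ 0 ∧ R y ≠ c ∧ 1 ≤ mult ρ ψ y
      · obtain ⟨y, hy, hyc, hy1⟩ := hother
        have h := hsum (fun z => z ≠ 0 ∧ (R z = c ∨ R z = R y)) 1 (fun z hz => hz.1) fun z hz => by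
          rcases hz.2 with h | h
          · rw [hmeq hz.1 hx h]; exact hx1
          · rw [hmeq hz.1 hy h]; exact hy1
        have hsplit : (Nat.card {z // z ≠ 0 ∧ (R z = c ∨ R z = R y)} : ℤ) =
            (Nat.card {z // R z = c} : ℤ) + (Nat.card {z // R z = R y ∧ z ≠ 0} : ℤ) := by
          rw [Nat.card_eq_fintype_card, Nat.card_eq_fintype_card, Nat.card_eq_fintype_card,
            Fintype.card_subtype, Fintype.card_subtype, Fintype.card_subtype, ← Nat.cast_add,
            ← Finset.card_union_of_disjoint]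
          · congr 2
            ext z
            simp only [Finset.mem_filter, Finset.mem_univ, true_and, Finset.mem_union]
            constructor
            · rintro ⟨hz, h | h⟩
              · exact Or.inl h
              · exact Or.inr ⟨h, hz⟩
            · rintro (h | ⟨h, hz⟩)
              · exact ⟨fun h0 => hRx (by rw [← h, h0, QuadraticMap.map_zero]), Or.inl h⟩
              · exact ⟨hz, Or.inr h⟩
          · rw [Finset.disjoint_filter]
            exact fun z _ h h' => hyc (h'.1.symm.trans h)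
        rw [Nat.cast_one, one_mul, hsplit, hlevel c hRx] at h
        by_cases hy0 : R y = 0
        · rw [hy0, hsingc] at h
          refine harith _ h ?_
          have := arith_mixed hq2 hu2
          nlinarith
        · have he : (Nat.card {z // R z = R y ∧ z ≠ 0} : ℤ) = u * (q * u - -1) := by
            rw [← hlevel _ hy0]
            congr 1
            exact Nat.card_congr (Equiv.subtypeEquivRight fun z => ⟨fun h => h.1, fun h =>
              ⟨h, fun h0 => hy0 (by rw [← h, h0, QuadraticMap.map_zero])⟩⟩)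
          rw [he] at h
          refine harith _ h ?_
          have := arith_double hq2 hu2
          nlinarith
      · push Not at hother
        have hone : ∀ z, z ≠ 0 → mult ρ ψ z ≠ 0 → R z = c := fun z hz hm => by
          by_contra hne
          have := hother z hz hne
          omega
        by_cases h2 : 2 ≤ mult ρ ψ x
        · have h := hsum (fun z => R z = c) 2
            (fun z hz h0 => hRx (by rw [← hz, h0, QuadraticMap.map_zero])) fun z hz => by
            rw [hmeq (fun h0 => hRx (by rw [← hz, h0, QuadraticMap.map_zero])) hx hz]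
            exact h2
          rw [hlevel c hRx] at h
          push_cast at h
          refine harith _ h ?_
          have := arith_double hq2 hu2
          nlinarith
        · rcases hC with rfl | hC
          · -- the smallest case
            have h := hsum (fun z => R z = c) 1
              (fun z hz h0 => hRx (by rw [← hz, h0, QuadraticMap.map_zero])) fun z hz => by
              rw [hmeq (fun h0 => hRx (by rw [← hz, h0, QuadraticMap.map_zero])) hx hz]
              exact hx1
            rw [hlevel c hRx, Nat.cast_one, one_mul] at h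
            refine harith _ h ?_
            rw [hu, zero_add]
            nlinarith [mul_nonneg (mul_nonneg (show (0:ℤ) ≤ q by omega) (show (0:ℤ) ≤ q - 1 by omega)) (show (0:ℤ) ≤ q ^ 2 - 1 by nlinarith)]
          · have hle1 : ∀ z, z ≠ 0 → mult ρ ψ z ≤ 1 := fun z hz => by
              by_contra hcon
              have hzc := hone z hz (by omega)
              rw [hmeq hz hx hzc] at hcon
              omega
            have hM : MultEq ρ ψ (levInd c) := fun z hz => by
              by_cases hzc : R z = c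
              · rw [hzc, levInd_self, hmeq hz hx hzc]
                omega
              · rw [levInd_of_ne hzc]
                by_contra hne
                exact hzc (hone z hz hne)
            have h := hlev hq3 c hRx _ ρ hM (hfix c hle1 hone (Or.inr ⟨_, hC⟩))
            rwa [hfin] at h
  · push Not at hns
    have hone : ∀ z, z ≠ 0 → mult ρ ψ z ≠ 0 → R z = 0 := fun z hz hm => by
      by_contra hne
      have := hns z hz hne
      omega
    have hx₀R : R x₀ = 0 := hone x₀ hx₀ (by omega)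
    by_cases h2 : 2 ≤ mult ρ ψ x₀
    · have h := hsum (fun z => R z = 0 ∧ z ≠ 0) 2 (fun z hz => hz.2) fun z hz => by
        rw [hmeq hz.2 hx₀ (hz.1.trans hx₀R.symm)]
        exact h2
      rw [hsingc] at h
      push_cast at h
      exact harith _ h (arith_sing hR.heps hq2 hu2)
    · have hle1 : ∀ z, z ≠ 0 → mult ρ ψ z ≤ 1 := fun z hz => by
        by_contra hcon
        have hzc := hone z hz (by omega)
        rw [hmeq hz hx₀ (hzc.trans hx₀R.symm)] at hcon
        omega
      have hM : MultEq ρ ψ singInd := fun z hz => by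
        by_cases hzc : R z = 0
        · rw [hzc, singInd_zero, hmeq hz hx₀ (hzc.trans hx₀R.symm)]
          omega
        · rw [singInd_of_ne hzc]
          by_contra hne
          exact hzc (hone z hz hne)
      have h := hsing _ ρ ⟨hM, hfix 0 hle1 hone (Or.inl rfl)⟩
      rw [hfin, add_zero] at h
      exact h

end Main

end CfsgLib.MinDeg.OrthBd
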