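import Cfsg.Agent.Lib.MinDeg.OrthOddTrace
import Mathlib.RingTheory.Coprime.Lemmas

/-!
# The arithmetic behind the odd orthogonal degree bound
-/

set_option autoImplicit false

namespace CfsgLib.MinDeg.OrthBd

/-- The geometric sum of even powers. -/
def GS (q : ℤ) : ℕ → ℤ
  | 0 => 1
  | i + 1 => GS q i + q ^ (2 * (i + 1))

theorem GS_mul (q : ℤ) : ∀ i, GS q i * (q ^ 2 - 1) = q ^ (2 * (i + 1)) - 1
  | 0 => by rw [GS]; ring
  | i + 1 => by
    rw [GS, add_mul, GS_mul q i]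
    ring

theorem TC_add (q : ℤ) : ∀ i, TC q i + ((i : ℤ) + 1) = q ^ 2 * GS q i
  | 0 => by simp [TC, GS]
  | i + 1 => by
    rw [TC, GS]
    push_cast
    linear_combination TC_add q i

theorem TC_mul (q : ℤ) (i : ℕ) :
    (TC q i + ((i : ℤ) + 2)) * (q ^ 2 - 1) = q ^ (2 * (i + 2)) - 1 := by
  have h := GS_mul q i
  have h' := TC_add q i
  linear_combination (q ^ 2 - 1) * h' + q ^ 2 * h

theorem ZC_eq (ε q : ℤ) : ∀ i, ZC ε q i = q ^ (2 * i + 1) + ε * (q ^ (i + 1) - q ^ i)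
  | 0 => by rw [ZC]; ring
  | i + 1 => by
    rw [ZC, ZC_eq ε q i]
    ring

theorem SC_eq (ε q : ℤ) : ∀ i, SC ε q i = q * GS q i + ε * (q ^ (i + 1) - 1) - ((i : ℤ) + 1)
  | 0 => by rw [SC, ZC, GS]; ring
  | i + 1 => by
    rw [SC, SC_eq ε q i, ZC_eq, GS]
    push_cast
    ring

theorem one_le_GS {q : ℤ} : ∀ i, 1 ≤ GS q i
  | 0 => le_rfl
  | i + 1 => by
    have := one_le_GS (q := q) i
    have h : (0 : ℤ) ≤ q ^ (2 * (i + 1)) := by rw [pow_mul]; positivity
    rw [GS]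
    linarith

theorem isCoprime_GS (q : ℤ) : ∀ i, IsCoprime (GS q i) q
  | i => by
    refine ⟨-(q ^ 2 - 1), q ^ (2 * i + 1), ?_⟩
    linear_combination -(GS_mul q i)

theorem two_mul_succ_le {q : ℤ} (hq : 5 ≤ q) : ∀ j : ℕ, 2 * ((j : ℤ) + 2) + 1 < q ^ (j + 2)
  | 0 => by norm_num; nlinarith
  | j + 1 => by
    have h := two_mul_succ_le hq j
    have h' : (0 : ℤ) ≤ (j : ℤ) := Nat.cast_nonneg j
    rw [show j + 1 + 2 = j + 2 + 1 by omega, pow_succ]
    push_cast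
    nlinarith

/-- The involution forces a small configuration. -/
theorem odd_excl {q ε sgn r : ℤ} {j : ℕ} (hq : 5 ≤ q) (hε : ε = 1 ∨ ε = -1)
    (hs : sgn = 1 ∨ sgn = -1) (hεj : ε = -1 → Even j) (hr : |r| ≤ (j : ℤ) + 2)
    (hdvd : q ^ 2 * GS q (j + 1) ∣
      q ^ (j + 3) * (q ^ (j + 3) + ε) * (sgn * SC ε q (j + 1) + r)) :
    j = 0 ∧ ε = -1 ∧ r = 0 := by
  set N := GS q (j + 1) with hN
  have hNu := GS_mul q (j + 1)
  rw [← hN, show j + 1 + 1 = j + 2 from rfl] at hNu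
  set u := q ^ (j + 2) with hu
  rw [show q ^ (2 * (j + 2)) = u * u by rw [hu]; ring] at hNu
  rw [show q ^ (j + 3) = q * u by rw [hu]; ring, SC_eq, ← hN,
    show j + 1 + 1 = j + 2 from rfl, ← hu] at hdvd
  push_cast at hdvd
  set r₀ := r - sgn * ((j : ℤ) + 2) with hr₀
  set a := sgn * ε with ha
  set X := a * (u - 1) + r₀ with hX
  have haa : a = 1 ∨ a = -1 := by
    rcases hs with rfl | rfl <;> rcases hε with rfl | rfl <;> simp [ha]
  have hε2 : ε * ε = 1 := by rcases hε with rfl | rfl <;> norm_num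
  have hr₀b : |r₀| ≤ 2 * ((j : ℤ) + 2) := by
    rw [abs_le] at hr ⊢
    rcases hs with h | h <;> rw [h] at hr₀ <;> omega
  have hcop : IsCoprime N (q * u) := by
    rw [hu, ← pow_succ', hN]
    exact (isCoprime_GS q (j + 1)).pow_right
  have h1 : N ∣ (q * u + ε) * X := by
    have h2 : N ∣ (q * u + ε) * (sgn * q * N + X) := by
      refine hcop.dvd_of_dvd_mul_left ?_
      refine (dvd_mul_left N (q ^ 2)).trans (hdvd.trans (dvd_of_eq ?_))
      rw [hX, ha, hr₀]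
      ring
    have := dvd_sub h2 (dvd_mul_left N ((q * u + ε) * sgn * q))
    refine this.trans (dvd_of_eq ?_)
    ring
  have hbig := two_mul_succ_le hq j
  rw [← hu] at hbig
  have hXb : |X| ≤ u + 2 * ((j : ℤ) + 2) := by
    rw [abs_le] at hr₀b ⊢
    rcases haa with h | h <;> rw [hX, h] <;> constructor <;> linarith
  have hX0 : X ≠ 0 ∨ 2 * ((j : ℤ) + 2) = u - 1 := by
    left
    rw [abs_le] at hr₀b
    rcases haa with h | h <;> rw [hX, h] <;> intro h0 <;> linarith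
  have hX0 : X ≠ 0 := hX0.elim id (fun h => by linarith)
  have hNpos : 0 < N := lt_of_lt_of_le zero_lt_one (one_le_GS _)
  by_cases hj2 : 2 ≤ j
  · -- large rank
    exfalso
    have h3 : N ∣ (q ^ 2 - 1) * X := by
      have := dvd_sub (h1.mul_left (q * u - ε)) (dvd_mul_right N (q ^ 2 * (q ^ 2 - 1) * X))
      refine this.trans (dvd_of_eq ?_)
      linear_combination (-(q ^ 2 * X)) * hNu - X * hε2
    have hq21 : 0 < q ^ 2 - 1 := by nlinarith
    have h4 := Int.le_of_dvd (abs_pos.2 (mul_ne_zero hq21.ne' hX0)) ((dvd_abs N _).2 h3)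
    rw [abs_mul, abs_of_pos hq21] at h4
    have h5 : N * (q ^ 2 - 1) ≤ (q ^ 2 - 1) * (q ^ 2 - 1) * (u + 2 * ((j : ℤ) + 2)) := by
      calc N * (q ^ 2 - 1) ≤ (q ^ 2 - 1) * |X| * (q ^ 2 - 1) :=
            mul_le_mul_of_nonneg_right h4 hq21.le
        _ = (q ^ 2 - 1) * (q ^ 2 - 1) * |X| := by ring
        _ ≤ _ := mul_le_mul_of_nonneg_left hXb (mul_nonneg hq21.le hq21.le)
    rw [hNu] at h5
    by_cases hj : j = 2
    · subst hj
      rw [hu] at h5
      norm_num at h5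
      nlinarith [mul_nonneg (pow_nonneg (show (0 : ℤ) ≤ q by omega) 4) (show 0 ≤ q ^ 2 - 5 by nlinarith),
        pow_nonneg (show (0 : ℤ) ≤ q by omega) 2]
    · have hu5 : q * q ^ 4 ≤ u := by
        rw [hu, ← pow_succ']
        exact pow_le_pow_right₀ (by omega) (by omega)
      have h6 : (q ^ 2 - 1) * (q ^ 2 - 1) ≤ q ^ 4 := by nlinarith
      have h7 : u * u - 1 ≤ q ^ 4 * (2 * u) :=
        h5.trans ((mul_le_mul_of_nonneg_right h6 (by linarith)).trans
          (mul_le_mul_of_nonneg_left (by linarith) (by positivity)))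
      have hup : 1 < u := by linarith
      nlinarith [mul_le_mul_of_nonneg_right hu5 (show (0 : ℤ) ≤ u by linarith),
        mul_nonneg (show (0 : ℤ) ≤ q - 5 by omega) (mul_nonneg (pow_nonneg (show (0 : ℤ) ≤ q by omega) 4) (show (0 : ℤ) ≤ u by linarith))]
  · obtain rfl | rfl : j = 0 ∨ j = 1 := by omega
    · have hNv : N = q ^ 2 + 1 := by rw [hN]; simp [GS]; ring
      have huv : u = q ^ 2 := by rw [hu]
      have h8 : N ∣ 2 * (r₀ - 2 * a) := by
        have := dvd_sub (h1.mul_left (q + ε))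
          (dvd_mul_right N ((q ^ 2 + ε * q - 1) * X + 2 * a))
        refine this.trans (dvd_of_eq ?_)
        rw [hX, hNv, huv]
        linear_combination (a * (q ^ 2 - 1) + r₀) * hε2
      have h9 : r₀ - 2 * a = 0 := by
        by_contra hne
        have h10 := Int.le_of_dvd (abs_pos.2 (mul_ne_zero two_ne_zero hne)) ((dvd_abs N _).2 h8)
        rw [abs_mul, abs_two, hNv] at h10
        have h11 : |r₀ - 2 * a| ≤ 6 := by
          rw [abs_le] at hr₀b ⊢
          push_cast at hr₀b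
          omega
        nlinarith
      rw [hr₀, ha] at h9
      rw [abs_le] at hr
      push_cast at h9 hr
      rcases hε with rfl | rfl
      · rcases hs with rfl | rfl <;> omega
      · exact ⟨rfl, rfl, by rcases hs with rfl | rfl <;> omega⟩
    · exfalso
      obtain rfl : ε = 1 := hε.resolve_right fun h => by
        have := hεj h
        simp at this
      have hNv : N = q ^ 4 + q ^ 2 + 1 := by rw [hN]; simp [GS]; ring
      have huv : u = q ^ 3 := by rw [hu]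
      have h8 : N ∣ X := by
        refine ((isCoprime_GS q (1 + 1)).pow_right (n := 2)).dvd_of_dvd_mul_left ?_
        have := dvd_sub (dvd_mul_right N X) h1
        refine (dvd_of_eq ?_).trans (this.trans (dvd_of_eq ?_))
        · rw [hN]
        · rw [hNv, huv]
          ring
      have h10 := Int.le_of_dvd (abs_pos.2 hX0) ((dvd_abs N _).2 h8)
      rw [hNv] at h10
      rw [huv] at hXb
      push_cast at hXb
      nlinarith [mul_nonneg (pow_nonneg (show (0 : ℤ) ≤ q by omega) 3) (show (0 : ℤ) ≤ q - 1 by omega)]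

/-- The two small exclusions at the bottom. -/
theorem odd_base {q b : ℤ} (hq : 5 ≤ q) (hb0 : 0 ≤ b) (hb1 : b ≤ 1)
    (hdvd : (b + q ^ 4 + q ^ 2 - 2) * (q ^ 2 - 1) ∣
      (q ^ 6 - 1) * (q ^ 4 - 1) * (b + q ^ 2 - 2)) : False := by
  set Q := q ^ 2 with hQ
  have hQ25 : 25 ≤ Q := by rw [hQ]; nlinarith
  rw [show q ^ 4 = Q ^ 2 by rw [hQ]; ring, show q ^ 6 = Q ^ 3 by rw [hQ]; ring,
    show (Q ^ 3 - 1) * (Q ^ 2 - 1) * (b + Q - 2) =
      (Q - 1) * ((Q ^ 2 + Q + 1) * (Q ^ 2 - 1) * (b + Q - 2)) by ring,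
    mul_comm _ (Q - 1)] at hdvd
  have h1 := (mul_dvd_mul_iff_left (show Q - 1 ≠ 0 by omega)).1 hdvd
  obtain rfl | rfl : b = 0 ∨ b = 1 := by omega
  · rw [show (0 + Q ^ 2 + Q - 2) = (Q - 1) * (Q + 2) by ring,
      show (Q ^ 2 + Q + 1) * (Q ^ 2 - 1) * (0 + Q - 2) =
        (Q - 1) * ((Q ^ 2 + Q + 1) * (Q + 1) * (Q - 2)) by ring] at h1
    have h2 := (mul_dvd_mul_iff_left (show Q - 1 ≠ 0 by omega)).1 h1
    have h3 : Q + 2 ∣ 12 := by
      have := dvd_sub h2 (dvd_mul_right (Q + 2) (Q ^ 3 - 2 * Q ^ 2 + 2 * Q - 7))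
      exact this.trans (dvd_of_eq (by ring))
    have := Int.le_of_dvd (by norm_num) h3
    omega
  · rw [show (1 + Q ^ 2 + Q - 2) = Q ^ 2 + Q - 1 by ring] at h1
    have h3 : Q ^ 2 + Q - 1 ∣ 4 * Q - 2 := by
      have := dvd_sub h1 (dvd_mul_right (Q ^ 2 + Q - 1) (Q ^ 3 - Q ^ 2 + Q - 3))
      exact this.trans (dvd_of_eq (by ring))
    have := Int.le_of_dvd (by omega) h3
    nlinarith

theorem arith_sing_odd {q u : ℤ} (hq : 5 ≤ q) (hu : q ≤ u) :
    q ^ 2 * (u * u) - 1 ≤ 2 * (u * u - 1) * (q ^ 2 - 1) := by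
  nlinarith [mul_nonneg (show (0 : ℤ) ≤ q ^ 2 - 2 by nlinarith) (show (0 : ℤ) ≤ u * u - q ^ 2 by nlinarith),
    mul_nonneg (sq_nonneg q) (show (0 : ℤ) ≤ q ^ 2 - 4 by nlinarith)]

theorem arith_level_odd {q u L : ℤ} {s : ℤ} (hq : 5 ≤ q) (hu : q ≤ u) (hs : q - 1 ≤ 2 * s)
    (hL : u * u - u ≤ L) : q ^ 2 * (u * u) - 1 ≤ s * L * (q ^ 2 - 1) := by
  have h1 : 0 ≤ u * u - u := by nlinarith
  have h2 : 4 * (u * u - u) * (q ^ 2 - 1) ≤ 2 * s * L * (q ^ 2 - 1) := by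
    apply mul_le_mul_of_nonneg_right _ (by nlinarith)
    calc 4 * (u * u - u) ≤ 2 * s * (u * u - u) := mul_le_mul_of_nonneg_right (by omega) h1
      _ ≤ 2 * s * L := mul_le_mul_of_nonneg_left hL (by omega)
  have hu5 : 5 ≤ u := by omega
  have h3 : 0 ≤ (q ^ 2 - 2) * u - 2 * (q ^ 2 - 1) := by
    nlinarith [mul_le_mul_of_nonneg_left hu5 (show (0 : ℤ) ≤ q ^ 2 - 2 by nlinarith)]
  nlinarith [mul_nonneg (show (0 : ℤ) ≤ u by omega) h3]

end CfsgLib.MinDeg.OrthBd
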