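import Cfsg.Agent.Lib.MinDeg.OrthMain
import Cfsg.Agent.Lib.Classical.Quad.Std
import Cfsg.Agent.Lib.Char.Twist

/-!
# The degree bound for the standard even dimensional orthogonal groups
-/

set_option autoImplicit false

namespace CfsgLib.MinDeg.OrthBd

open QuadraticMap Module CfsgLib.Classical.Quad

universe u v

variable {F : Type u} [Field F] [Fintype F]

theorem exists_primitive_char (F : Type u) [Field F] [Fintype F] :
    ∃ ψ : AddChar F ℂ, ψ.IsPrimitive :=
  ⟨AddChar.FiniteField.primitiveChar_to_Complex F,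
    AddChar.FiniteField.primitiveChar_to_Complex_isPrimitive F⟩

theorem isGoodPlane_hyp (h3 : 3 < Fintype.card F) : IsGoodPlane (plane (zeroKernel F)) := by
  classical
  obtain ⟨d, hd0, hd1, hd2⟩ : ∃ d : F, d ≠ 0 ∧ d ≠ 1 ∧ d ≠ -1 := by
    have h : ({0, 1, -1} : Finset F).card < Fintype.card F :=
      lt_of_le_of_lt Finset.card_le_three h3
    obtain ⟨d, -, hd⟩ := Finset.exists_mem_notMem_of_card_lt_card
      (s := ({0, 1, -1} : Finset F)) (t := Finset.univ) (by rwa [Finset.card_univ])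
    simp only [Finset.mem_insert, Finset.mem_singleton, not_or] at hd
    exact ⟨d, hd⟩
  refine ⟨((1, 1), 0), ((1, d), 0), ⟨?_, ?_, ?_, ?_⟩, fun w => ?_⟩
  · simp [plane_apply]
  · simpa [plane_apply] using hd0
  · simp [plane_apply, polar]
    intro h
    exact hd2 (by linear_combination h)
  · simp [plane_apply, polar]
    intro h
    apply hd1
    have h' : (d - 1) * (d - 1) = 0 := by linear_combination -h
    exact sub_eq_zero.1 (mul_self_eq_zero.1 h')
  · have hne : d - 1 ≠ 0 := sub_ne_zero.2 hd1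
    refine ⟨w.1.1 - (w.1.2 - w.1.1) / (d - 1), (w.1.2 - w.1.1) / (d - 1),
      Prod.ext (Prod.ext ?_ ?_) (Subsingleton.elim _ _)⟩
    · simp
    · simp
      field_simp
      ring

theorem bridge {ι : Type} [Fintype ι] [DecidableEq ι] {Qf : (ι → F) → F} {V : Type u}
    [AddCommGroup V] [Module F V] [Finite V] {Q : QuadraticForm F V} {V' : Type u} [AddCommGroup V']
    [Module F V'] {Q₀ : QuadraticForm F V'} (e : (ι → F) ≃ₗ[F] V') (he : ∀ v, Q₀ (e v) = Qf v)
    (hI : Isom Q₀ Q) (hnd : NDPolar Q) (P : Frame Q) {k : ℕ}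
    (ρ : Representation ℂ (Cfsg.Omega F Qf) (Fin k → ℂ)) (hρ : ρ.IsIrreducible) :
    ∃ σ : Representation ℂ (siegelGroup Q) (Fin k → ℂ), σ.IsIrreducible := by
  obtain ⟨f, hf⟩ := hI
  haveI : FiniteDimensional F V := Module.Finite.of_finite
  let E : Cfsg.Omega F Qf ≃* siegelGroup Q :=
    (commutatorEquiv (isometryEquivModel (e.trans f) (fun v => by
      rw [LinearEquiv.trans_apply, hf, he]))).trans
      (MulEquiv.subgroupCongr (commutator_orth_eq hnd P))
  haveI := hρ
  exact ⟨ρ.comp E.symm.toMonoidHom,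
    CfsgLib.CharTwist.irreducible_comp_surjective ρ E.symm.toMonoidHom E.symm.surjective⟩

theorem nat_div_le {ε : ℤ} {i k : ℕ} (hε : ε = 1 ∨ ε = -1) {A : ℕ}
    (hA : (A : ℤ) = ((Nat.card F : ℤ) ^ (i + 3) - ε) * ((Nat.card F : ℤ) ^ (i + 2) + ε * Nat.card F))
    (h : NB ε (Nat.card F : ℤ) i ≤ (k : ℤ)) : A / (Fintype.card F ^ 2 - 1) ≤ k := by
  have h1 : 1 ≤ Fintype.card F ^ 2 := Nat.one_le_pow _ _ Fintype.card_pos
  have h2 : (A : ℤ) ≤ (k * (Fintype.card F ^ 2 - 1) : ℕ) := by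
    rw [hA, ← NB_mul hε, Nat.cast_mul, Nat.cast_sub h1, ← Nat.card_eq_fintype_card]
    push_cast
    exact mul_le_mul_of_nonneg_right h (by nlinarith [two_le_card (F := F)])
  exact Nat.div_le_of_le_mul (by rw [mul_comm]; exact_mod_cast h2)

theorem singBd_plus (h3 : 3 < Fintype.card F) {ψ : AddChar F ℂ} (hψ : ψ.IsPrimitive) (j : ℕ) :
    SingBd ψ (TQ (basePlus F) (j + 1)) 1 (j + 1) 0 := by
  cases nonempty_fintype ((F × F) × ((F × F) × (Fin 0 → F)))
  have h := singBd_tower hψ (i := 0) evenForm_basePlus (singBd_basePlus hψ h3) (j + 1)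
  rwa [zero_add] at h

theorem plus_bound (h3 : 3 < Fintype.card F) (j : ℕ) {k : ℕ}
    (ρ : Representation ℂ (siegelGroup (TQ (basePlus F) (j + 2))) (Fin k → ℂ))
    (hρ : ρ.IsIrreducible) (hk : 2 ≤ k) : NB 1 (Nat.card F : ℤ) (j + 1) ≤ (k : ℤ) := by
  obtain ⟨ψ, hψ⟩ := exists_primitive_char F
  cases j with
  | zero =>
    cases nonempty_fintype ((F × F) × (Fin 0 → F))
    exact finrank_bound (R₂ := plane (zeroKernel F)) hψ (i := 0) evenForm_basePlus
      (ndPolar_plane ndPolar_zeroKernel) (Or.inr (isGoodPlane_hyp h3)) (Or.inl h3) (Or.inl rfl)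
      (singBd_plus h3 hψ 0) (fun h => absurd h (by omega)) ρ hρ hk
  | succ j =>
    cases nonempty_fintype (TV F ((F × F) × ((F × F) × (Fin 0 → F))) j)
    haveI : FiniteDimensional F (TV F ((F × F) × ((F × F) × (Fin 0 → F))) j) :=
      Module.Finite.of_finite
    have h0 := evenForm_TQ (evenForm_basePlus (F := F)) j
    rw [show 2 + j = j + 2 by omega] at h0
    exact finrank_bound (R₂ := TQ (basePlus F) j) hψ (i := j + 1) h0.plane h0.nd
      (Or.inl h0.hasQuad) (Or.inl h3) (Or.inr h0) (singBd_plus h3 hψ (j + 1))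
      (fun h => absurd h (by omega)) ρ hρ hk

end CfsgLib.MinDeg.OrthBd
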