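import Cfsg.Agent.Lib.MinDeg.OrthOddRank3
import Cfsg.Agent.Lib.MinDeg.OrthOddNum
import Cfsg.Agent.Lib.MinDeg.OrthStd

/-!
# The degree bound for odd dimensional orthogonal groups
-/

set_option autoImplicit false

namespace CfsgLib.MinDeg.OrthBd

open QuadraticMap Module CfsgLib.Classical.Quad

universe u v

variable {F : Type u} [Field F] [Fintype F] {ψ : AddChar F ℂ}

theorem five_le_card (hodd : Fintype.card F % 2 = 1) (h3 : 3 < Fintype.card F) :
    (5 : ℤ) ≤ Nat.card F := by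
  rw [Nat.card_eq_fintype_card]
  exact_mod_cast (show 5 ≤ Fintype.card F by omega)

/-- No irreducible representation has exactly the critical degree. -/
theorem odd_excl_sing1 (hψ : ψ.IsPrimitive) (h2 : (2 : F) ≠ 0) (hodd : Fintype.card F % 2 = 1)
    (h3 : 3 < Fintype.card F) (j : ℕ) {U : Type} [AddCommGroup U] [Module ℂ U]
    [FiniteDimensional ℂ U]
    (ρ : Representation ℂ (siegelGroup (plane (TQ (baseOdd F) (j + 1)))) U) (hρ : ρ.IsIrreducible)
    (h : Sing1 ρ ψ)
    (hd : (finrank ℂ U : ℤ) = TC (Nat.card F : ℤ) (j + 1) + ((j : ℤ) + 2)) : False := by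
  classical
  cases nonempty_fintype (TV F ((F × F) × (Unit → F)) j)
  cases nonempty_fintype (TV F ((F × F) × (Unit → F)) (j + 1))
  have hq5 := five_le_card hodd h3
  obtain ⟨c, ε, hM, hεj⟩ := exists_mirrorAt (F := F) h2 j
  have hc : c ≠ 0 := hM.1.ne_zero
  have hm := negRefl_mem h2 hM
  have hE := oddForm_TQ (F := F) h2 j
  have hEj := oddForm_TQ (F := F) h2 (j + 2)
  obtain ⟨P⟩ : Nonempty (Frame (TQ (baseOdd F) (j + 2))) :=
    (oddForm_TQ h2 (j + 1)).nonempty_frame
  obtain ⟨sgn, hsgn, hZ⟩ := exists_zData (R := TQ (baseOdd F) j) (v := vT c j) h2 hE.nd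
    (by rw [Q_vT]; exact hc) (fun d => exists_perp_vT h2 hodd hc d j) h hm
  obtain ⟨r, hr, hrb⟩ := trace_tower hψ h2 hM.1 (j + 1) U ρ _ sgn h hZ
  have hrb' : |r| ≤ (j : ℤ) + 2 := hrb.trans (by rw [hd]; linarith)
  haveI : Finite (siegelGroup (plane (TQ (baseOdd F) (j + 1)))) := finite_siegelGroup _
  haveI := hρ
  have hdvd := finrank_dvd_class_mul ρ _ _ hr
  have hv2 : TQ (baseOdd F) (j + 2) (vT c (j + 2)) = c := Q_vT c _
  have hcard := card_negRefl_class h2 hEj.nd P (v₀ := vT c (j + 2)) (by rw [hv2]; exact hc) hm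
  rw [hv2] at hcard
  have hlev := card_level_vT h2 hM.1 (j + 2)
  rw [← hcard] at hlev
  push_cast at hlev
  have hdvd2 := hdvd.mul_left 2
  have hdd : (finrank ℂ U : ℤ) = (Nat.card F : ℤ) ^ 2 * GS (Nat.card F : ℤ) (j + 1) := by
    rw [hd, ← TC_add]
    push_cast
    ring
  obtain ⟨hj0, hε, hr0⟩ := odd_excl (q := (Nat.card F : ℤ)) hq5 (by
      rcases hM.1 with ⟨-, rfl⟩ | ⟨-, rfl, -⟩ <;> simp) hsgn hεj hrb' (by
    rw [← hdd]
    refine hdvd2.trans (dvd_of_eq ?_)
    rw [← mul_assoc]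
    congr 1
    refine Eq.trans hlev ?_
    ring)
  subst hj0 hε hr0
  obtain ⟨rfl, -, hns⟩ : c = -1 ∧ True ∧ ¬ IsSquare (-1 : F) := by
    rcases hM.1 with ⟨-, h1⟩ | ⟨h1, -, h4⟩
    · norm_num at h1
    · exact ⟨h1, trivial, h4⟩
  refine trace_ne_three h2 hns hψ ρ h ?_ hm hZ ?_
  · rw [hd]
    simp
  · refine hr.trans ?_
    push_cast
    ring

/-- The bound for singular weights, in the tower. -/
def SingBdO (ψ : AddChar F ℂ) (j : ℕ) : Prop :=
  ∀ (U : Type) [AddCommGroup U] [Module ℂ U] [FiniteDimensional ℂ U]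
    (ρ : Representation ℂ (siegelGroup (plane (TQ (baseOdd F) (j + 1)))) U), Sing1 ρ ψ →
      TC (Nat.card F : ℤ) (j + 1) + ((j : ℤ) + 3) ≤ (finrank ℂ U : ℤ)

theorem singBdO (hψ : ψ.IsPrimitive) (h2 : (2 : F) ≠ 0) (hodd : Fintype.card F % 2 = 1)
    (h3 : 3 < Fintype.card F) : ∀ j, SingBdO ψ j
  | 0 => by
    classical
    intro U _ _ _ ρ h
    cases nonempty_fintype ((F × F) × (Unit → F))
    haveI : FiniteDimensional F ((F × F) × (Unit → F)) := Module.Finite.of_finite
    have hq5 := five_le_card hodd h3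
    set q : ℤ := (Nat.card F : ℤ) with hq
    have hE0 : OddForm (baseOdd F) 1 := oddForm_baseOdd h2
    have hE1 : OddForm (plane (baseOdd F)) 2 := hE0.plane
    obtain ⟨P⟩ := hE0.nonempty_frame
    obtain ⟨P'⟩ := hE1.nonempty_frame
    have he0 : (((1 : F), (0 : F)), (0 : (F × F) × (Unit → F))) ≠ 0 := by simp
    have htrans : ∀ a b : (F × F) × ((F × F) × (Unit → F)), a ≠ 0 → b ≠ 0 →
        plane (baseOdd F) a = 0 → plane (baseOdd F) b = 0 →
          ∃ g : siegelGroup (plane (baseOdd F)), g.1.1 a = b := fun a b ha hb hRa hRb =>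
      exists_siegel_map_level hE1.nd P ha hb (hRa.trans hRb.symm)
    obtain ⟨W, hW, hWs⟩ := exists_irreducible_sing1 (R := plane (baseOdd F)) hE1.nd P' htrans
      (Q_eVec (baseOdd F)) he0 hψ ρ h
    have hle : (finrank ℂ W.toSubmodule : ℤ) ≤ (finrank ℂ U : ℤ) := by
      exact_mod_cast Submodule.finrank_le W.toSubmodule
    refine le_trans ?_ hle
    have hd1 := finrank_eq_sing1 hE1.nd hψ _ hWs
    have hd2 := finrank_eq_sing1 hE0.nd hψ _ (sing1_fixedRep hE0.nd hψ _ hWs)
    have hm0 : (mult W.toRepresentation ψ 0 : ℤ) = (finrank ℂ (WS W.toRepresentation ψ 0) : ℤ) := rfl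
    rw [← hm0, hE0.card_zero] at hd2
    rw [hE1.card_zero] at hd1
    set b : ℤ := (mult (fixedRep W.toRepresentation ψ) ψ 0 : ℤ) with hb
    have hb0 : 0 ≤ b := Nat.cast_nonneg _
    have hT : TC q (0 + 1) = q ^ 4 + q ^ 2 - 2 := by simp [TC]; ring
    rw [hT]
    have hdd : (finrank ℂ W.toSubmodule : ℤ) = b + q ^ 4 + q ^ 2 - 2 := by
      rw [hd1, hd2]
      ring
    by_contra hlt
    push Not at hlt
    push_cast at hlt
    have hb3 : b ≤ 2 := by omega
    by_cases hb2 : b = 2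
    · exact odd_excl_sing1 hψ h2 hodd h3 0 W.toRepresentation hW hWs (by
        rw [hT]
        push_cast
        linarith)
    have hdiv := dvd_of_sing1 hE0.nd P' htrans hψ W.toRepresentation hW hWs
    rw [hE1.plane.card_zero, hE1.card_zero, hE0.card_zero, hE0.card_space, ← hq, hdd, hd2] at hdiv
    refine odd_base hq5 hb0 (by omega) ((dvd_of_eq ?_).trans (hdiv.trans (dvd_of_eq ?_)))
    · ring
    · push_cast
      ring
  | j + 1 => by
    classical
    intro U _ _ _ ρ h
    cases nonempty_fintype (TV F ((F × F) × (Unit → F)) (j + 1))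
    cases nonempty_fintype (TV F ((F × F) × (Unit → F)) (j + 2))
    haveI : FiniteDimensional F (TV F ((F × F) × (Unit → F)) (j + 2)) := Module.Finite.of_finite
    set q : ℤ := (Nat.card F : ℤ) with hq
    have hE0 := oddForm_TQ (F := F) h2 (j + 1)
    have hE1 : OddForm (plane (TQ (baseOdd F) (j + 1))) (j + 3) := hE0.plane
    obtain ⟨P⟩ := hE0.nonempty_frame
    obtain ⟨P'⟩ := hE1.nonempty_frame
    have he0 : (((1 : F), (0 : F)), (0 : TV F ((F × F) × (Unit → F)) (j + 1))) ≠ 0 := by simp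
    obtain ⟨W, hW, hWs⟩ := exists_irreducible_sing1 (R := plane (TQ (baseOdd F) (j + 1))) hE1.nd P'
      (fun a b ha hb hRa hRb => exists_siegel_map_level hE1.nd P ha hb (hRa.trans hRb.symm))
      (Q_eVec _) he0 hψ ρ h
    have hle : (finrank ℂ W.toSubmodule : ℤ) ≤ (finrank ℂ U : ℤ) := by
      exact_mod_cast Submodule.finrank_le W.toSubmodule
    refine le_trans ?_ hle
    have hd1 := finrank_eq_sing1 hE1.nd hψ _ hWs
    have hf := singBdO hψ h2 hodd h3 j _ (fixedRep W.toRepresentation ψ)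
      (sing1_fixedRep hE0.nd hψ _ hWs)
    have hm0 : (mult W.toRepresentation ψ 0 : ℤ) = (finrank ℂ (WS W.toRepresentation ψ 0) : ℤ) := rfl
    rw [← hm0, ← hq] at hf
    rw [hE1.card_zero, ← hq] at hd1
    have hT : TC q (j + 1 + 1) = TC q (j + 1) + (q ^ (2 * (j + 3)) - 1) := by rw [TC]
    by_contra hlt
    push Not at hlt
    rw [hT] at hlt
    push_cast at hlt
    refine odd_excl_sing1 hψ h2 hodd h3 (j + 1) W.toRepresentation hW hWs ?_
    rw [← hq, hT]
    push_cast
    omega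

/-- The bound for the odd tower. -/
theorem odd_bound (h2 : (2 : F) ≠ 0) (hodd : Fintype.card F % 2 = 1) (h3 : 3 < Fintype.card F)
    (i : ℕ) {k : ℕ}
    (ρ : Representation ℂ (siegelGroup (plane (TQ (baseOdd F) (i + 1)))) (Fin k → ℂ))
    (hρ : ρ.IsIrreducible) (hk : 2 ≤ k) :
    TC (Nat.card F : ℤ) (i + 1) + ((i : ℤ) + 3) ≤ (k : ℤ) := by
  classical
  obtain ⟨ψ, hψ⟩ := exists_primitive_char F
  cases nonempty_fintype (TV F ((F × F) × (Unit → F)) (i + 1))
  haveI : FiniteDimensional F (TV F ((F × F) × (Unit → F)) (i + 1)) := Module.Finite.of_finite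
  have hq5 := five_le_card hodd h3
  set q : ℤ := (Nat.card F : ℤ) with hqdef
  revert hρ
  revert ρ
  set R := TQ (baseOdd F) (i + 1) with hRdef
  intro ρ hρ
  have hR : OddForm R (i + 2) := oddForm_TQ h2 (i + 1)
  obtain ⟨P⟩ : Nonempty (Frame R) := (oddForm_TQ h2 i).nonempty_frame
  obtain ⟨P'⟩ := hR.nonempty_frame
  set u := q ^ (i + 2) with hu
  have huq : q ≤ u := le_self_pow₀ (by omega) (by omega)
  have hfin : (finrank ℂ (Fin k → ℂ) : ℤ) = k := by simp
  set T := TC q (i + 1) + ((i : ℤ) + 3) with hT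
  have hTmul : T * (q ^ 2 - 1) = q ^ 2 * (u * u) - 1 := by
    rw [hT, hu, show TC q (i + 1) + ((i : ℤ) + 3) = TC q (i + 1) + (((i + 1 : ℕ) : ℤ) + 2) by
      push_cast; ring, TC_mul]
    ring
  have harith : ∀ L : ℤ, L ≤ k → q ^ 2 * (u * u) - 1 ≤ L * (q ^ 2 - 1) → T ≤ k := fun L hL h =>
    (le_of_mul_le_mul_right (hTmul.trans_le h) (by nlinarith)).trans hL
  have hsum : ∀ (p : TV F ((F × F) × (Unit → F)) (i + 1) → Prop) (r : ℕ),
      (∀ y, p y → y ≠ 0) → (∀ y, p y → r ≤ mult ρ ψ y) → (r * Nat.card {y // p y} : ℤ) ≤ k := by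
    intro p r hp0 hpr
    have h := (Finset.sum_le_sum (s := Finset.univ.filter p) fun y hy =>
      hpr y (Finset.mem_filter.1 hy).2).trans (sum_mult_le hR.nd hψ ρ _)
    rw [Finset.sum_const, ← Fintype.card_subtype, ← Nat.card_eq_fintype_card, smul_eq_mul,
      Module.finrank_fin_fun, mul_comm] at h
    exact_mod_cast h
  have hlevel : ∀ c : F, c ≠ 0 → u * u - u ≤ (Nat.card {y // R y = c} : ℤ) := fun c hc => by
    refine le_trans (le_of_eq ?_) (hR.card_level c hc)
    rw [hu]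
    ring
  have hmeq : ∀ {x y : TV F ((F × F) × (Unit → F)) (i + 1)}, x ≠ 0 → y ≠ 0 → R x = R y →
      mult ρ ψ x = mult ρ ψ y := fun hx hy h => mult_eq_of_level hR.nd P ρ ψ hx hy h
  obtain ⟨s, ⟨w, rfl⟩, hw⟩ := exists_rep_ne_one ρ hρ hk _ (normalClosure_rad hR.nd P')
  obtain ⟨χ, hχ, hχW⟩ := exists_weight_ne_zero (resChar ρ (rad R)) (a := w) hw
  obtain ⟨x₀, rfl⟩ := (wchar_bijective hR.nd hψ).2 χ
  have hx₀ : x₀ ≠ 0 := fun h0 => hχ (by rw [h0, wchar_zero])
  have hx₀1 : 1 ≤ mult ρ ψ x₀ := one_le_finrank_of_ne_bot hχW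
  by_cases hns : ∃ x, x ≠ 0 ∧ R x ≠ 0 ∧ 1 ≤ mult ρ ψ x
  · obtain ⟨x, hx, hRx, hx1⟩ := hns
    set c := R x with hc
    set Sq : Finset F := (Finset.univ.erase 0).image (fun s : F => s * s * c) with hSq
    have hSq0 : ∀ d ∈ Sq, d ≠ 0 := fun d hd => by
      obtain ⟨s, hs, rfl⟩ := Finset.mem_image.1 hd
      exact mul_ne_zero (mul_ne_zero (Finset.ne_of_mem_erase hs) (Finset.ne_of_mem_erase hs)) hRx
    have hlow : ∀ y, R y ∈ Sq → 1 ≤ mult ρ ψ y := by
      intro y hy
      have hy0 : y ≠ 0 := fun h => hSq0 _ hy (by rw [h, QuadraticMap.map_zero])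
      obtain ⟨s, hs, hsy⟩ := Finset.mem_image.1 hy
      obtain ⟨z, hz0, hzR, hzm⟩ := exists_mult_scale hR.nd P' ρ ψ
        (inv_ne_zero (Finset.ne_of_mem_erase hs)) hx
      rw [inv_inv, ← hc, hsy] at hzR
      rw [← hmeq hz0 hy0 hzR]
      omega
    have hcard : (Sq.card : ℤ) * (u * u - u) ≤ (Nat.card {y // R y ∈ Sq} : ℤ) := by
      rw [Nat.card_eq_fintype_card, Fintype.card_subtype,
        Finset.card_eq_sum_card_fiberwise (f := fun y => R y) (t := Sq)
          (s := Finset.univ.filter fun y => R y ∈ Sq) (fun y hy => (Finset.mem_filter.1 hy).2),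
        Nat.cast_sum, ← nsmul_eq_mul]
      refine Finset.card_nsmul_le_sum _ _ _ fun d hd => ?_
      refine (hlevel d (hSq0 d hd)).trans (le_of_eq ?_)
      rw [Nat.card_eq_fintype_card, Fintype.card_subtype]
      congr 2
      ext y
      simp only [Finset.mem_filter, Finset.mem_univ, true_and]
      exact ⟨fun h => ⟨h ▸ hd, h⟩, fun h => h.2⟩
    have hhalf : q - 1 ≤ 2 * (Sq.card : ℤ) := by
      have h := Finset.card_le_mul_card_image (f := fun s : F => s * s * c)
        (Finset.univ.erase (0 : F)) 2 (fun d _ => by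
          have h2' := Polynomial.card_roots' (Polynomial.X ^ 2 - Polynomial.C (d / c))
          rw [Polynomial.natDegree_X_pow_sub_C] at h2'
          refine le_trans ?_ ((Multiset.toFinset_card_le _).trans h2')
          refine Finset.card_le_card fun s hs => ?_
          have hsd := (Finset.mem_filter.1 hs).2
          rw [Multiset.mem_toFinset, Polynomial.mem_roots']
          refine ⟨Polynomial.X_pow_sub_C_ne_zero (by norm_num) _, ?_⟩
          simp [← hsd, hRx, _root_.sq])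
      rw [Finset.card_erase_of_mem (Finset.mem_univ _), Finset.card_univ, ← hSq,
        ← Nat.card_eq_fintype_card] at h
      have h1 : 1 ≤ Nat.card F := Nat.card_pos
      rw [hqdef]
      omega
    have h := hsum (fun y => R y ∈ Sq) 1
      (fun y hy h => hSq0 _ hy (by rw [h, QuadraticMap.map_zero])) hlow
    rw [Nat.cast_one, one_mul] at h
    exact harith _ (hcard.trans h) (arith_level_odd hq5 huq hhalf le_rfl)
  · push Not at hns
    have hone : ∀ z, z ≠ 0 → mult ρ ψ z ≠ 0 → R z = 0 := fun z hz hm => by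
      by_contra hne
      have := hns z hz hne
      omega
    have hx₀R : R x₀ = 0 := hone x₀ hx₀ (by omega)
    by_cases h2m : 2 ≤ mult ρ ψ x₀
    · have h := hsum (fun z => R z = 0 ∧ z ≠ 0) 2 (fun z hz => hz.2) fun z hz => by
        rw [hmeq hz.2 hx₀ (hz.1.trans hx₀R.symm)]
        exact h2m
      have hsingc : (Nat.card {y // R y = 0 ∧ y ≠ 0} : ℤ) = u * u - 1 := by
        have h0 : Nat.card {y // R y = 0} = Nat.card {y // R y = 0 ∧ y ≠ 0} + 1 := by
          rw [Nat.card_eq_fintype_card, Nat.card_eq_fintype_card, Fintype.card_subtype,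
            Fintype.card_subtype, show (Finset.univ.filter fun y => R y = 0 ∧ y ≠ 0) =
              (Finset.univ.filter fun y => R y = 0).erase 0 by ext y; simp [and_comm],
            Finset.card_erase_add_one (by simp)]
        have h1 := hR.card_zero
        rw [h0, ← hqdef] at h1
        push_cast at h1
        rw [show u * u = q ^ (2 * (i + 2)) by rw [hu]; ring, ← h1]
        ring
      rw [hsingc] at h
      push_cast at h
      exact harith _ h (arith_sing_odd hq5 huq)
    · have hle1 : ∀ z, z ≠ 0 → mult ρ ψ z ≤ 1 := fun z hz => by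
        by_contra hcon
        have hzc := hone z hz (by omega)
        rw [hmeq hz hx₀ (hzc.trans hx₀R.symm)] at hcon
        omega
      have hM : MultEq ρ ψ singInd := fun z hz => by
        by_cases hzc : R z = 0
        · rw [hzc, singInd_zero, hmeq hz hx₀ (hzc.trans hx₀R.symm)]
          omega
        · rw [singInd_of_ne hzc]
          by_contra hne
          exact hzc (hone z hz hne)
      obtain ⟨s, hs0, hs1⟩ : ∃ s : F, s ≠ 0 ∧ s * s ≠ 1 := by
        obtain ⟨s, -, hs⟩ := Finset.exists_mem_notMem_of_card_lt_card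
          (s := ({0, 1, -1} : Finset F)) (t := Finset.univ)
          (lt_of_le_of_lt Finset.card_le_three (by rwa [Finset.card_univ]))
        simp only [Finset.mem_insert, Finset.mem_singleton, not_or] at hs
        exact ⟨s, hs.1, fun h => (mul_self_eq_one_iff.1 h).elim hs.2.1 hs.2.2⟩
      have hfix : FixProp ρ ψ := fixProp_of_le_one ρ ψ hle1 fun a w x ha hw hx hmx hax hwx =>
        siegel_mem_stab_commutator_odd h2 hR.nd P hs0 hs1 (hone x hx hmx) hx ha hw hax hwx
      have h := singBdO hψ h2 hodd h3 i _ ρ ⟨hM, hfix⟩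
      rwa [hfin] at h

end CfsgLib.MinDeg.OrthBd
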