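import Cfsg.Agent.Lib.MinDeg.OrthForm

/-!
# Siegel transformations inside the derived group of a point stabiliser
-/

set_option autoImplicit false

namespace CfsgLib.MinDeg.OrthBd

open QuadraticMap Module CfsgLib.Classical.Quad

universe u

variable {F : Type u} [Field F] {V : Type u} [AddCommGroup V] [Module F V]

/-- The stabiliser of `x` in the Siegel group. -/
def siegelStab (R : QuadraticForm F V) (x : V) : Subgroup (Orth R) where
  carrier := {g | g ∈ siegelGroup R ∧ g.1 x = x}
  mul_mem' {a b} ha hb := ⟨mul_mem ha.1 hb.1, by rw [mul_apply, hb.2, ha.2]⟩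
  one_mem' := ⟨one_mem _, rfl⟩
  inv_mem' {a} ha := ⟨inv_mem ha.1, by
    conv_lhs => rw [← ha.2]
    exact inv_apply_self a x⟩

/-- A hyperbolic pair, and two non-orthogonal vectors orthogonal to it. -/
def HasQuad (R : QuadraticForm F V) : Prop :=
  ∃ v v' y y' : V, IsHPair R v v' ∧ polar R y v = 0 ∧ polar R y v' = 0 ∧ polar R y' v = 0 ∧
    polar R y' v' = 0 ∧ polar R y y' ≠ 0

/-- The same inside the orthogonal complement of two vectors. -/
def RichPair (R : QuadraticForm F V) (x u : V) : Prop :=
  ∃ v v' y y' : V, (IsHPair R v v' ∧ polar R y v = 0 ∧ polar R y v' = 0 ∧ polar R y' v = 0 ∧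
    polar R y' v' = 0 ∧ polar R y y' ≠ 0) ∧
    (polar R v x = 0 ∧ polar R v' x = 0 ∧ polar R y x = 0 ∧ polar R y' x = 0) ∧
    (polar R v u = 0 ∧ polar R v' u = 0 ∧ polar R y u = 0 ∧ polar R y' u = 0)

/-- Two vectors spanning a non-degenerate plane that is not orthogonally decomposed by them. -/
def GoodPlane (R : QuadraticForm F V) (z y : V) : Prop :=
  R z ≠ 0 ∧ R y ≠ 0 ∧ polar R z y ≠ 0 ∧ 4 * (R z * R y) ≠ polar R z y * polar R z y

/-- The whole space is a good plane. -/
def IsGoodPlane (R : QuadraticForm F V) : Prop :=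
  ∃ z y : V, GoodPlane R z y ∧ ∀ w, ∃ c d : F, w = c • z + d • y

/-- A good plane complementary to `x` and `u` in their orthogonal complement. -/
def RichPlane (R : QuadraticForm F V) (x u : V) : Prop :=
  ∃ z y : V, GoodPlane R z y ∧ (polar R z x = 0 ∧ polar R y x = 0) ∧
    (polar R z u = 0 ∧ polar R y u = 0) ∧
    ∀ w, polar R w x = 0 → polar R w u = 0 → ∃ s t c d : F, w = s • u + t • x + c • z + d • y

section Kill

variable (R : QuadraticForm F V) (x u : V)

/-- The parameters `w` for which the transformation `T_{u,w}` is in the derived stabiliser. -/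
def Killed (w : V) : Prop :=
  ∃ (hu : R u = 0) (hw : polar R u w = 0), polar R w x = 0 ∧
    siegel R u w hu hw ∈ ⁅siegelStab R x, siegelStab R x⁆

variable {R x u}

theorem killed_add {w w' : V} (h : Killed R x u w) (h' : Killed R x u w') :
    Killed R x u (w + w') := by
  obtain ⟨hu, hw, hx, hm⟩ := h
  obtain ⟨_, hw', hx', hm'⟩ := h'
  refine ⟨hu, by rw [polar_add_right, hw, hw', add_zero], by
    rw [polar_add_left, hx, hx', add_zero], ?_⟩
  rw [← siegel_mul hu hw hw']
  exact mul_mem hm hm'

theorem killed_self (hu : R u = 0) (hux : polar R u x = 0) (c : F) : Killed R x u (c • u) := by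
  refine ⟨hu, by simp [polar_singular_self hu], by simp [hux], ?_⟩
  have h : siegel R u (c • u) hu (by simp [polar_singular_self hu]) = 1 := by
    rw [← siegel_zero (Q := R) hu, ← siegel_add_smul c hu (w := 0) (by simp)]
    exact siegel_congr _ _ _ _ rfl (by simp)
  rw [h]
  exact one_mem _

theorem siegel_mem_stab {v y : V} (hv : R v = 0) (hy : polar R v y = 0) (h1 : polar R v x = 0)
    (h2 : polar R y x = 0) : siegel R v y hv hy ∈ siegelStab R x :=
  ⟨siegel_mem hv hy, siegel_fix hv hy (by rw [polar_comm, h1]) (by rw [polar_comm, h2])⟩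

/-- Commutators with the stabiliser of `x` and `u`. -/
theorem killed_sub (hu : R u = 0) (hux : polar R u x = 0) {g : Orth R} (hg : g ∈ siegelStab R x)
    (hgu : g.1 u = u) {w : V} (hwu : polar R u w = 0) (hwx : polar R w x = 0) :
    Killed R x u (g.1 w - w) := by
  have h1 : polar R u (g.1 w) = 0 := by
    conv_lhs => rw [← hgu]
    rw [orth_polar, hwu]
  have h2 : polar R (g.1 w) x = 0 := by
    conv_lhs => rw [← hg.2]
    rw [orth_polar, hwx]
  refine ⟨hu, by rw [polar_sub_right, h1, hwu, sub_zero], by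
    rw [polar_sub_left, h2, hwx, sub_zero], ?_⟩
  have h := Subgroup.commutator_mem_commutator hg (siegel_mem_stab hu hwu hux hwx)
  rw [commutatorElement_def, siegel_conj, siegel_inv,
    siegel_congr _ _ hu h1 hgu rfl, siegel_mul] at h
  convert h using 1
  exact siegel_congr _ _ _ _ rfl (sub_eq_add_neg _ _)

theorem killed_of_richPair (hu : R u = 0) (hux : polar R u x = 0) (h : RichPair R x u) {w : V}
    (hwu : polar R u w = 0) (hwx : polar R w x = 0) : Killed R x u w := by
  obtain ⟨v, v', y, y', ⟨⟨hv, hv', hvv'⟩, hyv, hyv', hy'v, hy'v', hyy'⟩, ⟨hvx, hv'x, hyx, hy'x⟩,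
    hvu, hv'u, hyu, hy'u⟩ := h
  -- multiples of the members of a pair
  have key : ∀ {v : V}, R v = 0 → polar R v x = 0 → polar R v u = 0 → polar R y v = 0 →
      polar R y' v = 0 → ∀ c : F, Killed R x u (c • v) := by
    intro v hv hvx hvu hyv hy'v c
    have hvy : polar R v y = 0 := by rw [polar_comm, hyv]
    have hk := killed_sub hu hux (siegel_mem_stab hv hvy hvx hyx)
      (siegel_fix hv hvy (by rw [polar_comm, hvu]) (by rw [polar_comm, hyu]))
      (w := (-c / polar R y y') • y') (by simp [polar_comm R u y', hy'u])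
      (by simp [hy'x])
    convert hk using 1
    simp only [siegel_apply, polar_smul_left, hy'v, smul_eq_mul, mul_zero, sub_zero,
      polar_comm R y' y]
    rw [show -(-c / polar R y y' * polar R y y') = c by field_simp]
    module
  -- vectors orthogonal to the pair
  have perp : ∀ t : V, polar R t x = 0 → polar R t u = 0 → polar R t v = 0 → polar R t v' = 0 →
      Killed R x u t := by
    intro t htx htu htv htv'
    have hvt : polar R v t = 0 := by rw [polar_comm, htv]
    have hk := killed_sub hu hux (siegel_mem_stab hv hvt hvx htx)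
      (siegel_fix hv hvt (by rw [polar_comm, hvu]) (by rw [polar_comm, htu]))
      (w := v') (by rw [polar_comm, hv'u]) hv'x
    convert killed_add hk (key hv hvx hvu hyv hy'v (R t)) using 1
    rw [siegel_apply, polar_comm R v' v, hvv', polar_comm R v' t, htv']
    module
  have hw : w = (w + (-(polar R w v')) • v + (-(polar R w v)) • v') + polar R w v' • v
      + polar R w v • v' := by module
  rw [hw]
  refine killed_add (killed_add (perp _ ?_ ?_ ?_ ?_) (key hv hvx hvu hyv hy'v _))
    (key hv' hv'x hv'u hyv' hy'v' _)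
  · simp [hwx, hvx, hv'x]
  · simp [polar_comm R w u, hwu, hvu, hv'u]
  · simp [polar_singular_self hv, polar_comm R v' v, hvv']
  · simp [polar_singular_self hv', hvv']

theorem killed_of_richPlane [FiniteDimensional F V] (hnd : NDPolar R) (P : Frame R)
    (hu : R u = 0) (hx : R x = 0) (hux : polar R u x = 0) (h : RichPlane R x u) {w : V}
    (hwu : polar R u w = 0) (hwx : polar R w x = 0) : Killed R x u w := by
  obtain ⟨z, y, ⟨hz, hy, hzy, hdisc⟩, ⟨hzx, hyx⟩, ⟨hzu, hyu⟩, hspan⟩ := h
  have hxx := polar_singular_self hx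
  -- multiples of `x`
  have hX : ∀ c : F, Killed R x u (c • x) := by
    intro c
    have hxy : polar R x y = 0 := by rw [polar_comm, hyx]
    have hk := killed_sub hu hux (siegel_mem_stab hx hxy hxx hyx)
      (siegel_fix hx hxy hux (by rw [polar_comm, hyu]))
      (w := (-c / polar R z y) • z) (by simp [polar_comm R u z, hzu]) (by simp [hzx])
    convert hk using 1
    simp only [siegel_apply, polar_smul_left, hzx, smul_eq_mul, mul_zero, sub_zero]
    rw [show -(-c / polar R z y * polar R z y) = c by field_simp]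
    module
  -- the commutator of the two reflections
  set β := polar R z y with hβ
  set g : Orth R := refl R z * refl R y * refl R z * refl R y with hg
  have hgS : g ∈ siegelGroup R := by
    rw [← commutator_orth_eq hnd P]
    have h := Subgroup.commutator_mem_commutator (Subgroup.mem_top (refl R z))
      (Subgroup.mem_top (refl R y))
    rw [commutatorElement_def, refl_inv, refl_inv] at h
    exact h
  have hfix : ∀ t, polar R t z = 0 → polar R t y = 0 → g.1 t = t := fun t h1 h2 => by
    simp only [hg, mul_apply, refl_fix h1, refl_fix h2]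
  have hgx : g.1 x = x := hfix x (by rw [polar_comm, hzx]) (by rw [polar_comm, hyx])
  have hgu : g.1 u = u := hfix u (by rw [polar_comm, hzu]) (by rw [polar_comm, hyu])
  set s := β / R y with hs
  set t := β / R z with ht
  have hst : s * t * (4 - s * t) ≠ 0 := by
    refine mul_ne_zero (mul_ne_zero (div_ne_zero hzy hy) (div_ne_zero hzy hz)) fun h0 => hdisc ?_
    rw [hs, ht] at h0
    field_simp at h0
    linear_combination h0
  have hYz : (refl R y).1 z = z + (-s) • y := by rw [refl_apply]
  have hZy : (refl R z).1 y = y + (-t) • z := by rw [refl_apply, polar_comm R y z]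
  have hYy : (refl R y).1 y = -y := refl_self hy
  have hZz : (refl R z).1 z = -z := refl_self hz
  -- images of the plane
  have hd : ∀ a b : F, Killed R x u ((a * (s * t) + b * (2 * t)) • z
      + (-(a * (2 * s)) - b * (s * t)) • y) := by
    intro a b
    set w₀ : V := (refl R y).1 ((refl R z).1 (a • z + b • y)) with hw₀
    have hk := killed_sub hu hux ⟨hgS, hgx⟩ hgu (w := w₀)
      (by simp [hw₀, hYz, hZy, hYy, hZz, polar_comm R u z, hzu, polar_comm R u y, hyu])
      (by simp [hw₀, hYz, hZy, hYy, hZz, hzx, hyx])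
    convert hk using 1
    have e1 : g.1 w₀ = (refl R z).1 ((refl R y).1 (a • z + b • y)) := by
      simp only [hg, hw₀, mul_apply]
      rw [show (refl R y).1 ((refl R y).1 ((refl R z).1 (a • z + b • y))) =
        (refl R z).1 (a • z + b • y) from reflFun_reflFun y _,
        show (refl R z).1 ((refl R z).1 (a • z + b • y)) = a • z + b • y from reflFun_reflFun z _]
    rw [e1, hw₀]
    simp only [map_add, map_smul, map_neg, hYz, hZy, hYy, hZz]
    module
  have hP : ∀ c d : F, Killed R x u (c • z + d • y) := by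
    intro c d
    set a := (c * -(s * t) - d * (2 * t)) * (s * t * (4 - s * t))⁻¹ with ha
    set b := (c * (2 * s) + d * (s * t)) * (s * t * (4 - s * t))⁻¹ with hb
    convert hd a b using 1
    have hc1 := mul_inv_cancel₀ hst
    have e1 : c = a * (s * t) + b * (2 * t) := by
      rw [ha, hb]
      linear_combination (-c) * hc1
    have e2 : d = -(a * (2 * s)) - b * (s * t) := by
      rw [ha, hb]
      linear_combination (-d) * hc1
    rw [← e1, ← e2]
  obtain ⟨s', t', c, d, rfl⟩ := hspan w hwx (by rw [polar_comm, hwu])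
  rw [add_assoc]
  exact killed_add (killed_add (killed_self hu hux s') (hX t')) (hP c d)

end Kill

section Transport

variable {R : QuadraticForm F V}

theorem richPair_of_map (g : Orth R) {x u : V} (h : RichPair R (g.1 x) (g.1 u)) :
    RichPair R x u := by
  obtain ⟨v, v', y, y', ⟨hp, h1, h2, h3, h4, h5⟩, ⟨x1, x2, x3, x4⟩, u1, u2, u3, u4⟩ := h
  have hb : ∀ a t : V, polar R ((g⁻¹).1 a) t = polar R a (g.1 t) := fun a t => by
    rw [← orth_polar g, self_apply_inv]
  refine ⟨_, _, (g⁻¹).1 y, (g⁻¹).1 y', ⟨hp.map g⁻¹, ?_⟩, ⟨?_, ?_, ?_, ?_⟩, ?_, ?_, ?_, ?_⟩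
  · simp only [orth_polar]
    exact ⟨h1, h2, h3, h4, h5⟩
  all_goals rw [hb]; assumption

theorem richPlane_of_map (g : Orth R) {x u : V} (h : RichPlane R (g.1 x) (g.1 u)) :
    RichPlane R x u := by
  obtain ⟨z, y, ⟨g1, g2, g3, g4⟩, ⟨x1, x2⟩, ⟨u1, u2⟩, hspan⟩ := h
  have hb : ∀ a t : V, polar R ((g⁻¹).1 a) t = polar R a (g.1 t) := fun a t => by
    rw [← orth_polar g, self_apply_inv]
  refine ⟨(g⁻¹).1 z, (g⁻¹).1 y, ?_, ⟨by rw [hb, x1], by rw [hb, x2]⟩, ⟨by rw [hb, u1], by rw [hb, u2]⟩,
    fun w hwx hwu => ?_⟩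
  · simp only [GoodPlane, orth_polar, orth_Q]
    exact ⟨g1, g2, g3, g4⟩
  · obtain ⟨s, t, c, d, hw⟩ := hspan (g.1 w) (by rw [orth_polar, hwx]) (by rw [orth_polar, hwu])
    refine ⟨s, t, c, d, ?_⟩
    have := congrArg (g⁻¹).1 hw
    simpa [inv_apply_self] using this

theorem EvenForm.hasQuad [FiniteDimensional F V] {ε : ℤ} {m : ℕ} (h : EvenForm R ε m) :
    HasQuad R := by
  obtain ⟨u, z, a, ⟨hu, hz, huz⟩, hau, haz, ha⟩ := h.exists_pairA
  obtain ⟨t, ht⟩ := exists_polar_one h.nd (show a ≠ 0 from fun h0 => ha (by rw [h0]; simp))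
  refine ⟨u, z, a, t + (-(polar R t z)) • u + (-(polar R t u)) • z, ⟨hu, hz, huz⟩, hau, haz, ?_, ?_,
    ?_⟩
  · simp [polar_singular_self hu, polar_comm R z u, huz]
  · simp [polar_singular_self hz, huz]
  · simp [ht, hau, haz]

end Transport

section Cases

variable {W : Type u} [AddCommGroup W] [Module F W] [FiniteDimensional F W] {R₂ : QuadraticForm F W}

/-- The three configurations inside `plane (plane R₂)`. -/
theorem siegel_mem_commutator_stab {ε : ℤ} {m : ℕ} (h₁ : EvenForm (plane R₂) ε m)
    (h₂ : NDPolar R₂) (hB : HasQuad R₂ ∨ IsGoodPlane R₂) {u w x : (F × F) × ((F × F) × W)}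
    (hC : plane (plane R₂) x = 0 ∨ ∃ m', EvenForm R₂ ε m') (hu : plane (plane R₂) u = 0)
    (hw : polar (plane (plane R₂)) u w = 0) (hx0 : x ≠ 0)
    (hux : polar (plane (plane R₂)) u x = 0) (hwx : polar (plane (plane R₂)) w x = 0) :
    siegel (plane (plane R₂)) u w hu hw ∈
      ⁅siegelStab (plane (plane R₂)) x, siegelStab (plane (plane R₂)) x⁆ := by
  classical
  set R := plane (plane R₂) with hR
  have hnd : NDPolar R := ndPolar_plane h₁.nd
  obtain ⟨P⟩ := h₁.nonempty_frame
  suffices hk : Killed R x u w by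
    obtain ⟨_, _, _, hm⟩ := hk
    exact hm
  by_cases hu0 : u = 0
  · subst hu0
    refine ⟨hu, hw, hwx, ?_⟩
    have h : siegel R 0 w hu hw = 1 := orth_ext fun t => by simp [siegel_apply]
    rw [h]
    exact one_mem _
  have he : R ((1, 0), 0) = 0 := by simp [hR, plane_apply]
  have he0 : (((1 : F), (0 : F)), (0 : (F × F) × W)) ≠ 0 := by simp
  by_cases hx : R x = 0
  · obtain ⟨g, hg⟩ := exists_refl_singular hnd hx0 he0 hx he
    by_cases hdep : ∃ c : F, c • x = u
    · -- `u` is a multiple of `x`
      obtain ⟨c, hc⟩ := hdep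
      refine killed_of_richPair hu hux (richPair_of_map g ?_) hw hwx
      obtain ⟨v, v', y, y', hp, h1, h2, h3, h4, h5⟩ := h₁.hasQuad
      rw [← hc, map_smul, hg]
      refine ⟨(0, v), (0, v'), (0, y), (0, y'), ?_, ?_, ?_⟩
      · simp [IsHPair, hR, polar_plane, plane_apply] at hp h1 h2 h3 h4 h5 ⊢
        exact ⟨hp, h1, h2, h3, h4, h5⟩
      · simp [hR, polar_plane]
      · simp [hR, polar_plane]
    · -- `u` and `x` span a totally singular line
      push Not at hdep
      have h1 : polar R (g.1 u) ((1, 0), 0) = 0 := by rw [← hg, orth_polar, hux]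
      have hb : (g.1 u).1.2 = 0 := by simpa [hR, polar_plane] using h1
      have hq : plane R₂ (g.1 u).2 = 0 := by
        have h := (plane_apply (plane R₂) (g.1 u)).symm.trans ((orth_Q g u).trans hu)
        rw [hb] at h
        simpa using h
      have hu'0 : (g.1 u).2 ≠ 0 := by
        intro h0
        refine hdep (g.1 u).1.1 ?_
        apply g.1.injective
        rw [map_smul, hg]
        refine Prod.ext (Prod.ext ?_ ?_) ?_
        · simp
        · simp [hb]
        · simp [h0]
      obtain ⟨g', hg'⟩ := exists_refl_singular (ndPolar_plane h₂) hu'0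
        (show (((1 : F), (0 : F)), (0 : W)) ≠ 0 by simp) hq (by simp [plane_apply])
      let L : Orth R := ⟨(LinearEquiv.refl F (F × F)).prodCongr g'.1, fun t => by
        simp [hR, plane_apply (plane R₂), orth_Q]⟩
      set a := (g.1 u).1.1 with ha
      have hey : polar R ((1, 0), 0) ((0 : F × F), ((0, a), (0 : W))) = 0 := by
        simp [hR, polar_plane]
      set N := siegel R ((1, 0), 0) ((0 : F × F), ((0, a), (0 : W))) he hey * L * g with hN
      have hNx : N.1 x = ((1, 0), 0) := by
        simp only [hN, mul_apply, hg]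
        rw [show L.1 ((1, 0), 0) = ((1, 0), 0) from Prod.ext rfl (map_zero g'.1)]
        exact siegel_fix he hey (polar_singular_self he) hey
      have hNu : N.1 u = ((0, 0), ((1, 0), 0)) := by
        simp only [hN, mul_apply]
        rw [show L.1 (g.1 u) = ((a, 0), ((1, 0), 0)) from Prod.ext (Prod.ext ha.symm hb) hg']
        rw [siegel_apply]
        simp [hR, polar_plane, plane_apply, polar_zero_right]
      have hux' : R (N.1 u) = 0 := by rw [orth_Q, hu]
      rcases hB with ⟨v, v', y, y', hp, h1, h2, h3, h4, h5⟩ | ⟨z, y, hgp, hspan⟩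
      · refine killed_of_richPair hu hux (richPair_of_map N ?_) hw hwx
        rw [hNx, hNu]
        refine ⟨(0, (0, v)), (0, (0, v')), (0, (0, y)), (0, (0, y')), ?_, ?_, ?_⟩
        · simp [IsHPair, hR, polar_plane, plane_apply] at hp h1 h2 h3 h4 h5 ⊢
          exact ⟨hp, h1, h2, h3, h4, h5⟩
        · simp [hR, polar_plane]
        · simp [hR, polar_plane]
      · refine killed_of_richPlane hnd P hu hx hux (richPlane_of_map N ?_) hw hwx
        rw [hNx, hNu]
        refine ⟨(0, (0, z)), (0, (0, y)), ?_, ⟨by simp [hR, polar_plane], by simp [hR, polar_plane]⟩,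
          ⟨by simp [hR, polar_plane], by simp [hR, polar_plane]⟩, fun t htx htu => ?_⟩
        · simp [GoodPlane, hR, polar_plane, plane_apply] at hgp ⊢
          exact hgp
        · simp [hR, polar_plane] at htx htu
          obtain ⟨c, d, hcd⟩ := hspan t.2.2
          refine ⟨t.2.1.1, t.1.1, c, d, ?_⟩
          refine Prod.ext (Prod.ext ?_ ?_) (Prod.ext (Prod.ext ?_ ?_) ?_) <;>
            simp [htx, htu, hcd]
  · -- `x` is non-singular
    obtain ⟨m', h₂'⟩ := hC.resolve_left hx
    obtain ⟨P₁⟩ := h₂'.nonempty_frame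
    obtain ⟨f₀, hf1, hf2⟩ := exists_polar_pair hnd (not_smul_eq_of_indep hx0 (fun c hc => by
      have := congrArg R hc
      rw [QuadraticMap.map_smul, hu, smul_eq_mul] at this
      rcases mul_eq_zero.1 this with h | h
      · exact hu0 (by rw [← hc, mul_self_eq_zero.1 h, zero_smul])
      · exact hx h)) 1 0
    set f := f₀ + (-(R f₀)) • u with hf
    have hfp : IsHPair R u f := by
      refine ⟨hu, ?_, ?_⟩
      · rw [hf, Q_comb1, hu, polar_comm R f₀ u, hf1]
        ring
      · simp [hf, hf1, polar_singular_self hu]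
    have hfx : polar R x f = 0 := by simp [hf, hf2, polar_comm R x u, hux]
    have hstd : IsHPair R ((1, 0), 0) ((0, 1), 0) := ⟨he, by simp [hR, plane_apply],
      by simp [hR, polar_plane, polar_zero_right]⟩
    obtain ⟨g, hgu, hgf⟩ := exists_map_hpair hnd hfp hstd
    have hb : (g.1 x).1.2 = 0 := by
      have : polar R (g.1 x) ((1, 0), 0) = 0 := by rw [← hgu, orth_polar, polar_comm, hux]
      simpa [hR, polar_plane] using this
    have ha : (g.1 x).1.1 = 0 := by
      have : polar R (g.1 x) ((0, 1), 0) = 0 := by rw [← hgf, orth_polar, hfx]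
      simpa [hR, polar_plane, polar_zero_right] using this
    have hq : plane R₂ (g.1 x).2 ≠ 0 := by
      intro h0
      apply hx
      refine (orth_Q g x).symm.trans ((plane_apply (plane R₂) (g.1 x)).trans ?_)
      rw [hb, h0]
      ring
    obtain ⟨u₀, z₀, hp₀, hxz⟩ := exists_pair_of_nonsingular (ndPolar_plane h₂) P₁ hq
    obtain ⟨g', hg'u, hg'z⟩ := exists_map_hpair (ndPolar_plane h₂) hp₀
      (show IsHPair (plane R₂) ((1, 0), 0) ((0, 1), 0) from ⟨by simp [plane_apply],
        by simp [plane_apply], by simp [polar_plane, polar_zero_right]⟩)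
    let L : Orth R := ⟨(LinearEquiv.refl F (F × F)).prodCongr g'.1, fun t => by
      simp [hR, plane_apply (plane R₂), orth_Q]⟩
    set c := plane R₂ (g.1 x).2 with hc
    have hNx : (L * g).1 x = ((0, 0), ((c, 1), 0)) := by
      rw [mul_apply]
      refine Prod.ext (Prod.ext ha hb) ?_
      show g'.1 (g.1 x).2 = ((c, 1), 0)
      rw [hxz, map_add, map_smul, hg'u, hg'z]
      simp
    have hNu : (L * g).1 u = ((1, 0), 0) := by
      rw [mul_apply, hgu]
      exact Prod.ext rfl (map_zero g'.1)
    refine killed_of_richPair hu hux (richPair_of_map (L * g) ?_) hw hwx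
    rw [hNx, hNu]
    obtain ⟨v, v', y, y', hp, h1, h2, h3, h4, h5⟩ := h₂'.hasQuad
    refine ⟨(0, (0, v)), (0, (0, v')), (0, (0, y)), (0, (0, y')), ?_, ?_, ?_⟩
    · simp [IsHPair, hR, polar_plane, plane_apply] at hp h1 h2 h3 h4 h5 ⊢
      exact ⟨hp, h1, h2, h3, h4, h5⟩
    · simp [hR, polar_plane, polar_zero_right]
    · simp [hR, polar_plane, polar_zero_right]

end Cases

end CfsgLib.MinDeg.OrthBd
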