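import Cfsg.Agent.Lib.MinDeg.OrthForm
import Cfsg.Agent.Lib.MinDeg.OrthStab

/-!
# Odd dimensional orthogonal spaces: counts, and stabilisers of singular vectors
-/

set_option autoImplicit false

namespace CfsgLib.MinDeg.OrthBd

open QuadraticMap Module CfsgLib.Classical.Quad

universe u

section Count

variable {F : Type u} [Field F] {V : Type u} [AddCommGroup V] [Module F V]

theorem card_plane_level_pred [Finite F] [Finite V] (R : QuadraticForm F V) (c : F) (S : V → Prop) :
    (Nat.card {v : (F × F) × V // plane R v = c ∧ S v.2} : ℤ) =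
      Nat.card F * Nat.card {p : V // R p = c ∧ S p}
        + (Nat.card F - 1) * Nat.card {p : V // S p} := by
  classical
  cases nonempty_fintype F
  cases nonempty_fintype V
  let e : {v : (F × F) × V // plane R v = c ∧ S v.2} ≃
      (F × {p : V // R p = c ∧ S p}) ⊕ ({a : F // a ≠ 0} × {p : V // S p}) :=
    { toFun := fun v => if h : v.1.1.1 = 0 then Sum.inl (v.1.1.2, ⟨v.1.2, by
          have := v.2.1
          rw [plane_apply, h] at this
          simpa using this, v.2.2⟩)
        else Sum.inr (⟨v.1.1.1, h⟩, ⟨v.1.2, v.2.2⟩)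
      invFun := fun s => s.elim
        (fun y => ⟨((0, y.1), y.2.1), by simp [plane_apply, y.2.2.1], y.2.2.2⟩)
        (fun y => ⟨((y.1.1, (c - R y.2.1) / y.1.1), y.2.1), by
          rw [plane_apply]
          show y.1.1 * ((c - R y.2.1) / y.1.1) + R y.2.1 = c
          rw [mul_div_cancel₀ _ y.1.2]
          ring, y.2.2⟩)
      left_inv := fun v => by
        by_cases h : v.1.1.1 = 0
        · simp only [dif_pos h, Sum.elim_inl]
          exact Subtype.ext (Prod.ext (Prod.ext h.symm rfl) rfl)
        · simp only [dif_neg h, Sum.elim_inr]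
          refine Subtype.ext (Prod.ext (Prod.ext rfl ?_) rfl)
          have hv := v.2.1
          rw [plane_apply] at hv
          show (c - R v.1.2) / v.1.1.1 = v.1.1.2
          rw [div_eq_iff h]
          linear_combination -hv
      right_inv := fun s => by
        rcases s with y | y
        · simp
        · simp [y.1.2] }
  rw [Nat.card_congr e, Nat.card_sum, Nat.card_prod, Nat.card_prod]
  have h : Nat.card {a : F // a ≠ 0} = Nat.card F - 1 := by
    rw [Nat.card_eq_fintype_card, Nat.card_eq_fintype_card, Fintype.card_subtype_compl,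
      Fintype.card_subtype_eq]
  rw [h]
  push_cast [show 1 ≤ Nat.card F from Nat.card_pos]
  ring

end Count

/-- The invariants of a nondegenerate form on a space of dimension `2 * k + 1`, odd characteristic. -/
structure OddForm {F : Type u} [Field F] {V : Type u} [AddCommGroup V] [Module F V]
    (R : QuadraticForm F V) (k : ℕ) : Prop where
  two : (2 : F) ≠ 0
  nd : NDPolar R
  one_le : 1 ≤ k
  card_space : Nat.card V = Nat.card F ^ (2 * k + 1)
  card_zero : (Nat.card {v : V // R v = 0} : ℤ) = (Nat.card F : ℤ) ^ (2 * k)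
  card_level : ∀ c : F, c ≠ 0 → (Nat.card F : ℤ) ^ (2 * k) - (Nat.card F : ℤ) ^ k ≤
    (Nat.card {v : V // R v = c} : ℤ)
  exists_pairA : ∃ u z a : V, IsHPair R u z ∧ polar R a u = 0 ∧ polar R a z = 0 ∧ R a ≠ 0

section Forms

variable {F : Type u} [Field F] {V : Type u} [AddCommGroup V] [Module F V]
variable {R : QuadraticForm F V} {k : ℕ}

theorem OddForm.plane [Finite F] [Finite V] (h : OddForm R k) :
    OddForm (CfsgLib.Classical.Quad.plane R) (k + 1) := by
  refine ⟨h.two, ndPolar_plane h.nd, by omega, ?_, ?_, fun c hc => ?_, ?_⟩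
  · rw [card_plane_space, h.card_space, ← pow_add]
    ring_nf
  · rw [card_plane_level, h.card_zero, h.card_space]
    push_cast
    ring
  · rw [card_plane_level, h.card_space]
    have h1 := h.card_level c hc
    have hq : (1 : ℤ) ≤ (Nat.card F : ℤ) := by exact_mod_cast Nat.card_pos
    have h2 := mul_le_mul_of_nonneg_left h1 (show (0 : ℤ) ≤ Nat.card F by omega)
    push_cast
    linear_combination h2
  · obtain ⟨-, -, a, -, -, -, ha⟩ := h.exists_pairA
    refine ⟨((1, 0), 0), ((0, 1), 0), (0, a), ⟨by simp [plane_apply], by simp [plane_apply],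
      by simp [polar_plane, polar_zero_right]⟩, by simp [polar_plane, polar_zero_right],
      by simp [polar_plane, polar_zero_right], by simpa [plane_apply] using ha⟩

/-- The plane over an odd form has a frame with the plane as its first pair. -/
theorem OddForm.nonempty_frame (h : OddForm R k) :
    Nonempty (Frame (CfsgLib.Classical.Quad.plane R)) := by
  obtain ⟨u, z, a, hp, h1, h2, h3⟩ := h.exists_pairA
  exact ⟨{ e₁ := ((1, 0), 0)
           f₁ := ((0, 1), 0)
           e₂ := (0, u)
           f₂ := (0, z)
           a := (0, a)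
           pair₁ := ⟨by simp [plane_apply], by simp [plane_apply],
             by simp [polar_plane, polar_zero_right]⟩
           pair₂ := ⟨by simpa [plane_apply] using hp.1, by simpa [plane_apply] using hp.2.1,
             by simpa [polar_plane] using hp.2.2⟩
           e₁e₂ := by simp [polar_plane]
           e₁f₂ := by simp [polar_plane]
           f₁e₂ := by simp [polar_plane]
           f₁f₂ := by simp [polar_plane]
           ae₁ := by simp [polar_plane, polar_zero_right]
           af₁ := by simp [polar_plane, polar_zero_right]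
           ae₂ := by simpa [polar_plane] using h1
           af₂ := by simpa [polar_plane] using h2
           Qa := by simpa [plane_apply] using h3 }⟩

/-- The base of the odd tower. -/
def baseOdd (F : Type u) [Field F] : QuadraticForm F ((F × F) × (Unit → F)) :=
  CfsgLib.Classical.Quad.plane (lineForm F)

theorem isom_baseOdd : Isom (hypForm 1 (lineForm F)) (baseOdd F) :=
  (isom_hypForm_succ (lineForm F) 0).trans (isom_hypForm_zero _).plane

theorem card_lineForm_zero : Nat.card {w : Unit → F // lineForm F w = 0} = 1 := by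
  rw [Nat.card_eq_one_iff_unique]
  refine ⟨⟨fun x y => Subtype.ext (funext fun i => ?_)⟩, ⟨⟨0, QuadraticMap.map_zero _⟩⟩⟩
  have hx := x.2
  have hy := y.2
  rw [lineForm_apply, mul_self_eq_zero] at hx hy
  exact hx.trans hy.symm

theorem oddForm_baseOdd [Fintype F] (h2 : (2 : F) ≠ 0) : OddForm (baseOdd F) 1 := by
  have hu : Nat.card (Unit → F) = Nat.card F := by
    rw [Nat.card_fun, Nat.card_eq_fintype_card (α := Unit), Fintype.card_unit, pow_one]
  refine ⟨h2, ndPolar_plane (ndPolar_lineForm h2), le_rfl, ?_, ?_, fun c hc => ?_, ?_⟩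
  · rw [card_plane_space, hu]
    ring
  · rw [baseOdd, card_plane_level, card_lineForm_zero, hu]
    push_cast
    ring
  · rw [baseOdd, card_plane_level, hu]
    have : (0 : ℤ) ≤ (Nat.card F : ℤ) * (Nat.card {p : Unit → F // lineForm F p = c} : ℤ) := by
      positivity
    push_cast
    linear_combination this
  · exact ⟨((1, 0), 0), ((0, 1), 0), (0, 1), ⟨by simp [baseOdd, plane_apply],
      by simp [baseOdd, plane_apply], by simp [baseOdd, polar_plane, polar_zero_right]⟩,
      by simp [baseOdd, polar_plane, polar_zero_right],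
      by simp [baseOdd, polar_plane, polar_zero_right],
      by simp [baseOdd, plane_apply, lineForm_apply]⟩

theorem oddForm_TQ [Fintype F] (h2 : (2 : F) ≠ 0) :
    ∀ j, OddForm (TQ (baseOdd F) j) (j + 1)
  | 0 => oddForm_baseOdd h2
  | j + 1 => (oddForm_TQ h2 j).plane

end Forms

section Kill

variable {F : Type u} [Field F] {V : Type u} [AddCommGroup V] [Module F V] {R : QuadraticForm F V}

/-- Commutators with elements scaling `u`. -/
theorem killed_sub_smul {x u : V} (hu : R u = 0) (hux : polar R u x = 0) {g : Orth R}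
    (hg : g ∈ siegelStab R x) {a : F} (hgu : g.1 u = a • u) (ha : a ≠ 0) {w : V}
    (hwu : polar R u w = 0) (hwx : polar R w x = 0) : Killed R x u (a • g.1 w - w) := by
  have h1 : polar R u (g.1 w) = 0 := by
    have h := orth_polar g u w
    rw [hgu, hwu, polar_smul_left, smul_eq_mul, mul_eq_zero] at h
    exact h.resolve_left ha
  have h2 : polar R (g.1 w) x = 0 := by
    conv_lhs => rw [← hg.2]
    rw [orth_polar, hwx]
  refine ⟨hu, by rw [polar_sub_right, polar_smul_right, h1, hwu, smul_zero, sub_zero], by
    rw [polar_sub_left, polar_smul_left, h2, hwx, smul_zero, sub_zero], ?_⟩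
  have h := Subgroup.commutator_mem_commutator hg (siegel_mem_stab hu hwu hux hwx)
  rw [commutatorElement_def, siegel_conj, siegel_inv,
    siegel_congr (u' := a • u) (w' := g.1 w) _ _ (by simp [QuadraticMap.map_smul, hu])
      (by simp [h1]) hgu rfl, siegel_smul_left a hu h1, siegel_mul] at h
  convert h using 1
  exact siegel_congr _ _ _ _ rfl (sub_eq_add_neg _ _)

variable [FiniteDimensional F V]

/-- The product of the reflections in two vectors of equal norm, up to squares. -/
theorem refl_mul_refl_mem (hnd : NDPolar R) (P : Frame R) {v w : V} {s : F} (hs : s ≠ 0)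
    (h : R v = s * s * R w) : refl R v * refl R w ∈ siegelGroup R := by
  rw [← QuotientGroup.eq_one_iff, ← QuotientGroup.mk'_apply, map_mul, reflClass_eq hnd P,
    reflClass_eq hnd P, h, reflClass_sq hnd P hs, reflClass_mul_self]

/-- Singular weights in odd characteristic. -/
theorem siegel_mem_stab_commutator_odd (h2 : (2 : F) ≠ 0) (hnd : NDPolar R) (P : Frame R) {s : F}
    (hs : s ≠ 0) (hs1 : s * s ≠ 1) {u w x : V} (hx : R x = 0) (hx0 : x ≠ 0) (hu : R u = 0)
    (hw : polar R u w = 0) (hux : polar R u x = 0) (hwx : polar R w x = 0) :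
    siegel R u w hu hw ∈ ⁅siegelStab R x, siegelStab R x⁆ := by
  suffices hk : Killed R x u w by
    obtain ⟨_, _, _, hm⟩ := hk
    exact hm
  by_cases hdep : ∃ c : F, c • x = u
  · obtain ⟨c, hc⟩ := hdep
    obtain ⟨g, -, hg⟩ := siegelGroup_to_e₁ hnd P hx hx0
    refine killed_of_richPair hu hux (richPair_of_map g ?_) hw hwx
    rw [← hc, map_smul, hg]
    have haa : polar R P.a P.a ≠ 0 := by
      rw [polar_self']
      exact mul_ne_zero h2 P.Qa
    have h1 : polar R P.e₂ P.e₁ = 0 := by rw [polar_comm, P.e₁e₂]
    have h3 : polar R P.f₂ P.e₁ = 0 := by rw [polar_comm, P.e₁f₂]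
    exact ⟨P.e₂, P.f₂, P.a, P.a, ⟨P.pair₂, P.ae₂, P.af₂, P.ae₂, P.af₂, haa⟩,
      ⟨h1, h3, P.ae₁, P.ae₁⟩, by simp [h1], by simp [h3], by simp [P.ae₁], by simp [P.ae₁]⟩
  · push Not at hdep
    by_cases hu0 : u = 0
    · subst hu0
      refine ⟨hu, hw, hwx, ?_⟩
      have h : siegel R 0 w hu hw = 1 := orth_ext fun t => by simp [siegel_apply]
      rw [h]
      exact one_mem _
    obtain ⟨f₀, hf1, hf2⟩ := exists_polar_pair hnd (not_smul_eq_of_indep hx0 hdep) 1 0
    set f := f₀ + (-(R f₀)) • u with hf
    have hfQ : R f = 0 := by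
      rw [hf, Q_comb1, hu, polar_comm R f₀ u, hf1]
      ring
    have huf : polar R u f = 1 := by simp [hf, hf1, polar_singular_self hu]
    have hfx : polar R x f = 0 := by simp [hf, hf2, polar_comm R x u, hux]
    set v₁ := u + f with hv₁
    set v₂ := u + (s * s) • f with hv₂
    have hQ1 : R v₁ = 1 := by simp [hv₁, QuadraticMap.map_add R, hu, hfQ, huf]
    have hQ2 : R v₂ = s * s := by
      simp [hv₂, QuadraticMap.map_add R, QuadraticMap.map_smul, hu, hfQ, huf]
    set g := refl R v₁ * refl R v₂ with hg
    have hgm : g ∈ siegelGroup R :=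
      refl_mul_refl_mem hnd P (inv_ne_zero hs) (by rw [hQ1, hQ2]; field_simp)
    have hfix : ∀ t, polar R t u = 0 → polar R t f = 0 → g.1 t = t := fun t h1 h2 => by
      rw [hg, mul_apply, refl_fix (v := v₂) (x := t) (by simp [hv₂, h1, h2]),
        refl_fix (v := v₁) (x := t) (by simp [hv₁, h1, h2])]
    have hgu : g.1 u = (s * s) • u := by
      have e1 : (refl R v₂).1 u = -((s * s) • f) := by
        rw [refl_apply, hQ2, hv₂, polar_add_right, polar_smul_right, polar_singular_self hu, huf,
          smul_eq_mul, mul_one, zero_add, div_self (mul_ne_zero hs hs)]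
        module
      have e2 : (refl R v₁).1 f = -u := by
        rw [refl_apply, hQ1, hv₁, polar_add_right, polar_comm R f u, huf,
          polar_singular_self hfQ, add_zero, div_one]
        module
      rw [hg, mul_apply, e1, map_neg, map_smul, e2]
      module
    have hgx : g ∈ siegelStab R x :=
      ⟨hgm, hfix x (by rw [polar_comm, hux]) hfx⟩
    set α := polar R w f with hα
    set w' := w + (-α) • u with hw'
    have hw'u : polar R w' u = 0 := by
      simp [hw', polar_comm R w u, hw, polar_singular_self hu]
    have hw'f : polar R w' f = 0 := by simp [hw', huf, hα]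
    have hw'x : polar R w' x = 0 := by simp [hw', hwx, hux]
    have hk := killed_sub_smul hu hux hgx hgu (mul_ne_zero hs hs) (w := (s * s - 1)⁻¹ • w')
      (by simp [polar_comm R u w', hw'u]) (by simp [hw'x])
    rw [map_smul, hfix w' hw'u hw'f, smul_smul, ← sub_smul, ← sub_one_mul,
      mul_inv_cancel₀ (sub_ne_zero.2 hs1), one_smul] at hk
    convert killed_add hk (killed_self hu hux α) using 1
    rw [hw']
    module

end Kill

end CfsgLib.MinDeg.OrthBd
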