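import Cfsg.Agent.Lib.MinDeg.OrthOddTrace
import Cfsg.Agent.Lib.Classical.Quad.Std

/-!
# The involution minus a reflection: membership, class and weights
-/

set_option autoImplicit false

namespace CfsgLib.MinDeg.OrthBd

open QuadraticMap Module CfsgLib.Classical.Quad

universe u v

section General

variable {F : Type u} [Field F] {V : Type u} [AddCommGroup V] [Module F V]

/-- Minus the reflection in `v`. -/
noncomputable def negRefl (Q : QuadraticForm F V) (v : V) : Orth Q := negOne Q * refl Q v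

theorem negRefl_apply (Q : QuadraticForm F V) (v x : V) :
    (negRefl Q v).1 x = -((refl Q v).1 x) := rfl

theorem negRefl_mul_self (Q : QuadraticForm F V) (v : V) : negRefl Q v * negRefl Q v = 1 := by
  refine orth_ext fun x => ?_
  rw [mul_apply, negRefl_apply, negRefl_apply, map_neg, neg_neg, one_apply]
  exact reflFun_reflFun v x

theorem negRefl_conj (Q : QuadraticForm F V) (g : Orth Q) (v : V) :
    g * negRefl Q v * g⁻¹ = negRefl Q (g.1 v) := by
  refine orth_ext fun x => ?_
  rw [mul_apply, mul_apply, negRefl_apply, negRefl_apply, map_neg, ← refl_conj]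
  rfl

theorem negRefl_comm (Q : QuadraticForm F V) (g : Orth Q) (v : V) :
    negRefl Q v * g = refl Q v * g * (refl Q v)⁻¹ * negRefl Q v := by
  refine orth_ext fun x => ?_
  have h : ∀ y, ((refl Q v)⁻¹).1 y = (refl Q v).1 y := fun y => by rw [refl_inv]
  simp only [mul_apply, negRefl_apply, h, map_neg]
  rw [show (refl Q v).1 ((refl Q v).1 x) = x from reflFun_reflFun v x]

variable (R : QuadraticForm F V)

theorem negRefl_plane (h2 : (2 : F) ≠ 0) (v : V) :
    negRefl (plane R) (0, v) = liftOrth R (negRefl R v) *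
      (refl (plane R) ((1, 1), 0) * refl (plane R) ((1, -1), 0)) := by
  refine orth_ext fun x => ?_
  have h1 : (refl (plane R) ((1, 1), 0)).1 ((refl (plane R) ((1, -1), 0)).1 x) =
      ((-x.1.1, -x.1.2), x.2) := by
    simp [refl_apply, polar_plane, plane_apply, polar_zero_right]
    ext <;> simp
    all_goals field_simp; ring
  rw [negRefl_apply, mul_apply, mul_apply, h1, liftOrth_apply, negRefl_apply, ← liftOrth_refl,
    liftOrth_apply]
  refine Prod.ext ?_ ?_ <;> simp
  exact Prod.ext rfl rfl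

/-- The passage of classes to the plane. -/
noncomputable def quotLift :
    Orth R ⧸ siegelGroup R →* Orth (plane R) ⧸ siegelGroup (plane R) :=
  QuotientGroup.map _ _ (liftOrth R) fun _ hg => liftOrth_mem R hg

variable [FiniteDimensional F V]

theorem quotLift_reflClass (hnd : NDPolar R) (P : Frame (plane R)) (Q : Frame R) (c : F) :
    quotLift R (reflClass Q c) = reflClass P c := by
  show QuotientGroup.mk' (siegelGroup (plane R)) (liftOrth R (refl R (Q.f₁ + c • Q.e₁))) = _
  rw [liftOrth_refl, reflClass_eq (ndPolar_plane hnd) P, plane_apply]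
  congr 1
  simp [Q_f₁_add]

omit [FiniteDimensional F V] in
theorem refl_eq_refl {Q : QuadraticForm F V} {v w : V} (hv : Q v ≠ 0) (h : Q v = Q w)
    (he : refl Q v = refl Q w) (h2 : (2 : F) ≠ 0) : w = v ∨ w = -v := by
  have h1 : (refl Q w).1 v = -v := by rw [← he, refl_self hv]
  rw [refl_apply] at h1
  set k := polar Q v w / Q w with hk
  have hv2 : (2 : F) • v = k • w := by linear_combination (norm := module) h1
  have hQ := congrArg Q hv2
  rw [QuadraticMap.map_smul, QuadraticMap.map_smul, smul_eq_mul, smul_eq_mul, ← h] at hQ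
  have hkk := mul_right_cancel₀ hv hQ
  rcases mul_self_eq_mul_self_iff.1 hkk with h3 | h3
  · left
    rw [← h3] at hv2
    exact (smul_right_injective V h2 hv2).symm
  · right
    have hk' : k = -2 := by rw [h3, neg_neg]
    rw [hk', neg_smul, ← smul_neg] at hv2
    have h6 : v = -w := smul_right_injective V h2 hv2
    rw [h6, neg_neg]

end General

section Member

variable {F : Type u} [Field F] [Fintype F]

omit [Fintype F] in
theorem negRefl_base (h2 : (2 : F) ≠ 0) {c : F} (hc : c ≠ 0) :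
    negRefl (baseOdd F) ((1, c), 0) =
      refl (baseOdd F) (0, fun _ => 1) * refl (baseOdd F) ((1, -c), 0) := by
  refine orth_ext fun x => ?_
  obtain ⟨⟨a, b⟩, t⟩ := x
  rw [negRefl_apply, mul_apply]
  simp [baseOdd, refl_apply, polar_plane, plane_apply, polar_zero_right, lineForm_apply, polar]
  refine ⟨⟨?_, ?_⟩, funext fun u => ?_⟩
  · field_simp; ring
  · field_simp; ring
  · simp
    ring

/-- The class of minus the mirror reflection. -/
theorem class_negRefl_vT (h2 : (2 : F) ≠ 0) {c : F} (hc : c ≠ 0) :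
    ∀ (i : ℕ) (P : Frame (TQ (baseOdd F) (i + 1))),
      QuotientGroup.mk' (siegelGroup (TQ (baseOdd F) (i + 1)))
          (negRefl (TQ (baseOdd F) (i + 1)) (vT c (i + 1))) =
        reflClass P 1 * reflClass P (-c) * (reflClass P 1 * reflClass P (-1)) ^ (i + 1)
  | 0, P => by
    have hE := oddForm_TQ h2 1
    show QuotientGroup.mk' (siegelGroup (plane (baseOdd F)))
      (negRefl (plane (baseOdd F)) ((0 : F × F), ((1, c), 0))) = _
    rw [negRefl_plane (baseOdd F) h2, negRefl_base h2 hc, map_mul (liftOrth (baseOdd F)),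
      liftOrth_refl, liftOrth_refl, map_mul, map_mul, map_mul, pow_one]
    have hnd : NDPolar (plane (baseOdd F)) := hE.nd
    rw [reflClass_eq hnd P, reflClass_eq hnd P, reflClass_eq hnd P, reflClass_eq hnd P]
    congr 2 <;> congr 1 <;> simp [baseOdd, plane_apply, lineForm_apply]
  | i + 1, P => by
    have hE := oddForm_TQ h2 (i + 1)
    obtain ⟨P₀⟩ := (oddForm_TQ h2 i).nonempty_frame
    have ih := class_negRefl_vT h2 hc i P₀
    haveI : FiniteDimensional F (TV F ((F × F) × (Unit → F)) (i + 1)) := Module.Finite.of_finite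
    show QuotientGroup.mk' (siegelGroup (plane (TQ (baseOdd F) (i + 1))))
      (negRefl (plane (TQ (baseOdd F) (i + 1))) ((0 : F × F), vT c (i + 1))) = _
    have hnd : NDPolar (plane (TQ (baseOdd F) (i + 1))) := hE.plane.nd
    have hq : QuotientGroup.mk' (siegelGroup (plane (TQ (baseOdd F) (i + 1))))
        (liftOrth _ (negRefl _ (vT c (i + 1)))) =
          quotLift _ (QuotientGroup.mk' (siegelGroup (TQ (baseOdd F) (i + 1)))
            (negRefl _ (vT c (i + 1)))) := rfl
    rw [negRefl_plane _ h2, map_mul, map_mul, hq, ih, map_mul, map_mul, map_pow, map_mul,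
      quotLift_reflClass _ hE.nd P P₀, quotLift_reflClass _ hE.nd P P₀,
      quotLift_reflClass _ hE.nd P P₀, reflClass_eq hnd P, reflClass_eq hnd P, pow_succ _ (i + 1),
      ← mul_assoc (reflClass P 1 * reflClass P (-c))]
    congr 2 <;> congr 1 <;> simp [plane_apply]

/-- The choice of the mirror. -/
def MirrorAt (c : F) (ε : ℤ) (i : ℕ) : Prop :=
  Mirror c ε ∧ (c = -1 → Even i) ∧ (c = 1 → IsSquare (-1 : F) ∨ Odd i)

omit [Fintype F] in
theorem exists_mirrorAt (h2 : (2 : F) ≠ 0) (i : ℕ) :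
    ∃ (c : F) (ε : ℤ), MirrorAt c ε i ∧ (ε = -1 → Even i) := by
  have hne : (1 : F) ≠ -1 := fun h => h2 (by linear_combination h)
  by_cases h : Even i ∧ ¬ IsSquare (-1 : F)
  · exact ⟨-1, -1, ⟨Or.inr ⟨rfl, rfl, h.2⟩, fun _ => h.1, fun hc => absurd hc.symm hne⟩, fun _ => h.1⟩
  · refine ⟨1, 1, ⟨Or.inl ⟨rfl, rfl⟩, fun hc => absurd hc hne, fun _ => ?_⟩,
      fun hc => by norm_num at hc⟩
    by_cases hs : IsSquare (-1 : F)
    · exact Or.inl hs
    · exact Or.inr (Nat.not_even_iff_odd.1 fun hi => h ⟨hi, hs⟩)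

/-- Minus the mirror reflection lies in the Siegel group. -/
theorem negRefl_mem (h2 : (2 : F) ≠ 0) {c : F} {ε : ℤ} {i : ℕ} (h : MirrorAt c ε i) :
    negRefl (TQ (baseOdd F) (i + 2)) (vT c (i + 2)) ∈ siegelGroup (TQ (baseOdd F) (i + 2)) := by
  obtain ⟨P⟩ : Nonempty (Frame (TQ (baseOdd F) (i + 1 + 1))) :=
    (oddForm_TQ h2 (i + 1)).nonempty_frame
  have hnd : NDPolar (TQ (baseOdd F) (i + 1 + 1)) := (oddForm_TQ h2 (i + 1 + 1)).nd
  haveI : FiniteDimensional F (TV F ((F × F) × (Unit → F)) (i + 2)) := Module.Finite.of_finite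
  rw [← QuotientGroup.eq_one_iff, ← QuotientGroup.mk'_apply,
    class_negRefl_vT h2 h.1.ne_zero (i + 1) P]
  set A := reflClass P 1 with hA
  set B := reflClass P (-1) with hB
  have hAA : A * A = 1 := reflClass_mul_self P 1
  have hAB : (A * B) * (A * B) = 1 := by
    rw [mul_assoc, ← mul_assoc B A B, reflClass_comm hnd P (-1) 1, mul_assoc A B B, hB,
      reflClass_mul_self, mul_one, hAA]
  have hev : ∀ n, Even n → (A * B) ^ n = 1 := by
    rintro n ⟨k, rfl⟩
    rw [← two_mul, pow_mul, _root_.sq, hAB, one_pow]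
  rcases h.1 with ⟨rfl, -⟩ | ⟨rfl, -, -⟩
  · rcases h.2.2 rfl with ⟨s, hs⟩ | ⟨k, hk⟩
    · have hs0 : s ≠ 0 := fun h0 => by simp [h0] at hs
      have hBA : B = A := by
        rw [hB, hA, ← reflClass_sq hnd P hs0 1, mul_one, ← hs]
      rw [← hB, hBA, hAA, one_pow, one_mul]
    · rw [← hB, ← pow_succ' (A * B), hev _ ⟨k + 2, by omega⟩]
  · obtain ⟨k, hk⟩ := h.2.1 rfl
    rw [neg_neg, ← hA, hAA, one_mul, hev _ ⟨k + 1, by omega⟩]

/-- The number of vectors of the mirror's value. -/
theorem card_level_vT (h2 : (2 : F) ≠ 0) {c : F} {ε : ℤ} (h : Mirror c ε) : ∀ i,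
    (Nat.card {v : TV F ((F × F) × (Unit → F)) i // TQ (baseOdd F) i v = c} : ℤ) =
      (Nat.card F : ℤ) ^ (2 * (i + 1)) + ε * (Nat.card F : ℤ) ^ (i + 1)
  | 0 => by
    classical
    show (Nat.card {v : (F × F) × (Unit → F) // plane (lineForm F) v = c} : ℤ) = _
    have hu : Nat.card (Unit → F) = Nat.card F := by
      rw [Nat.card_fun, Nat.card_eq_fintype_card (α := Unit), Fintype.card_unit, pow_one]
    rw [card_plane_level, hu]
    rcases h with ⟨rfl, rfl⟩ | ⟨rfl, rfl, hns⟩
    · have h1 : Nat.card {p : Unit → F // lineForm F p = 1} = 2 := by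
        refine Nat.card_eq_two_iff.2 ⟨⟨fun _ => 1, by simp [lineForm_apply]⟩,
          ⟨fun _ => -1, by simp [lineForm_apply]⟩, fun he => ?_, Set.eq_univ_of_forall fun p => ?_⟩
        · have h3 : (1 : F) = -1 := congrFun (congrArg Subtype.val he) ()
          exact h2 (by linear_combination h3)
        · have hp := p.2
          rw [lineForm_apply, mul_self_eq_one_iff] at hp
          rcases hp with hp | hp
          · exact Or.inl (Subtype.ext (funext fun _ => by simpa using hp))
          · exact Or.inr (Subtype.ext (funext fun _ => by simpa using hp))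
      rw [h1]
      push_cast
      ring
    · have h1 : Nat.card {p : Unit → F // lineForm F p = -1} = 0 :=
        @Nat.card_of_isEmpty _ ⟨fun p => hns ⟨p.1 (), by
          have hp := p.2
          rw [lineForm_apply] at hp
          exact hp.symm⟩⟩
      rw [h1]
      push_cast
      ring
  | i + 1 => by
    show (Nat.card {v : (F × F) × TV F ((F × F) × (Unit → F)) i //
      plane (TQ (baseOdd F) i) v = c} : ℤ) = _
    rw [card_plane_level, card_level_vT h2 h i, (oddForm_TQ h2 i).card_space]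
    push_cast
    ring

/-- Vectors orthogonal to the mirror take all values. -/
theorem exists_perp_vT (h2 : (2 : F) ≠ 0) (hodd : Fintype.card F % 2 = 1) {c : F} (hc : c ≠ 0)
    (d : F) : ∀ i, ∃ p : TV F ((F × F) × (Unit → F)) i,
      TQ (baseOdd F) i p = d ∧ polar (TQ (baseOdd F) i) p (vT c i) = 0
  | 0 => by
    obtain ⟨a, b, hab⟩ := FiniteField.exists_root_sum_quadratic
      (f := Polynomial.C (-c) * Polynomial.X ^ 2) (g := Polynomial.X ^ 2 - Polynomial.C d)
      (Polynomial.degree_C_mul_X_pow 2 (neg_ne_zero.2 hc))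
      (Polynomial.degree_X_pow_sub_C (by norm_num) d) hodd
    simp at hab
    refine ⟨((a, -(c * a)), fun _ => b), ?_, ?_⟩
    · show baseOdd F ((a, -(c * a)), fun _ => b) = d
      simp [baseOdd, plane_apply, lineForm_apply]
      linear_combination hab
    · show polar (baseOdd F) ((a, -(c * a)), fun _ => b) ((1, c), 0) = 0
      simp [baseOdd, polar_plane, polar_zero_right]
      ring
  | i + 1 => ⟨((d, 1), 0), by
      show plane (TQ (baseOdd F) i) ((d, 1), 0) = d
      simp [plane_apply], by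
      show polar (plane (TQ (baseOdd F) i)) ((d, 1), 0) ((0 : F × F), vT c i) = 0
      simp [polar_plane, polar_zero_left]⟩

end Member

section Class

variable {F : Type u} [Field F] [Fintype F] {V : Type u} [AddCommGroup V] [Module F V] [Finite V]
variable {Q : QuadraticForm F V}

/-- The order of the class of minus a reflection. -/
theorem card_negRefl_class (h2 : (2 : F) ≠ 0) (hnd : NDPolar Q) (P : Frame Q) {v₀ : V}
    (hv : Q v₀ ≠ 0) (hm : negRefl Q v₀ ∈ siegelGroup Q) :
    2 * Nat.card {g : siegelGroup Q // IsConj (⟨negRefl Q v₀, hm⟩ : siegelGroup Q) g} =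
      Nat.card {v : V // Q v = Q v₀} := by
  classical
  haveI : FiniteDimensional F V := Module.Finite.of_finite
  haveI := finite_siegelGroup Q
  cases nonempty_fintype V
  cases nonempty_fintype {g : siegelGroup Q // IsConj (⟨negRefl Q v₀, hm⟩ : siegelGroup Q) g}
  set z : siegelGroup Q := ⟨negRefl Q v₀, hm⟩
  have hv0 : v₀ ≠ 0 := fun h => hv (by rw [h, QuadraticMap.map_zero])
  have hne : ∀ w : {v : V // Q v = Q v₀}, w.1 ≠ 0 := fun w h =>
    hv (by rw [← w.2, h, QuadraticMap.map_zero])
  choose g hg using fun w : {v : V // Q v = Q v₀} =>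
    exists_siegel_map_level hnd P hv0 (hne w) w.2.symm
  let Φ : {v : V // Q v = Q v₀} → {x : siegelGroup Q // IsConj z x} := fun w =>
    ⟨g w * z * (g w)⁻¹, isConj_iff.2 ⟨g w, rfl⟩⟩
  have hΦ : ∀ w, (Φ w).1.1 = negRefl Q w.1 := fun w => by
    show (g w).1 * negRefl Q v₀ * (g w).1⁻¹ = _
    rw [negRefl_conj, hg]
  have hfib : ∀ x, Nat.card {w // Φ w = x} = 2 := by
    intro x
    obtain ⟨t, ht⟩ := isConj_iff.1 x.2
    have hxv : x.1.1 = negRefl Q (t.1.1 v₀) := by rw [← ht, ← negRefl_conj]; rfl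
    set w₀ : {v : V // Q v = Q v₀} := ⟨t.1.1 v₀, orth_Q _ _⟩ with hw₀
    have hneg : refl Q (-(w₀.1)) = refl Q w₀.1 := by
      rw [← neg_one_smul F w₀.1, refl_smul (neg_ne_zero.2 one_ne_zero)]
    refine Nat.card_eq_two_iff.2 ⟨⟨w₀, Subtype.ext (Subtype.ext (by rw [hΦ, hxv]))⟩,
      ⟨⟨-w₀.1, by rw [QuadraticMap.map_neg, w₀.2]⟩, Subtype.ext (Subtype.ext (by
        rw [hΦ, hxv, negRefl, negRefl]; exact congrArg _ hneg))⟩, fun he => ?_,
      Set.eq_univ_of_forall fun w => ?_⟩
    · have h3 : w₀.1 = -w₀.1 := congrArg (fun w => w.1.1) he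
      have h4 : (2 : F) • w₀.1 = 0 := by linear_combination (norm := module) h3
      exact hne w₀ ((smul_eq_zero.1 h4).resolve_left h2)
    · have h5 : negRefl Q w₀.1 = negRefl Q w.1.1 := by rw [← hΦ w.1, w.2, hxv]
      rcases refl_eq_refl (hv := show Q w₀.1 ≠ 0 by rw [w₀.2]; exact hv) (w₀.2.trans w.1.2.symm)
        (mul_left_cancel h5) h2 with h6 | h6
      · exact Or.inl (Subtype.ext (Subtype.ext h6))
      · exact Or.inr (Subtype.ext (Subtype.ext h6))
  rw [← Nat.card_congr (Equiv.sigmaFiberEquiv Φ), Nat.card_sigma,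
    Finset.sum_congr rfl fun x _ => hfib x, Finset.sum_const, Finset.card_univ, smul_eq_mul,
    ← Nat.card_eq_fintype_card, mul_comm]

end Class

section Weights

variable {F : Type u} [Field F] [Fintype F] {V : Type u} [AddCommGroup V] [Module F V] [Fintype V]
variable {R : QuadraticForm F V} {U : Type v} [AddCommGroup U] [Module ℂ U] [FiniteDimensional ℂ U]

omit [Fintype F] [Fintype V] [FiniteDimensional ℂ U] in
theorem negRefl_comm_rho {ρ : Representation ℂ (siegelGroup (plane R)) U} {v : V}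
    (hm : negRefl (plane R) (0, v) ∈ siegelGroup (plane R)) (g : siegelGroup (plane R)) :
    ρ ⟨_, hm⟩ * ρ g = ρ (conjBy (refl (plane R) (0, v)) g) * ρ ⟨_, hm⟩ := by
  rw [← map_mul, ← map_mul]
  exact congrArg ρ (Subtype.ext (negRefl_comm _ g.1 _))

/-- Minus a reflection has one sign on the singular weights it fixes. -/
theorem exists_zData (h2 : (2 : F) ≠ 0) (hnd : NDPolar R) {ψ : AddChar F ℂ}
    {ρ : Representation ℂ (siegelGroup (plane (plane R))) U} {v : V} (hv : R v ≠ 0)
    (hrep : ∀ d, ∃ p, R p = d ∧ polar R p v = 0) (h : Sing1 ρ ψ)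
    (hm : negRefl (plane (plane R)) (0, ((0 : F × F), v)) ∈ siegelGroup (plane (plane R))) :
    ∃ sgn : ℤ, (sgn = 1 ∨ sgn = -1) ∧
      ZData ρ ψ ((0 : F × F), v) (ρ ⟨_, hm⟩) sgn := by
  classical
  haveI : FiniteDimensional F V := Module.Finite.of_finite
  set z : siegelGroup (plane (plane R)) := ⟨_, hm⟩
  set v₁ : (F × F) × V := ((0 : F × F), v) with hv₁
  have hsq : ρ z * ρ z = 1 := by
    rw [← map_mul, show z * z = 1 from Subtype.ext (negRefl_mul_self _ _), map_one]
  have hcomm := fun g => negRefl_comm_rho (ρ := ρ) hm g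
  have hv10 : plane R v₁ ≠ 0 := by simpa [hv₁, plane_apply] using hv
  -- the involution preserves the weight spaces it fixes
  have hmap : ∀ x, polar (plane R) x v₁ = 0 → ∀ y ∈ WS ρ ψ x, ρ z y ∈ WS ρ ψ x := by
    intro x hx y hy
    rw [mem_WS]
    intro w
    have hww : (refl (plane R) v₁).1 ((refl (plane R) v₁).1 w) = w := reflFun_reflFun v₁ w
    conv_lhs => rw [← hww, ← conjBy_rad, ← Module.End.mul_apply, ← hcomm, Module.End.mul_apply,
      mem_WS.1 hy, map_smul]
    congr 2
    conv_rhs => rw [← hww, ← refl_fix hx, orth_polar]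
  -- the scalar on a weight
  have hscal : ∀ x, x ≠ 0 → plane R x = 0 → polar (plane R) x v₁ = 0 →
      ∃ s : ℂ, (s = 1 ∨ s = -1) ∧ ∀ y ∈ WS ρ ψ x, ρ z y = s • y := by
    intro x hx0 hxR hx
    have hm1 : finrank ℂ (WS ρ ψ x) = 1 := by
      have := h.1 x hx0
      rwa [hxR, singInd_zero] at this
    obtain ⟨y, hy, hy0⟩ := Submodule.exists_mem_ne_zero_of_ne_bot
      (p := WS ρ ψ x) (fun hb => by rw [hb, finrank_bot] at hm1; exact zero_ne_one hm1)
    obtain ⟨s, hs⟩ := exists_smul_of_finrank_one hm1 hy hy0 (hmap x hx y hy)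
    refine ⟨s, ?_, fun y' hy' => ?_⟩
    · have h1 := LinearMap.congr_fun hsq y
      rw [Module.End.mul_apply, hs, map_smul, hs, smul_smul, Module.End.one_apply] at h1
      have h4 : s * s = 1 :=
        smul_left_injective ℂ hy0 (show (s * s) • y = (1 : ℂ) • y by rw [one_smul]; exact h1)
      exact mul_self_eq_one_iff.1 h4
    · obtain ⟨k, rfl⟩ := exists_smul_of_finrank_one hm1 hy hy0 hy'
      rw [map_smul, hs, smul_comm]
  -- it is constant along the stabiliser of the mirror
  have hmove : ∀ (g : siegelGroup (plane R)), g.1.1 v₁ = v₁ → ∀ (x : (F × F) × V) (s : ℂ),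
      (∀ y ∈ WS ρ ψ x, ρ z y = s • y) → ∀ y ∈ WS ρ ψ (g.1.1 x), ρ z y = s • y := by
    intro g hg x s hs y hy
    have hgz : lift (plane R) g * z = z * lift (plane R) g := by
      apply Subtype.ext
      show liftOrth (plane R) g.1 * negRefl _ _ = negRefl _ _ * liftOrth (plane R) g.1
      rw [← mul_inv_eq_iff_eq_mul, negRefl_conj, liftOrth_apply, hg]
    have hy' : ρ (lift (plane R) g⁻¹) y ∈ WS ρ ψ x := by
      have h1 := mapsTo_lift ρ ψ g⁻¹ _ y hy
      rwa [show (g⁻¹ : siegelGroup (plane R)).1.1 (g.1.1 x) = x from inv_apply_self g.1 x] at h1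
    have hyy : ρ (lift (plane R) g) (ρ (lift (plane R) g⁻¹) y) = y := by
      rw [← Module.End.mul_apply, ← map_mul, ← map_mul, mul_inv_cancel, map_one, map_one,
        Module.End.one_apply]
    conv_lhs => rw [← hyy, ← Module.End.mul_apply, ← map_mul, ← hgz, map_mul, Module.End.mul_apply,
      hs _ hy', map_smul, hyy]
  -- the elements of the stabiliser
  have hTf : ∀ w, polar R w v = 0 → ∃ g : siegelGroup (plane R), g.1.1 v₁ = v₁ ∧
      ∀ a b : F, ∀ p : V, g.1.1 ((a, b), p) =
        ((a, b - polar R p w - R w * a), p + a • w) := fun w hw => by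
    refine ⟨⟨siegel (plane R) ((0, 1), 0) (0, w) (by simp [plane_apply]) (by simp [polar_plane]),
      siegel_mem _ _⟩, siegel_fix (by simp [plane_apply]) (by simp [polar_plane]) (by simp [hv₁, polar_plane, polar_zero_right])
        (by simp [hv₁, polar_plane, polar_comm R v w, hw]), fun a b p => ?_⟩
    simp [siegel_apply, polar_plane, plane_apply, polar_zero_right]
    ring
  have hTe : ∀ w, polar R w v = 0 → ∃ g : siegelGroup (plane R), g.1.1 v₁ = v₁ ∧
      ∀ a b : F, ∀ p : V, g.1.1 ((a, b), p) =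
        ((a - polar R p w - R w * b, b), p + b • w) := fun w hw => by
    refine ⟨⟨siegel (plane R) ((1, 0), 0) (0, w) (by simp [plane_apply]) (by simp [polar_plane]),
      siegel_mem _ _⟩, siegel_fix (by simp [plane_apply]) (by simp [polar_plane]) (by simp [hv₁, polar_plane, polar_zero_right])
        (by simp [hv₁, polar_plane, polar_comm R v w, hw]), fun a b p => ?_⟩
    simp [siegel_apply, polar_plane, plane_apply, polar_zero_right]
    ring
  have he1 : (((1 : F), (0 : F)), (0 : V)) ≠ 0 := by simp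
  obtain ⟨s₀, hs₀, hs₀'⟩ := hscal _ he1 (Q_eVec R) (by simp [hv₁, polar_plane, polar_zero_left])
  -- first coordinate non-zero, from its axis
  have hA : ∀ (a b : F) (p : V) (s : ℂ), a ≠ 0 → plane R ((a, b), p) = 0 → polar R p v = 0 →
      (∀ y ∈ WS ρ ψ ((a, 0), 0), ρ z y = s • y) → ∀ y ∈ WS ρ ψ ((a, b), p), ρ z y = s • y := by
    intro a b p s ha hQ hp hs
    obtain ⟨g, hg, hga⟩ := hTf (a⁻¹ • p) (by rw [polar_smul_left, hp, smul_zero])
    have hx : g.1.1 ((a, 0), 0) = ((a, b), p) := by
      rw [plane_apply] at hQ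
      rw [hga, smul_smul, mul_inv_cancel₀ ha, one_smul, polar_zero_left, QuadraticMap.map_smul,
        smul_eq_mul, zero_add]
      refine Prod.ext (Prod.ext rfl ?_) rfl
      field_simp
      linear_combination -hQ
    rw [← hx]
    exact hmove g hg _ s hs
  have hB : ∀ (a b : F) (p : V) (s : ℂ), b ≠ 0 → plane R ((a, b), p) = 0 → polar R p v = 0 →
      (∀ y ∈ WS ρ ψ ((a, b), p), ρ z y = s • y) → ∀ y ∈ WS ρ ψ ((0, b), 0), ρ z y = s • y := by
    intro a b p s hb hQ hp hs
    obtain ⟨g, hg, hga⟩ := hTe (-(b⁻¹ • p)) (by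
      rw [polar_neg_left, polar_smul_left, hp, smul_zero, neg_zero])
    have hx : g.1.1 ((a, b), p) = ((0, b), 0) := by
      rw [plane_apply] at hQ
      rw [hga, smul_neg, smul_smul, mul_inv_cancel₀ hb, one_smul, add_neg_cancel, polar_neg_right,
        polar_smul_right, QuadraticMap.map_neg, QuadraticMap.map_smul, polar_self', smul_eq_mul,
        smul_eq_mul]
      refine Prod.ext (Prod.ext ?_ rfl) rfl
      field_simp
      linear_combination hQ
    rw [← hx]
    exact hmove g hg _ s hs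
  -- all axes carry the same sign
  have hperp : ∀ a b : F, polar (plane R) ((a, b), (0 : V)) v₁ = 0 := fun a b => by
    simp [hv₁, polar_plane, polar_zero_left]
  have haxis : ∀ a : F, a ≠ 0 → ∀ y ∈ WS ρ ψ ((a, 0), 0), ρ z y = s₀ • y := by
    have key : ∀ (a b : F) (s : ℂ), a ≠ 0 → b ≠ 0 →
        (∀ y ∈ WS ρ ψ ((a, 0), 0), ρ z y = s • y) → ∀ y ∈ WS ρ ψ ((0, b), 0), ρ z y = s • y := by
      intro a b s ha hb hs
      obtain ⟨p, hpR, hp⟩ := hrep (-(a * b))
      have hQ : plane R ((a, b), p) = 0 := by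
        rw [plane_apply, hpR]
        exact add_neg_cancel _
      exact hB a b p s hb hQ hp (hA a b p s ha hQ hp hs)
    intro a ha
    obtain ⟨t, -, ht⟩ := hscal ((a, 0), 0) (by simp [ha]) (by simp [plane_apply]) (hperp a 0)
    have h1 := key a 1 t ha one_ne_zero ht
    have h3 := key 1 1 s₀ one_ne_zero one_ne_zero hs₀'
    have hm1 : finrank ℂ (WS ρ ψ ((0, 1), 0)) = 1 := by
      have := h.1 (((0 : F), (1 : F)), (0 : V)) (by simp)
      rwa [show plane R ((0, 1), 0) = 0 by simp [plane_apply], singInd_zero] at this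
    obtain ⟨y, hy, hy0⟩ := Submodule.exists_mem_ne_zero_of_ne_bot
      (p := WS ρ ψ ((0, 1), 0)) (fun hb => by rw [hb, finrank_bot] at hm1; exact zero_ne_one hm1)
    have hts : t = s₀ := smul_left_injective ℂ hy0 ((h1 y hy).symm.trans (h3 y hy))
    rwa [← hts]
  have hall : ∀ a b : F, ∀ p : V, ((a, b), p) ≠ 0 → plane R ((a, b), p) = 0 → polar R p v = 0 →
      ∀ y ∈ WS ρ ψ ((a, b), p), ρ z y = s₀ • y := by
    intro a b p hx0 hQ hp
    by_cases ha : a = 0
    · by_cases hb : b = 0
      · subst ha hb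
        have hp0 : p ≠ 0 := fun h0 => hx0 (by rw [h0]; rfl)
        have hpR : R p = 0 := by simpa [plane_apply] using hQ
        have hv0 : v ≠ 0 := fun h0 => hv (by rw [h0, QuadraticMap.map_zero])
        obtain ⟨w, hw1, hw2⟩ := exists_polar_pair hnd (not_smul_eq_of_indep (u := p) hv0 fun k hk => hp0 (by
          rw [← hk, QuadraticMap.map_smul, smul_eq_mul] at hpR
          have hk0 : k = 0 := by simpa [hv] using hpR
          rw [← hk, hk0, zero_smul])) 1 0
        obtain ⟨g, hg, hga⟩ := hTe w (by rw [polar_comm, hw2])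
        intro y hy
        obtain ⟨t, -, ht⟩ := hscal _ hx0 hQ (by simp [hv₁, polar_plane, hp])
        have h1 := hmove g hg _ t ht
        rw [hga, hw1, zero_smul, add_zero, mul_zero, sub_zero, zero_sub] at h1
        have h2' := hA (-1) 0 p s₀ (neg_ne_zero.2 one_ne_zero)
          (by simp [plane_apply, hpR]) hp (haxis _ (neg_ne_zero.2 one_ne_zero))
        have hne : ((-1, 0), p) ≠ (0 : (F × F) × V) := by simp
        have hm1 : finrank ℂ (WS ρ ψ ((-1, 0), p)) = 1 := by
          have := h.1 _ hne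
          rwa [show plane R ((-1, 0), p) = 0 by simp [plane_apply, hpR], singInd_zero] at this
        obtain ⟨y', hy', hy0⟩ := Submodule.exists_mem_ne_zero_of_ne_bot
          (p := WS ρ ψ ((-1, 0), p))
          (fun hb => by rw [hb, finrank_bot] at hm1; exact zero_ne_one hm1)
        have hts : t = s₀ := smul_left_injective ℂ hy0 ((h1 y' hy').symm.trans (h2' y' hy'))
        rw [← hts]
        exact ht y hy
      · obtain ⟨t, -, ht⟩ := hscal _ hx0 hQ (by simp [hv₁, polar_plane, hp])
        obtain ⟨p₁, hp₁R, hp₁⟩ := hrep (-(1 * b))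
        have hQ₁ : plane R ((1, b), p₁) = 0 := by
          rw [plane_apply, hp₁R]
          exact add_neg_cancel _
        have h1 := hB a b p t hb hQ hp ht
        have h3 := hB 1 b p₁ s₀ hb hQ₁ hp₁
          (hA 1 b p₁ s₀ one_ne_zero hQ₁ hp₁ (haxis 1 one_ne_zero))
        have hm1 : finrank ℂ (WS ρ ψ ((0, b), 0)) = 1 := by
          have := h.1 (((0 : F), b), (0 : V)) (by simp [hb])
          rwa [show plane R ((0, b), 0) = 0 by simp [plane_apply], singInd_zero] at this
        obtain ⟨y', hy', hy0⟩ := Submodule.exists_mem_ne_zero_of_ne_bot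
          (p := WS ρ ψ ((0, b), 0))
          (fun hb => by rw [hb, finrank_bot] at hm1; exact zero_ne_one hm1)
        have hts : t = s₀ := smul_left_injective ℂ hy0 ((h1 y' hy').symm.trans (h3 y' hy'))
        rwa [← hts]
    · exact hA a b p s₀ ha hQ hp (haxis a ha)
  obtain ⟨sgn, hsgn, rfl⟩ : ∃ sgn : ℤ, (sgn = 1 ∨ sgn = -1) ∧ (sgn : ℂ) = s₀ := by
    rcases hs₀ with rfl | rfl
    · exact ⟨1, Or.inl rfl, Int.cast_one⟩
    · exact ⟨-1, Or.inr rfl, by norm_num⟩
  refine ⟨sgn, hsgn, hsq, hcomm, fun x hx0 hx y hy => ?_⟩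
  by_cases hxR : plane R x = 0
  · exact hall x.1.1 x.1.2 x.2 hx0 hxR (by simpa [hv₁, polar_plane] using hx) y hy
  · have h0 : mult ρ ψ x = 0 := by rw [h.1 x hx0, singInd_of_ne hxR]
    have hb : WS ρ ψ x = ⊥ := Submodule.finrank_eq_zero.1 h0
    rw [hb, Submodule.mem_bot] at hy
    rw [hy, map_zero, smul_zero]

end Weights

end CfsgLib.MinDeg.OrthBd
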