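import Cfsg.Agent.Lib.MinDeg.OrthOddThree
import Cfsg.Agent.Lib.MinDeg.OrthOddInvol

/-!
# The trace of the involution in dimension seven
-/

set_option autoImplicit false

namespace CfsgLib.MinDeg.OrthBd

open QuadraticMap Module CfsgLib.Classical.Quad

universe u v

variable {F : Type u} [Field F]

/-- The element negating the first plane and acting by two reflections below. -/
theorem negPlane_mem [Fintype F] {V : Type u} [AddCommGroup V] [Module F V] [Finite V]
    {R : QuadraticForm F V} (hnd : NDPolar R) (P : Frame (plane R)) {v₁ v₂ : V} (h₁ : R v₁ = -1)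
    (h₂ : R v₂ = 1) :
    refl (plane R) ((1, 1), 0) * refl (plane R) ((1, -1), 0) *
      liftOrth R (refl R v₁ * refl R v₂) ∈ siegelGroup (plane R) := by
  haveI : FiniteDimensional F V := Module.Finite.of_finite
  have hnd' := ndPolar_plane hnd
  rw [← QuotientGroup.eq_one_iff, ← QuotientGroup.mk'_apply, map_mul (liftOrth R), liftOrth_refl,
    liftOrth_refl, map_mul, map_mul, map_mul, reflClass_eq hnd' P, reflClass_eq hnd' P,
    reflClass_eq hnd' P, reflClass_eq hnd' P]
  have e1 : plane R ((1, 1), 0) = 1 := by simp [plane_apply]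
  have e2 : plane R ((1, -1), 0) = -1 := by simp [plane_apply]
  have e3 : plane R ((0 : F × F), v₁) = -1 := by simp [plane_apply, h₁]
  have e4 : plane R ((0 : F × F), v₂) = 1 := by simp [plane_apply, h₂]
  rw [e1, e2, e3, e4, mul_assoc, ← mul_assoc (reflClass P (-1)), mul_assoc,
    ← mul_assoc (reflClass P (-1)), reflClass_mul_self, one_mul, reflClass_mul_self]

theorem negPlane_apply (h2 : (2 : F) ≠ 0) {V : Type u} [AddCommGroup V] [Module F V]
    (R : QuadraticForm F V) (k : Orth R) (x : (F × F) × V) :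
    (refl (plane R) ((1, 1), 0) * refl (plane R) ((1, -1), 0) * liftOrth R k).1 x =
      ((-x.1.1, -x.1.2), k.1 x.2) := by
  rw [mul_apply, mul_apply, liftOrth_apply]
  simp [refl_apply, polar_plane, plane_apply, polar_zero_right]
  ext <;> simp
  all_goals field_simp; ring

/-- The swap of the last pair, negating the line. -/
noncomputable def kT (F : Type u) [Field F] : Orth (baseOdd F) :=
  refl (baseOdd F) ((1, -1), 0) * refl (baseOdd F) (0, fun _ => 1)

theorem kT_apply (h2 : (2 : F) ≠ 0) (x : (F × F) × (Unit → F)) :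
    (kT F).1 x = ((x.1.2, x.1.1), -x.2) := by
  rw [kT, mul_apply]
  simp [baseOdd, refl_apply, polar_plane, plane_apply, polar_zero_right, lineForm_apply, polar]
  refine Prod.ext (Prod.ext ?_ ?_) (funext fun u => ?_) <;> simp
  all_goals ring

/-- An involution of trace zero on a plane negates exactly one line. -/
theorem exists_neg_line {W : Type v} [AddCommGroup W] [Module ℂ W] [FiniteDimensional ℂ W]
    (T : Module.End ℂ W) (hTT : ∀ y, T (T y) = y) (hW : finrank ℂ W = 2)
    (hT : LinearMap.trace ℂ W T = 0) :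
    ∃ y : W, y ≠ 0 ∧ T y = -y ∧ ∀ x, T x = -x → ∃ s : ℂ, x = s • y := by
  set P : Module.End ℂ W := (2 : ℂ)⁻¹ • (1 - T) with hP
  have hproj : LinearMap.IsProj (LinearMap.range P) P := by
    refine ⟨fun y => LinearMap.mem_range_self P y, ?_⟩
    rintro _ ⟨y, rfl⟩
    simp only [hP, LinearMap.smul_apply, LinearMap.sub_apply, Module.End.one_apply, map_smul,
      map_sub, hTT]
    module
  have hrk : finrank ℂ (LinearMap.range P) = 1 := by
    have h6 : (finrank ℂ (LinearMap.range P) : ℂ) = 1 := by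
      rw [← hproj.trace, hP, map_smul, map_sub, LinearMap.trace_one, hW, hT]
      norm_num
    exact_mod_cast h6
  obtain ⟨y, hy, hy0⟩ := Submodule.exists_mem_ne_zero_of_ne_bot (p := LinearMap.range P)
    (fun hb => by rw [hb, finrank_bot] at hrk; exact zero_ne_one hrk)
  refine ⟨y, hy0, ?_, fun x hTx => exists_smul_of_finrank_one hrk hy hy0 ⟨x, ?_⟩⟩
  · have h7 := hproj.map_id y hy
    simp only [hP, LinearMap.smul_apply, LinearMap.sub_apply, Module.End.one_apply] at h7
    linear_combination (norm := module) (-2 : ℂ) • h7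
  · simp only [hP, LinearMap.smul_apply, LinearMap.sub_apply, Module.End.one_apply, hTx]
    module

/-- The trace is not the generic one. -/
theorem trace_ne_three [Fintype F] (h2 : (2 : F) ≠ 0) (hns : ¬ IsSquare (-1 : F))
    {ψ : AddChar F ℂ} (hψ : ψ.IsPrimitive) {U : Type} [AddCommGroup U] [Module ℂ U]
    [FiniteDimensional ℂ U] (ρ : Representation ℂ (siegelGroup (TQ (baseOdd F) 2)) U)
    (h : Sing1 (R := TQ (baseOdd F) 1) ρ ψ)
    (hd : (finrank ℂ U : ℤ) = TC (Nat.card F : ℤ) 1 + 2)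
    (hm : negRefl (TQ (baseOdd F) 2) (vT (-1) 2) ∈ siegelGroup (TQ (baseOdd F) 2)) {sgn : ℤ}
    (hZ : ZData (R := TQ (baseOdd F) 1) ρ ψ (vT (-1) 1) (ρ ⟨_, hm⟩) sgn)
    (htr : LinearMap.trace ℂ U (ρ ⟨_, hm⟩) = ((sgn * SC (-1) (Nat.card F : ℤ) 1 : ℤ) : ℂ)) :
    False := by
  classical
  cases nonempty_fintype ((F × F) × (Unit → F))
  haveI : FiniteDimensional F ((F × F) × (Unit → F)) := Module.Finite.of_finite
  have hnd0 : NDPolar (lineForm F) := ndPolar_lineForm h2
  have hnd1 : NDPolar (baseOdd F) := ndPolar_plane hnd0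
  have hnd2 : NDPolar (plane (baseOdd F)) := ndPolar_plane hnd1
  obtain ⟨P₁⟩ : Nonempty (Frame (plane (baseOdd F))) := (oddForm_baseOdd h2).nonempty_frame
  obtain ⟨P₂⟩ : Nonempty (Frame (plane (plane (baseOdd F)))) :=
    (oddForm_baseOdd h2).plane.nonempty_frame
  let z : siegelGroup (plane (plane (baseOdd F))) := ⟨_, hm⟩
  let ρ' : Representation ℂ (siegelGroup (plane (plane (baseOdd F)))) U := ρ
  let σ₁ : Representation ℂ (siegelGroup (plane (baseOdd F))) (WS ρ' ψ 0) := fixedRep ρ' ψ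
  have hs₁ : Sing1 σ₁ ψ := sing1_fixedRep hnd1 hψ ρ' h
  let σ₂ : Representation ℂ (siegelGroup (plane (lineForm F))) (WS σ₁ ψ 0) := fixedRep σ₁ ψ
  have hs₂ : Sing1 σ₂ ψ := sing1_fixedRep (R := lineForm F) hnd0 hψ σ₁ hs₁
  -- the upper root elements are trivial on the bottom
  have hTe : ∀ (w : Unit → F) (y : WS σ₁ ψ 0), σ₂ (rad (lineForm F) w) y = y := by
    intro w y
    have hsum : y = ∑ x, WP σ₂ ψ x y := by
      rw [← LinearMap.sum_apply, sum_WP hnd0 hψ σ₂]
      rfl
    have hzero : ∀ x : Unit → F, x ≠ 0 → WP σ₂ ψ x y = 0 := by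
      intro x hx
      have hRx : lineForm F x ≠ 0 := by
        rw [lineForm_apply]
        exact mul_self_ne_zero.2 fun h0 => hx (funext fun _ => h0)
      have hb : WS σ₂ ψ x = ⊥ := Submodule.finrank_eq_zero.1
        (show mult σ₂ ψ x = 0 by rw [hs₂.1 x hx, singInd_of_ne hRx])
      have := (isProj_WP σ₂ ψ x).map_mem y
      rwa [hb, Submodule.mem_bot] at this
    have hy : y ∈ WS σ₂ ψ 0 := by
      rw [hsum, Finset.sum_eq_single (0 : Unit → F) (fun x _ hx => hzero x hx) (by simp)]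
      exact (isProj_WP σ₂ ψ 0).map_mem y
    rw [mem_WS.1 hy w, polar_zero_right, AddChar.map_zero_eq_one, one_smul]
  -- the normaliser of the bottom
  let g : siegelGroup (plane (baseOdd F)) := ⟨_, negPlane_mem hnd1 P₁
    (v₁ := (((1 : F), -1), 0)) (v₂ := (0, fun _ => 1))
    (by simp [baseOdd, plane_apply]) (by simp [baseOdd, plane_apply, lineForm_apply])⟩
  have hgval : ∀ x, g.1.1 x = ((-x.1.1, -x.1.2), (kT F).1 x.2) := fun x =>
    negPlane_apply h2 (baseOdd F) (kT F) x
  have hgg : g * g = 1 := Subtype.ext (orth_ext fun x => by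
    show g.1.1 (g.1.1 x) = x
    rw [hgval, hgval, kT_apply h2, kT_apply h2]
    simp)
  have hgB : ∀ y ∈ WS σ₁ ψ 0, σ₁ g y ∈ WS σ₁ ψ 0 := by
    intro y hy
    refine mem_WS.2 fun w => ?_
    have hgw : rad (baseOdd F) w * g = g * rad (baseOdd F) (-((kT F).1 w)) := by
      rw [eq_comm, ← mul_inv_eq_iff_eq_mul]
      apply Subtype.ext
      show g.1 * (rad (baseOdd F) (-((kT F).1 w))).1 * g.1⁻¹ = (rad (baseOdd F) w).1
      rw [rad_val, rad_val, siegel_conj]
      refine Eq.trans (siegel_congr (u' := (-1 : F) • (((1 : F), (0 : F)), (0 : (F × F) × (Unit → F))))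
        (w' := ((0 : F × F), -w)) _ _ (by simp [plane_apply]) (by simp [polar_plane]) ?_ ?_)
        ((siegel_smul_left (-1) (Q_eVec (baseOdd F)) (polar_eVec (baseOdd F) _)).trans
          (siegel_congr _ _ _ _ rfl (by simp)))
      · rw [hgval]; simp [kT_apply h2]
      · rw [hgval]
        simp only [map_neg]
        simp [kT_apply h2]
    rw [← Module.End.mul_apply, ← map_mul, hgw, map_mul, Module.End.mul_apply, mem_WS.1 hy,
      polar_zero_right, AddChar.map_zero_eq_one, one_smul, polar_zero_right,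
      AddChar.map_zero_eq_one, one_smul]
  let Te : (Unit → F) → siegelGroup (plane (baseOdd F)) := fun w =>
    lift (baseOdd F) (rad (lineForm F) w)
  have hTeB : ∀ (w : Unit → F), ∀ y ∈ WS σ₁ ψ 0, σ₁ (Te w) y = y := fun w y hy =>
    congrArg Subtype.val (hTe w ⟨y, hy⟩)
  let L : siegelGroup (plane (baseOdd F)) :=
    Te (fun _ => 1) * (g * Te (fun _ => -1) * g) * Te (fun _ => 1)
  have hLB : ∀ y ∈ WS σ₁ ψ 0, σ₁ L y = y := by
    intro y hy
    have hgy : σ₁ g (σ₁ g y) = y := by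
      rw [← Module.End.mul_apply, ← map_mul, hgg, map_one, Module.End.one_apply]
    simp only [L, map_mul, Module.End.mul_apply]
    rw [hTeB _ y hy, hTeB _ _ (hgB y hy), hgy, hTeB _ y hy]
  have hTeval : ∀ (c : F) (x : (F × F) × ((F × F) × (Unit → F))), (Te fun _ => c).1.1 x =
      (x.1, ((x.2.1.1 - 2 * c * x.2.2 () - c * c * x.2.1.2, x.2.1.2),
        fun _ => x.2.2 () + x.2.1.2 * c)) := by
    intro c x
    show (x.1, (rad (lineForm F) fun _ => c).1.1 x.2) = _
    rw [rad_val]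
    refine Prod.ext rfl ?_
    simp [baseOdd, siegel_apply, polar_plane, plane_apply, polar_zero_right, lineForm_apply, polar]
    refine Prod.ext (Prod.ext ?_ ?_) (funext fun u => ?_) <;> simp
    all_goals (ring_nf; try simp)
  have hz : z = (nT (baseOdd F) 1 * nT (baseOdd F) 1) * lift (plane (baseOdd F)) L := by
    refine Subtype.ext (orth_ext fun x => ?_)
    show (negRefl (TQ (baseOdd F) 2) (vT (-1) 2)).1 x =
      (nT (baseOdd F) 1 * nT (baseOdd F) 1).1.1 ((lift (plane (baseOdd F)) L).1.1 x)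
    rw [nT_sq _ one_ne_zero]
    show -((refl (plane (plane (baseOdd F))) ((0 : F × F), ((0 : F × F), ((1, -1), 0)))).1 x) = _
    rw [← liftOrth_refl, ← liftOrth_refl, liftOrth_apply, liftOrth_apply]
    show _ = ((-x.1.1, -x.1.2), ((-(L.1.1 x.2).1.1, -(L.1.1 x.2).1.2), (L.1.1 x.2).2))
    have hL : L.1.1 x.2 = (Te fun _ => 1).1.1 (g.1.1 ((Te fun _ => -1).1.1 (g.1.1
        ((Te fun _ => 1).1.1 x.2)))) := rfl
    rw [hL, hTeval, hgval, hTeval, hgval, hTeval, kT_apply h2, kT_apply h2]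
    simp [baseOdd, refl_apply, polar_plane, plane_apply, polar_zero_right]
    refine ⟨rfl, rfl, Prod.ext (Prod.ext ?_ ?_) (funext fun u => ?_)⟩ <;> simp
    all_goals ring
  -- dimensions
  have hd1 := finrank_eq_sing1 hnd2 hψ ρ' h
  have hd2 := finrank_eq_sing1 hnd1 hψ σ₁ hs₁
  have hE0 := oddForm_TQ (F := F) h2 0
  have hE1 := oddForm_TQ (F := F) h2 1
  rw [show (Nat.card {v // plane (baseOdd F) v = 0} : ℤ) = (Nat.card F : ℤ) ^ (2 * (1 + 1)) from
    hE1.card_zero] at hd1
  rw [show (Nat.card {v // baseOdd F v = 0} : ℤ) = (Nat.card F : ℤ) ^ (2 * (0 + 1)) from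
    hE0.card_zero] at hd2
  have hB2 : finrank ℂ (WS σ₁ ψ 0) = 2 := by
    have h3 : (mult ρ' ψ 0 : ℤ) = (finrank ℂ (WS ρ' ψ 0) : ℤ) := rfl
    have h4 : (mult σ₁ ψ 0 : ℤ) = (finrank ℂ (WS σ₁ ψ 0) : ℤ) := rfl
    simp only [TC] at hd
    norm_num at hd1 hd2 hd
    omega
  -- the trace on the bottom
  have hM : Mirror (-1 : F) (-1) := Or.inr ⟨rfl, rfl, hns⟩
  have hZ' : ZData (R := plane (baseOdd F)) ρ' ψ ((0 : F × F), ((1, -1), 0)) (ρ' z) sgn := hZ
  have hZ1 := zData_fixedRep hnd1 hψ hZ'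
  have ht1 := hZ'.trace hnd2 hψ (by simp [plane_apply, baseOdd]) h hZ'.mem_fixed
  have ht2 := hZ1.trace hnd1 hψ (by simp [plane_apply, baseOdd]) hs₁ hZ1.mem_fixed
  rw [show (Nat.card {x // plane (baseOdd F) x = 0 ∧
    polar (plane (baseOdd F)) x ((0 : F × F), ((1, -1), 0)) = 0} : ℤ) = ZC (-1) (Nat.card F : ℤ) 1 from
      card_singPerp_vT h2 hM 1] at ht1
  rw [show (Nat.card {x // baseOdd F x = 0 ∧
    polar (baseOdd F) x ((1, -1), 0) = 0} : ℤ) = ZC (-1) (Nat.card F : ℤ) 0 from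
      card_singPerp_vT h2 hM 0] at ht2
  set T : Module.End ℂ (WS σ₁ ψ 0) := ((ρ' z).restrict hZ'.mem_fixed).restrict hZ1.mem_fixed with hT
  have hT0 : LinearMap.trace ℂ _ T = 0 := by
    replace ht1 := htr.symm.trans ht1
    rw [ht2] at ht1
    simp only [SC] at ht1
    push_cast at ht1
    linear_combination -ht1
  have hTT : ∀ y, T (T y) = y := fun y => by
    refine Subtype.ext (Subtype.ext ?_)
    exact LinearMap.congr_fun hZ'.sq ((y : WS ρ' ψ 0) : U)
  obtain ⟨y, hy0, hTy, hline⟩ := exists_neg_line T hTT hB2 hT0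
  -- on the bottom the involution is the central one
  have hZH : ∀ x : WS σ₁ ψ 0, ρ' (nT (baseOdd F) 1 * nT (baseOdd F) 1) ((x : WS ρ' ψ 0) : U) =
      (((T x : WS σ₁ ψ 0) : WS ρ' ψ 0) : U) := fun x => by
    show _ = ρ' z ((x : WS ρ' ψ 0) : U)
    conv_rhs => rw [hz, map_mul, Module.End.mul_apply]
    congr 1
    exact (congrArg Subtype.val (hLB _ x.2)).symm
  let g₂ : siegelGroup (plane (plane (baseOdd F))) := ⟨_, negPlane_mem hnd2 P₂
    (v₁ := ((0 : F × F), (((1 : F), -1), 0))) (v₂ := ((0 : F × F), (0, fun _ => 1)))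
    (by simp [baseOdd, plane_apply]) (by simp [baseOdd, plane_apply, lineForm_apply])⟩
  refine false_of_one_line hnd1 hψ ρ' (kT F) g₂ (fun x => ?_)
    (v := ((y : WS ρ' ψ 0) : U)) ?_ ⟨(y : WS ρ' ψ 0).2, fun w => ?_⟩ ?_ fun u hu hu' hHu => ?_
  · have h8 := negPlane_apply h2 (plane (baseOdd F)) (refl (plane (baseOdd F))
      ((0 : F × F), (((1 : F), -1), 0)) * refl (plane (baseOdd F)) ((0 : F × F), (0, fun _ => 1))) x
    refine h8.trans (Prod.ext rfl ?_)
    rw [← liftOrth_refl, ← liftOrth_refl, ← map_mul, liftOrth_apply]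
    rfl
  · exact fun h9 => hy0 (Subtype.ext (Subtype.ext h9))
  · have h10 := mem_WS.1 y.2 w
    rw [polar_zero_right, AddChar.map_zero_eq_one, one_smul] at h10
    exact congrArg Subtype.val h10
  · rw [hZH, hTy]
    rfl
  · let x : WS σ₁ ψ 0 := ⟨⟨u, hu⟩, mem_WS.2 fun w => Subtype.ext (by
      rw [polar_zero_right, AddChar.map_zero_eq_one, one_smul]
      exact hu' w)⟩
    have hTx : T x = -x := Subtype.ext (Subtype.ext (by rw [← hZH]; exact hHu))
    obtain ⟨s, hs⟩ := hline x hTx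
    exact ⟨s, congrArg (fun x : WS σ₁ ψ 0 => ((x : WS ρ' ψ 0) : U)) hs⟩

end CfsgLib.MinDeg.OrthBd
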