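import Cfsg.Agent.Lib.MinDeg.OrthOddTrace

/-!
# The action of the two-plane `SL₂` on vectors fixed by both radicals

For seven-dimensional spaces over fields with `q ≡ 3 (mod 4)`.
-/

set_option autoImplicit false

namespace CfsgLib.MinDeg.OrthBd

open QuadraticMap Module CfsgLib.Classical.Quad

universe u v

section Elements

variable {F : Type u} [Field F] {V : Type u} [AddCommGroup V] [Module F V] (R : QuadraticForm F V)

/-- The upper root element. -/
def yT (s : F) : siegelGroup (plane (plane R)) := rad (plane R) ((0, s), 0)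

/-- The lower root element. -/
def xT (t : F) : siegelGroup (plane (plane R)) :=
  ⟨siegel (plane (plane R)) (0, ((1, 0), 0)) ((0, t), 0) (by simp [plane_apply])
    (by simp [polar_plane, polar_zero_right]), siegel_mem _ _⟩

/-- The monomial elements of the two-plane `SL₂`. -/
def nT (t : F) : siegelGroup (plane (plane R)) := xT R t * yT R (-t⁻¹) * xT R t

theorem nT_apply {t : F} (ht : t ≠ 0) (z : (F × F) × ((F × F) × V)) :
    (nT R t).1.1 z =
      ((z.2.1.1 / t, t * z.2.1.2), ((-(t * z.1.1), -(z.1.2 / t)), z.2.2)) := by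
  obtain ⟨⟨a, b⟩, ⟨c, d⟩, p⟩ := z
  simp [nT, xT, yT, rad_val, siegel_apply, polar_plane, plane_apply, polar_zero_right]
  refine ⟨⟨?_, ?_⟩, ?_, ?_⟩ <;> field_simp <;> ring

theorem xT_apply (t : F) (z : (F × F) × ((F × F) × V)) :
    (xT R t).1.1 z =
      ((z.1.1, z.1.2 + t * z.2.1.2), ((z.2.1.1 - t * z.1.1, z.2.1.2), z.2.2)) := by
  obtain ⟨⟨a, b⟩, ⟨c, d⟩, p⟩ := z
  simp [xT, siegel_apply, polar_plane, plane_apply, polar_zero_right]
  refine ⟨?_, ?_⟩ <;> ring

theorem yT_apply (s : F) (z : (F × F) × ((F × F) × V)) :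
    (yT R s).1.1 z =
      ((z.1.1 - s * z.2.1.1, z.1.2), ((z.2.1.1, z.2.1.2 + s * z.1.2), z.2.2)) := by
  obtain ⟨⟨a, b⟩, ⟨c, d⟩, p⟩ := z
  simp [yT, rad_val, siegel_apply, polar_plane, plane_apply, polar_zero_right]
  refine ⟨?_, ?_⟩ <;> ring

theorem nT_sq {t : F} (ht : t ≠ 0) (z : (F × F) × ((F × F) × V)) :
    (nT R t * nT R t).1.1 z = ((-z.1.1, -z.1.2), ((-z.2.1.1, -z.2.1.2), z.2.2)) := by
  show (nT R t).1.1 ((nT R t).1.1 z) = _
  rw [nT_apply R ht, nT_apply R ht]
  simp
  refine ⟨⟨?_, ?_⟩, ?_, ?_⟩ <;> field_simp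

theorem nT_sq_eq {t : F} (ht : t ≠ 0) : nT R t * nT R t = nT R 1 * nT R 1 :=
  Subtype.ext (orth_ext fun z => by rw [nT_sq R ht, nT_sq R one_ne_zero])

theorem nT_one : nT R 1 = swapN R := by
  refine Subtype.ext (orth_ext fun z => ?_)
  rw [nT_apply R one_ne_zero, swapN_apply]
  simp

theorem xT_eq {t : F} (ht : t ≠ 0) : xT R t = yT R t⁻¹ * nT R t * yT R t⁻¹ := by
  refine Subtype.ext (orth_ext fun z => ?_)
  show _ = (yT R t⁻¹).1.1 ((nT R t).1.1 ((yT R t⁻¹).1.1 z))
  rw [yT_apply, nT_apply R ht, yT_apply, xT_apply]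
  simp
  refine ⟨⟨?_, ?_⟩, ?_⟩ <;> field_simp <;> (try ring) <;> simp

end Elements

section Main

variable {F : Type u} [Field F] [Fintype F] {V : Type u} [AddCommGroup V] [Module F V] [Fintype V]
variable {R : QuadraticForm F V} {U : Type v} [AddCommGroup U] [Module ℂ U] [FiniteDimensional ℂ U]

omit [Fintype F] [FiniteDimensional ℂ U] in
/-- Elements normalising the radical commute with the projection to its fixed vectors. -/
theorem WP_zero_comm {ρ : Representation ℂ (siegelGroup (plane R)) U} {ψ : AddChar F ℂ}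
    (g : siegelGroup (plane R)) (φ : V ≃+ V) (hg : ∀ w, g * rad R w = rad R (φ w) * g) (z : U) :
    WP ρ ψ 0 (ρ g z) = ρ g (WP ρ ψ 0 z) := by
  simp only [WP, weightProj_apply, map_smul, map_sum, resChar_apply, wchar_zero, AddChar.zero_apply,
    one_smul]
  congr 1
  rw [← φ.toEquiv.sum_comp]
  refine Finset.sum_congr rfl fun w _ => ?_
  rw [← Module.End.mul_apply, ← map_mul, ← Module.End.mul_apply (ρ g), ← map_mul, hg]
  rfl

/-- The central involution cannot act by `-1` on exactly one line of the vectors fixed by both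
radicals. -/
theorem false_of_one_line (hnd : NDPolar R) {ψ : AddChar F ℂ} (hψ : ψ.IsPrimitive)
    (ρ : Representation ℂ (siegelGroup (plane (plane R))) U) (k : Orth R)
    (g : siegelGroup (plane (plane R)))
    (hgk : ∀ z : (F × F) × ((F × F) × V), g.1.1 z = ((-z.1.1, -z.1.2), (z.2.1, k.1 z.2.2)))
    {v : U} (hv0 : v ≠ 0)
    (hvB : v ∈ WS ρ ψ 0 ∧ ∀ w, ρ (lift (plane R) (rad R w)) v = v)
    (hH : ρ (nT R 1 * nT R 1) v = -v)
    (huniq : ∀ z, z ∈ WS ρ ψ 0 → (∀ w, ρ (lift (plane R) (rad R w)) z = z) →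
      ρ (nT R 1 * nT R 1) z = -z → ∃ s : ℂ, z = s • v) : False := by
  classical
  have hnd' : NDPolar (plane R) := ndPolar_plane hnd
  set H := nT R 1 * nT R 1 with hHdef
  -- normalisers of the radical
  have hHrad : ∀ w, H * rad (plane R) w =
      rad (plane R) (((-w.1.1, -w.1.2), w.2) |> fun u => -u) * H := fun w => by
    apply Subtype.ext
    show H.1 * _ = _ * H.1
    rw [rad_val, rad_val, ← mul_inv_eq_iff_eq_mul, siegel_conj]
    refine Eq.trans (siegel_congr (u' := (-1 : F) • (((1 : F), (0 : F)), (0 : (F × F) × V)))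
      (w' := ((0 : F × F), ((-w.1.1, -w.1.2), w.2))) _ _ (by simp [plane_apply])
      (by simp [polar_plane]) ?_ ?_) ((siegel_smul_left (-1) (Q_eVec (plane R))
        (polar_eVec (plane R) _)).trans (siegel_congr _ _ _ _ rfl (by simp)))
    · rw [hHdef, nT_sq R one_ne_zero]; simp
    · rw [hHdef, nT_sq R one_ne_zero]; simp
  let neg2 : ((F × F) × V) ≃+ ((F × F) × V) :=
    { toFun := fun w => (w.1, -w.2)
      invFun := fun w => (w.1, -w.2)
      left_inv := fun w => by simp
      right_inv := fun w => by simp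
      map_add' := fun a b => by ext <;> simp; abel }
  have hHcomm : ∀ z, WP ρ ψ 0 (ρ H z) = ρ H (WP ρ ψ 0 z) :=
    WP_zero_comm H neg2 fun w => by
      rw [hHrad]
      congr 2
      simp [neg2]
  let negk : ((F × F) × V) ≃+ ((F × F) × V) :=
    { toFun := fun w => (-w.1, -(k.1 w.2))
      invFun := fun w => (-w.1, k.1.symm (-w.2))
      left_inv := fun w => by simp
      right_inv := fun w => by simp
      map_add' := fun a b => by ext <;> simp <;> abel }
  have hgrad : ∀ w, g * rad (plane R) w = rad (plane R) (negk w) * g := fun w => by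
    apply Subtype.ext
    show g.1 * _ = _ * g.1
    rw [rad_val, rad_val, ← mul_inv_eq_iff_eq_mul, siegel_conj]
    refine Eq.trans (siegel_congr (u' := (-1 : F) • (((1 : F), (0 : F)), (0 : (F × F) × V)))
      (w' := ((0 : F × F), (w.1, k.1 w.2))) _ _ (by simp [plane_apply])
      (by simp [polar_plane]) ?_ ?_) ((siegel_smul_left (-1) (Q_eVec (plane R))
        (polar_eVec (plane R) _)).trans (siegel_congr _ _ _ _ rfl (by simp [negk])))
    · rw [hgk]; simp
    · rw [hgk]; simp
  have hgcomm : ∀ z, WP ρ ψ 0 (ρ g z) = ρ g (WP ρ ψ 0 z) := WP_zero_comm g negk hgrad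
  have hgrad' : ∀ w, g * lift (plane R) (rad R w) = lift (plane R) (rad R (k.1 w)) * g := fun w => by
    apply Subtype.ext
    show g.1 * liftOrth (plane R) (rad R w).1 = liftOrth (plane R) (rad R (k.1 w)).1 * g.1
    rw [rad_val, rad_val, liftOrth_siegel, liftOrth_siegel, ← mul_inv_eq_iff_eq_mul, siegel_conj]
    exact siegel_congr _ _ _ _ (by rw [hgk]; simp) (by rw [hgk]; simp)
  have hfixW : ∀ {z : U}, z ∈ WS ρ ψ 0 → ∀ w, ρ (rad (plane R) w) z = z := fun {z} hz w => by
    rw [mem_WS.1 hz w, polar_zero_right, AddChar.map_zero_eq_one, one_smul]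
  -- the vector is an eigenvector of `g`
  have hgH : g * H = H * g := Subtype.ext (orth_ext fun z => by
    show g.1.1 (H.1.1 z) = H.1.1 (g.1.1 z)
    rw [hHdef, nT_sq R one_ne_zero, nT_sq R one_ne_zero, hgk, hgk])
  have hBg : ∀ z, z ∈ WS ρ ψ 0 → (∀ w, ρ (lift (plane R) (rad R w)) z = z) →
      ρ g z ∈ WS ρ ψ 0 ∧ ∀ w, ρ (lift (plane R) (rad R w)) (ρ g z) = ρ g z := by
    intro z hz hz'
    refine ⟨mem_WS.2 fun w => ?_, fun w => ?_⟩
    · obtain ⟨w', rfl⟩ := negk.surjective w
      rw [← Module.End.mul_apply, ← map_mul, ← hgrad, map_mul, Module.End.mul_apply, hfixW hz,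
        polar_zero_right, AddChar.map_zero_eq_one, one_smul]
    · obtain ⟨w', rfl⟩ := k.1.surjective w
      rw [← Module.End.mul_apply, ← map_mul, ← hgrad', map_mul, Module.End.mul_apply, hz']
  obtain ⟨γ, hγ⟩ := huniq (ρ g v) (hBg v hvB.1 hvB.2).1 (hBg v hvB.1 hvB.2).2 (by
    rw [← Module.End.mul_apply, ← map_mul, ← hgH, map_mul, Module.End.mul_apply, hH, map_neg])
  have hγ0 : γ ≠ 0 := fun h0 => hv0 (rep_injective ρ g (by rw [hγ, h0, zero_smul, map_zero]))
  have hmm : ∀ a b z, ρ a (ρ b z) = ρ (a * b) z := fun a b z => by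
    rw [map_mul, Module.End.mul_apply]
  -- the images under the monomial elements have no fixed part
  have key : ∀ t : F, t ≠ 0 → WP ρ ψ 0 (ρ (nT R t) v) = 0 := by
    intro t ht
    set c := WP ρ ψ 0 (ρ (nT R t) v) with hc
    have hlift : ∀ w, lift (plane R) (rad R w) * nT R t =
        nT R t * rad (plane R) (0, (-t⁻¹) • w) := fun w => by
      rw [← inv_mul_eq_iff_eq_mul]
      apply Subtype.ext
      show (nT R t).1⁻¹ * (liftOrth (plane R) (rad R w).1 * (nT R t).1) = _
      rw [← mul_assoc, rad_val, rad_val, liftOrth_siegel]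
      nth_rewrite 2 [← inv_inv (nT R t).1]
      rw [siegel_conj]
      have hinv : ∀ a b, (nT R t).1.1 a = b → ((nT R t).1⁻¹).1 b = a := fun a b h => by
        rw [← h, inv_apply_self]
      refine Eq.trans (siegel_congr (u' := (-t⁻¹) • (((1 : F), (0 : F)), (0 : (F × F) × V)))
        (w' := ((0 : F × F), ((0 : F × F), w))) _ _ (by simp [plane_apply])
        (by simp [polar_plane]) (hinv _ _ ?_) (hinv _ _ ?_))
        ((siegel_smul_left (-t⁻¹) (Q_eVec (plane R)) (polar_eVec (plane R) _)).trans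
          (siegel_congr _ _ _ _ rfl (by simp)))
      · rw [nT_apply R ht]; simp [ht]
      · rw [nT_apply R ht]; simp
    have hcB : c ∈ WS ρ ψ 0 ∧ ∀ w, ρ (lift (plane R) (rad R w)) c = c := by
      refine ⟨(isProj_WP ρ ψ 0).map_mem _, fun w => ?_⟩
      rw [hc, ← WP_zero_comm (lift (plane R) (rad R w)) (actEquiv (plane R) (rad R w).1)
        (lift_mul_rad (plane R) (rad R w)), hmm, hlift, map_mul,
        Module.End.mul_apply, hfixW hvB.1]
    have hHn : H * nT R t = nT R t * H := by
      rw [hHdef, ← nT_sq_eq R ht, mul_assoc]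
    obtain ⟨β, hβ⟩ := huniq c hcB.1 hcB.2 (by
      rw [hc, ← hHcomm, hmm, hHn, map_mul, Module.End.mul_apply, hH,
        map_neg, map_neg])
    have hrel : g * nT R t = H * nT R t * g := by
      apply Subtype.ext
      refine orth_ext fun z => ?_
      show g.1.1 ((nT R t).1.1 z) = H.1.1 ((nT R t).1.1 (g.1.1 z))
      rw [hHdef, nT_sq R one_ne_zero, hgk, hgk, nT_apply R ht, nT_apply R ht]
      simp [neg_div]
    have h1 : ρ g c = -(γ • c) := by
      rw [hc, ← hgcomm, hmm, hrel, hHn, map_mul, map_mul,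
        Module.End.mul_apply, Module.End.mul_apply, hγ, map_smul, hH, smul_neg, map_neg, map_neg,
        map_smul, map_smul]
    rw [hβ, map_smul, hγ] at h1
    have h2 : (2 * (β * γ)) • v = 0 := by
      linear_combination (norm := module) h1
    have h3 : β = 0 := by
      have := (smul_eq_zero.1 h2).resolve_right hv0
      simpa [hγ0] using this
    rw [hβ, h3, zero_smul]
  -- the lower root elements sum to zero on `v`
  set v' := ρ (nT R 1) v with hv'
  have hsum : v' = ∑ y, WP ρ ψ y v' := by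
    rw [← LinearMap.sum_apply, sum_WP hnd' hψ ρ]
    rfl
  have hu : ∑ d : F, ρ (yT R d) v' = 0 := by
    rw [hsum]
    simp only [map_sum]
    rw [Finset.sum_comm]
    refine Finset.sum_eq_zero fun y _ => ?_
    by_cases hy : WP ρ ψ y v' = 0
    · simp [hy]
    have hmem := (isProj_WP ρ ψ y).map_mem v'
    have kk : ∀ (t : (F × F) × V), ρ (rad (plane R) t) v' = v' →
        ψ (polar (plane R) t y) = 1 := by
      intro t hta
      have hcomm : WP ρ ψ y (ρ (rad (plane R) t) v') = ρ (rad (plane R) t) (WP ρ ψ y v') := by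
        simp only [WP, weightProj_apply, map_smul, map_sum, resChar_apply]
        congr 1
        refine Finset.sum_congr rfl fun s _ => ?_
        rw [← Module.End.mul_apply (ρ (rad (plane R) s)), ← map_mul,
          ← AddChar.map_add_eq_mul (rad (plane R)), add_comm, AddChar.map_add_eq_mul, map_mul,
          Module.End.mul_apply]
      rw [hta, mem_WS.1 hmem t] at hcomm
      exact (smul_left_injective ℂ hy (hcomm.symm.trans (one_smul ℂ _).symm))
    have hb : y.1.2 = 0 := by
      by_contra hb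
      refine hψ hb (DFunLike.ext _ _ fun c => ?_)
      have h1 := kk ((c, 0), 0) (by
        rw [hv', ← Module.End.mul_apply, ← map_mul, nT_one, ← swapN_rad_eVec, map_mul,
          Module.End.mul_apply, hfixW hvB.1])
      rw [AddChar.mulShift_apply, AddChar.one_apply, mul_comm]
      simpa [polar_plane, polar_zero_right] using h1
    have hp : y.2 = 0 := by
      refine wchar_injective hnd hψ (DFunLike.ext _ _ fun w' => ?_)
      have h1 := kk (0, w') (by
        rw [hv', ← Module.End.mul_apply, ← map_mul, nT_one, ← swapN_rad, map_mul,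
          Module.End.mul_apply, hvB.2 w'])
      simpa [wchar_apply, polar_plane] using h1
    have ha : y.1.1 ≠ 0 := by
      intro ha
      have hy0 : y = 0 := Prod.ext (Prod.ext ha hb) hp
      exact hy (by rw [hy0]; exact key 1 one_ne_zero)
    have hterm : ∀ d : F, ρ (yT R d) (WP ρ ψ y v') = ψ (y.1.1 * d) • WP ρ ψ y v' := by
      intro d
      rw [yT, mem_WS.1 hmem]
      congr 2
      simp [polar_plane, polar_zero_right, hp]
    rw [Finset.sum_congr rfl fun d _ => hterm d, ← Finset.sum_smul]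
    have := AddChar.sum_mulShift (R := F) y.1.1 hψ
    simp only [ha, if_false, Nat.cast_zero] at this
    rw [show (∑ d : F, ψ (y.1.1 * d)) = 0 from by
      rw [← this]; exact Finset.sum_congr rfl fun d _ => by rw [mul_comm], zero_smul]
  have hconj : ∀ d : F, nT R 1 * yT R d = xT R (-d) * nT R 1 := fun d => by
    refine Subtype.ext (orth_ext fun z => ?_)
    show (nT R 1).1.1 ((yT R d).1.1 z) = (xT R (-d)).1.1 ((nT R 1).1.1 z)
    rw [yT_apply, nT_apply R one_ne_zero, nT_apply R one_ne_zero, xT_apply]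
    simp
    ring
  have hX : ∑ d : F, ρ (xT R d) v = 0 := by
    rw [← Equiv.sum_comp (Equiv.neg F)]
    have h1 : ρ (nT R 1) v' = -v := by
      rw [hv', ← Module.End.mul_apply, ← map_mul, hH]
    have h2 := congrArg (ρ (nT R 1)) hu
    rw [map_sum, map_zero] at h2
    rw [Finset.sum_congr rfl fun d _ => show ρ (nT R 1) (ρ (yT R d) v') = -ρ (xT R (-d)) v by
      rw [← Module.End.mul_apply, ← map_mul, hconj, map_mul, Module.End.mul_apply, h1, map_neg],
      Finset.sum_neg_distrib, neg_eq_zero] at h2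
    exact h2
  have hW := congrArg (WP ρ ψ 0) hX
  rw [map_sum, map_zero, Finset.sum_eq_single (0 : F)] at hW
  · apply hv0
    rw [← hW]
    have h0 : xT R 0 = 1 := Subtype.ext (orth_ext fun z => by rw [xT_apply]; simp)
    rw [h0, map_one, Module.End.one_apply, (isProj_WP ρ ψ 0).map_id _ hvB.1]
  · intro d _ hd
    rw [xT_eq R hd, map_mul, map_mul, Module.End.mul_apply, Module.End.mul_apply]
    rw [show ρ (yT R d⁻¹) v = v from hfixW hvB.1 _]
    rw [yT, WP_zero_comm (rad (plane R) ((0, d⁻¹), 0)) (AddEquiv.refl _) (fun w => by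
      rw [AddEquiv.refl_apply, ← AddChar.map_add_eq_mul, ← AddChar.map_add_eq_mul, add_comm]),
      key d hd, map_zero]
  · simp

end Main

end CfsgLib.MinDeg.OrthBd
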