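import Cfsg.Agent.Lib.MinDeg.OrthOddForm
import Cfsg.Agent.Lib.MinDeg.OrthBound

/-!
# Traces of reflection-like involutions
-/

set_option autoImplicit false

namespace CfsgLib.MinDeg.OrthBd

open QuadraticMap Module CfsgLib.Classical.Quad

universe u v

section Conj

variable {F : Type u} [Field F] {V : Type u} [AddCommGroup V] [Module F V]

/-- Conjugation by an isometry on the Siegel group. -/
noncomputable def conjBy {Q : QuadraticForm F V} (s : Orth Q) (g : siegelGroup Q) : siegelGroup Q :=
  ⟨s * g.1 * s⁻¹, (siegelGroup_normal (Q := Q)).conj_mem g.1 g.2 s⟩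

variable (R : QuadraticForm F V)

theorem liftOrth_refl (v : V) : liftOrth R (refl R v) = refl (plane R) (0, v) := by
  refine orth_ext fun t => ?_
  rw [liftOrth_apply, refl_apply, refl_apply]
  refine Prod.ext ?_ ?_
  · simp
  · simp [polar_plane, plane_apply]

theorem conjBy_rad (v w : V) :
    conjBy (refl (plane R) (0, v)) (rad R w) = rad R ((refl R v).1 w) := by
  apply Subtype.ext
  show refl (plane R) (0, v) * _ * (refl (plane R) (0, v))⁻¹ = _
  rw [rad_val, rad_val, siegel_conj, ← liftOrth_refl]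
  exact siegel_congr _ _ _ _ (Prod.ext rfl (map_zero (refl R v).1)) rfl

theorem conjBy_lift (v : V) (g : siegelGroup R) :
    conjBy (refl (plane R) (0, v)) (lift R g) = lift R (conjBy (refl R v) g) := by
  apply Subtype.ext
  show refl (plane R) (0, v) * liftOrth R g.1 * (refl (plane R) (0, v))⁻¹ = liftOrth R (_ * _ * _)
  rw [map_mul, map_mul, map_inv, liftOrth_refl]

theorem conjBy_swapN (v : V) :
    conjBy (refl (plane (plane R)) (0, (0, v))) (swapN R) = swapN R := by
  apply Subtype.ext
  show refl (plane (plane R)) (0, (0, v)) * (swapN R).1 * (refl (plane (plane R)) (0, (0, v)))⁻¹ = _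
  rw [mul_inv_eq_iff_eq_mul]
  refine orth_ext fun t => ?_
  rw [mul_apply, mul_apply, ← liftOrth_refl, ← liftOrth_refl, liftOrth_apply, liftOrth_apply,
    liftOrth_apply, liftOrth_apply, swapN_apply, swapN_apply]

end Conj

section Data

variable {F : Type u} [Field F] {V : Type u} [AddCommGroup V] [Module F V]
variable {R : QuadraticForm F V} {U : Type v} [AddCommGroup U] [Module ℂ U]

/-- An involution acting like minus the reflection in `v`, with one sign on the weights it fixes. -/
structure ZData (ρ : Representation ℂ (siegelGroup (plane R)) U) (ψ : AddChar F ℂ) (v : V)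
    (Z : Module.End ℂ U) (sgn : ℤ) : Prop where
  sq : Z * Z = 1
  comm : ∀ g, Z * ρ g = ρ (conjBy (refl (plane R) (0, v)) g) * Z
  scal : ∀ x, x ≠ 0 → polar R x v = 0 → ∀ z ∈ WS ρ ψ x, Z z = (sgn : ℂ) • z

theorem ZData.mapsTo {ρ : Representation ℂ (siegelGroup (plane R)) U} {ψ : AddChar F ℂ} {v : V}
    {Z : Module.End ℂ U} {sgn : ℤ} (hZ : ZData ρ ψ v Z sgn) (x : V) :
    ∀ z ∈ WS ρ ψ x, Z z ∈ WS ρ ψ ((refl R v).1 x) := by
  intro z hz
  rw [mem_WS]
  intro w
  have hww : (refl R v).1 ((refl R v).1 w) = w := reflFun_reflFun v w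
  conv_lhs => rw [← hww, ← conjBy_rad, ← Module.End.mul_apply, ← hZ.comm, Module.End.mul_apply,
    mem_WS.1 hz, map_smul]
  congr 2
  conv_rhs => rw [← hww, orth_polar]

theorem refl_eq_self_iff {v : V} (hv : R v ≠ 0) (x : V) :
    (refl R v).1 x = x ↔ polar R x v = 0 := by
  constructor
  · intro h
    rw [refl_apply, add_eq_left, smul_eq_zero] at h
    rcases h with h | h
    · simpa [hv] using h
    · exact absurd (by rw [h, QuadraticMap.map_zero]) hv
  · exact refl_fix

variable [Fintype V] [FiniteDimensional ℂ U]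

omit [Fintype V] [FiniteDimensional ℂ U] in
/-- An involution has integral trace, bounded by the dimension. -/
theorem exists_int_trace [FiniteDimensional ℂ U] (Z : Module.End ℂ U) (hZ : Z * Z = 1) :
    ∃ c : ℤ, LinearMap.trace ℂ U Z = (c : ℂ) ∧ |c| ≤ (finrank ℂ U : ℤ) := by
  set P : Module.End ℂ U := (2 : ℂ)⁻¹ • (1 + Z) with hP
  have hPP : P * P = P := by
    rw [hP, smul_mul_smul_comm, mul_add, add_mul, add_mul, one_mul, one_mul, mul_one, hZ,
      show (1 : Module.End ℂ U) + Z + (Z + 1) = (2 : ℂ) • (1 + Z) by module, smul_smul]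
    norm_num
  have hproj : LinearMap.IsProj (LinearMap.range P) P :=
    ⟨fun z => LinearMap.mem_range_self P z, fun z hz => by
      obtain ⟨y, rfl⟩ := hz
      exact LinearMap.congr_fun hPP y⟩
  refine ⟨2 * (finrank ℂ (LinearMap.range P) : ℤ) - (finrank ℂ U : ℤ), ?_, ?_⟩
  · have h : Z = (2 : ℂ) • P - 1 := by
      rw [hP, smul_smul]
      norm_num
    rw [h, map_sub, map_smul, hproj.trace, LinearMap.trace_one]
    push_cast
    rfl
  · have h := Submodule.finrank_le (LinearMap.range P)
    rw [abs_le]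
    omega

open scoped _root_.Classical in
theorem ZData.trace (hnd : NDPolar R) {ψ : AddChar F ℂ} (hψ : ψ.IsPrimitive)
    {ρ : Representation ℂ (siegelGroup (plane R)) U} {v : V} (hv : R v ≠ 0) {Z : Module.End ℂ U}
    {sgn : ℤ} (hZ : ZData ρ ψ v Z sgn) (h : Sing1 ρ ψ) (hm : ∀ z ∈ WS ρ ψ 0, Z z ∈ WS ρ ψ 0) :
    LinearMap.trace ℂ U Z = LinearMap.trace ℂ _ (Z.restrict hm) +
      (sgn : ℂ) * (((Nat.card {x : V // R x = 0 ∧ polar R x v = 0} : ℤ) - 1 : ℤ) : ℂ) := by
  have h0 : LinearMap.trace ℂ U (Z * WP ρ ψ 0) = LinearMap.trace ℂ _ (Z.restrict hm) := by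
    have hmem : ∀ z, (Z * WP ρ ψ 0) z ∈ WS ρ ψ 0 := fun z =>
      hm _ ((isProj_WP ρ ψ 0).map_mem z)
    rw [← LinearMap.trace_restrict_eq_of_forall_mem (WS ρ ψ 0) _ hmem (fun z _ => hmem z)]
    congr 1
    refine LinearMap.ext fun z => Subtype.ext ?_
    show Z (WP ρ ψ 0 z) = Z z
    rw [(isProj_WP ρ ψ 0).map_id _ z.2]
  have hx : ∀ x, x ≠ 0 → LinearMap.trace ℂ U (Z * WP ρ ψ x) =
      if R x = 0 ∧ polar R x v = 0 then (sgn : ℂ) else 0 := by
    intro x hx0
    by_cases hp : polar R x v = 0
    · have he : Z * WP ρ ψ x = (sgn : ℂ) • WP ρ ψ x := LinearMap.ext fun z =>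
        hZ.scal x hx0 hp _ ((isProj_WP ρ ψ x).map_mem z)
      rw [he, map_smul, (isProj_WP ρ ψ x).trace]
      change (sgn : ℂ) • (mult ρ ψ x : ℂ) = _
      rw [h.1 x hx0]
      by_cases hR : R x = 0
      · rw [hR, singInd_zero, if_pos ⟨rfl, hp⟩]
        simp
      · rw [singInd_of_ne hR, if_neg (fun hc => hR hc.1)]
        simp
    · rw [if_neg (fun hc => hp hc.2)]
      have hne : (refl R v).1 x ≠ x := fun hc => hp ((refl_eq_self_iff hv x).1 hc)
      have he : WP ρ ψ x * WP ρ ψ x = WP ρ ψ x :=
        LinearMap.ext fun z => (isProj_WP ρ ψ x).map_id _ ((isProj_WP ρ ψ x).map_mem z)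
      have hz : WP ρ ψ x * (Z * WP ρ ψ x) = 0 := LinearMap.ext fun z =>
        WP_of_ne hnd hψ ρ (Ne.symm hne) (hZ.mapsTo x _ ((isProj_WP ρ ψ x).map_mem z))
      rw [← he, ← mul_assoc, LinearMap.trace_mul_comm, hz, map_zero]
  conv_lhs => rw [← mul_one Z, ← sum_WP hnd hψ ρ, Finset.mul_sum, map_sum]
  rw [← Finset.add_sum_erase _ _ (Finset.mem_univ (0 : V)), h0,
    Finset.sum_congr rfl fun x hx' => hx x (Finset.ne_of_mem_erase hx'),
    Finset.sum_erase_eq_sub (Finset.mem_univ _), if_pos ⟨QuadraticMap.map_zero _, polar_zero_left R v⟩,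
    Finset.sum_ite, Finset.sum_const_zero, add_zero, Finset.sum_const, ← Fintype.card_subtype,
    ← Nat.card_eq_fintype_card, nsmul_eq_mul]
  push_cast
  ring

omit [Fintype V] [FiniteDimensional ℂ U] in
theorem ZData.mem_fixed {ρ : Representation ℂ (siegelGroup (plane R)) U} {ψ : AddChar F ℂ} {v : V}
    {Z : Module.End ℂ U} {sgn : ℤ} (hZ : ZData ρ ψ v Z sgn) :
    ∀ z ∈ WS ρ ψ 0, Z z ∈ WS ρ ψ 0 := fun z hz => by
  have h := hZ.mapsTo 0 z hz
  rwa [map_zero] at h

end Data

section Inherit

variable {F : Type u} [Field F] [Fintype F] {V : Type u} [AddCommGroup V] [Module F V] [Fintype V]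
variable {R : QuadraticForm F V} {U : Type v} [AddCommGroup U] [Module ℂ U] [FiniteDimensional ℂ U]

/-- The fixed vectors keep the involution. -/
theorem zData_fixedRep (hnd : NDPolar R) {ψ : AddChar F ℂ} (hψ : ψ.IsPrimitive)
    {ρ : Representation ℂ (siegelGroup (plane (plane R))) U} {v : V} {Z : Module.End ℂ U} {sgn : ℤ}
    (hZ : ZData ρ ψ (0, v) Z sgn) :
    ZData (fixedRep ρ ψ) ψ v (Z.restrict hZ.mem_fixed) sgn := by
  refine ⟨LinearMap.ext fun z => Subtype.ext ?_, fun g => LinearMap.ext fun z => Subtype.ext ?_,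
    fun p₀ hp₀ hp z hz => Subtype.ext ?_⟩
  · exact LinearMap.congr_fun hZ.sq (z : U)
  · show Z (ρ (lift (plane R) g) (z : U)) = ρ (lift (plane R) (conjBy _ g)) (Z z)
    rw [← conjBy_lift, ← Module.End.mul_apply, hZ.comm, Module.End.mul_apply]
  · show Z (z : U) = (sgn : ℂ) • (z : U)
    refine rep_injective ρ (swapN R) ?_
    rw [map_smul, ← Module.End.mul_apply, ← conjBy_swapN R v, ← hZ.comm, Module.End.mul_apply]
    rw [conjBy_swapN]
    set z' := ρ (swapN R) (z : U) with hz'
    have hnd' : NDPolar (plane R) := ndPolar_plane hnd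
    have hvv := mem_WS.1 hz
    have e1 : ∀ w' : V, ρ (rad (plane R) (0, w')) z' = ψ (polar R w' p₀) • z' := by
      intro w'
      rw [hz', ← Module.End.mul_apply, ← map_mul, ← swapN_rad, map_mul, Module.End.mul_apply]
      have := congrArg Subtype.val (hvv w')
      rw [fixedRep_apply] at this
      rw [this]
      simp
    have e2 : ∀ c : F, ρ (rad (plane R) ((c, 0), 0)) z' = z' := by
      intro c
      rw [hz', ← Module.End.mul_apply, ← map_mul, ← swapN_rad_eVec, map_mul, Module.End.mul_apply]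
      have := mem_WS.1 z.2 ((c, 0), 0)
      rw [polar_zero_right, AddChar.map_zero_eq_one, one_smul] at this
      rw [this]
    have hsum : z' = ∑ y, WP ρ ψ y z' := by
      rw [← LinearMap.sum_apply, sum_WP hnd' hψ ρ]
      rfl
    rw [hsum, map_sum, Finset.smul_sum]
    refine Finset.sum_congr rfl fun y _ => ?_
    by_cases hy : WP ρ ψ y z' = 0
    · rw [hy, map_zero, smul_zero]
    have hmem := (isProj_WP ρ ψ y).map_mem z'
    have key : ∀ (t : (F × F) × V) (a : ℂ), ρ (rad (plane R) t) z' = a • z' →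
        ψ (polar (plane R) t y) = a := by
      intro t a hta
      have hcomm : WP ρ ψ y (ρ (rad (plane R) t) z') = ρ (rad (plane R) t) (WP ρ ψ y z') := by
        simp only [WP, weightProj_apply, map_smul, map_sum, resChar_apply]
        congr 1
        refine Finset.sum_congr rfl fun s _ => ?_
        rw [← Module.End.mul_apply (ρ (rad (plane R) s)), ← map_mul,
          ← AddChar.map_add_eq_mul (rad (plane R)), add_comm, AddChar.map_add_eq_mul, map_mul,
          Module.End.mul_apply]
      rw [hta, map_smul, (mem_WS.1 hmem t)] at hcomm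
      exact (smul_left_injective ℂ hy hcomm).symm
    have hp' : y.2 = p₀ := by
      refine wchar_injective hnd hψ (DFunLike.ext _ _ fun w' => ?_)
      have h1 := key (0, w') _ (e1 w')
      simpa [wchar_apply, polar_plane] using h1
    have hy0 : y ≠ 0 := fun h => hp₀ (by rw [← hp', h]; rfl)
    exact hZ.scal y hy0 (by simp [polar_plane, hp', hp]) _ hmem

end Inherit

section Tower

variable {F : Type u} [Field F]

/-- The mirror vectors along the tower. -/
def vT (c : F) : ∀ j, TV F ((F × F) × (Unit → F)) j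
  | 0 => ((1, c), 0)
  | j + 1 => ((0 : F × F), vT c j)

theorem Q_vT (c : F) : ∀ j, TQ (baseOdd F) j (vT c j) = c
  | 0 => by
    show baseOdd F ((1, c), 0) = c
    simp [baseOdd, plane_apply]
  | j + 1 => by
    show plane (TQ (baseOdd F) j) ((0 : F × F), vT c j) = c
    rw [plane_apply, Q_vT c j]
    simp

variable [Fintype F]

/-- The number of singular vectors orthogonal to the mirror. -/
def ZC (ε q : ℤ) : ℕ → ℤ
  | 0 => q + ε * (q - 1)
  | j + 1 => q * ZC ε q j + (q - 1) * q ^ (2 * j + 2)

/-- The admissible mirrors. -/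
def Mirror (c : F) (ε : ℤ) : Prop :=
  (c = 1 ∧ ε = 1) ∨ (c = -1 ∧ ε = -1 ∧ ¬ IsSquare (-1 : F))

theorem Mirror.ne_zero {c : F} {ε : ℤ} (h : Mirror c ε) : c ≠ 0 := by
  rcases h with ⟨rfl, -⟩ | ⟨rfl, -⟩ <;> simp

theorem card_perp_vT (h2 : (2 : F) ≠ 0) (c : F) (hc : c ≠ 0) : ∀ j,
    (Nat.card {x : TV F ((F × F) × (Unit → F)) j // polar (TQ (baseOdd F) j) x (vT c j) = 0} : ℤ) =
      (Nat.card F : ℤ) ^ (2 * j + 2)
  | 0 => by
    let e : {x : (F × F) × (Unit → F) // polar (baseOdd F) x ((1, c), 0) = 0} ≃ F × (Unit → F) :=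
      { toFun := fun x => (x.1.1.1, x.1.2)
        invFun := fun y => ⟨((y.1, -(c * y.1)), y.2), by
          simp [baseOdd, polar_plane, polar_zero_right]; ring⟩
        left_inv := fun x => by
          refine Subtype.ext (Prod.ext (Prod.ext rfl ?_) rfl)
          have h := x.2
          simp [baseOdd, polar_plane, polar_zero_right] at h
          linear_combination -h
        right_inv := fun _ => rfl }
    show (Nat.card {x : (F × F) × (Unit → F) // polar (baseOdd F) x ((1, c), 0) = 0} : ℤ) = _
    rw [Nat.card_congr e, Nat.card_prod, Nat.card_fun, Nat.card_eq_fintype_card (α := Unit),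
      Fintype.card_unit]
    push_cast
    ring
  | j + 1 => by
    haveI : Finite (TV F ((F × F) × (Unit → F)) j) := inferInstance
    let e : {x : (F × F) × TV F ((F × F) × (Unit → F)) j //
        polar (plane (TQ (baseOdd F) j)) x ((0 : F × F), vT c j) = 0} ≃
          (F × F) × {x : TV F ((F × F) × (Unit → F)) j //
            polar (TQ (baseOdd F) j) x (vT c j) = 0} :=
      { toFun := fun x => (x.1.1, ⟨x.1.2, by simpa [polar_plane] using x.2⟩)
        invFun := fun y => ⟨(y.1, y.2.1), by simpa [polar_plane] using y.2.2⟩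
        left_inv := fun _ => rfl
        right_inv := fun _ => rfl }
    show (Nat.card {x : (F × F) × TV F ((F × F) × (Unit → F)) j //
        polar (plane (TQ (baseOdd F) j)) x ((0 : F × F), vT c j) = 0} : ℤ) = _
    rw [Nat.card_congr e, Nat.card_prod, Nat.card_prod]
    push_cast
    rw [card_perp_vT h2 c hc j]
    ring

theorem card_singPerp_vT (h2 : (2 : F) ≠ 0) {c : F} {ε : ℤ} (h : Mirror c ε) : ∀ j,
    (Nat.card {x : TV F ((F × F) × (Unit → F)) j //
      TQ (baseOdd F) j x = 0 ∧ polar (TQ (baseOdd F) j) x (vT c j) = 0} : ℤ) =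
      ZC ε (Nat.card F : ℤ) j
  | 0 => by
    classical
    show (Nat.card {x : (F × F) × (Unit → F) //
      baseOdd F x = 0 ∧ polar (baseOdd F) x ((1, c), 0) = 0} : ℤ) = _
    have hu : ∀ t : Unit → F, t = fun _ => t () := fun t => rfl
    rcases h with ⟨rfl, rfl⟩ | ⟨rfl, rfl, hns⟩
    · -- the hyperbolic line
      let e : {x : (F × F) × (Unit → F) // baseOdd F x = 0 ∧ polar (baseOdd F) x ((1, 1), 0) = 0} ≃
          F ⊕ {a : F // a ≠ 0} :=
        { toFun := fun x => if hx : x.1.2 () = x.1.1.1 then Sum.inl x.1.1.1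
            else Sum.inr ⟨x.1.1.1, fun h0 => hx (by
              have h1 := x.2.1
              have h3 := x.2.2
              simp [baseOdd, plane_apply, lineForm_apply, polar_plane, polar_zero_right] at h1 h3
              rw [h0] at h1 ⊢
              simpa using h1)⟩
          invFun := fun s => s.elim
            (fun a => ⟨((a, -a), fun _ => a), by simp [baseOdd, plane_apply, lineForm_apply], by
              simp [baseOdd, polar_plane, polar_zero_right]⟩)
            (fun a => ⟨((a.1, -a.1), fun _ => -a.1), by simp [baseOdd, plane_apply, lineForm_apply], by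
              simp [baseOdd, polar_plane, polar_zero_right]⟩)
          left_inv := fun x => by
            have h1 := x.2.1
            have h3 := x.2.2
            simp [baseOdd, plane_apply, lineForm_apply, polar_plane, polar_zero_right] at h1 h3
            by_cases hx : x.1.2 () = x.1.1.1
            · simp only [dif_pos hx, Sum.elim_inl]
              refine Subtype.ext (Prod.ext (Prod.ext rfl ?_) (funext fun _ => hx.symm))
              linear_combination -h3
            · simp only [dif_neg hx, Sum.elim_inr]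
              refine Subtype.ext (Prod.ext (Prod.ext rfl ?_) (funext fun _ => ?_))
              · linear_combination -h3
              · have h4 : (x.1.2 () - x.1.1.1) * (x.1.2 () + x.1.1.1) = 0 := by
                  linear_combination h1 - x.1.1.1 * h3
                have h5 := (mul_eq_zero.1 h4).resolve_left (sub_ne_zero.2 hx)
                linear_combination -h5
          right_inv := fun s => by
            rcases s with a | ⟨a, ha⟩
            · simp
            · have hne : -a ≠ a := fun h => ha (by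
                have h' : (2 : F) * a = 0 := by linear_combination -h
                exact (mul_eq_zero.1 h').resolve_left h2)
              simp [hne] }
      rw [Nat.card_congr e, Nat.card_sum, Nat.card_eq_fintype_card, Nat.card_eq_fintype_card,
        Fintype.card_subtype_compl, Fintype.card_subtype_eq, Nat.cast_add,
        Nat.cast_sub Fintype.card_pos, ZC]
      push_cast
      ring
    · -- the anisotropic line
      have h1 : Nat.card {x : (F × F) × (Unit → F) //
          baseOdd F x = 0 ∧ polar (baseOdd F) x ((1, -1), 0) = 0} = 1 := by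
        rw [Nat.card_eq_one_iff_unique]
        refine ⟨⟨fun x y => ?_⟩, ⟨⟨0, by simp, by simp⟩⟩⟩
        have key : ∀ x : {x : (F × F) × (Unit → F) //
            baseOdd F x = 0 ∧ polar (baseOdd F) x ((1, -1), 0) = 0}, x.1 = 0 := by
          intro x
          have h1 := x.2.1
          have h3 := x.2.2
          simp [baseOdd, plane_apply, lineForm_apply, polar_plane, polar_zero_right] at h1 h3
          have hb : x.1.1.2 = x.1.1.1 := by linear_combination h3
          rw [hb] at h1
          by_cases ht : x.1.2 () = 0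
          · rw [ht, mul_zero, add_zero, mul_self_eq_zero] at h1
            exact Prod.ext (Prod.ext h1 (hb.trans h1)) (funext fun _ => ht)
          · exact absurd ⟨x.1.1.1 / x.1.2 (), by field_simp; linear_combination -h1⟩ hns
        exact Subtype.ext ((key x).trans (key y).symm)
      rw [h1, ZC]
      push_cast
      ring
  | j + 1 => by
    have he : {x : (F × F) × TV F ((F × F) × (Unit → F)) j // plane (TQ (baseOdd F) j) x = 0 ∧
        polar (plane (TQ (baseOdd F) j)) x ((0 : F × F), vT c j) = 0} ≃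
        {x : (F × F) × TV F ((F × F) × (Unit → F)) j // plane (TQ (baseOdd F) j) x = 0 ∧
          (fun p => polar (TQ (baseOdd F) j) p (vT c j) = 0) x.2} :=
      Equiv.subtypeEquivRight fun x => by simp [polar_plane]
    show (Nat.card {x : (F × F) × TV F ((F × F) × (Unit → F)) j // plane (TQ (baseOdd F) j) x = 0 ∧
        polar (plane (TQ (baseOdd F) j)) x ((0 : F × F), vT c j) = 0} : ℤ) = _
    rw [Nat.card_congr he, card_plane_level_pred (TQ (baseOdd F) j) 0
        (fun p => polar (TQ (baseOdd F) j) p (vT c j) = 0), card_singPerp_vT h2 h j,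
      card_perp_vT h2 c h.ne_zero j, ZC]

/-- The sum of the fixed singular weights down the tower. -/
def SC (ε q : ℤ) : ℕ → ℤ
  | 0 => ZC ε q 0 - 1
  | j + 1 => SC ε q j + (ZC ε q (j + 1) - 1)

/-- The sum of the singular weights down the tower. -/
def TC (q : ℤ) : ℕ → ℤ
  | 0 => q ^ 2 - 1
  | j + 1 => TC q j + (q ^ (2 * (j + 2)) - 1)

/-- The trace of the involution: a fixed part and a bounded error. -/
theorem trace_tower {ψ : AddChar F ℂ} (hψ : ψ.IsPrimitive) (h2 : (2 : F) ≠ 0) {c : F} {ε : ℤ}
    (h : Mirror c ε) : ∀ (j : ℕ) (U : Type) [AddCommGroup U] [Module ℂ U] [FiniteDimensional ℂ U]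
      (ρ : Representation ℂ (siegelGroup (plane (TQ (baseOdd F) j))) U) (Z : Module.End ℂ U)
      (sgn : ℤ), Sing1 ρ ψ → ZData ρ ψ (vT c j) Z sgn →
      ∃ r : ℤ, LinearMap.trace ℂ U Z = ((sgn * SC ε (Nat.card F : ℤ) j + r : ℤ) : ℂ) ∧
        |r| ≤ (finrank ℂ U : ℤ) - TC (Nat.card F : ℤ) j
  | 0, U, _, _, _, ρ, Z, sgn, hρ, hZ => by
    cases nonempty_fintype (TV F ((F × F) × (Unit → F)) 0)
    have hE := oddForm_TQ h2 0
    have hv : TQ (baseOdd F) 0 (vT c 0) ≠ 0 := by rw [Q_vT]; exact h.ne_zero
    have htr := hZ.trace hE.nd hψ hv hρ hZ.mem_fixed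
    rw [card_singPerp_vT h2 h 0] at htr
    have hres : Z.restrict hZ.mem_fixed * Z.restrict hZ.mem_fixed = 1 :=
      LinearMap.ext fun z => Subtype.ext (LinearMap.congr_fun hZ.sq (z : U))
    obtain ⟨r, hr, hrb⟩ := exists_int_trace _ hres
    refine ⟨r, ?_, ?_⟩
    · rw [htr, hr, SC]
      push_cast
      ring
    · have hd := finrank_eq_sing1 hE.nd hψ ρ hρ
      rw [hE.card_zero] at hd
      refine hrb.trans (le_of_eq ?_)
      rw [TC, hd]
      show (mult ρ ψ 0 : ℤ) = _
      ring
  | j + 1, U, _, _, _, ρ, Z, sgn, hρ, hZ => by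
    cases nonempty_fintype (TV F ((F × F) × (Unit → F)) j)
    have hE := oddForm_TQ h2 j
    have hv : plane (TQ (baseOdd F) j) ((0 : F × F), vT c j) ≠ 0 := by
      rw [plane_apply, Q_vT]
      simpa using h.ne_zero
    have htr := hZ.trace (R := plane (TQ (baseOdd F) j)) hE.plane.nd hψ hv hρ hZ.mem_fixed
    obtain ⟨r, hr, hrb⟩ := trace_tower hψ h2 h j _ (fixedRep ρ ψ) _ sgn
      (sing1_fixedRep hE.nd hψ ρ hρ) (zData_fixedRep hE.nd hψ hZ)
    refine ⟨r, ?_, ?_⟩
    · refine htr.trans ((congrArg₂ (· + ·) hr (congrArg (fun z : ℤ => (sgn : ℂ) * ((z - 1 : ℤ) : ℂ))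
        (card_singPerp_vT h2 h (j + 1)))).trans ?_)
      rw [SC]
      push_cast
      ring
    · have hd := finrank_eq_sing1 (R := plane (TQ (baseOdd F) j)) hE.plane.nd hψ ρ hρ
      rw [hE.plane.card_zero] at hd
      obtain ⟨t, ht⟩ : ∃ t : ℕ, t = finrank ℂ (WS ρ ψ 0) := ⟨_, rfl⟩
      have hd' : (finrank ℂ U : ℤ) = (t : ℤ) + ((Nat.card F : ℤ) ^ (2 * (j + 2)) - 1) := by
        rw [ht]
        exact hd
      refine hrb.trans (le_of_eq ?_)
      rw [TC, hd', ht]
      ring_nf

end Tower

end CfsgLib.MinDeg.OrthBd
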