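import Cfsg.Agent.Lib.MinDeg.OrthBound
import Mathlib.Data.ZMod.Basic
import Mathlib.Data.Fintype.Prod

/-!
# The smallest elliptic case over the field with two elements

An element of order nine of `Ω⁻₆(2)`, conjugate to its fourth power there and to its inverse in the
group one level up, rules out a five-dimensional space of fixed vectors.
-/

set_option autoImplicit false

namespace CfsgLib.MinDeg.OrthBd

open QuadraticMap Module CfsgLib.Classical.Quad

universe u v

section Model

/-- Coordinates over the prime field. -/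
abbrev T2 : Type := (ZMod 2 × ZMod 2) × ((ZMod 2 × ZMod 2) × (ZMod 2 × ZMod 2))

/-- The elliptic form in six variables over the prime field. -/
def Qz (v : T2) : ZMod 2 :=
  v.1.1 * v.1.2 + v.2.1.1 * v.2.1.2 + (v.2.2.1 * v.2.2.1 + v.2.2.1 * v.2.2.2 + v.2.2.2 * v.2.2.2)

/-- A reflection in coordinates. -/
def rz (v x : T2) : T2 :=
  let c := Qz (x + v) + Qz x + Qz v
  ((x.1.1 + c * v.1.1, x.1.2 + c * v.1.2), ((x.2.1.1 + c * v.2.1.1, x.2.1.2 + c * v.2.1.2),
    (x.2.2.1 + c * v.2.2.1, x.2.2.2 + c * v.2.2.2)))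

/-- Mirrors of the element of order nine. -/
def gWord : List T2 :=
  [((1, 0), ((0, 0), (1, 1))), ((0, 1), ((0, 0), (0, 1))), ((0, 0), ((1, 0), (0, 1))),
    ((0, 0), ((0, 1), (0, 1))), ((0, 0), ((0, 0), (1, 0))), ((0, 0), ((0, 0), (0, 1)))]

/-- Mirrors of an element raising it to the fourth power. -/
def hWord : List T2 :=
  [((1, 0), ((1, 0), (0, 1))), ((1, 0), ((0, 0), (0, 1))), ((0, 1), ((0, 1), (0, 1))),
    ((0, 0), ((0, 1), (0, 1)))]

/-- Mirrors of an element inverting it. -/
def sWord : List T2 :=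
  [((0, 1), ((0, 0), (1, 0))), ((0, 0), ((1, 0), (1, 0))), ((0, 0), ((0, 0), (1, 0)))]

/-- The action of a word. -/
def actZ (l : List T2) (x : T2) : T2 := l.foldr rz x

/-- Iterates of the element of order nine. -/
def gPow : ℕ → T2 → T2
  | 0, x => x
  | n + 1, x => actZ gWord (gPow n x)

theorem g_nine : ∀ x : T2, gPow 9 x = x := by decide +kernel

theorem g_four : ∀ x : T2, actZ hWord (actZ gWord x) = gPow 4 (actZ hWord x) := by decide +kernel

theorem g_inv : ∀ x : T2, actZ gWord (actZ sWord (actZ gWord x)) = actZ sWord x := by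
  decide +kernel

theorem g_three : ∀ x : T2, gPow 3 x = x → x = 0 := by decide +kernel

theorem word_Q : ∀ v ∈ gWord ++ hWord ++ sWord, Qz v = 1 := by decide

end Model

section Transfer

variable {F : Type u} [Field F] [Fintype F] (ι : ZMod 2 →+* F) (a b : F)

/-- The vector with given coordinates. -/
def toV (t : T2) : (F × F) × ((F × F) × (Fin 2 → F)) :=
  ((ι t.1.1, ι t.1.2), ((ι t.2.1.1, ι t.2.1.2), ![ι t.2.2.1, ι t.2.2.2]))

omit [Fintype F] in
theorem Q_toV (t : T2) : plane (plane (binForm 1 1)) (toV ι t) = ι (Qz t) := by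
  simp [toV, Qz, plane_apply, binForm_apply, map_add, map_mul]
  ring

omit [Fintype F] in
theorem toV_add (x y : T2) : toV ι (x + y) = toV ι x + toV ι y := by
  ext i <;> (try fin_cases i) <;> simp [toV]

omit [Fintype F] in
theorem refl_toV {v : T2} (hv : Qz v = 1) (x : T2) :
    (refl (plane (plane (binForm (1 : F) 1))) (toV ι v)).1 (toV ι x) = toV ι (rz v x) := by
  haveI : CharP F 2 := charP_of_injective_ringHom (RingHom.injective ι) 2
  have hp : polar (plane (plane (binForm (1 : F) 1))) (toV ι x) (toV ι v) =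
      ι (Qz (x + v) + Qz x + Qz v) := by
    rw [polar, ← toV_add, Q_toV, Q_toV, Q_toV, map_add, map_add, CharTwo.sub_eq_add,
      CharTwo.sub_eq_add]
  rw [refl_apply, hp, Q_toV, hv, map_one, div_one, CharTwo.neg_eq]
  ext i <;> (try fin_cases i) <;> simp [toV, rz, hv]

/-- The isometry of a word. -/
noncomputable def wordIso (l : List T2) : Orth (plane (plane (binForm (1 : F) 1))) :=
  (l.map fun v => refl (plane (plane (binForm (1 : F) 1))) (toV ι v)).prod

omit [Fintype F] in
theorem wordIso_toV {l : List T2} (hl : ∀ v ∈ l, Qz v = 1) (x : T2) :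
    (wordIso ι l).1 (toV ι x) = toV ι (actZ l x) := by
  induction l with
  | nil => rfl
  | cons v l ih =>
    have h1 := ih fun w hw => hl w (List.mem_cons_of_mem _ hw)
    simp only [wordIso, List.map_cons, List.prod_cons, mul_apply] at h1 ⊢
    rw [h1, refl_toV ι (hl v List.mem_cons_self)]
    rfl

theorem toV_bijective (hF : Fintype.card F = 2) : Function.Bijective (toV ι) := by
  have hinj : Function.Injective (toV ι) := by
    intro x y h
    simp only [toV, Prod.mk.injEq, Matrix.vecCons_inj] at h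
    obtain ⟨⟨h1, h2⟩, ⟨h3, h4⟩, h5, h6, -⟩ := h
    have hi := RingHom.injective ι
    exact Prod.ext (Prod.ext (hi h1) (hi h2))
      (Prod.ext (Prod.ext (hi h3) (hi h4)) (Prod.ext (hi h5) (hi h6)))
  rw [Fintype.bijective_iff_injective_and_card]
  exact ⟨hinj, by simp [hF, ZMod.card]⟩

omit [Fintype F] in
theorem ext_toV (hb : Function.Bijective (toV ι))
    {g g' : Orth (plane (plane (binForm (1 : F) 1)))}
    (h : ∀ x, g.1 (toV ι x) = g'.1 (toV ι x)) : g = g' :=
  orth_ext fun y => by
    obtain ⟨x, rfl⟩ := hb.2 y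
    exact h x

end Transfer

section Words

variable {F : Type u} [Field F] [Fintype F] {V : Type u} [AddCommGroup V] [Module F V]
  [FiniteDimensional F V] {Q : QuadraticForm F V}

/-- Over two elements, a product of an even number of reflections is in the Siegel group. -/
theorem prod_refl_mem (hnd : NDPolar Q) (P : Frame Q) :
    ∀ {l : List V}, (∀ v ∈ l, Q v = 1) → Even l.length → (l.map (refl Q)).prod ∈ siegelGroup Q
  | [], _, _ => by simp
  | [v], _, h => by simp at h
  | v :: w :: l, hl, h => by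
    simp only [List.map_cons, List.prod_cons, ← mul_assoc]
    refine mul_mem ?_ (prod_refl_mem hnd P (fun x hx => hl x (by simp [hx])) ?_)
    · rw [← QuotientGroup.eq_one_iff, ← QuotientGroup.mk'_apply, map_mul, reflClass_eq hnd P,
        reflClass_eq hnd P, hl v (by simp), hl w (by simp), reflClass_mul_self]
    · simpa [parity_simps] using h

end Words

section Excl

/-- The weights of a cyclic group. -/
noncomputable def powChar {G : Type*} [Monoid G] (g : G) {n : ℕ} [NeZero n] (h : g ^ n = 1) :
    AddChar (ZMod n) G where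
  toFun k := g ^ k.val
  map_zero_eq_one' := by simp
  map_add_eq_mul' x y := by rw [ZMod.val_add, ← pow_add, ← pow_eq_pow_mod _ h]

theorem finrank_weight_comp {A : Type*} [AddCommGroup A] [Fintype A] {U : Type*} [AddCommGroup U]
    [Module ℂ U] [FiniteDimensional ℂ U] (E : AddChar A (Module.End ℂ U)) (e : A ≃+ A)
    (he : ∀ a, LinearMap.trace ℂ U (E (e a)) = LinearMap.trace ℂ U (E a)) (χ : AddChar A ℂ) :
    finrank ℂ (weightSpace E (χ.compAddMonoidHom e.toAddMonoidHom)) =
      finrank ℂ (weightSpace E χ) := by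
  have h1 := finrank_weightSpace_mul_card E (χ.compAddMonoidHom e.toAddMonoidHom)
  have h2 := finrank_weightSpace_mul_card E χ
  rw [← e.toEquiv.sum_comp] at h2
  have h3 : ∀ a, (χ.compAddMonoidHom e.toAddMonoidHom) (-a) * LinearMap.trace ℂ U (E a) =
      χ (-(e.toEquiv a)) * LinearMap.trace ℂ U (E (e.toEquiv a)) := fun a => by
    rw [AddEquiv.toEquiv_eq_coe, AddEquiv.coe_toEquiv, he]
    simp [AddChar.compAddMonoidHom_apply]
  rw [Finset.sum_congr rfl fun a _ => h3 a, ← h2] at h1
  exact_mod_cast mul_right_cancel₀ card_cast_ne_zero h1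

variable {F : Type u} [Field F] [Fintype F] {U : Type v} [AddCommGroup U] [Module ℂ U]
  [FiniteDimensional ℂ U]

/-- No representation of `Ω⁻₈(2)` with singular weights only has five fixed vectors. -/
theorem six_le_fixed {a b : F} (hab : IsAniso a b) (hF : Fintype.card F = 2) {ψ : AddChar F ℂ}
    (hψ : ψ.IsPrimitive) (ρ : Representation ℂ (siegelGroup (plane (plane (baseMinus a b)))) U)
    (h : Sing1 ρ ψ) : 6 ≤ mult ρ ψ 0 := by
  classical
  -- the coefficients
  have hall : ∀ x : F, x = 0 ∨ x = 1 := by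
    intro x
    by_contra hc
    push Not at hc
    have := Finset.card_le_univ ({0, 1, x} : Finset F)
    rw [Finset.card_insert_of_notMem (by simp [Ne.symm hc.1]),
      Finset.card_insert_of_notMem (by simp [Ne.symm hc.2]), Finset.card_singleton, hF] at this
    omega
  haveI : CharP F 2 := ringChar.of_eq ((FiniteField.even_card_iff_char_two).2 (by rw [hF]))
  obtain rfl : b = 1 := (hall b).resolve_left fun hb => by
    simpa using (hab 0 1 (by rw [hb]; ring)).2
  obtain rfl : a = 1 := (hall a).resolve_left fun ha => by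
    simpa using (hab 1 1 (by rw [ha]; linear_combination CharTwo.two_eq_zero (R := F))).1
  revert h
  revert ρ
  set R := plane (baseMinus (1 : F) 1) with hRdef
  intro ρ h
  let ι : ZMod 2 →+* F := ZMod.castHom dvd_rfl F
  have hb := toV_bijective ι hF
  have hE := evenForm_baseMinus hab
  obtain ⟨P⟩ := hE.nonempty_frame
  obtain ⟨P'⟩ := hE.plane.nonempty_frame
  haveI : Finite (Fin 2 → F) := Finite.of_fintype _
  haveI : Fintype ((F × F) × (Fin 2 → F)) := Fintype.ofFinite _
  have hone : ∀ {l : List T2}, (∀ v ∈ l, Qz v = 1) → ∀ v ∈ l.map (toV ι), R v = 1 := by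
    intro l hl v hv
    obtain ⟨t, ht, rfl⟩ := List.mem_map.1 hv
    exact (Q_toV ι t).trans (by rw [hl t ht, map_one])
  have hQg : ∀ v ∈ gWord, Qz v = 1 := fun v hv => word_Q v (by simp [hv])
  have hQh : ∀ v ∈ hWord, Qz v = 1 := fun v hv => word_Q v (by simp [hv])
  have hQs : ∀ v ∈ sWord, Qz v = 1 := fun v hv => word_Q v (by simp [hv])
  have hgm : wordIso ι gWord ∈ siegelGroup R := by
    have := prod_refl_mem hE.plane.nd P (hone hQg) (by simp [gWord, Nat.even_iff])
    rwa [List.map_map] at this
  have hhm : wordIso ι hWord ∈ siegelGroup R := by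
    have := prod_refl_mem hE.plane.nd P (hone hQh) (by simp [hWord, Nat.even_iff])
    rwa [List.map_map] at this
  set g : siegelGroup R := ⟨_, hgm⟩ with hg
  set hh : siegelGroup R := ⟨_, hhm⟩ with hhh
  have hgg : ∀ x, (wordIso ι gWord).1 (toV ι x) = toV ι (actZ gWord x) := wordIso_toV ι hQg
  have hpow : ∀ (n : ℕ) (x : T2), (g ^ n).1.1 (toV ι x) = toV ι (gPow n x) := by
    intro n
    induction n with
    | zero => intro x; rfl
    | succ n ih =>
      intro x
      rw [pow_succ']
      show (wordIso ι gWord).1 ((g ^ n).1.1 (toV ι x)) = _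
      rw [ih x, hgg]
      rfl
  have hg9 : g ^ 9 = 1 := Subtype.ext (ext_toV ι hb fun x => by
    rw [hpow 9, g_nine]; rfl)
  have hg4 : hh * g * hh⁻¹ = g ^ 4 := by
    rw [mul_inv_eq_iff_eq_mul]
    exact Subtype.ext (ext_toV ι hb fun x => by
      show (wordIso ι hWord).1 ((wordIso ι gWord).1 (toV ι x)) =
        (g ^ 4).1.1 ((wordIso ι hWord).1 (toV ι x))
      rw [hgg, wordIso_toV ι hQh, wordIso_toV ι hQh, hpow, g_four])
  -- fixed vectors
  have hfix3 : ∀ x, (g ^ 3).1.1 x = x → x = 0 := by
    intro x hx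
    obtain ⟨t, rfl⟩ := hb.2 x
    rw [hpow] at hx
    rw [g_three t (hb.1 hx)]
    simp [toV]
  have hfixk : ∀ k : ℕ, g ^ k ≠ 1 → ∀ x, (g ^ k).1.1 x = x → x = 0 := by
    intro k hk x hx
    apply hfix3
    have hmul : ∀ j : ℕ, ((g ^ k) ^ j).1.1 x = x := by
      intro j
      induction j with
      | zero => rfl
      | succ j ih => rw [pow_succ]; show ((g ^ k) ^ j).1.1 ((g ^ k).1.1 x) = x; rw [hx, ih]
    have hkey : ∃ j, (g ^ k) ^ j = g ^ 3 := by
      have h3 : ∀ j m : ℕ, k * j % 9 = m % 9 → (g ^ k) ^ j = g ^ m := fun j m hjm => by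
        rw [← pow_mul, pow_eq_pow_mod _ hg9, hjm, ← pow_eq_pow_mod _ hg9]
      have hk9 : k % 9 ≠ 0 := fun h0 => hk (by rw [pow_eq_pow_mod _ hg9, h0, pow_zero])
      have hr : k % 9 = 1 ∨ k % 9 = 2 ∨ k % 9 = 3 ∨ k % 9 = 4 ∨ k % 9 = 5 ∨ k % 9 = 6 ∨
          k % 9 = 7 ∨ k % 9 = 8 := by omega
      rcases hr with h | h | h | h | h | h | h | h
      · exact ⟨3, h3 3 3 (by omega)⟩
      · exact ⟨6, h3 6 3 (by omega)⟩
      · exact ⟨1, h3 1 3 (by omega)⟩
      · exact ⟨3, h3 3 3 (by omega)⟩
      · exact ⟨6, h3 6 3 (by omega)⟩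
      · exact ⟨2, h3 2 3 (by omega)⟩
      · exact ⟨3, h3 3 3 (by omega)⟩
      · exact ⟨6, h3 6 3 (by omega)⟩
    obtain ⟨j, hj⟩ := hkey
    rw [← hj]
    exact hmul j
  -- the inverting element one level up
  let wS : Orth R := wordIso ι sWord
  have hwS : wS = ((sWord.map (toV ι)).map (refl R)).prod := by rw [List.map_map]; rfl
  have hsinv : wS * g.1 * wS⁻¹ = g.1⁻¹ := by
    rw [mul_inv_eq_iff_eq_mul, eq_inv_mul_iff_mul_eq]
    exact ext_toV ι hb fun x => by
      show (wordIso ι gWord).1 ((wordIso ι sWord).1 ((wordIso ι gWord).1 (toV ι x))) =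
        (wordIso ι sWord).1 (toV ι x)
      simp only [wS, hg, mul_apply, hgg, wordIso_toV ι hQs, g_inv]
  set e₀ : (F × F) × ((F × F) × ((F × F) × (Fin 2 → F))) := ((1, 1), 0) with he₀
  have hcomm : ∀ k : Orth R, liftOrth R k * refl (plane R) e₀ = refl (plane R) e₀ * liftOrth R k := by
    intro k
    have h1 := refl_conj (liftOrth R k) e₀
    rw [show (liftOrth R k).1 e₀ = e₀ from Prod.ext rfl (map_zero k.1)] at h1
    exact mul_inv_eq_iff_eq_mul.1 h1
  set s₀ : Orth (plane R) := liftOrth R wS * refl (plane R) e₀ with hs₀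
  have hs₀m : s₀ ∈ siegelGroup (plane R) := by
    have hl : ∀ v : (F × F) × ((F × F) × (Fin 2 → F)), R v = 1 →
        liftOrth R (refl R v) = refl (plane R) (0, v) := by
      intro v hv
      refine orth_ext fun t => ?_
      rw [liftOrth_apply, refl_apply, refl_apply]
      refine Prod.ext ?_ ?_
      · simp
      · simp [polar_plane, plane_apply]
    have := prod_refl_mem hE.plane.plane.nd P'
      (l := ((sWord.map (toV ι)).map fun v => ((0 : F × F), v)) ++ [e₀]) ?_ (by simp [sWord, Nat.even_iff])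
    · rw [List.map_append, List.prod_append] at this
      simp only [List.map_map, List.map_cons, List.map_nil, List.prod_singleton] at this
      convert this using 2
      rw [hwS, map_list_prod, List.map_map, List.map_map]
      congr 1
      refine List.map_congr_left fun v hv => ?_
      exact hl _ ((Q_toV ι v).trans (by rw [hQs v hv, map_one]))
    · intro v hv
      rcases List.mem_append.1 hv with hv | hv
      · obtain ⟨w, hw, rfl⟩ := List.mem_map.1 hv
        rw [plane_apply, hone hQs w hw]
        simp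
      · obtain rfl : v = e₀ := List.mem_singleton.1 hv
        simp [he₀, plane_apply]
  set s : siegelGroup (plane R) := ⟨s₀, hs₀m⟩ with hs
  have hsg : s * lift R g * s⁻¹ = (lift R g)⁻¹ := by
    apply Subtype.ext
    show s₀ * liftOrth R g.1 * s₀⁻¹ = (liftOrth R g.1)⁻¹
    rw [← map_inv, ← hsinv, map_mul, map_mul, map_inv, hs₀, mul_assoc _ (refl (plane R) e₀) _,
      ← hcomm, mul_inv_rev]
    group
  -- the character of the fixed vectors on the cyclic group
  set C := fixedRep ρ ψ with hC
  have hconj_trace : ∀ {G : Type u} [Group G] {W : Type v} [AddCommGroup W] [Module ℂ W]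
      [FiniteDimensional ℂ W] (π : Representation ℂ G W) (x y : G),
      LinearMap.trace ℂ W (π (x * y * x⁻¹)) = LinearMap.trace ℂ W (π y) := by
    intro G _ W _ _ _ π x y
    rw [map_mul π, map_mul π, LinearMap.trace_mul_comm, ← mul_assoc, ← map_mul π, inv_mul_cancel,
      map_one, one_mul]
  have htr : ∀ x : siegelGroup R, (∀ v, x.1.1 v = v → v = 0) →
      LinearMap.trace ℂ U (ρ (lift R x)) = LinearMap.trace ℂ _ (C x) := by
    intro x hx
    refine (trace_lift hE.plane.nd hψ ρ x (fun v hv hxv => absurd (hx v hxv) hv)).trans ?_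
    rw [hC, add_eq_left]
    exact Finset.sum_eq_zero fun v _ => if_neg fun hc => hc.1 (hx v hc.2)
  set E : AddChar (ZMod 9) (Module.End ℂ (WS ρ ψ 0)) := resChar C (powChar g hg9) with hEdef
  have hEa : ∀ k, E k = C (g ^ k.val) := fun k => rfl
  have hneg : ∀ k, LinearMap.trace ℂ _ (E (-k)) = LinearMap.trace ℂ _ (E k) := by
    intro k
    have hpk : powChar g hg9 (-k) = (g ^ k.val)⁻¹ := by
      rw [AddChar.map_neg_eq_inv]; rfl
    rw [hEdef, resChar_apply, resChar_apply, hpk]
    by_cases hk : g ^ k.val = 1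
    · rw [hk, inv_one]
      exact (congrArg (fun z => LinearMap.trace ℂ _ (C z)) hk).symm
    have hfx := hfixk _ hk
    rw [← htr _ fun v hv => hfx v (by
        conv_lhs => rw [← hv]
        exact self_apply_inv (g ^ k.val).1 v),
      show (powChar g hg9) k = g ^ k.val from rfl, ← htr _ hfx]
    have hp : lift R (g ^ k.val)⁻¹ = s * lift R (g ^ k.val) * s⁻¹ := by
      rw [map_inv, map_pow, ← conj_pow, hsg, inv_pow]
    rw [hp, hconj_trace]
  have hfour : ∀ k, LinearMap.trace ℂ _ (E (4 * k)) = LinearMap.trace ℂ _ (E k) := by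
    intro k
    have hp : g ^ (4 * k).val = hh * g ^ k.val * hh⁻¹ := by
      rw [← conj_pow, hg4, ← pow_mul, pow_eq_pow_mod (4 * k.val) hg9, ZMod.val_mul]
      rfl
    rw [hEa, hEa, hp, hconj_trace]
  let e1 : ZMod 9 ≃+ ZMod 9 := AddEquiv.neg (ZMod 9)
  let e4 : ZMod 9 ≃+ ZMod 9 :=
    { toFun := fun k => 4 * k
      invFun := fun k => 7 * k
      left_inv := fun k => by
        show (7 : ZMod 9) * (4 * k) = k
        rw [← mul_assoc, show (7 : ZMod 9) * 4 = 1 by decide, one_mul]
      right_inv := fun k => by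
        show (4 : ZMod 9) * (7 * k) = k
        rw [← mul_assoc, show (4 : ZMod 9) * 7 = 1 by decide, one_mul]
      map_add' := mul_add 4 }
  by_contra hlt
  push Not at hlt
  -- the cube acts trivially
  have hcube : C (g ^ 3) = 1 := by
    by_contra hne
    obtain ⟨χ, hχ3, hχW⟩ := exists_weight_apply_ne_one E (a := (3 : ZMod 9)) hne
    let orb : ZMod 9 → AddChar (ZMod 9) ℂ := fun t =>
      χ.compAddMonoidHom (AddMonoidHom.mulLeft t)
    have hm : ∀ t ∈ ({1, 4, 7, 8, 5, 2} : Finset (ZMod 9)),
        1 ≤ finrank ℂ (weightSpace E (orb t)) := by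
      have h1 : 1 ≤ finrank ℂ (weightSpace E (orb 1)) := by
        rw [show orb 1 = χ from DFunLike.ext _ _ fun k => by simp [orb]]
        exact one_le_finrank_of_ne_bot hχW
      have h4 : ∀ t, finrank ℂ (weightSpace E (orb (t * 4))) = finrank ℂ (weightSpace E (orb t)) := by
        intro t
        rw [show orb (t * 4) = (orb t).compAddMonoidHom e4.toAddMonoidHom from
          DFunLike.ext _ _ fun k => by simp [orb, e4, mul_assoc]]
        exact finrank_weight_comp E e4 hfour (orb t)
      have hn : ∀ t, finrank ℂ (weightSpace E (orb (-t))) = finrank ℂ (weightSpace E (orb t)) := by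
        intro t
        rw [show orb (-t) = (orb t).compAddMonoidHom e1.toAddMonoidHom from
          DFunLike.ext _ _ fun k => by simp [orb, e1]]
        exact finrank_weight_comp E e1 hneg (orb t)
      have h4' : 1 ≤ finrank ℂ (weightSpace E (orb 4)) := by
        have := h4 1; rw [one_mul] at this; omega
      have h7 : 1 ≤ finrank ℂ (weightSpace E (orb 7)) := by
        have := h4 4; rw [show (4 : ZMod 9) * 4 = 7 by decide] at this; omega
      intro t ht
      simp only [Finset.mem_insert, Finset.mem_singleton] at ht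
      rcases ht with rfl | rfl | rfl | rfl | rfl | rfl
      · exact h1
      · exact h4'
      · exact h7
      · have := hn 1; rw [show -(1 : ZMod 9) = 8 by decide] at this; omega
      · have := hn 4; rw [show -(4 : ZMod 9) = 5 by decide] at this; omega
      · have := hn 7; rw [show -(7 : ZMod 9) = 2 by decide] at this; omega
    have hinj : Function.Injective orb := by
      intro t t' htt
      by_contra hne'
      have key : ∀ d : ZMod 9, d ≠ 0 → ∃ m : ZMod 9, d * m = 3 := by decide
      obtain ⟨m, hm'⟩ := key (t - t') (sub_ne_zero.2 hne')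
      apply hχ3
      have he : χ (t * m) = χ (t' * m) := DFunLike.congr_fun htt m
      rw [← hm', sub_mul, sub_eq_add_neg, AddChar.map_add_eq_mul, he, ← AddChar.map_add_eq_mul,
        add_neg_cancel, AddChar.map_zero_eq_one]
    have hsum := mul_le_finrank E (({1, 4, 7, 8, 5, 2} : Finset (ZMod 9)).image orb) 1 fun c hc => by
      obtain ⟨t, ht, rfl⟩ := Finset.mem_image.1 hc
      exact hm t ht
    rw [Finset.card_image_of_injective _ hinj, mul_one] at hsum
    rw [show ({1, 4, 7, 8, 5, 2} : Finset (ZMod 9)).card = 6 by decide] at hsum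
    exact absurd (hsum.trans_lt hlt) (lt_irrefl _)
  -- so the fixed vectors are a trivial representation
  have hker : g ^ 3 ∈ MonoidHom.ker C := hcube
  rcases normal_siegelGroup_dichotomy hE.plane.nd P (MonoidHom.ker C) inferInstance with hs' | hs'
  · have he0 : (((1 : F), (0 : F)), (0 : (F × F) × (Fin 2 → F))) ≠ 0 := by simp
    rcases hs' _ hker with hs'' | hs''
    · exact he0 (hfix3 _ (hs'' _))
    · refine he0 (hfix3 _ ((hs'' _).trans ?_))
      rw [Prod.neg_mk, Prod.neg_mk, CharTwo.neg_eq, neg_zero, neg_zero]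
  · have hsC := sing1_fixedRep hE.nd hψ ρ h
    have he0 : (((1 : F), (0 : F)), (0 : Fin 2 → F)) ≠ 0 := by simp
    have h1 : mult C ψ ((1, 0), 0) = 1 := by
      rw [hsC.1 _ he0, show baseMinus (1 : F) 1 ((1, 0), 0) = 0 from Q_eVec _, singInd_zero]
    obtain ⟨v, hv, hv0⟩ := Submodule.exists_mem_ne_zero_of_ne_bot
      (p := WS C ψ ((1, 0), 0)) (fun hb' => by rw [mult, hb', finrank_bot] at h1; exact zero_ne_one h1)
    refine he0 (wchar_injective hE.nd hψ ((DFunLike.ext _ _ fun w => ?_).trans
      (wchar_zero _ ψ).symm))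
    have h2 := mem_WS.1 hv w
    have h3 : C (rad (baseMinus (1 : F) 1) w) = 1 :=
      (show rad (baseMinus (1 : F) 1) w ∈ MonoidHom.ker C by rw [hs']; trivial)
    rw [h3, Module.End.one_apply] at h2
    rw [AddChar.zero_apply, wchar_apply]
    exact smul_left_injective ℂ hv0
      (show ψ (polar (baseMinus (1 : F) 1) w ((1, 0), 0)) • v = (1 : ℂ) • v by rw [one_smul, ← h2])

end Excl

end CfsgLib.MinDeg.OrthBd
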