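import Cfsg.Agent.Lib.MinDeg.OrthStd
import Cfsg.Agent.Lib.MinDeg.OrthOmega82

/-!
# The degree bound for the standard orthogonal groups of minus type
-/

set_option autoImplicit false

namespace CfsgLib.MinDeg.OrthBd

open QuadraticMap Module CfsgLib.Classical.Quad

universe u v

variable {F : Type u} [Field F] [Fintype F] {a b : F}

theorem isGoodPlane_binForm (hab : IsAniso a b) : IsGoodPlane (binForm a b) := by
  have hb : b ≠ 0 := fun h => by simpa using (hab 0 1 (by rw [h]; ring)).2
  have hd := hab.disc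
  by_cases ha : a = 0
  · subst ha
    have h4b : (4 : F) * b ≠ 0 := by simpa using hd
    have h2 : (2 : F) ≠ 0 := fun h => h4b (by linear_combination (2 * b) * h)
    refine ⟨![1, 0], ![1, 1], ⟨?_, ?_, ?_, ?_⟩, fun w => ⟨w 0 - w 1, w 1, ?_⟩⟩
    · simp [binForm_apply]
    · intro h
      simp [binForm_apply] at h
      exact one_ne_zero (hab 1 1 (by linear_combination h)).1
    · simp [polar_binForm]
      exact h2
    · simp [polar_binForm, binForm_apply]
      intro h
      exact h4b (by linear_combination h)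
    · funext i
      fin_cases i <;> simp
  · refine ⟨![1, 0], ![0, 1], ⟨?_, ?_, ?_, ?_⟩, fun w => ⟨w 0, w 1, ?_⟩⟩
    · simp [binForm_apply]
    · simpa [binForm_apply] using hb
    · simpa [polar_binForm] using ha
    · simp [polar_binForm, binForm_apply]
      intro h
      exact hd (by linear_combination h)
    · funext i
      fin_cases i <;> simp

theorem singBd_minus (hab : IsAniso a b) {ψ : AddChar F ℂ} (hψ : ψ.IsPrimitive) :
    ∀ j, SingBd ψ (TQ (baseMinus a b) (j + 1)) (-1) (j + 1) 0
  | 0 => by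
    cases nonempty_fintype ((F × F) × (Fin 2 → F))
    refine singBd_step (R := baseMinus a b) hψ (i := 0) (evenForm_baseMinus hab) (singBd_baseMinus hψ hab) ?_
    intro U _ _ _ ρ hρ f hf hlo hhi hdvd
    set q : ℤ := (Nat.card F : ℤ) with hq
    have hN : NB (-1) q 0 = q * (q ^ 2 - q + 1) := by rw [NB]; ring
    rw [hN] at hlo hhi
    have hfe : f = q ^ 3 - q ^ 2 + q - 1 := by linarith
    subst hfe
    by_cases h2 : Fintype.card F = 2
    · have h6 := six_le_fixed hab h2 hψ ρ hρ
      have hq2 : q = 2 := by rw [hq, Nat.card_eq_fintype_card, h2]; rfl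
      rw [hq2] at hf
      have : (6 : ℤ) ≤ (mult ρ ψ 0 : ℤ) := by exact_mod_cast h6
      linarith
    · have hq3 : 3 ≤ q := by
        have h := Fintype.one_lt_card (α := F)
        rw [hq, Nat.card_eq_fintype_card]
        exact_mod_cast (show 3 ≤ Fintype.card F by omega)
      refine int_minus hq3 ?_
      norm_num at hdvd
      refine (dvd_of_eq ?_).trans (hdvd.trans (dvd_of_eq ?_)) <;> ring
  | j + 1 => by
    cases nonempty_fintype (TV F ((F × F) × (Fin 2 → F)) (j + 1))
    have h := evenForm_TQ (evenForm_baseMinus hab) (j + 1)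
    rw [show 2 + (j + 1) = j + 1 + 2 by omega] at h
    exact singBd_step hψ h (singBd_minus hab hψ j) fun _ _ _ _ _ _ f _ h1 h2 _ => by linarith

theorem minus_bound (hab : IsAniso a b) (j : ℕ) {k : ℕ}
    (ρ : Representation ℂ (siegelGroup (TQ (baseMinus a b) (j + 2))) (Fin k → ℂ))
    (hρ : ρ.IsIrreducible) (hk : 2 ≤ k) : NB (-1) (Nat.card F : ℤ) (j + 1) ≤ (k : ℤ) := by
  obtain ⟨ψ, hψ⟩ := exists_primitive_char F
  cases nonempty_fintype ((F × F) × (Fin 2 → F))
  have hlev : Fintype.card F ≤ 3 → ∀ c : F, c ≠ 0 → LevBd ψ (TQ (baseMinus a b) (j + 1)) c (j + 1) :=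
    fun h c hc => levBd_tower hψ h (evenForm_baseMinus hab) hc j
  cases j with
  | zero =>
    exact finrank_bound (R₂ := binForm a b) hψ (i := 0) (evenForm_baseMinus hab)
      (ndPolar_binForm hab) (Or.inr (isGoodPlane_binForm hab)) (Or.inr rfl) (Or.inl rfl)
      (singBd_minus hab hψ 0) hlev ρ hρ hk
  | succ j =>
    cases nonempty_fintype (TV F ((F × F) × (Fin 2 → F)) j)
    haveI : FiniteDimensional F (TV F ((F × F) × (Fin 2 → F)) j) := Module.Finite.of_finite
    have h0 := evenForm_TQ (evenForm_baseMinus hab) j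
    rw [show 2 + j = j + 2 by omega] at h0
    exact finrank_bound (R₂ := TQ (baseMinus a b) j) hψ (i := j + 1) h0.plane h0.nd
      (Or.inl h0.hasQuad) (Or.inr rfl) (Or.inr h0) (singBd_minus hab hψ (j + 1)) hlev ρ hρ hk

end CfsgLib.MinDeg.OrthBd
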