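import Cfsg.Agent.Lib.MinDeg.OrthInherit
import Cfsg.Agent.Lib.MinDeg.OrthStab

/-!
# Transitivity on weights, and the fixing property for small multiplicities
-/

set_option autoImplicit false

namespace CfsgLib.MinDeg.OrthBd

open QuadraticMap Module CfsgLib.Classical.Quad

universe u v

section Trans

variable {F : Type u} [Field F] {V : Type u} [AddCommGroup V] [Module F V] [FiniteDimensional F V]
variable {Q : QuadraticForm F V}

/-- The Siegel group is transitive on every level, given a frame. -/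
theorem exists_siegel_map_level (hnd : NDPolar Q) (P : Frame Q) {x y : V} (hx : x ≠ 0) (hy : y ≠ 0)
    (h : Q x = Q y) : ∃ g : siegelGroup Q, g.1.1 x = y := by
  by_cases h0 : Q x = 0
  · obtain ⟨g, hg, hgx⟩ := siegelGroup_to_e₁ hnd P h0 hx
    obtain ⟨g', hg', hgy⟩ := siegelGroup_to_e₁ hnd P (h ▸ h0 : Q y = 0) hy
    refine ⟨⟨g'⁻¹ * g, mul_mem (inv_mem hg') hg⟩, ?_⟩
    show (g'⁻¹ * g).1 x = y
    rw [mul_apply, hgx, ← hgy, inv_apply_self]
  · obtain ⟨a, z, hp, hxz⟩ := exists_pair_of_nonsingular hnd P h0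
    obtain ⟨a', z', hp', hyz⟩ := exists_pair_of_nonsingular hnd P (h ▸ h0 : Q y ≠ 0)
    obtain ⟨g, hg, hga, hgz⟩ := siegelGroup_map_hpair hnd P hp hp'
    refine ⟨⟨g, hg⟩, ?_⟩
    show g.1 x = y
    rw [hxz, hyz, map_add, map_smul, hga, hgz, h]

/-- With two orthogonal hyperbolic pairs the Siegel group is transitive on non-zero singular
vectors. -/
theorem exists_siegel_to_pair (hnd : NDPolar Q) {e₁ f₁ e₂ f₂ : V} (p₁ : IsHPair Q e₁ f₁)
    (p₂ : IsHPair Q e₂ f₂) (h12 : polar Q e₁ e₂ = 0) (h14 : polar Q e₁ f₂ = 0)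
    (h23 : polar Q f₁ e₂ = 0) {a : V} (ha : Q a = 0) (ha0 : a ≠ 0) :
    ∃ g ∈ siegelGroup Q, g.1 a = e₁ := by
  have he₂ : e₂ ≠ 0 := p₂.left_ne_zero
  have he₁ : e₁ ≠ 0 := p₁.left_ne_zero
  have hind : ∀ c : F, c • e₁ ≠ e₂ := fun c h => by
    have := congrArg (fun z => polar Q z f₂) h
    simp [h14, p₂.2.2] at this
  by_cases h1 : polar Q a e₁ = 0
  · by_cases h2 : ∃ c : F, c • e₁ = a
    · obtain ⟨c, rfl⟩ := h2
      have hc : c ≠ 0 := fun h => ha0 (by rw [h, zero_smul])
      obtain ⟨g, hg, hga⟩ := siegelGroup_move_orth hnd ha p₂.1 he₂ (fun d hd => by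
        have := congrArg (fun z => polar Q z f₁) hd
        simp [polar_comm Q e₂ f₁, h23, p₁.2.2] at this
        exact hc this.symm) (by simp [h12])
      obtain ⟨g', hg', hga'⟩ := siegelGroup_move_orth hnd p₂.1 p₁.1 he₁ hind
        (by rw [polar_comm]; exact h12)
      exact ⟨g' * g, mul_mem hg' hg, by rw [mul_apply, hga, hga']⟩
    · push Not at h2
      exact siegelGroup_move_orth hnd ha p₁.1 he₁ h2 h1
  · set z := polar Q a e₂ • e₁ + (-(polar Q a e₁)) • e₂ with hz
    have hzQ : Q z = 0 := by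
      simp [hz, QuadraticMap.map_add Q, QuadraticMap.map_smul, p₁.1, p₂.1, h12]
    have hzf : polar Q z f₂ = -(polar Q a e₁) := by
      simp [hz, h14, p₂.2.2]
    have hz0 : z ≠ 0 := fun h => h1 (by simpa [h] using hzf.symm)
    have haz : polar Q a z = 0 := by
      simp only [hz, polar_add_right, polar_smul_right, smul_eq_mul]
      ring
    have hze : polar Q z e₁ = 0 := by
      simp [hz, polar_singular_self p₁.1, polar_comm Q e₂ e₁, h12]
    obtain ⟨g, hg, hga⟩ := siegelGroup_move_orth hnd ha hzQ hz0 (fun c hc => h1 (by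
      rw [← hc]; simp [hze])) haz
    obtain ⟨g', hg', hga'⟩ := siegelGroup_move_orth hnd hzQ p₁.1 he₁ (fun c hc => h1 (by
      have := congrArg (fun z => polar Q z f₂) hc
      simp only [polar_smul_left, h14, hzf] at this
      simpa using this.symm)) hze
    exact ⟨g' * g, mul_mem hg' hg, by simp [hga, hga']⟩

end Trans

section Radical

variable {F : Type u} [Field F] {V : Type u} [AddCommGroup V] [Module F V] [FiniteDimensional F V]
variable {R : QuadraticForm F V}

/-- The Siegel group is the normal closure of the radical. -/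
theorem normalClosure_rad (hnd : NDPolar R) (P : Frame (plane R)) :
    Subgroup.normalClosure (Set.range (rad R)) = ⊤ := by
  have hnd' := ndPolar_plane hnd
  set N := Subgroup.normalClosure (Set.range (rad R)) with hN
  have he0 : (((1 : F), (0 : F)), (0 : V)) ≠ 0 := by simp
  refine eq_top_iff.2 ((Subgroup.closure_closure_coe_preimage (k := siegelSet (plane R))).ge.trans
    ((Subgroup.closure_le _).2 ?_))
  intro (g : siegelGroup (plane R)) ⟨a, w, ha, hw, hg⟩
  by_cases ha0 : a = 0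
  · subst ha0
    have : g = 1 := Subtype.ext ((show (g : Orth (plane R)) = _ from hg).trans
      (orth_ext fun x => by simp [siegel_apply]))
    rw [this]
    exact one_mem N
  obtain ⟨t, ht⟩ := exists_siegel_map_level hnd' P ha0 he0 (by rw [ha, Q_eVec])
  have hwe : polar (plane R) ((1, 0), 0) (t.1.1 w) = 0 := by rw [← ht, orth_polar, hw]
  have hb : (t.1.1 w).1.2 = 0 := by simpa [polar_plane] using hwe
  have h : t * g * t⁻¹ = rad R (t.1.1 w).2 := by
    apply Subtype.ext
    show (t : Orth (plane R)) * (g : Orth (plane R)) * (t : Orth (plane R))⁻¹ = _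
    rw [show (g : Orth (plane R)) = _ from hg, siegel_conj, rad_val,
      siegel_congr (u' := ((1, 0), 0)) (w' := t.1.1 w) _ _ (Q_eVec R) hwe ht rfl,
      ← siegel_add_smul (t.1.1 w).1.1 (Q_eVec R) (polar_eVec R (t.1.1 w).2)]
    refine siegel_congr _ _ _ _ rfl (Prod.ext (Prod.ext ?_ ?_) ?_) <;> simp [hb]
  have hmem : rad R (t.1.1 w).2 ∈ N := Subgroup.subset_normalClosure ⟨_, rfl⟩
  rw [← h] at hmem
  have := (Subgroup.normalClosure_normal (s := Set.range (rad R))).conj_mem _ hmem t⁻¹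
  have hgN : g ∈ N := by simpa [mul_assoc, hN] using this
  exact hgN

end Radical

section Fix

variable {F : Type u} [Field F] {V : Type u} [AddCommGroup V] [Module F V]
variable {R : QuadraticForm F V} {U : Type v} [AddCommGroup U] [Module ℂ U]

/-- Multiplicity at most one, and transformations inside the derived stabiliser, give the fixing
property. -/
theorem fixProp_of_le_one [FiniteDimensional ℂ U]
    (ρ : Representation ℂ (siegelGroup (plane R)) U) (ψ : AddChar F ℂ)
    (h1 : ∀ x, x ≠ 0 → mult ρ ψ x ≤ 1)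
    (hstab : ∀ (a w x : V) (ha : R a = 0) (hw : polar R a w = 0), x ≠ 0 → mult ρ ψ x ≠ 0 →
      polar R a x = 0 → polar R w x = 0 →
      siegel R a w ha hw ∈ ⁅siegelStab R x, siegelStab R x⁆) :
    FixProp ρ ψ := by
  intro a w x ha hw hx hax hwx v hv
  by_cases hv0 : v = 0
  · simp [hv0]
  have hm0 : mult ρ ψ x ≠ 0 := by
    intro h
    have : WS ρ ψ x = ⊥ := Submodule.finrank_eq_zero.1 h
    rw [this, Submodule.mem_bot] at hv
    exact hv0 hv
  have hm : finrank ℂ (WS ρ ψ x) = 1 := by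
    have := h1 x hx
    unfold mult at *
    omega
  -- the elements acting trivially on the weight space
  let T : Subgroup (siegelGroup R) :=
    { carrier := {g | ∀ z ∈ WS ρ ψ x, ρ (lift R g) z = z}
      mul_mem' := fun {g g'} hg hg' z hz => by
        rw [map_mul, map_mul, Module.End.mul_apply, hg' z hz, hg z hz]
      one_mem' := fun z _ => by rw [map_one, map_one]; rfl
      inv_mem' := fun {g} hg z hz => by
        refine rep_injective ρ (lift R g) ?_
        rw [hg z hz, ← Module.End.mul_apply, ← map_mul, ← map_mul, mul_inv_cancel, map_one, map_one]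
        rfl }
  suffices h : ⁅siegelStab R x, siegelStab R x⁆ ≤ T.map (siegelGroup R).subtype by
    obtain ⟨g, hg, hgv⟩ := h (hstab a w x ha hw hx hm0 hax hwx)
    have : g = ⟨siegel R a w ha hw, siegel_mem ha hw⟩ := Subtype.ext hgv
    rw [← this]
    exact hg v hv
  rw [Subgroup.commutator_le]
  rintro g ⟨hg, hgx⟩ g' ⟨hg', hg'x⟩
  refine ⟨(⟨g, hg⟩ : siegelGroup R) * ⟨g', hg'⟩ * (⟨g, hg⟩ : siegelGroup R)⁻¹ *
    (⟨g', hg'⟩ : siegelGroup R)⁻¹, fun z hz => ?_, rfl⟩
  have hscal : ∀ k : siegelGroup R, k.1.1 x = x →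
      ∃ s : ℂ, ∀ z ∈ WS ρ ψ x, ρ (lift R k) z = s • z := by
    intro k hk
    have hkv := mapsTo_lift ρ ψ k x v hv
    rw [hk] at hkv
    obtain ⟨s, hs⟩ := exists_smul_of_finrank_one hm hv hv0 hkv
    refine ⟨s, fun z hz => ?_⟩
    obtain ⟨c, hc⟩ := exists_smul_of_finrank_one hm hv hv0 hz
    rw [hc, map_smul, hs, smul_comm]
  obtain ⟨s, hs⟩ := hscal ⟨g, hg⟩ hgx
  obtain ⟨s', hs'⟩ := hscal ⟨g', hg'⟩ hg'x
  set z' := ρ (lift R ((⟨g, hg⟩ : siegelGroup R)⁻¹ * (⟨g', hg'⟩ : siegelGroup R)⁻¹)) z with hz'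
  have hz'm : z' ∈ WS ρ ψ x := by
    have h := mapsTo_lift ρ ψ ((⟨g, hg⟩ : siegelGroup R)⁻¹ * (⟨g', hg'⟩ : siegelGroup R)⁻¹) x z hz
    have hfix : (g⁻¹ * g'⁻¹).1 x = x := by
      rw [mul_apply]
      conv_lhs => rw [← hg'x, inv_apply_self, ← hgx, inv_apply_self]
    rwa [show ((((⟨g, hg⟩ : siegelGroup R)⁻¹ * (⟨g', hg'⟩ : siegelGroup R)⁻¹ : siegelGroup R)) :
      Orth R).1 x = x from hfix] at h
  have hsw : ρ (lift R (⟨g', hg'⟩ * ⟨g, hg⟩)) z' = ρ (lift R (⟨g, hg⟩ * ⟨g', hg'⟩)) z' := by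
    rw [map_mul, map_mul, map_mul, map_mul, Module.End.mul_apply, Module.End.mul_apply,
      hs z' hz'm, hs' z' hz'm, map_smul, map_smul, hs z' hz'm, hs' z' hz'm, smul_comm]
  rw [mul_assoc _ (⟨g, hg⟩ : siegelGroup R)⁻¹ _, map_mul (lift R), map_mul ρ,
    Module.End.mul_apply, ← hz', ← hsw, hz', ← Module.End.mul_apply, ← map_mul, ← map_mul]
  rw [show (⟨g', hg'⟩ : siegelGroup R) * ⟨g, hg⟩ *
      ((⟨g, hg⟩ : siegelGroup R)⁻¹ * (⟨g', hg'⟩ : siegelGroup R)⁻¹) = 1 by group, map_one, map_one]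
  rfl

variable [FiniteDimensional ℂ U]

/-- Multiplicities are constant on levels where the Siegel group is transitive. -/
theorem mult_eq_of_level [FiniteDimensional F V] (hnd : NDPolar R) (P : Frame R)
    (ρ : Representation ℂ (siegelGroup (plane R)) U) (ψ : AddChar F ℂ) {x y : V} (hx : x ≠ 0)
    (hy : y ≠ 0) (h : R x = R y) : mult ρ ψ x = mult ρ ψ y := by
  obtain ⟨g, hg⟩ := exists_siegel_map_level hnd P hx hy h
  rw [← hg, mult_map]

/-- Rescaling a weight is realised inside the Siegel group. -/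
theorem exists_mult_scale [FiniteDimensional F V] (hnd : NDPolar R) (P : Frame (plane R))
    (ρ : Representation ℂ (siegelGroup (plane R)) U) (ψ : AddChar F ℂ) {t : F} (ht : t ≠ 0) {x : V}
    (hx : x ≠ 0) : ∃ y : V, y ≠ 0 ∧ R y = t⁻¹ * t⁻¹ * R x ∧ mult ρ ψ x ≤ mult ρ ψ y := by
  have hnd' := ndPolar_plane hnd
  have hp : IsHPair (plane R) ((1, 0), 0) ((0, 1), 0) := ⟨Q_eVec R, by simp [plane_apply],
    by simp [polar_plane, polar_zero_right]⟩
  have hp' : IsHPair (plane R) ((t, 0), 0) ((0, t⁻¹), 0) := ⟨by simp [plane_apply],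
    by simp [plane_apply], by simp [polar_plane, polar_zero_right, mul_inv_cancel₀ ht]⟩
  obtain ⟨g, hg, hge, hgf⟩ := siegelGroup_map_hpair hnd' P hp hp'
  have hgv : ∀ w : V, (g.1 (0, w)).1 = 0 := by
    intro w
    have h1 := orth_polar g ((1, 0), 0) (0, w)
    have h2 := orth_polar g ((0, 1), 0) (0, w)
    rw [hge] at h1
    rw [hgf] at h2
    simp [polar_plane] at h1 h2
    exact Prod.ext (h2.resolve_right ht) (h1.resolve_left ht)
  -- the isometry induced on the complement
  have hgeq : ∀ w : V, g.1 (0, w) = (0, (g.1 (0, w)).2) := fun w => Prod.ext (hgv w) rfl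
  have hQ : ∀ w : V, R (g.1 (0, w)).2 = R w := fun w => by
    have := orth_Q g (0, w)
    rw [hgeq w] at this
    simpa [plane_apply] using this
  let f : V →ₗ[F] V := (LinearMap.snd F (F × F) V) ∘ₗ g.1.toLinearMap ∘ₗ LinearMap.inr F (F × F) V
  have hf : ∀ w, f w = (g.1 (0, w)).2 := fun _ => rfl
  have hfinj : Function.Injective f := by
    intro a b hab
    have h : g.1 ((0 : F × F), a) = g.1 (0, b) := by
      rw [hgeq a, hgeq b]
      exact congrArg (Prod.mk _) hab
    exact (congrArg Prod.snd (g.1.injective h))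
  let h := LinearEquiv.ofInjectiveEndo f hfinj
  have hh : ∀ w, h w = f w := fun w => LinearEquiv.coe_ofInjectiveEndo f hfinj ▸ rfl
  have hpolar : ∀ a b, polar R (f a) (f b) = polar R a b := fun a b => by
    show R (f a + f b) - R (f a) - R (f b) = polar R a b
    rw [← map_add, hf, hf, hf, hQ, hQ, hQ]
    rfl
  refine ⟨t⁻¹ • f x, smul_ne_zero (inv_ne_zero ht) fun h0 => hx (hfinj (h0.trans (map_zero f).symm)),
    by rw [QuadraticMap.map_smul, hf, hQ, smul_eq_mul], ?_⟩
  refine finrank_weightSpace_le ρ (rad R) ⟨g, hg⟩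
    (((h.trans (LinearEquiv.smulOfNeZero F V t ht))).toAddEquiv) (fun w => ?_) _ _ (fun w => ?_)
  · apply Subtype.ext
    show g * (rad R w).1 = (rad R (t • h w)).1 * g
    rw [rad_val, rad_val, ← mul_inv_eq_iff_eq_mul, siegel_conj,
      siegel_congr (u' := t • (((1 : F), (0 : F)), (0 : V))) (w' := ((0 : F × F), f w))
        _ _ (by simp [plane_apply]) (by simp [polar_plane]) (hge.trans (by simp)) (hgeq w),
      siegel_smul_left t (Q_eVec R) (polar_eVec R (f w))]
    exact siegel_congr _ _ _ _ rfl (by simp [hh])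
  · show ψ (polar R (t • h w) (t⁻¹ • f x)) = ψ (polar R w x)
    rw [hh, polar_smul_left, polar_smul_right, hpolar, smul_eq_mul, smul_eq_mul, ← mul_assoc,
      mul_inv_cancel₀ ht, one_mul]

end Fix

end CfsgLib.MinDeg.OrthBd
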