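import Cfsg.Agent.Lib.MinDeg.Basic
import Mathlib.LinearAlgebra.Trace
import Mathlib.RepresentationTheory.Subrepresentation

/-!
# Multiplicities of weights from traces
-/

set_option autoImplicit false

namespace CfsgLib.MinDeg

open Module

variable {A : Type*} [AddCommGroup A] [Fintype A] {V : Type*} [AddCommGroup V] [Module ℂ V]
  [FiniteDimensional ℂ V]

theorem finrank_weightSpace_mul_card (E : AddChar A (Module.End ℂ V)) (ψ : AddChar A ℂ) :
    (finrank ℂ (weightSpace E ψ) : ℂ) * Fintype.card A =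
      ∑ a, ψ (-a) * LinearMap.trace ℂ V (E a) := by
  have h : LinearMap.IsProj (weightSpace E ψ) (weightProj E ψ) :=
    ⟨weightProj_mem E ψ, fun v hv => weightProj_of_mem hv⟩
  rw [← h.trace, weightProj, map_smul, map_sum, smul_eq_mul, mul_comm, ← mul_assoc,
    mul_inv_cancel₀ card_cast_ne_zero, one_mul]
  simp

section Constant

variable (E : AddChar A (Module.End ℂ V)) (c : ℂ)
  (hc : ∀ a, a ≠ 0 → LinearMap.trace ℂ V (E a) = c)

include hc

theorem sum_trace_of_const (ψ : AddChar A ℂ) :
    (finrank ℂ (weightSpace E ψ) : ℂ) * Fintype.card A =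
      (finrank ℂ V : ℂ) + c * ((∑ a, ψ a) - 1) := by
  classical
  rw [finrank_weightSpace_mul_card, ← Equiv.sum_comp (Equiv.neg A) (fun a => ψ a)]
  rw [← Finset.sum_erase_add _ _ (Finset.mem_univ (0 : A)),
    ← Finset.sum_erase_add (f := fun a => ψ (Equiv.neg A a)) _ (Finset.mem_univ (0 : A))]
  simp only [Equiv.neg_apply, neg_zero, AddChar.map_zero_eq_one, LinearMap.trace_one, one_mul]
  rw [add_sub_cancel_right, Finset.mul_sum, add_comm]
  congr 1
  exact Finset.sum_congr rfl fun a ha => by rw [hc a (Finset.ne_of_mem_erase ha), mul_comm]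

theorem mult_of_const {ψ : AddChar A ℂ} (hψ : ψ ≠ 0) :
    (finrank ℂ (weightSpace E ψ) : ℂ) * Fintype.card A = (finrank ℂ V : ℂ) - c := by
  rw [sum_trace_of_const E c hc, AddChar.sum_eq_zero_iff_ne_zero.2 hψ]
  ring

theorem mult_eq_mult {ψ ψ' : AddChar A ℂ} (hψ : ψ ≠ 0) (hψ' : ψ' ≠ 0) :
    finrank ℂ (weightSpace E ψ) = finrank ℂ (weightSpace E ψ') := by
  have h := (mult_of_const E c hc hψ).trans (mult_of_const E c hc hψ').symm
  exact_mod_cast mul_right_cancel₀ card_cast_ne_zero h

/-- With multiplicity one, the fixed points determine the dimension and the trace. -/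
theorem dim_of_const {ψ : AddChar A ℂ} (hψ : ψ ≠ 0) (h1 : finrank ℂ (weightSpace E ψ) = 1) :
    finrank ℂ V + 1 = finrank ℂ (weightSpace E 0) + Fintype.card A ∧
      c = (finrank ℂ (weightSpace E 0) : ℂ) - 1 := by
  have e1 := mult_of_const E c hc hψ
  have e0 := sum_trace_of_const E c hc 0
  rw [h1, Nat.cast_one, one_mul] at e1
  simp only [AddChar.zero_apply, Finset.sum_const, Finset.card_univ, nsmul_eq_mul, mul_one] at e0
  have h : (finrank ℂ V : ℂ) + 1 = finrank ℂ (weightSpace E 0) + Fintype.card A := by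
    refine mul_right_cancel₀ (card_cast_ne_zero (A := A)) ?_
    linear_combination -e0 - ((Fintype.card A : ℂ) - 1) * e1
  exact ⟨by exact_mod_cast h, by linear_combination h + e1⟩

end Constant

omit [FiniteDimensional ℂ V] [Fintype A] in
/-- A common eigenvector has a weight. -/
theorem exists_weight_of_mem_span (E : AddChar A (Module.End ℂ V)) {v : V} (hv : v ≠ 0)
    (h : ∀ a, ∃ s : ℂ, E a v = s • v) : ∃ μ : AddChar A ℂ, v ∈ weightSpace E μ := by
  choose s hs using h
  refine ⟨{ toFun := s, map_zero_eq_one' := ?_, map_add_eq_mul' := fun a b => ?_ }, mem_weightSpace.2 hs⟩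
  · exact smul_left_injective ℂ hv (by
      show s 0 • v = (1 : ℂ) • v
      rw [← hs 0, E.map_zero_eq_one, Module.End.one_apply, one_smul])
  · exact smul_left_injective ℂ hv (by
      show s (a + b) • v = (s a * s b) • v
      rw [← hs, E.map_add_eq_mul, Module.End.mul_apply, hs b, map_smul, hs a, smul_smul, mul_comm])

omit [FiniteDimensional ℂ V] in
/-- A vector in a one-dimensional space is scaled by every map preserving that space. -/
theorem exists_smul_of_finrank_one {W : Submodule ℂ V} (hW : finrank ℂ W = 1) {v : V} (hv : v ∈ W)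
    (hv0 : v ≠ 0) {w : V} (hw : w ∈ W) : ∃ s : ℂ, w = s • v := by
  obtain ⟨s, hs⟩ := (finrank_eq_one_iff_of_nonzero' (⟨v, hv⟩ : W)
    (fun h => hv0 (congrArg Subtype.val h))).1 hW ⟨w, hw⟩
  exact ⟨s, (congrArg Subtype.val hs).symm⟩

end CfsgLib.MinDeg
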