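import Cfsg.Agent.Lib.MinDeg.OrthForm
import Cfsg.Agent.Lib.MinDeg.TraceWeight
import Mathlib.NumberTheory.LegendreSymbol.AddCharacter
import Mathlib.LinearAlgebra.Trace

/-!
# Weights of the Siegel radical of an orthogonal group

For `R` on `V` the radical of the point stabiliser in the Siegel group of `plane R` is a copy of `V`;
its weights are permuted by the Levi factor, and traces descend to the space of fixed vectors.
-/

set_option autoImplicit false

namespace CfsgLib.MinDeg.OrthBd

open QuadraticMap Module CfsgLib.Classical.Quad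

universe u v

section Radical

variable {F : Type u} [Field F] {V : Type u} [AddCommGroup V] [Module F V]
variable (R : QuadraticForm F V)

theorem Q_eVec : plane R ((1, 0), 0) = 0 := by simp [plane_apply]

theorem polar_eVec (w : V) : polar (plane R) ((1, 0), 0) (0, w) = 0 := by simp [polar_plane]

/-- The radical of the stabiliser of the first basis vector. -/
def rad : AddChar V (siegelGroup (plane R)) where
  toFun w := ⟨siegel (plane R) ((1, 0), 0) (0, w) (Q_eVec R) (polar_eVec R w), siegel_mem _ _⟩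
  map_zero_eq_one' := Subtype.ext (siegel_zero (Q := plane R) (Q_eVec R))
  map_add_eq_mul' w w' := Subtype.ext
    ((siegel_congr (w' := ((0 : F × F), w) + (0, w')) (Q_eVec R) (polar_eVec R (w + w')) (Q_eVec R)
        (by rw [polar_add_right, polar_eVec, polar_eVec, add_zero]) rfl (by simp)).trans
      (siegel_mul (Q_eVec R) (polar_eVec R w) (polar_eVec R w')).symm)

theorem rad_val (w : V) :
    (rad R w : Orth (plane R)) = siegel (plane R) ((1, 0), 0) (0, w) (Q_eVec R) (polar_eVec R w) :=
  rfl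

/-- An isometry of `R` extended by the identity on the plane. -/
def liftOrth : Orth R →* Orth (plane R) where
  toFun g := ⟨(LinearEquiv.refl F (F × F)).prodCongr g.1, fun t => by simp [plane_apply, orth_Q]⟩
  map_one' := orth_ext fun _ => rfl
  map_mul' _ _ := orth_ext fun _ => rfl

theorem liftOrth_apply (g : Orth R) (t : (F × F) × V) : (liftOrth R g).1 t = (t.1, g.1 t.2) := rfl

theorem liftOrth_siegel {a w : V} (ha : R a = 0) (hw : polar R a w = 0) :
    liftOrth R (siegel R a w ha hw) = siegel (plane R) (0, a) (0, w) (by simp [plane_apply, ha])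
      (by simp [polar_plane, hw]) := by
  refine orth_ext fun t => ?_
  rw [liftOrth_apply, siegel_apply, siegel_apply]
  refine Prod.ext ?_ ?_
  · simp [polar_plane, plane_apply]
  · simp [polar_plane, plane_apply]

theorem liftOrth_mem {g : Orth R} (hg : g ∈ siegelGroup R) :
    liftOrth R g ∈ siegelGroup (plane R) := by
  induction hg using Subgroup.closure_induction with
  | mem x hx =>
    obtain ⟨a, w, ha, hw, rfl⟩ := hx
    rw [liftOrth_siegel]
    exact siegel_mem _ _
  | one => rw [map_one]; exact one_mem _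
  | mul a b _ _ ha hb => rw [map_mul]; exact mul_mem ha hb
  | inv a _ ha => rw [map_inv]; exact inv_mem ha

/-- The Levi factor inside the Siegel group of the plane. -/
def lift : siegelGroup R →* siegelGroup (plane R) where
  toFun g := ⟨liftOrth R g.1, liftOrth_mem R g.2⟩
  map_one' := Subtype.ext (map_one (liftOrth R))
  map_mul' g h := Subtype.ext (map_mul (liftOrth R) g.1 h.1)

/-- The action of an element of the Siegel group as an additive equivalence. -/
def actEquiv (g : Orth R) : V ≃+ V := g.1.toAddEquiv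

theorem lift_mul_rad (g : siegelGroup R) (w : V) :
    lift R g * rad R w = rad R (actEquiv R g.1 w) * lift R g := by
  apply Subtype.ext
  show liftOrth R g.1 * _ = _ * liftOrth R g.1
  rw [rad_val, rad_val, ← mul_inv_eq_iff_eq_mul, siegel_conj]
  exact siegel_congr _ _ _ _ (Prod.ext rfl (map_zero g.1.1)) rfl

/-- The character of the radical attached to a vector. -/
def wchar (ψ : AddChar F ℂ) (x : V) : AddChar V ℂ where
  toFun w := ψ (polar R w x)
  map_zero_eq_one' := by simp
  map_add_eq_mul' a b := by rw [polar_add_left, AddChar.map_add_eq_mul]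

theorem wchar_apply (ψ : AddChar F ℂ) (x w : V) : wchar R ψ x w = ψ (polar R w x) := rfl

theorem wchar_zero (ψ : AddChar F ℂ) : wchar R ψ 0 = 0 :=
  DFunLike.ext _ _ fun w => by simp [wchar_apply]

variable {R}

theorem wchar_injective (hnd : NDPolar R) {ψ : AddChar F ℂ} (hψ : ψ.IsPrimitive) :
    Function.Injective (wchar R ψ) := by
  intro x y h
  by_contra hne
  obtain ⟨w, hw⟩ : ∃ w, polar R (x - y) w ≠ 0 := by
    by_contra hc
    push Not at hc
    exact hne (sub_eq_zero.1 (hnd _ hc))
  refine hψ hw (DFunLike.ext _ _ fun t => ?_)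
  have h1 : ψ (polar R (t • w) x) = ψ (polar R (t • w) y) := DFunLike.congr_fun h (t • w)
  rw [AddChar.mulShift_apply, AddChar.one_apply]
  rw [show polar R (x - y) w * t = polar R (t • w) x + -(polar R (t • w) y) by
    simp [polar_sub_left, polar_comm R x w, polar_comm R y w]; ring]
  rw [AddChar.map_add_eq_mul, h1, ← AddChar.map_add_eq_mul, add_neg_cancel, AddChar.map_zero_eq_one]

theorem wchar_bijective [Fintype V] (hnd : NDPolar R) {ψ : AddChar F ℂ} (hψ : ψ.IsPrimitive) :
    Function.Bijective (wchar R ψ) :=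
  (Fintype.bijective_iff_injective_and_card _).2
    ⟨wchar_injective hnd hψ, (AddChar.card_eq (α := V)).symm⟩

end Radical

section Weights

variable {F : Type u} [Field F] {V : Type u} [AddCommGroup V] [Module F V]
variable {R : QuadraticForm F V} {U : Type v} [AddCommGroup U] [Module ℂ U]

/-- The weight space of the radical attached to a vector. -/
noncomputable def WS (ρ : Representation ℂ (siegelGroup (plane R)) U) (ψ : AddChar F ℂ) (x : V) :
    Submodule ℂ U :=
  weightSpace (resChar ρ (rad R)) (wchar R ψ x)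

/-- The multiplicity of a weight. -/
noncomputable def mult (ρ : Representation ℂ (siegelGroup (plane R)) U) (ψ : AddChar F ℂ) (x : V) :
    ℕ :=
  finrank ℂ (WS ρ ψ x)

/-- The Siegel transformations fixing a weight act trivially on its weight space. -/
def FixProp (ρ : Representation ℂ (siegelGroup (plane R)) U) (ψ : AddChar F ℂ) : Prop :=
  ∀ (a w x : V) (ha : R a = 0) (hw : polar R a w = 0), x ≠ 0 → polar R a x = 0 →
    polar R w x = 0 → ∀ v ∈ WS ρ ψ x, ρ (lift R ⟨siegel R a w ha hw, siegel_mem ha hw⟩) v = v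

theorem mem_WS {ρ : Representation ℂ (siegelGroup (plane R)) U} {ψ : AddChar F ℂ} {x : V} {v : U} :
    v ∈ WS ρ ψ x ↔ ∀ w, ρ (rad R w) v = ψ (polar R w x) • v :=
  mem_weightSpace

theorem wchar_act (ψ : AddChar F ℂ) (g : Orth R) (x w : V) :
    wchar R ψ (g.1 x) (actEquiv R g w) = wchar R ψ x w := by
  show ψ (polar R (g.1 w) (g.1 x)) = _
  rw [orth_polar, wchar_apply]

theorem mapsTo_lift (ρ : Representation ℂ (siegelGroup (plane R)) U) (ψ : AddChar F ℂ)
    (g : siegelGroup R) (x : V) : ∀ v ∈ WS ρ ψ x, ρ (lift R g) v ∈ WS ρ ψ (g.1.1 x) :=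
  mapsTo_weightSpace ρ (rad R) (lift R g) (actEquiv R g.1) (lift_mul_rad R g) _ _
    (fun w => wchar_act ψ g.1 x w)

theorem mult_le_map [FiniteDimensional ℂ U] (ρ : Representation ℂ (siegelGroup (plane R)) U)
    (ψ : AddChar F ℂ) (g : siegelGroup R) (x : V) : mult ρ ψ x ≤ mult ρ ψ (g.1.1 x) :=
  finrank_weightSpace_le ρ (rad R) (lift R g) (actEquiv R g.1) (lift_mul_rad R g) _ _
    (fun w => wchar_act ψ g.1 x w)

theorem mult_map [FiniteDimensional ℂ U] (ρ : Representation ℂ (siegelGroup (plane R)) U)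
    (ψ : AddChar F ℂ) (g : siegelGroup R) (x : V) : mult ρ ψ (g.1.1 x) = mult ρ ψ x := by
  refine le_antisymm ?_ (mult_le_map ρ ψ g x)
  have h := mult_le_map ρ ψ g⁻¹ (g.1.1 x)
  rwa [show ((g⁻¹ : siegelGroup R) : Orth R).1 (g.1.1 x) = x from inv_apply_self g.1 x] at h

variable [Fintype V]

/-- The projection to a weight space. -/
noncomputable def WP (ρ : Representation ℂ (siegelGroup (plane R)) U) (ψ : AddChar F ℂ) (x : V) :
    Module.End ℂ U :=
  weightProj (resChar ρ (rad R)) (wchar R ψ x)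

theorem sum_WP (hnd : NDPolar R) {ψ : AddChar F ℂ} (hψ : ψ.IsPrimitive)
    (ρ : Representation ℂ (siegelGroup (plane R)) U) : ∑ x, WP ρ ψ x = 1 := by
  refine LinearMap.ext fun v => ?_
  rw [LinearMap.sum_apply, Module.End.one_apply]
  rw [Fintype.sum_bijective (wchar R ψ) (wchar_bijective hnd hψ) (fun x => WP ρ ψ x v)
    (fun χ => weightProj (resChar ρ (rad R)) χ v) fun x => rfl]
  exact sum_weightProj _ v

theorem isProj_WP (ρ : Representation ℂ (siegelGroup (plane R)) U) (ψ : AddChar F ℂ) (x : V) :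
    LinearMap.IsProj (WS ρ ψ x) (WP ρ ψ x) :=
  ⟨weightProj_mem _ _, fun _ hv => weightProj_of_mem hv⟩

theorem WP_of_ne (hnd : NDPolar R) {ψ : AddChar F ℂ} (hψ : ψ.IsPrimitive)
    (ρ : Representation ℂ (siegelGroup (plane R)) U) {x y : V} (h : x ≠ y) {v : U}
    (hv : v ∈ WS ρ ψ y) : WP ρ ψ x v = 0 :=
  weightProj_of_mem_ne (fun he => h (wchar_injective hnd hψ he)) hv

variable [FiniteDimensional ℂ U]

theorem trace_rad (hnd : NDPolar R) {ψ : AddChar F ℂ} (hψ : ψ.IsPrimitive)
    (ρ : Representation ℂ (siegelGroup (plane R)) U) (w : V) :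
    LinearMap.trace ℂ U (ρ (rad R w)) = ∑ x, (mult ρ ψ x : ℂ) * ψ (polar R w x) := by
  have h : ρ (rad R w) = ∑ x, ψ (polar R w x) • WP ρ ψ x := by
    conv_lhs => rw [← mul_one (ρ (rad R w)), ← sum_WP hnd hψ ρ]
    rw [Finset.mul_sum]
    refine Finset.sum_congr rfl fun x _ => LinearMap.ext fun v => ?_
    exact (mem_WS.1 ((isProj_WP ρ ψ x).map_mem v)) w
  rw [h, map_sum]
  refine Finset.sum_congr rfl fun x _ => ?_
  rw [map_smul, (isProj_WP ρ ψ x).trace, smul_eq_mul, mul_comm]
  rfl

/-- The representation of the Levi factor on the fixed vectors of the radical. -/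
noncomputable def fixedRep (ρ : Representation ℂ (siegelGroup (plane R)) U) (ψ : AddChar F ℂ) :
    Representation ℂ (siegelGroup R) (WS ρ ψ 0) where
  toFun g := (ρ (lift R g)).restrict fun v hv => by
    have h := mapsTo_lift ρ ψ g 0 v hv
    rwa [map_zero] at h
  map_one' := LinearMap.ext fun v => Subtype.ext (by simp)
  map_mul' g h := LinearMap.ext fun v => Subtype.ext (by simp)

omit [Fintype V] [FiniteDimensional ℂ U] in
theorem fixedRep_apply (ρ : Representation ℂ (siegelGroup (plane R)) U) (ψ : AddChar F ℂ)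
    (g : siegelGroup R) (v : WS ρ ψ 0) : (fixedRep ρ ψ g v : U) = ρ (lift R g) v := rfl

open scoped _root_.Classical in
theorem trace_lift (hnd : NDPolar R) {ψ : AddChar F ℂ} (hψ : ψ.IsPrimitive)
    (ρ : Representation ℂ (siegelGroup (plane R)) U) (g : siegelGroup R)
    (hfix : ∀ x, x ≠ 0 → g.1.1 x = x → ∀ v ∈ WS ρ ψ x, ρ (lift R g) v = v) :
    LinearMap.trace ℂ U (ρ (lift R g)) =
      LinearMap.trace ℂ _ (fixedRep ρ ψ g) +
        ∑ x, if x ≠ 0 ∧ g.1.1 x = x then (mult ρ ψ x : ℂ) else 0 := by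
  have h0 : LinearMap.trace ℂ U (ρ (lift R g) * WP ρ ψ 0) =
      LinearMap.trace ℂ _ (fixedRep ρ ψ g) := by
    have hmem : ∀ v, (ρ (lift R g) * WP ρ ψ 0) v ∈ WS ρ ψ 0 := fun v => by
      have h := mapsTo_lift ρ ψ g 0 _ ((isProj_WP ρ ψ 0).map_mem v)
      rwa [map_zero] at h
    rw [← LinearMap.trace_restrict_eq_of_forall_mem (WS ρ ψ 0) _ hmem (fun v _ => hmem v)]
    congr 1
    refine LinearMap.ext fun v => Subtype.ext ?_
    show ρ (lift R g) (WP ρ ψ 0 v) = ρ (lift R g) v
    rw [(isProj_WP ρ ψ 0).map_id _ v.2]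
  have hx : ∀ x, LinearMap.trace ℂ U (ρ (lift R g) * WP ρ ψ x) =
      if x = 0 then LinearMap.trace ℂ _ (fixedRep ρ ψ g)
        else if g.1.1 x = x then (mult ρ ψ x : ℂ) else 0 := by
    intro x
    split_ifs with h1 h2
    · rw [h1, h0]
    · have he : ρ (lift R g) * WP ρ ψ x = WP ρ ψ x := LinearMap.ext fun v =>
        hfix x h1 h2 _ ((isProj_WP ρ ψ x).map_mem v)
      rw [he]
      exact (isProj_WP ρ ψ x).trace
    · have he : WP ρ ψ x * WP ρ ψ x = WP ρ ψ x :=
        LinearMap.ext fun v => (isProj_WP ρ ψ x).map_id _ ((isProj_WP ρ ψ x).map_mem v)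
      have hz : WP ρ ψ x * (ρ (lift R g) * WP ρ ψ x) = 0 := LinearMap.ext fun v =>
        WP_of_ne hnd hψ ρ (Ne.symm h2) (mapsTo_lift ρ ψ g x _ ((isProj_WP ρ ψ x).map_mem v))
      rw [← he, ← mul_assoc, LinearMap.trace_mul_comm, hz, map_zero]
  conv_lhs => rw [← mul_one (ρ (lift R g)), ← sum_WP hnd hψ ρ, Finset.mul_sum, map_sum]
  rw [Finset.sum_congr rfl fun x _ => hx x, ← Finset.add_sum_erase _ _ (Finset.mem_univ (0 : V)),
    if_pos rfl]
  congr 1
  rw [← Finset.add_sum_erase (f := fun x => if x ≠ 0 ∧ g.1.1 x = x then (mult ρ ψ x : ℂ) else 0) _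
    (Finset.mem_univ (0 : V)), if_neg (by simp), zero_add]
  refine Finset.sum_congr rfl fun x hx => ?_
  simp [Finset.ne_of_mem_erase hx]

/-- Distinct weights are independent. -/
theorem sum_mult_le (hnd : NDPolar R) {ψ : AddChar F ℂ} (hψ : ψ.IsPrimitive)
    (ρ : Representation ℂ (siegelGroup (plane R)) U) (T : Finset V) :
    ∑ x ∈ T, mult ρ ψ x ≤ finrank ℂ U := by
  classical
  have h := sum_finrank_le (resChar ρ (rad R)) (T.image (wchar R ψ))
  rwa [Finset.sum_image fun a _ b _ hab => wchar_injective hnd hψ hab] at h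

theorem sum_mult_eq (hnd : NDPolar R) {ψ : AddChar F ℂ} (hψ : ψ.IsPrimitive)
    (ρ : Representation ℂ (siegelGroup (plane R)) U) : ∑ x, mult ρ ψ x = finrank ℂ U := by
  have h := trace_rad hnd hψ ρ 0
  rw [AddChar.map_zero_eq_one, map_one, LinearMap.trace_one] at h
  simp only [polar_zero_left, AddChar.map_zero_eq_one, mul_one] at h
  exact_mod_cast h.symm

end Weights

end CfsgLib.MinDeg.OrthBd
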