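import Cfsg.Agent.Lib.MinDeg.HermOrbit
import Mathlib.Algebra.CharP.Two
import Mathlib.Data.Fintype.Option

/-!
# Orbits of quadratic forms in characteristic two

A quadratic form whose polar form is nonzero has at least `(q^m-1)(q^m-q)/(2(q+1))` transforms.
-/

set_option autoImplicit false

namespace CfsgLib.MinDeg

open Matrix Finset

section Pairs

variable {F : Type*} [Field F] [Fintype F] [DecidableEq F] {m : ℕ}

/-- Linearly independent ordered pairs of vectors. -/
noncomputable def indepPairs (F : Type*) [Field F] [Fintype F] (m : ℕ) :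
    Finset ((Fin m → F) × (Fin m → F)) := by
  classical
  exact {p | p.1 ≠ 0 ∧ ∀ c : F, p.2 ≠ c • p.1}

theorem mem_indepPairs {p : (Fin m → F) × (Fin m → F)} :
    p ∈ indepPairs F m ↔ p.1 ≠ 0 ∧ ∀ c : F, p.2 ≠ c • p.1 := by simp [indepPairs]

theorem card_indepPairs :
    (indepPairs F m).card = (Fintype.card F ^ m - 1) * (Fintype.card F ^ m - Fintype.card F) := by
  classical
  have hV : Fintype.card (Fin m → F) = Fintype.card F ^ m := by simp
  have e : indepPairs F m = ((univ : Finset (Fin m → F)).erase 0).biUnion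
      (fun u => ((univ : Finset (Fin m → F)) \ univ.image (fun c : F => c • u)).image (Prod.mk u)) := by
    ext ⟨a, b⟩
    simp [mem_indepPairs, eq_comm]
  rw [e, card_biUnion]
  · rw [Finset.sum_congr rfl fun u hu => ?_, sum_const, smul_eq_mul, card_erase_of_mem (mem_univ _),
      card_univ, hV]
    rw [card_image_of_injective _ (Prod.mk_right_injective u), card_univ_diff, hV,
      card_image_of_injective _ (smul_left_injective F (by simpa using hu)), card_univ]
  · intro u _ u' _ hne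
    rw [Function.onFun, Finset.disjoint_left]
    intro p hp hp'
    obtain ⟨x, -, rfl⟩ := mem_image.1 hp
    obtain ⟨y, -, hy⟩ := mem_image.1 hp'
    exact hne (Prod.ext_iff.1 hy).1.symm

omit [Fintype F] [DecidableEq F] in
theorem exists_indep_extend (hm : 2 ≤ m) (u v x y : Fin m → F) (hu : u ≠ 0)
    (hv : ∀ c : F, v ≠ c • u) (hx : x ≠ 0) (hy : ∀ c : F, y ≠ c • x) :
    ∃ g : Matrix (Fin m) (Fin m) F, g.det ≠ 0 ∧ g *ᵥ u = x ∧ g *ᵥ v = y := by
  obtain ⟨g₁, hd₁, hg₁⟩ := exists_det_one_mulVec hm u x hu hx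
  have hinj : Function.Injective (g₁ *ᵥ ·) :=
    mulVec_injective_iff_isUnit.2 ((isUnit_iff_isUnit_det _).2 (by simp [hd₁]))
  have hv' : ∀ c : F, g₁ *ᵥ v ≠ c • x := fun c h => hv c <|
    hinj (by show g₁ *ᵥ v = g₁ *ᵥ (c • u); rw [h, mulVec_smul, hg₁])
  set w := g₁ *ᵥ v
  obtain ⟨f₁, a₁, b₁⟩ := exists_dot_eq x w hx hv' 0 1
  obtain ⟨f₂, a₂, b₂⟩ := exists_dot_eq x y hx hy 0 1
  obtain ⟨f, ha, hb, hc⟩ : ∃ f, f ⬝ᵥ x = 0 ∧ f ⬝ᵥ w = 1 ∧ f ⬝ᵥ y ≠ 0 := by
    by_cases h₁ : f₁ ⬝ᵥ y = 0
    · by_cases h₂ : f₂ ⬝ᵥ w = 0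
      · exact ⟨f₁ + f₂, by simp [a₁, a₂], by simp [b₁, h₂], by simp [h₁, b₂]⟩
      · exact ⟨(f₂ ⬝ᵥ w)⁻¹ • f₂, by simp [a₂], by simp [h₂], by simp [b₂, h₂]⟩
    · exact ⟨f₁, a₁, b₁, h₁⟩
  refine ⟨(1 + vecMulVec (y - w) f) * g₁, ?_, ?_, ?_⟩
  · rw [det_mul, det_one_add_vecMulVec, hd₁, mul_one, dotProduct_sub, hb, add_sub_cancel]
    exact hc
  · rw [← mulVec_mulVec, hg₁, one_add_vecMulVec_mulVec, ha, zero_smul, add_zero]
  · rw [← mulVec_mulVec, one_add_vecMulVec_mulVec, hb, one_smul, add_sub_cancel]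

/-- The annihilator of two vectors is big. -/
theorem card_ann_two (u v : Fin m → F) :
    Fintype.card F ^ m ≤ Fintype.card F ^ 2 * #{a : Fin m → F | a ⬝ᵥ u = 0 ∧ a ⬝ᵥ v = 0} := by
  classical
  calc Fintype.card F ^ m = (univ : Finset (Fin m → F)).card := by simp
    _ ≤ #{a : Fin m → F | a ⬝ᵥ u = 0 ∧ a ⬝ᵥ v = 0} *
        ((univ : Finset (Fin m → F)).image fun a => (a ⬝ᵥ u, a ⬝ᵥ v)).card := by
      refine card_le_mul_card_image _ _ fun b hb => ?_
      obtain ⟨a₀, -, rfl⟩ := mem_image.1 hb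
      refine Finset.card_le_card_of_injOn (fun a => a - a₀) (fun a ha => ?_)
        (fun a _ b _ h => by simpa using h)
      simp only [coe_filter, mem_univ, true_and, Set.mem_ofPred_eq, Prod.mk.injEq] at ha ⊢
      simp [sub_dotProduct, ha.1, ha.2]
    _ ≤ _ := by
      rw [mul_comm]
      gcongr
      exact (card_le_univ _).trans (by simp [sq])

end Pairs

/-- A quadratic form on `F^m` in characteristic two, with its polar form. -/
structure Quad (F : Type*) [Field F] (m : ℕ) where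
  Q : (Fin m → F) → F
  B : (Fin m → F) → (Fin m → F) → F
  map_smul : ∀ (c : F) x, Q (c • x) = c ^ 2 * Q x
  map_add : ∀ x y, Q (x + y) = Q x + Q y + B x y
  add_left : ∀ x y z, B (x + y) z = B x z + B y z
  smul_left : ∀ (c : F) x y, B (c • x) y = c * B x y

namespace Quad

variable {F : Type*} [Field F] {m : ℕ} (S : Quad F m)

theorem symm (x y : Fin m → F) : S.B x y = S.B y x := by
  have h := S.map_add x y
  rw [add_comm x y, S.map_add] at h
  linear_combination -h

theorem add_right (x y z : Fin m → F) : S.B x (y + z) = S.B x y + S.B x z := by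
  rw [S.symm, S.add_left, S.symm y, S.symm z]

theorem smul_right (c : F) (x y : Fin m → F) : S.B x (c • y) = c * S.B x y := by
  rw [S.symm, S.smul_left, S.symm]

theorem zero_left (y : Fin m → F) : S.B 0 y = 0 := by simpa using S.smul_left 0 0 y

theorem zero_right (x : Fin m → F) : S.B x 0 = 0 := by rw [S.symm, S.zero_left]

variable [CharP F 2]

theorem self_eq (x : Fin m → F) : S.B x x = 0 := by
  have h := S.map_add x x
  have h0 : x + x = (0 : F) • x := by
    funext i; simp [CharTwo.add_self_eq_zero]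
  rw [h0, S.map_smul, CharTwo.add_self_eq_zero] at h
  simpa using h.symm

theorem map_lin (s t : F) (x y : Fin m → F) :
    S.Q (s • x + t • y) = s ^ 2 * S.Q x + t ^ 2 * S.Q y + s * t * S.B x y := by
  rw [S.map_add, S.map_smul, S.map_smul, S.smul_left, S.smul_right]; ring

theorem bil_lin (s t s' t' : F) (x y : Fin m → F) :
    S.B (s • x + t • y) (s' • x + t' • y) = (s * t' + t * s') * S.B x y := by
  simp only [S.add_left, S.add_right, S.smul_left, S.smul_right, S.self_eq, S.symm y x]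
  ring

theorem indep_of_B {x y : Fin m → F} (h : S.B x y = 1) : x ≠ 0 ∧ ∀ c : F, y ≠ c • x := by
  refine ⟨fun h0 => ?_, fun c hc => ?_⟩
  · rw [h0, S.zero_left] at h; exact zero_ne_one h
  · rw [hc, S.smul_right, S.self_eq, mul_zero] at h; exact zero_ne_one h

/-- Coordinates of the functional `B · y`. -/
def row (y : Fin m → F) : Fin m → F := fun i => S.B (Pi.single i 1) y

omit [CharP F 2] in
theorem row_dot (x y : Fin m → F) : S.row y ⬝ᵥ x = S.B x y := by
  classical
  let L : (Fin m → F) →ₗ[F] F :=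
    { toFun := fun x => S.B x y
      map_add' := fun a b => S.add_left a b y
      map_smul' := fun c a => S.smul_left c a y }
  show _ = L x
  conv_rhs => rw [pi_eq_sum_univ' x, _root_.map_sum]
  simp [dotProduct, row, L, mul_comm, S.smul_left]

variable [Fintype F]

/-- The set of transforms of a quadratic form. -/
noncomputable def orbit : Finset ((Fin m → F) → F) := by
  classical
  exact (univ.filter fun g : Matrix (Fin m) (Fin m) F => g.det ≠ 0).image fun g x => S.Q (g *ᵥ x)

omit [CharP F 2] in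
theorem mem_orbit {f : (Fin m → F) → F} :
    f ∈ S.orbit ↔ ∃ g : Matrix (Fin m) (Fin m) F, g.det ≠ 0 ∧ (fun x => S.Q (g *ᵥ x)) = f := by
  simp [orbit]

theorem card_sq_add_mul_eq [DecidableEq F] (a d : F) : #{t : F | t + t ^ 2 * a = d} ≤ 2 := by
  classical
  by_cases h : ∃ t₀, t₀ + t₀ ^ 2 * a = d
  · obtain ⟨t₀, ht₀⟩ := h
    refine (card_le_card (t := {t₀, t₀ + a⁻¹}) fun t ht => ?_).trans card_le_two
    simp only [mem_filter, mem_univ, true_and] at ht
    rcases eq_or_ne t t₀ with rfl | hne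
    · simp
    have h2 : (t - t₀) * (1 + (t + t₀) * a) = 0 := by linear_combination ht - ht₀
    have h3 := (mul_eq_zero.1 h2).resolve_left (sub_ne_zero.2 hne)
    have h4 : (t + t₀) * a = 1 := by
      rw [eq_neg_of_add_eq_zero_right h3, CharTwo.neg_eq]
    simp only [mem_insert, Finset.mem_singleton]
    right
    rw [inv_eq_of_mul_eq_one_left h4, add_left_comm, CharTwo.add_self_eq_zero, add_zero]
  · push Not at h
    rw [filter_false_of_mem fun t _ => h t]; simp

/-- The case without singular vectors outside the radical. -/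
theorem card_orbit_anisotropic (hm : 2 ≤ m) {x y : Fin m → F} (hxy : S.B x y = 1)
    (hns : ∀ z, S.Q z = 0 → ∀ w, S.B z w = 0) :
    (Fintype.card F ^ m - 1) * (Fintype.card F ^ m - Fintype.card F) ≤
      2 * (Fintype.card F + 1) * S.orbit.card := by
  classical
  set q := Fintype.card F
  set a := S.Q x
  set c := S.Q y
  let q0 : F × F → F := fun s => s.1 ^ 2 * a + s.2 ^ 2 * c + s.1 * s.2
  have hq0 : ∀ s : F × F, S.Q (s.1 • x + s.2 • y) = q0 s := fun s => by
    rw [S.map_lin, hxy]; simp [q0, a, c]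
  have hani : ∀ s : F × F, q0 s = 0 → s = 0 := fun s hs => by
    have h := hns _ ((hq0 s).trans hs)
    have h1 := h y; have h2 := h x
    rw [S.add_left, S.smul_left, S.smul_left, hxy, S.self_eq] at h1
    rw [S.add_left, S.smul_left, S.smul_left, S.self_eq, S.symm y x, hxy] at h2
    exact Prod.ext (by simpa using h1) (by simpa using h2)
  have ha : a ≠ 0 := fun h => by simpa using hani (1, 0) (by simp [q0, h])
  -- the form factors through the plane
  have hfac : ∀ u, S.Q u = q0 (S.B u y, S.B u x) := by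
    intro u
    set r := u + (S.B u y • x + S.B u x • y)
    have hru : u = r + (S.B u y • x + S.B u x • y) := by
      funext i
      simp only [r, Pi.add_apply]
      rw [add_assoc, CharTwo.add_self_eq_zero, add_zero]
    have hrx : S.B r x = 0 := by
      simp only [r, S.add_left, S.smul_left, S.self_eq, S.symm y x, hxy]
      simp [CharTwo.add_self_eq_zero]
    have hry : S.B r y = 0 := by
      simp only [r, S.add_left, S.smul_left, S.self_eq, hxy]
      simp [CharTwo.add_self_eq_zero]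
    obtain ⟨l, hl⟩ : ∃ l : F, l ^ 2 * a = S.Q r := by
      obtain ⟨l, hl⟩ := FiniteField.isSquare_of_char_two (CharP.eq F (ringChar.charP F) ‹CharP F 2›) (S.Q r / a)
      exact ⟨l, by rw [sq, ← hl, div_mul_cancel₀ _ ha]⟩
    have hQ0 : S.Q (r + l • x) = 0 := by
      rw [S.map_add, S.map_smul, S.smul_right, hrx, hl]
      simp [CharTwo.add_self_eq_zero]
    have hl0 : l = 0 := by
      have := hns _ hQ0 y
      rwa [S.add_left, S.smul_left, hry, hxy, zero_add, mul_one] at this
    have hr0 : S.Q r = 0 := by rw [← hl, hl0]; simp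
    conv_lhs => rw [hru]
    rw [S.map_add, hr0, zero_add, hq0 (_, _), S.add_right, S.smul_right, S.smul_right, hrx, hry]
    simp
  let Φ : (Fin m → F) × (Fin m → F) → ((Fin m → F) → F) := fun p u => q0 (p.1 ⬝ᵥ u, p.2 ⬝ᵥ u)
  have hsub : (indepPairs F m).image Φ ⊆ S.orbit := by
    intro f hf
    obtain ⟨⟨p₀, p₁⟩, hp, rfl⟩ := mem_image.1 hf
    rw [mem_indepPairs] at hp
    have h0 : S.row y ≠ 0 := fun h => by
      have := S.row_dot x y
      rw [h, zero_dotProduct, hxy] at this
      exact zero_ne_one this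
    have h1 : ∀ d : F, S.row x ≠ d • S.row y := fun d h => by
      have := congrArg (· ⬝ᵥ y) h
      simp [S.row_dot, S.symm y x, hxy, S.self_eq] at this
    obtain ⟨g, hg, e0, e1⟩ := exists_indep_extend hm _ _ p₀ p₁ h0 h1 hp.1 hp.2
    refine S.mem_orbit.2 ⟨gᵀ, by rwa [det_transpose], ?_⟩
    funext u
    rw [hfac, ← S.row_dot, ← S.row_dot, dotProduct_mulVec, dotProduct_mulVec, vecMul_transpose,
      vecMul_transpose, e0, e1]
  rw [← card_indepPairs]
  refine le_trans ?_ (Nat.mul_le_mul_left _ (card_le_card hsub))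
  refine card_le_mul_card_image _ _ fun f hf => ?_
  obtain ⟨⟨p₀, p₁⟩, hp, rfl⟩ := mem_image.1 hf
  rw [mem_indepPairs] at hp
  obtain ⟨u₀, a₀, b₀⟩ := exists_dot_eq p₀ p₁ hp.1 hp.2 1 0
  obtain ⟨u₁, a₁, b₁⟩ := exists_dot_eq p₀ p₁ hp.1 hp.2 0 1
  rw [dotProduct_comm] at a₀ b₀ a₁ b₁
  let C : Finset ((F × F) × (F × F)) :=
    {st | q0 st.1 = a ∧ q0 st.2 = c ∧ st.1.1 * st.2.2 + st.1.2 * st.2.1 = 1}
  refine le_trans (Finset.card_le_card_of_injOn
    (fun p : (Fin m → F) × (Fin m → F) => ((p.1 ⬝ᵥ u₀, p.2 ⬝ᵥ u₀), (p.1 ⬝ᵥ u₁, p.2 ⬝ᵥ u₁)))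
    (t := C) ?_ ?_) ?_
  · intro p hp'
    simp only [coe_filter, mem_filter, Set.mem_ofPred_eq] at hp'
    have e0 := congrFun hp'.2 u₀
    have e1 := congrFun hp'.2 u₁
    have e2 := congrFun hp'.2 (u₀ + u₁)
    simp only [Φ, q0, a₀, b₀, a₁, b₁, dotProduct_add] at e0 e1 e2
    simp only [C, q0, coe_filter, mem_univ, true_and, Set.mem_ofPred_eq]
    have h2 : (2 : F) = 0 := CharTwo.two_eq_zero
    refine ⟨by linear_combination e0, by linear_combination e1, ?_⟩
    linear_combination e2 - e0 - e1 +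
      (-(p.1 ⬝ᵥ u₀ * p.1 ⬝ᵥ u₁ * a) - p.2 ⬝ᵥ u₀ * p.2 ⬝ᵥ u₁ * c) * h2
  · intro p hp' p' hp'' h
    simp only [coe_filter, Set.mem_ofPred_eq] at hp' hp''
    simp only [Prod.mk.injEq] at h
    have key : ∀ p : (Fin m → F) × (Fin m → F), Φ p = Φ (p₀, p₁) → ∀ u,
        (p.1 ⬝ᵥ u, p.2 ⬝ᵥ u) = ((p₀ ⬝ᵥ u) * (p.1 ⬝ᵥ u₀) + (p₁ ⬝ᵥ u) * (p.1 ⬝ᵥ u₁),
          (p₀ ⬝ᵥ u) * (p.2 ⬝ᵥ u₀) + (p₁ ⬝ᵥ u) * (p.2 ⬝ᵥ u₁)) := by
      intro p hp u
      have e := congrFun hp (u - ((p₀ ⬝ᵥ u) • u₀ + (p₁ ⬝ᵥ u) • u₁))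
      simp only [Φ, dotProduct_sub, dotProduct_add, dotProduct_smul, a₀, b₀, a₁, b₁, smul_eq_mul,
        mul_one, mul_zero, add_zero, zero_add, sub_self] at e
      rw [show q0 (0, 0) = 0 by simp [q0]] at e
      have := hani _ e
      simp only [Prod.mk_eq_zero, sub_eq_zero] at this
      exact Prod.ext this.1 this.2
    have k := key p hp'.2
    have k' := key p' hp''.2
    refine Prod.ext (dotProduct_eq _ _ fun u => ?_) (dotProduct_eq _ _ fun u => ?_)
    · rw [(Prod.mk.inj (k u)).1, (Prod.mk.inj (k' u)).1, h.1.1, h.2.1]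
    · rw [(Prod.mk.inj (k u)).2, (Prod.mk.inj (k' u)).2, h.1.2, h.2.2]
  · -- at most `2 (q+1)` isometries of the plane
    have hfirst : #{s : F × F | q0 s = a} ≤ q + 1 := by
      have hsq : Function.Injective fun z : F => z ^ 2 := CharTwo.sq_injective
      refine (Finset.card_le_card_of_injOn
        (fun s : F × F => if s.1 = 0 then none else some (s.2 / s.1))
        (t := (univ : Finset (Option F))) (fun _ _ => mem_univ _) ?_).trans (by simp [q])
      intro s hs s' hs' h
      simp only [coe_filter, mem_univ, true_and, Set.mem_ofPred_eq, q0] at hs hs'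
      by_cases h1 : s.1 = 0 <;> by_cases h2 : s'.1 = 0 <;>
        simp only [h1, h2, if_true, if_false, reduceCtorEq] at h
      · rw [h1] at hs; rw [h2] at hs'
        have hc : c ≠ 0 := fun h => by simpa using hani (0, 1) (by simp [q0, h])
        refine Prod.ext (h1.trans h2.symm) (hsq (mul_right_cancel₀ hc ?_))
        linear_combination hs - hs'
      · rw [Option.some.injEq] at h
        set r := s.2 / s.1
        have e : s.2 = r * s.1 := by simp [r, h1]
        have e' : s'.2 = r * s'.1 := by rw [h]; simp [h2]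
        have hk : a + r ^ 2 * c + r ≠ 0 := fun h0 => by
          have := hani (1, r) (by simp [q0]; linear_combination h0)
          simp at this
        have : s.1 = s'.1 := hsq (mul_right_cancel₀ hk (by
          rw [e] at hs; rw [e'] at hs'
          linear_combination hs - hs'))
        exact Prod.ext this (by rw [e, e', this])
    calc C.card ≤ 2 * (C.image Prod.fst).card := card_le_mul_card_image _ _ fun s hs => ?_
      _ ≤ 2 * (q + 1) := by
        gcongr
        refine le_trans (card_le_card ?_) hfirst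
        intro s hs
        obtain ⟨st, hst, rfl⟩ := mem_image.1 hs
        simp only [C, mem_filter] at hst ⊢
        exact ⟨mem_univ _, hst.2.1⟩
    obtain ⟨⟨s', t₀⟩, hst, rfl⟩ := mem_image.1 hs
    simp only [C, mem_filter, mem_univ, true_and] at hst
    refine le_trans (Finset.card_le_card_of_injOn
      (fun st : (F × F) × (F × F) => if s'.1 = 0 then (st.2.2 + t₀.2) / s'.2 else (st.2.1 + t₀.1) / s'.1)
      (t := {l : F | l + l ^ 2 * a = 0}) ?_ ?_) (card_sq_add_mul_eq a 0)
    · intro st h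
      simp only [C, coe_filter, mem_filter, mem_univ, true_and, Set.mem_ofPred_eq] at h ⊢
      obtain ⟨⟨h1, h2, h3⟩, h4⟩ := h
      rw [h4] at h1 h3
      have h20 : (2 : F) = 0 := CharTwo.two_eq_zero
      have cancel : ∀ v w : F, v + w + w = v := fun v w => by
        rw [add_assoc, CharTwo.add_self_eq_zero, add_zero]
      obtain ⟨l, hl, e1, e2⟩ : ∃ l, (if s'.1 = 0 then (st.2.2 + t₀.2) / s'.2 else (st.2.1 + t₀.1) / s'.1) = l ∧
          st.2.1 = l * s'.1 + t₀.1 ∧ st.2.2 = l * s'.2 + t₀.2 := by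
        by_cases hs1 : s'.1 = 0
        · have hs2 : s'.2 ≠ 0 := fun h0 => by simp [hs1, h0] at h3
          refine ⟨_, if_pos hs1, ?_, ?_⟩
          · refine mul_left_cancel₀ hs2 ?_
            simp only [hs1, mul_zero, zero_mul, zero_add] at h3 hst ⊢
            linear_combination h3 - hst.2.2
          · rw [div_mul_cancel₀ _ hs2, cancel]
        · refine ⟨_, if_neg hs1, ?_, ?_⟩
          · rw [div_mul_cancel₀ _ hs1, cancel]
          · refine mul_left_cancel₀ hs1 ?_
            set l := (st.2.1 + t₀.1) / s'.1 with hl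
            have e1 : st.2.1 = l * s'.1 + t₀.1 := by rw [hl, div_mul_cancel₀ _ hs1, cancel]
            rw [e1] at h3
            linear_combination h3 - hst.2.2 - l * s'.1 * s'.2 * h20
      rw [hl]
      simp only [q0] at h1 h2 hst
      rw [e1, e2] at h2
      linear_combination h2 - hst.2.1 - l ^ 2 * h1 - l * hst.2.2 +
        (-(l * s'.1 * t₀.1 * a) - l * s'.2 * t₀.2 * c - l ^ 2 * 0) * h20
    · intro st h st' h' he
      simp only [C, coe_filter, mem_filter, mem_univ, true_and, Set.mem_ofPred_eq] at h h'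
      obtain ⟨⟨h1, h2, h3⟩, h4⟩ := h
      obtain ⟨⟨h1', h2', h3'⟩, h4'⟩ := h'
      rw [h4] at h3; rw [h4'] at h3'
      refine Prod.ext (h4.trans h4'.symm) ?_
      by_cases hs1 : s'.1 = 0
      · have hs2 : s'.2 ≠ 0 := fun h0 => by simp [hs1, h0] at h3
        simp only [hs1, if_true] at he
        have e2 : st.2.2 = st'.2.2 := by simpa using (div_left_inj' hs2).1 he
        exact Prod.ext (mul_left_cancel₀ hs2 (by linear_combination h3 - h3' - (st.2.2 - st'.2.2) * hs1)) e2
      · simp only [hs1, if_false] at he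
        have e1 : st.2.1 = st'.2.1 := by simpa using (div_left_inj' hs1).1 he
        exact Prod.ext e1 (mul_left_cancel₀ hs1 (by rw [e1] at h3; linear_combination h3 - h3'))

/-- The case with a singular vector outside the radical. -/
theorem card_orbit_isotropic (hm : 2 ≤ m) {x y₀ : Fin m → F} (hxy₀ : S.B x y₀ = 1)
    (hx : S.Q x = 0) :
    (Fintype.card F ^ m - 1) * (Fintype.card F ^ m - Fintype.card F) ≤
      2 * (Fintype.card F + 1) * S.orbit.card := by
  classical
  set q := Fintype.card F with hq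
  obtain ⟨j, rfl⟩ : ∃ j, m = j + 2 := ⟨m - 2, by omega⟩
  set y := y₀ + S.Q y₀ • x with hy
  have hxy : S.B x y = 1 := by simp [hy, S.add_right, S.smul_right, S.self_eq, hxy₀]
  have hQy : S.Q y = 0 := by
    simp [hy, S.map_add, S.map_smul, hx, S.smul_right, S.symm y₀ x, hxy₀, CharTwo.add_self_eq_zero]
  let C : F × F → Finset ((Fin (j + 2) → F) × (Fin (j + 2) → F)) :=
    fun τ => {p | S.Q p.1 = τ.1 ∧ S.B p.1 p.2 = 1 ∧ S.Q p.2 = τ.2}
  let T : Finset (F × F) := {τ | (C τ).Nonempty}
  have hT : q * (q + 1) ≤ 2 * T.card := by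
    let T0 : Finset (F × F) := univ.image fun d : F => ((0 : F), d)
    let TA : F → Finset (F × F) := fun a => univ.image fun t : F => (a, t + t ^ 2 * a)
    have h0 : T0 ⊆ T := by
      intro τ hτ
      obtain ⟨d, -, rfl⟩ := mem_image.1 hτ
      refine mem_filter.2 ⟨mem_univ _, ⟨(x, y + d • x), ?_⟩⟩
      simp [C, hx, S.map_add, hQy, S.map_smul, S.add_right, S.smul_right, S.self_eq, hxy, S.symm y x]
    have hA : ∀ a, TA a ⊆ T := by
      intro a τ hτ
      obtain ⟨t, -, rfl⟩ := mem_image.1 hτ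
      refine mem_filter.2 ⟨mem_univ _, ⟨(a • x + y, x + t • (a • x + y)), ?_⟩⟩
      have e1 : S.Q (a • x + y) = a := by
        simp [S.map_add, S.map_smul, hx, hQy, S.smul_left, hxy]
      have e2 : S.B (a • x + y) x = 1 := by
        simp [S.add_left, S.smul_left, S.self_eq, S.symm y x, hxy]
      generalize a • x + y = w at e1 e2 ⊢
      simp [C, e1, e2, S.add_right, S.smul_right, S.self_eq, S.map_add x, S.map_smul, hx,
        S.symm x w, add_comm]
    have hcard : ∀ a, q ≤ 2 * (TA a).card := fun a => by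
      rw [hq, ← card_univ]
      refine card_le_mul_card_image _ _ fun b hb => ?_
      obtain ⟨t₀, -, rfl⟩ := mem_image.1 hb
      simpa using card_sq_add_mul_eq a (t₀ + t₀ ^ 2 * a)
    let U := T0 ∪ ((univ : Finset F).erase 0).biUnion TA
    have hU : U ⊆ T := union_subset h0 (biUnion_subset.2 fun a _ => hA a)
    refine le_trans ?_ (Nat.mul_le_mul_left 2 (card_le_card hU))
    rw [card_union_of_disjoint, card_biUnion, mul_add 2, mul_sum]
    · calc q * (q + 1) = 2 * q + (q - 1) * q := by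
            obtain ⟨r, hr⟩ : ∃ r, q = r + 1 := ⟨q - 1, by have := Fintype.card_pos (α := F); omega⟩
            rw [hr, Nat.add_sub_cancel]; ring
        _ ≤ _ := by
          refine add_le_add ?_ ?_
          · rw [card_image_of_injective _ (Prod.mk_right_injective (0 : F))]; simp [q]
          · calc (q - 1) * q = ∑ _a ∈ (univ : Finset F).erase 0, q := by simp [q]
              _ ≤ _ := sum_le_sum fun a _ => hcard a
    · intro a _ a' _ hne
      rw [Function.onFun, Finset.disjoint_left]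
      intro p hp hp'
      simp [TA] at hp hp'
      obtain ⟨_, rfl⟩ := hp
      obtain ⟨_, h⟩ := hp'
      exact hne (Prod.ext_iff.1 h).1.symm
    · rw [Finset.disjoint_left]
      intro p hp hp'
      obtain ⟨d, -, rfl⟩ := mem_image.1 hp
      obtain ⟨a, ha, hp'⟩ := mem_biUnion.1 hp'
      obtain ⟨t, -, e⟩ := mem_image.1 hp'
      exact (mem_erase.1 ha).1 (Prod.ext_iff.1 e).1
  have hsum : ∑ τ ∈ T, (C τ).card ≤ q ^ (2 * j + 3) := by
    rw [← card_biUnion]
    · let P : Finset ((Fin (j + 2) → F) × (Fin (j + 2) → F)) := {p | S.B p.1 p.2 = 1}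
      refine le_trans (card_le_card (t := P) ?_) ?_
      · intro p hp
        obtain ⟨τ, -, hp⟩ := mem_biUnion.1 hp
        simp only [C, mem_filter] at hp
        simp [P, hp.2.2.1]
      · have h : (P ×ˢ (univ : Finset F)).card ≤ (univ : Finset ((Fin (j + 2) → F) × (Fin (j + 2) → F))).card := by
          let w : (Fin (j + 2) → F) → (Fin (j + 2) → F) := fun u =>
            if h : ∃ v, S.B u v = 1 then h.choose else 0
          refine Finset.card_le_card_of_injOn (fun pd => (pd.1.1, pd.1.2 + pd.2 • w pd.1.1))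
            (fun _ _ => mem_univ _) ?_
          intro a ha b hb h
          simp only [P, coe_product, Set.mem_prod, coe_filter, Set.mem_ofPred_eq, mem_univ,
            true_and] at ha hb
          simp only [Prod.mk.injEq] at h
          have hex : ∃ v, S.B a.1.1 v = 1 := ⟨_, ha.1⟩
          have hw : S.B a.1.1 (w a.1.1) = 1 := by
            simp only [w, dif_pos hex]; exact hex.choose_spec
          have e := congrArg (S.B a.1.1) h.2
          rw [← h.1] at e hb
          simp only [S.add_right, S.smul_right, hw, ha.1, hb.1, mul_one, add_right_inj] at e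
          refine Prod.ext (Prod.ext h.1 ?_) e
          have := h.2
          rw [← h.1, e] at this
          exact add_right_cancel this
        rw [card_product, card_univ, card_univ, Fintype.card_prod, Fintype.card_fun,
          Fintype.card_fin, ← hq] at h
        refine Nat.le_of_mul_le_mul_right (h.trans (le_of_eq ?_)) (Fintype.card_pos (α := F))
        ring
    · intro τ _ τ' _ hne
      rw [Function.onFun, Finset.disjoint_left]
      intro p hp hp'
      simp [C] at hp hp'
      exact hne (Prod.ext (hp.1.symm.trans hp'.1) (hp.2.2.symm.trans hp'.2.2))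
  obtain ⟨τ, hτT, hτmin⟩ : ∃ τ ∈ T, ∀ τ' ∈ T, (C τ).card ≤ (C τ').card := by
    refine exists_min_image T (fun τ => (C τ).card) ⟨(0, 0), ?_⟩
    exact mem_filter.2 ⟨mem_univ _, ⟨(x, y), by simp [C, hx, hQy, hxy]⟩⟩
  have hτ : T.card * (C τ).card ≤ q ^ (2 * j + 3) := by
    refine le_trans ?_ hsum
    calc T.card * (C τ).card = ∑ _τ' ∈ T, (C τ).card := by simp
      _ ≤ _ := sum_le_sum hτmin
  obtain ⟨⟨x', y'⟩, hp⟩ := (mem_filter.1 hτT).2
  simp only [C, mem_filter, mem_univ, true_and] at hp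
  obtain ⟨hQx', hB', hQy'⟩ := hp
  -- double counting
  let R : ((Fin (j + 2) → F) → F) → (Fin (j + 2) → F) × (Fin (j + 2) → F) → Prop := fun f u =>
    f u.1 = τ.1 ∧ f u.2 = τ.2 ∧ f (u.1 + u.2) = τ.1 + τ.2 + 1
  have hlow : ∀ u ∈ indepPairs F (j + 2), q ^ (2 * j) ≤ (S.orbit.filter fun f => R f u).card := by
    intro u hu
    rw [mem_indepPairs] at hu
    obtain ⟨hx'0, hy'0⟩ := S.indep_of_B hB'
    obtain ⟨g, hg, g0, g1⟩ := exists_indep_extend hm u.1 u.2 x' y' hu.1 hu.2 hx'0 hy'0
    let An : Finset (Fin (j + 2) → F) := {a | a ⬝ᵥ u.1 = 0 ∧ a ⬝ᵥ u.2 = 0}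
    have hAn : q ^ j ≤ An.card := by
      have := card_ann_two (F := F) u.1 u.2
      rw [← hq, show q ^ (j + 2) = q ^ 2 * q ^ j by ring] at this
      exact Nat.le_of_mul_le_mul_left this (pow_pos (Fintype.card_pos (α := F)) 2)
    let h : (Fin (j + 2) → F) × (Fin (j + 2) → F) → Matrix (Fin (j + 2)) (Fin (j + 2)) F :=
      fun ab => 1 + vecMulVec u.1 ab.1 + vecMulVec u.2 ab.2
    have hh : ∀ ab z, g *ᵥ (h ab *ᵥ z) = g *ᵥ z + ((ab.1 ⬝ᵥ z) • x' + (ab.2 ⬝ᵥ z) • y') := by
      intro ab z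
      simp only [h, add_mulVec, one_mulVec, vecMulVec_mulVec, op_smul_eq_smul, mulVec_add,
        mulVec_smul, g0, g1, add_assoc]
    refine le_trans ?_ (Finset.card_le_card_of_injOn (fun ab z => S.Q (g *ᵥ (h ab *ᵥ z)))
      (s := An ×ˢ An) ?_ ?_)
    · rw [card_product, show q ^ (2 * j) = q ^ j * q ^ j by ring]
      exact Nat.mul_le_mul hAn hAn
    · intro ab hab
      simp only [An, coe_product, Set.mem_prod, coe_filter, mem_univ, true_and, Set.mem_ofPred_eq] at hab
      simp only [R, coe_filter, Set.mem_ofPred_eq]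
      refine ⟨S.mem_orbit.2 ⟨g * h ab, ?_, ?_⟩, ?_⟩
      · rw [det_mul]
        refine mul_ne_zero hg fun hd => ?_
        obtain ⟨z, hz0, hz⟩ := exists_mulVec_eq_zero_iff.2 hd
        simp only [h, add_mulVec, one_mulVec, vecMulVec_mulVec, op_smul_eq_smul] at hz
        have e1 := congrArg (fun w => ab.1 ⬝ᵥ w) hz
        have e2 := congrArg (fun w => ab.2 ⬝ᵥ w) hz
        simp [hab.1.1, hab.1.2, hab.2.1, hab.2.2] at e1 e2
        simp [e1, e2] at hz
        exact hz0 hz
      · funext z; rw [mulVec_mulVec]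
      · rw [hh, hh, hh, g0, g1, mulVec_add, g0, g1]
        simp [dotProduct_add, hab.1.1, hab.1.2, hab.2.1, hab.2.2, hQx', hQy', S.map_add, hB']
    · intro ab hab ab' hab' he
      simp only [An, coe_product, Set.mem_prod, coe_filter, mem_univ, true_and, Set.mem_ofPred_eq] at hab hab'
      have key : ∀ ab, ab.1 ⬝ᵥ u.1 = 0 → ab.2 ⬝ᵥ u.1 = 0 → ab.1 ⬝ᵥ u.2 = 0 → ab.2 ⬝ᵥ u.2 = 0 → ∀ z,
          S.Q (g *ᵥ (h ab *ᵥ (u.1 + z))) - S.Q (g *ᵥ (h ab *ᵥ u.1)) - S.Q (g *ᵥ (h ab *ᵥ z)) =
            S.B x' (g *ᵥ z) + ab.2 ⬝ᵥ z ∧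
          S.Q (g *ᵥ (h ab *ᵥ (u.2 + z))) - S.Q (g *ᵥ (h ab *ᵥ u.2)) - S.Q (g *ᵥ (h ab *ᵥ z)) =
            S.B y' (g *ᵥ z) + ab.1 ⬝ᵥ z := by
        intro ab h1 h2 h3 h4 z
        constructor <;>
        · rw [mulVec_add, mulVec_add, S.map_add, show ∀ a b c : F, a + b + c - a - b = c from fun a b c => by ring]
          rw [hh, hh, S.add_left]
          simp [h1, h2, h3, h4, g0, g1, S.zero_left, S.add_right, S.smul_right, S.self_eq, hB', S.symm y' x']
      have k := key ab hab.1.1 hab.2.1 hab.1.2 hab.2.2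
      have k' := key ab' hab'.1.1 hab'.2.1 hab'.1.2 hab'.2.2
      refine Prod.ext (dotProduct_eq _ _ fun z => ?_) (dotProduct_eq _ _ fun z => ?_)
      · have e1 := (k z).2; have e2 := (k' z).2
        have he' : ∀ z, S.Q (g *ᵥ (h ab *ᵥ z)) = S.Q (g *ᵥ (h ab' *ᵥ z)) := congrFun he
        rw [he', he', he', e2] at e1
        exact (add_left_cancel e1).symm
      · have e1 := (k z).1; have e2 := (k' z).1
        have he' : ∀ z, S.Q (g *ᵥ (h ab *ᵥ z)) = S.Q (g *ᵥ (h ab' *ᵥ z)) := congrFun he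
        rw [he', he', he', e2] at e1
        exact (add_left_cancel e1).symm
  have hup : ∀ f ∈ S.orbit, ((indepPairs F (j + 2)).filter fun u => R f u).card ≤ (C τ).card := by
    intro f hf
    obtain ⟨g, hg, rfl⟩ := S.mem_orbit.1 hf
    have hinj := mulVec_injective_iff_isUnit.2 ((isUnit_iff_isUnit_det g).2 (Ne.isUnit hg))
    refine Finset.card_le_card_of_injOn (fun u => (g *ᵥ u.1, g *ᵥ u.2)) (fun u hu => ?_)
      (fun a _ b _ h => Prod.ext (hinj (Prod.ext_iff.1 h).1) (hinj (Prod.ext_iff.1 h).2))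
    simp only [R, coe_filter, Set.mem_ofPred_eq] at hu
    simp only [C, coe_filter, mem_univ, true_and, Set.mem_ofPred_eq]
    refine ⟨hu.2.1, ?_, hu.2.2.1⟩
    have := hu.2.2.2
    rw [mulVec_add, S.map_add, hu.2.1, hu.2.2.1] at this
    exact add_left_cancel this
  have hdc : (indepPairs F (j + 2)).card * q ^ (2 * j) ≤ S.orbit.card * (C τ).card :=
    calc (indepPairs F (j + 2)).card * q ^ (2 * j)
        = ∑ _u ∈ indepPairs F (j + 2), q ^ (2 * j) := by simp
      _ ≤ ∑ u ∈ indepPairs F (j + 2), (S.orbit.filter fun f => R f u).card := sum_le_sum hlow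
      _ = ∑ f ∈ S.orbit, ((indepPairs F (j + 2)).filter fun u => R f u).card := by
          simp only [card_filter]; exact sum_comm
      _ ≤ ∑ _f ∈ S.orbit, (C τ).card := sum_le_sum hup
      _ = _ := by simp
  rw [← card_indepPairs]
  set P := (indepPairs F (j + 2)).card
  set O := S.orbit.card
  have hq0 : 0 < q := Fintype.card_pos
  have h1 : P * q ^ (2 * j) * T.card ≤ O * q ^ (2 * j + 3) := by
    calc P * q ^ (2 * j) * T.card ≤ O * (C τ).card * T.card := Nat.mul_le_mul_right _ hdc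
      _ = O * (T.card * (C τ).card) := by ring
      _ ≤ _ := Nat.mul_le_mul_left _ hτ
  have h2 : P * T.card ≤ O * q ^ 3 := by
    refine le_of_mul_le_mul_left (a := q ^ (2 * j)) ?_ (pow_pos hq0 _)
    calc q ^ (2 * j) * (P * T.card) = P * q ^ (2 * j) * T.card := by ring
      _ ≤ _ := h1
      _ = q ^ (2 * j) * (O * q ^ 3) := by ring
  refine le_of_mul_le_mul_left (a := q * (q + 1)) ?_ (by positivity)
  calc q * (q + 1) * P ≤ 2 * T.card * P := Nat.mul_le_mul_right _ hT
    _ = 2 * (P * T.card) := by ring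
    _ ≤ 2 * (O * q ^ 3) := Nat.mul_le_mul_left _ h2
    _ ≤ q * (q + 1) * (2 * (q + 1) * O) := by nlinarith [Nat.zero_le (O * q), Nat.zero_le (O * q ^ 2)]

/-- Quadratic forms with nonzero polar form have big orbits. -/
theorem card_orbit (hm : 2 ≤ m) {x y : Fin m → F} (hxy : S.B x y ≠ 0) :
    (Fintype.card F ^ m - 1) * (Fintype.card F ^ m - Fintype.card F) ≤
      2 * (Fintype.card F + 1) * S.orbit.card := by
  by_cases h : ∀ z, S.Q z = 0 → ∀ w, S.B z w = 0
  · exact S.card_orbit_anisotropic hm (x := x) (y := (S.B x y)⁻¹ • y)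
      (by rw [S.smul_right, inv_mul_cancel₀ hxy]) h
  · push Not at h
    obtain ⟨z, hz, w, hw⟩ := h
    exact S.card_orbit_isotropic hm (x := z) (y₀ := (S.B z w)⁻¹ • w)
      (by rw [S.smul_right, inv_mul_cancel₀ hw]) hz

end Quad

end CfsgLib.MinDeg
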