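import Mathlib.Tactic.Linarith
import Mathlib.Tactic.LinearCombination
import Mathlib.Data.Real.Basic
import Mathlib.Algebra.Order.Ring.Abs
import Mathlib.Tactic.FieldSimp

/-!
# The arithmetic behind the smallest degree of `²G₂(q)`
-/

set_option autoImplicit false

namespace CfsgLib.MinDeg.Ree

theorem quad_pos {q : ℝ} (hq : 3 < q) {s t : ℤ} (hs : 3 ∣ s) (ht : 3 ∣ t) :
    (q - 3) * (4 * q - (q + 1) * (((s : ℝ) ^ 2 - 2 * s) + ((t : ℝ) ^ 2 - 2 * t))) <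
      (2 * q - (q + 1) * ((s : ℝ) + t)) ^ 2 := by
  have h3 : ∀ u : ℤ, 3 ∣ u → (0 : ℝ) ≤ (u : ℝ) * ((u : ℝ) - 3) := by
    rintro u ⟨v, rfl⟩
    have h : (0 : ℤ) ≤ 3 * v * (3 * v - 3) := by
      rcases le_or_gt v 0 with h | h
      · exact mul_nonneg_of_nonpos_of_nonpos (by omega) (by omega)
      · exact mul_nonneg (by omega) (by omega)
    exact_mod_cast h
  have hst := h3 (s + t) (dvd_add hs ht)
  push_cast at hst
  have h1 := mul_nonneg (show (0 : ℝ) ≤ (q + 1) * (q + 1) by positivity) hst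
  have h2 := mul_nonneg (mul_nonneg (show (0 : ℝ) ≤ q + 1 by linarith) (show (0 : ℝ) ≤ q - 3 by linarith))
    (add_nonneg (h3 s hs) (h3 t ht))
  nlinarith

/-- The system of equations has no solution. -/
theorem no_solution {q a b cA cB L G₀ SX RX : ℝ} {s t : ℤ} (hq : 3 < q) (ha : 1 < a) (hb : 1 < b)
    (hab : a * b = q ^ 2 - q + 1) (hsum : a + b = 2 * q + 2) (hG : G₀ = q ^ 3 * (q - 1) * (q ^ 3 + 1))
    (hA : 6 * a * cA = G₀) (hB : 6 * b * cB = G₀) (hL : 6 * (q + 1) * L = G₀)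
    (hs : 3 ∣ s) (ht : 3 ∣ t) {SA SB TA TB : ℝ}
    (hSA : SA = a * ((s : ℝ) - 1) + 1) (hSB : SB = b * ((t : ℝ) - 1) + 1)
    (hTA : SA ^ 2 ≤ (a - 1) * TA) (hTB : SB ^ 2 ≤ (b - 1) * TB)
    (hsum1 : q * (q - 1) + (q ^ 3 + 1) * (-(q * (q - 1))) + cA * SA + cB * SB + SX = 0)
    (hsum2 : (q * (q - 1)) ^ 2 + (q ^ 3 + 1) * (q ^ 2 * (q - 1)) + cA * TA + cB * TB + RX ≤ G₀)
    (hCS : SX ^ 2 ≤ (q - 3) * L * RX) : False := by
  have hq1 : (0 : ℝ) < q + 1 := by linarith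
  have hGpos : 0 < G₀ := by
    rw [hG]
    have : (0 : ℝ) < q - 1 := by linarith
    positivity
  have hLpos : 0 < L := by
    by_contra h
    push Not at h
    nlinarith
  have h6L : 6 * L = q ^ 3 * (q - 1) * (q ^ 2 - q + 1) := by
    refine mul_left_cancel₀ hq1.ne' ?_
    linear_combination hL + hG
  have hC : 3 * (cA + cB) = q ^ 3 * (q - 1) * (q + 1) ^ 2 := by
    refine mul_left_cancel₀ (show a * b ≠ 0 by nlinarith) ?_
    linear_combination (b / 2) * hA + (a / 2) * hB + (a + b) / 2 * hG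
      + (q ^ 3 * (q - 1) * (q ^ 3 + 1) / 2) * hsum - q ^ 3 * (q - 1) * (q + 1) ^ 2 * hab
  have hMA : cA * a = (q + 1) * L := by linear_combination (1 / 6) * hA - (1 / 6) * hL
  have hMB : cB * b = (q + 1) * L := by linear_combination (1 / 6) * hB - (1 / 6) * hL
  have hSX : SX = L * (2 * q - (q + 1) * ((s : ℝ) + t)) := by
    linear_combination hsum1 - cA * hSA - cB * hSB - ((s : ℝ) - 1) * hMA - ((t : ℝ) - 1) * hMB
      - (1 / 3) * hC + (1 / 3) * h6L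
  have hlow : ∀ (c x S T : ℝ) (u : ℤ), 0 ≤ c → 1 < x → S = x * ((u : ℝ) - 1) + 1 → S ^ 2 ≤ (x - 1) * T →
      c * (x * ((u : ℝ) - 1) ^ 2 - 1) ≤ c * T := by
    intro c x S T u hc hx hS hT
    refine mul_le_mul_of_nonneg_left ?_ hc
    have h1 : (x - 1) * (x * ((u : ℝ) - 1) ^ 2 - 1) ≤ (x - 1) * T := by
      refine le_trans ?_ hT
      rw [hS]
      nlinarith [mul_nonneg (show (0 : ℝ) ≤ x by linarith) (sq_nonneg (u : ℝ))]
    exact le_of_mul_le_mul_left h1 (by linarith)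
  have hcA : 0 ≤ cA := by nlinarith
  have hcB : 0 ≤ cB := by nlinarith
  have hA2 := hlow cA a SA TA s hcA ha hSA hTA
  have hB2 := hlow cB b SB TB t hcB hb hSB hTB
  have hR : RX ≤ L * (4 * q - (q + 1) * (((s : ℝ) ^ 2 - 2 * s) + ((t : ℝ) ^ 2 - 2 * t))) := by
    have e : G₀ - ((q * (q - 1)) ^ 2 + (q ^ 3 + 1) * (q ^ 2 * (q - 1))
        + cA * (a * ((s : ℝ) - 1) ^ 2 - 1) + cB * (b * ((t : ℝ) - 1) ^ 2 - 1)) =
        L * (4 * q - (q + 1) * (((s : ℝ) ^ 2 - 2 * s) + ((t : ℝ) ^ 2 - 2 * t))) := by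
      linear_combination hG - ((s : ℝ) - 1) ^ 2 * hMA - ((t : ℝ) - 1) ^ 2 * hMB + (1 / 3) * hC
        - ((3 * q + 1) / 3) * h6L
    linarith
  have h2 := quad_pos hq hs ht
  rw [hSX] at hCS
  nlinarith [mul_le_mul_of_nonneg_left hR (mul_nonneg (show (0 : ℝ) ≤ q - 3 by linarith) hLpos.le),
    mul_lt_mul_of_pos_left h2 (mul_pos hLpos hLpos)]

end CfsgLib.MinDeg.Ree
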