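import Cfsg.Agent.Lib.Char.Basic
import Cfsg.Agent.Lib.ReeG2.Count
import Mathlib.RepresentationTheory.Character
import Mathlib.RepresentationTheory.Subrepresentation

/-!
# Character sums used for the smallest degree of `²G₂(q)`
-/

set_option autoImplicit false

namespace CfsgLib.MinDeg.Ree

open Module

variable {G : Type*} [Group G] [Fintype G]

open scoped _root_.Classical in
/-- A class function summed over the conjugates of a trivial intersection set. -/
theorem sum_conjSet (X : Finset G) (N : Subgroup G)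
    (hN : ∀ n ∈ N, ∀ x ∈ X, n * x * n⁻¹ ∈ X) (hsep : ∀ g, ∀ x ∈ X, g * x * g⁻¹ ∈ X → g ∈ N)
    (f : G → ℝ) (hf : ∀ g x, f (g * x * g⁻¹) = f x) :
    ∑ y ∈ (CfsgLib.ReeG2.conjSet (X : Set G)).toFinset, f y = (N.index : ℝ) * ∑ x ∈ X, f x := by
  rw [show (N.index : ℝ) * ∑ x ∈ X, f x = ∑ p ∈ (Finset.univ : Finset (G ⧸ N)) ×ˢ X, f p.2 by
    rw [Finset.sum_product]
    simp [Subgroup.index, Nat.card_eq_fintype_card]]
  refine (Finset.sum_bij (fun p _ => p.1.out * p.2 * p.1.out⁻¹) (fun p hp => ?_) ?_ ?_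
    fun p _ => (hf _ _).symm).symm
  · rw [Set.mem_toFinset]
    exact ⟨p.1.out, p.2, (Finset.mem_product.1 hp).2, rfl⟩
  · rintro ⟨c, x⟩ hc ⟨d, y⟩ hd (h : c.out * x * c.out⁻¹ = d.out * y * d.out⁻¹)
    have hy : d.out⁻¹ * c.out * x * (d.out⁻¹ * c.out)⁻¹ = y := by
      calc _ = d.out⁻¹ * (c.out * x * c.out⁻¹) * d.out := by group
        _ = y := by rw [h]; group
    have hm := hsep _ x (Finset.mem_product.1 hc).2 (hy ▸ (Finset.mem_product.1 hd).2)
    have hcd : c = d := by
      rw [← QuotientGroup.out_eq' c, ← QuotientGroup.out_eq' d, eq_comm, QuotientGroup.eq]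
      exact hm
    subst hcd
    exact Prod.ext rfl (mul_left_cancel (mul_right_cancel h))
  · intro y hy
    rw [Set.mem_toFinset] at hy
    obtain ⟨g, x, hx, rfl⟩ := hy
    set c : G ⧸ N := QuotientGroup.mk g
    have hn : c.out⁻¹ * g ∈ N := by
      rw [← QuotientGroup.eq, QuotientGroup.out_eq']
    refine ⟨(c, c.out⁻¹ * g * x * (c.out⁻¹ * g)⁻¹),
      Finset.mem_product.2 ⟨Finset.mem_univ _, hN _ hn x hx⟩, ?_⟩
    show c.out * (c.out⁻¹ * g * x * (c.out⁻¹ * g)⁻¹) * c.out⁻¹ = g * x * g⁻¹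
    group

variable {V : Type*} [AddCommGroup V] [Module ℂ V] [FiniteDimensional ℂ V]

/-- A non-trivial irreducible character sums to zero. -/
theorem sum_character_eq_zero (ρ : Representation ℂ G V) (hρ : ρ.IsIrreducible) {g₀ : G}
    (hg₀ : ρ g₀ ≠ 1) : ∑ g, ρ.character g = 0 := by
  haveI : Invertible (Nat.card G : ℂ) := invertibleOfNonzero (Nat.cast_ne_zero.2 Nat.card_pos.ne')
  have h := Representation.card_inv_mul_sum_char_eq_finrank (ρ := ρ)
  let W : Subrepresentation ρ := ⟨Representation.invariants ρ, fun g x hx => by rwa [hx g]⟩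
  have hbot : Representation.invariants ρ = ⊥ := by
    rcases hρ.eq_bot_or_eq_top W with hW | hW
    · exact congrArg Subrepresentation.toSubmodule hW
    · exfalso
      refine hg₀ (LinearMap.ext fun x => ?_)
      have hx : x ∈ W.toSubmodule := by rw [hW]; exact Submodule.mem_top
      exact hx g₀
  rw [hbot, finrank_bot, Nat.cast_zero, mul_eq_zero] at h
  exact h.resolve_left (inv_ne_zero (Nat.cast_ne_zero.2 Nat.card_pos.ne'))

/-- The squares of the real parts of an irreducible character sum to at most the order. -/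
theorem sum_re_sq_le (ρ : Representation ℂ G V) (hρ : ρ.IsIrreducible) :
    ∑ g, (ρ.character g).re ^ 2 ≤ (Nat.card G : ℝ) := by
  classical
  haveI : Invertible (Nat.card G : ℂ) := invertibleOfNonzero (Nat.cast_ne_zero.2 Nat.card_pos.ne')
  haveI := hρ
  have h := Representation.char_orthonormal ρ ρ
  rw [if_pos ⟨Representation.Equiv.refl ρ⟩, inv_mul_eq_iff_eq_mul₀ (Nat.cast_ne_zero.2 Nat.card_pos.ne'),
    mul_one, Finset.sum_congr rfl fun g _ => show ρ.character g * ρ.character g⁻¹ =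
      ((Complex.normSq (ρ.character g) : ℝ) : ℂ) by
        rw [CfsgLib.Char.character_inv, Complex.mul_conj], ← Complex.ofReal_sum] at h
  have h' : ∑ g, Complex.normSq (ρ.character g) = (Nat.card G : ℝ) := by exact_mod_cast h
  rw [← h']
  refine Finset.sum_le_sum fun g _ => ?_
  rw [Complex.normSq_apply]
  nlinarith [mul_self_nonneg (ρ.character g).im]

open scoped _root_.Classical in
/-- An element of order three without fixed points on an abelian subgroup: the part of the
space without fixed points has dimension divisible by three. -/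
theorem exists_fixed_dim (ρ : Representation ℂ G V) (A : Subgroup G) {n : G} (hn : n ^ 3 = 1)
    (hnA : ∀ a ∈ A, n * a * n⁻¹ ∈ A)
    (hfpf : ∀ a ∈ A, a * n = n * a → a = 1) :
    ∃ f₀ : ℕ, ∑ a : ↥A, ρ.character (a : G) = (Nat.card ↥A : ℂ) * f₀ ∧
      (3 : ℤ) ∣ (finrank ℂ V : ℤ) - f₀ := by
  set P : Module.End ℂ V := (Nat.card ↥A : ℂ)⁻¹ • ∑ a : ↥A, ρ (a : G) with hP
  set M : Module.End ℂ V := (3 : ℂ)⁻¹ • (1 + ρ n + ρ (n * n)) with hM
  have hcard : (Nat.card ↥A : ℂ) ≠ 0 := Nat.cast_ne_zero.2 Nat.card_pos.ne'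
  have hn3 : n * n * n = 1 := by rw [← hn, pow_succ, pow_two]
  have hinv : n⁻¹ = n * n := inv_eq_of_mul_eq_one_left hn3
  have hnA' : ∀ a ∈ A, n⁻¹ * a * n ∈ A := fun a ha => by
    rw [hinv, show n * n * a * n = n * (n * a * n⁻¹) * n⁻¹ * (n * n * n) by group, hn3, mul_one]
    exact hnA _ (hnA a ha)
  -- the averages are idempotents
  have hPP : P * P = P := by
    have h1 : ∀ a : ↥A, ρ (a : G) * ∑ b : ↥A, ρ (b : G) = ∑ b : ↥A, ρ (b : G) := fun a => by
      rw [Finset.mul_sum]
      exact Fintype.sum_equiv (Equiv.mulLeft a) _ _ fun b => by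
        rw [← map_mul]; rfl
    rw [hP, smul_mul_smul_comm, Finset.sum_mul, Finset.sum_congr rfl fun a _ => h1 a, Finset.sum_const,
      Finset.card_univ, ← Nat.card_eq_fintype_card, ← Nat.cast_smul_eq_nsmul ℂ, smul_smul, mul_assoc,
      inv_mul_cancel₀ hcard, mul_one]
  have hMM : M * M = M := by
    rw [hM, smul_mul_smul_comm]
    simp only [mul_add, add_mul, mul_one, one_mul, ← map_mul]
    rw [show n * n * (n * n) = n by rw [← mul_assoc, hn3, one_mul],
      show n * (n * n) = 1 by rw [← mul_assoc, hn3], hn3, map_one]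
    module
  have hcomm : ρ n * P = P * ρ n := by
    rw [hP, mul_smul_comm, smul_mul_assoc, Finset.mul_sum, Finset.sum_mul]
    congr 1
    exact Fintype.sum_equiv
      { toFun := fun a : ↥A => ⟨n * a * n⁻¹, hnA a a.2⟩
        invFun := fun a : ↥A => ⟨n⁻¹ * a * n, hnA' a a.2⟩
        left_inv := fun a => Subtype.ext (by simp [mul_assoc])
        right_inv := fun a => Subtype.ext (by simp [mul_assoc]) } _ _ fun a => by
        rw [← map_mul, ← map_mul]
        show ρ (n * a) = ρ (n * a * n⁻¹ * n)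
        rw [inv_mul_cancel_right]
  have hcommM : M * P = P * M := by
    have hc : Commute (ρ n) P := hcomm
    have hc2 : Commute (ρ (n * n)) P := by rw [map_mul]; exact hc.mul_left hc
    rw [hM]
    exact ((((Commute.one_left P).add_left hc).add_left hc2).smul_left (3 : ℂ)⁻¹).eq
  have hproj : ∀ T : Module.End ℂ V, T * T = T → ∃ d : ℕ, LinearMap.trace ℂ V T = d := by
    intro T hT
    exact ⟨_, (show LinearMap.IsProj (LinearMap.range T) T from
      ⟨fun y => LinearMap.mem_range_self T y, fun y hy => by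
        obtain ⟨x, rfl⟩ := hy
        exact LinearMap.congr_fun hT x⟩).trace⟩
  obtain ⟨f₀, hf₀⟩ := hproj P hPP
  obtain ⟨d₁, hd₁⟩ := hproj M hMM
  obtain ⟨d₂, hd₂⟩ := hproj (M * P) (by
    rw [mul_assoc, ← mul_assoc P M P, ← hcommM, mul_assoc M P P, hPP, ← mul_assoc, hMM])
  -- the elements outside the subgroup have their average value
  have havg : ∀ m : G, (∀ a ∈ A, m⁻¹ * a * m ∈ A) → (∀ a ∈ A, a * m = m * a → a = 1) →
      LinearMap.trace ℂ V (ρ m * P) = ρ.character m := by
    intro m hm hmf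
    let φ : ↥A → ↥A := fun b => ⟨m⁻¹ * b * m * (b : G)⁻¹, mul_mem (hm b b.2) (inv_mem b.2)⟩
    have hcong : ∀ b : ↥A, m * (φ b : G) = b * m * (b : G)⁻¹ := fun b => by
      simp only [φ]
      group
    have hφ : Function.Bijective φ := by
      refine Finite.injective_iff_bijective.1 fun b c h => ?_
      have h1 : (b : G) * m * (b : G)⁻¹ = c * m * (c : G)⁻¹ := by rw [← hcong, ← hcong, h]
      have h2 := hmf _ (mul_mem (inv_mem c.2) b.2) (by
        calc (c : G)⁻¹ * b * m = (c : G)⁻¹ * (b * m * (b : G)⁻¹) * b := by group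
          _ = m * ((c : G)⁻¹ * b) := by rw [h1]; group)
      exact Subtype.ext (inv_mul_eq_one.1 h2).symm
    rw [hP, mul_smul_comm, map_smul, Finset.mul_sum, map_sum]
    have h3 : ∀ a : ↥A, LinearMap.trace ℂ V (ρ m * ρ (a : G)) = ρ.character m := fun a => by
      obtain ⟨b, rfl⟩ := hφ.2 a
      rw [← map_mul, hcong]
      exact ρ.char_conj m (b : G)
    rw [Finset.sum_congr rfl fun a _ => h3 a, Finset.sum_const, Finset.card_univ,
      ← Nat.card_eq_fintype_card, nsmul_eq_mul, smul_eq_mul, ← mul_assoc, inv_mul_cancel₀ hcard, one_mul]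
  refine ⟨f₀, ?_, ⟨(d₁ : ℤ) - d₂, ?_⟩⟩
  · rw [← hf₀, hP, map_smul, map_sum, smul_eq_mul, ← mul_assoc, mul_inv_cancel₀ hcard, one_mul]
    rfl
  · have hnn : ∀ a ∈ A, (n * n)⁻¹ * a * (n * n) ∈ A := fun a ha => by
      rw [show (n * n)⁻¹ * a * (n * n) = n⁻¹ * (n⁻¹ * a * n) * n by group]
      exact hnA' _ (hnA' a ha)
    have hnnf : ∀ a ∈ A, a * (n * n) = n * n * a → a = 1 := fun a ha h => hfpf a ha (by
      have h' : Commute a (n⁻¹)⁻¹ := Commute.inv_right (by rw [hinv]; exact h)
      rw [inv_inv] at h'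
      exact h'.eq)
    have e1 : (3 : ℂ) * d₁ = (finrank ℂ V : ℂ) + ρ.character n + ρ.character (n * n) := by
      rw [← hd₁, hM, map_smul, map_add, map_add, LinearMap.trace_one, smul_eq_mul, ← mul_assoc,
        mul_inv_cancel₀ (by norm_num : (3 : ℂ) ≠ 0), one_mul]
      rfl
    have e2 : (3 : ℂ) * d₂ = (f₀ : ℂ) + ρ.character n + ρ.character (n * n) := by
      rw [← hd₂, hM, smul_mul_assoc, map_smul, add_mul, add_mul, one_mul, map_add, map_add, hf₀,
        havg n hnA' hfpf, havg (n * n) hnn hnnf, smul_eq_mul, ← mul_assoc,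
        mul_inv_cancel₀ (by norm_num : (3 : ℂ) ≠ 0), one_mul]
    have : ((finrank ℂ V : ℤ) : ℂ) - ((f₀ : ℤ) : ℂ) = ((3 * ((d₁ : ℤ) - d₂) : ℤ) : ℂ) := by
      push_cast
      linear_combination e2 - e1
    exact_mod_cast this

end CfsgLib.MinDeg.Ree
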