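import Cfsg.Agent.Lib.MinDeg.ReeWeights
import Cfsg.Agent.Lib.MinDeg.ReeSums
import Cfsg.Agent.Lib.MinDeg.ReeNum
import Cfsg.Agent.Lib.ReeG2.Singer

/-!
# Smallest degree of `²G₂(q)`
-/

set_option autoImplicit false

namespace CfsgLib.MinDeg.Ree

open Module Cfsg.Lie CfsgLib.Chev CfsgLib.ReeG2
open scoped Matrix Pointwise

variable {K : Type*} [Field K] [Fintype K] [CharP K 3] {θ : K ≃+* K}
variable (hθ : IsRee θ) (hq8 : Fintype.card K % 8 = 3)
include hθ hq8

/-- Two Singer subgroups adding up to `2q + 2` with product `q² - q + 1` are one modulo three. -/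
theorem tori_mod {a b : ℕ} (hsum : a + b = 2 * Fintype.card K + 2) (hab : a * b = nq K) :
    a % 3 = 1 ∧ b % 3 = 1 := by
  have h3 := three_dvd_q (K := K)
  have hn : nq K % 3 = 1 := by
    obtain ⟨t, ht⟩ := h3
    have hh : Fintype.card K * Fintype.card K - Fintype.card K = 3 * (3 * t * t - t) := by
      rw [ht, Nat.mul_sub]
      congr 1
      ring
    show (Fintype.card K * Fintype.card K - Fintype.card K + 1) % 3 = 1
    omega
  rw [← hab, Nat.mul_mod] at hn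
  have h1 := Nat.mod_lt a (show 0 < 3 by norm_num)
  have h2 := Nat.mod_lt b (show 0 < 3 by norm_num)
  generalize ha : a % 3 = x at hn h1
  generalize hb : b % 3 = y at hn h2
  interval_cases x <;> interval_cases y <;> omega

/-- The class sum over the conjugates of a Singer subgroup. -/
theorem singer_sum {A : Subgroup ↥(fixG θ)} (hA : IsSinger A)
    (hN : Nat.card ↥(Subgroup.normalizer (A : Set ↥(fixG θ))) = 6 * Nat.card ↥A)
    (hmod : Nat.card ↥A % 3 = 1) {k : ℕ} (ρ : Representation ℂ ↥(fixG θ) (Fin k → ℂ)) :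
    ∃ (f₀ : ℕ) (c S T : ℝ), (3 : ℤ) ∣ (k : ℤ) - f₀ ∧
      6 * (Nat.card ↥A : ℝ) * c = (Nat.card ↥(fixG θ) : ℝ) ∧
      S = (Nat.card ↥A : ℝ) * f₀ - k ∧ S ^ 2 ≤ ((Nat.card ↥A : ℝ) - 1) * T ∧
      ∑ g ∈ (orb A).toFinite.toFinset, (ρ.character g).re = c * S ∧
      ∑ g ∈ (orb A).toFinite.toFinset, (ρ.character g).re ^ 2 = c * T := by
  classical
  set N := Subgroup.normalizer (A : Set ↥(fixG θ))
  haveI : Fact (Nat.Prime 3) := ⟨Nat.prime_three⟩
  obtain ⟨⟨n, hn⟩, hno⟩ := exists_prime_orderOf_dvd_card' (G := ↥N) 3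
    (hN ▸ dvd_mul_of_dvd_left (by norm_num) _)
  rw [Subgroup.orderOf_mk] at hno
  have hn3 : n ^ 3 = 1 := hno ▸ pow_orderOf_eq_one n
  have hfpf : ∀ a ∈ A, a * n = n * a → a = 1 := fun a ha h => by
    by_contra ha1
    have hnA : n ∈ A := by
      rw [← hA.cent_eq hθ hq8 ha ha1, Subgroup.mem_centralizer_singleton_iff]
      exact h.symm
    have h3 := hno ▸ Subgroup.orderOf_dvd_natCard A hnA
    omega
  obtain ⟨f₀, hf, hdvd⟩ := exists_fixed_dim ρ A hn3
    (fun a ha => (Subgroup.mem_normalizer_iff.1 hn a).1 ha) hfpf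
  rw [Module.finrank_fin_fun] at hdvd
  let x : ↥(fixG θ) → ℝ := fun g => (ρ.character g).re
  have hx : ∀ g y, x (g * y * g⁻¹) = x y := fun g y => congrArg Complex.re (ρ.char_conj y g)
  set X : Finset ↥(fixG θ) := (Finset.univ.filter (· ∈ A)).erase 1
  have hXcard : (X.card : ℝ) = (Nat.card ↥A : ℝ) - 1 := by
    rw [Finset.card_erase_of_mem (by simp), Nat.cast_sub (Finset.card_pos.2 ⟨1, by simp⟩),
      Nat.card_eq_fintype_card, Fintype.card_subtype, Nat.cast_one]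
  have hset : (orb A).toFinite.toFinset = (conjSet (X : Set ↥(fixG θ))).toFinset := by
    ext z
    rw [Set.Finite.mem_toFinset, Set.mem_toFinset, orb,
      show ({y | y ∈ A ∧ y ≠ 1} : Set ↥(fixG θ)) = (X : Set ↥(fixG θ)) by ext y; simp [X, and_comm]]
  have hconj : ∀ m ∈ N, ∀ y ∈ X, m * y * m⁻¹ ∈ X := fun m hm y hy => by
    simp only [X, Finset.mem_erase, Finset.mem_filter, Finset.mem_univ, true_and] at hy ⊢
    exact ⟨fun e => hy.1 (conj_eq_one_iff.1 e), (Subgroup.mem_normalizer_iff.1 hm y).1 hy.2⟩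
  have hsep : ∀ g, ∀ y ∈ X, g * y * g⁻¹ ∈ X → g ∈ N := fun g y hy h => by
    simp only [X, Finset.mem_erase, Finset.mem_filter, Finset.mem_univ, true_and] at hy h
    exact hA.sep hθ hq8 hy.2 hy.1 h.2
  refine ⟨f₀, N.index, ∑ y ∈ X, x y, ∑ y ∈ X, x y ^ 2, hdvd, ?_, ?_, ?_, ?_, ?_⟩
  · rw [← N.card_mul_index, hN]
    push_cast
    ring
  · rw [Finset.sum_erase_eq_sub (by simp), ← Finset.sum_subtype_eq_sum_filter]
    have h1 := congrArg Complex.re hf
    rw [Complex.re_sum] at h1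
    simp only [Complex.mul_re, Complex.natCast_re, Complex.natCast_im, mul_zero, sub_zero] at h1
    rw [show x 1 = k by simp [x, Representation.char_one], ← h1]
    simp [x]
  · rw [← hXcard]
    exact sq_sum_le_card_mul_sum_sq
  · rw [hset]
    exact sum_conjSet X N hconj hsep x hx
  · rw [hset]
    exact sum_conjSet X N hconj hsep (fun y => x y ^ 2) fun g y => by simp only [hx]

/-- The character off the classes of elements with big prime divisors of `q + 1` and `q² - q + 1`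
and of `3`-elements vanishes. -/
theorem char_zero {k : ℕ} (ρ : Representation ℂ ↥(fixG θ) (Fin k → ℂ))
    (hB : ∀ t u v : K, ∀ c : Kˣ, ¬ (t = 0 ∧ u = 0 ∧ c = 1) →
      ρ.character (rg hθ t u v * hg hθ c) = 0) {g : ↥(fixG θ)}
    (hg' : (g ^ 6 = 1 ∧ g ^ 3 ≠ 1) ∨ HasBig (Fintype.card K - 1) g) : ρ.character g = 0 := by
  have hm1 : (-1 : Kˣ) ≠ 1 := fun e => neg_one_ne_one (congrArg Units.val e)
  have hr0 : rg hθ (0 : K) 0 0 = 1 := Subtype.ext ru_zero
  rcases hg' with h | h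
  · have hmem : g ∈ conjSet (I6X hθ) := by rw [← setI_eq hθ]; exact h
    obtain ⟨c, y, ⟨u, hu, hu3, rfl⟩, rfl⟩ := hmem
    rw [ρ.char_conj]
    rcases (cent_three hθ hu (by rw [show 9 = 3 * 3 from rfl, pow_mul, hu3, one_pow])).2 with
      rfl | ⟨d, hd, s, -, hs⟩
    · rw [mul_one, show a0 hθ = rg hθ 0 0 0 * hg hθ (-1) by rw [hr0, one_mul]; rfl]
      exact hB _ _ _ _ fun e => hm1 e.2.2
    · have hsa : rg hθ 0 s 0 * a0 hθ = a0 hθ * rg hθ 0 s 0 := (mem_C0_iff hθ).1 (ru_u_mem hθ s)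
      rw [show u = d * rg hθ 0 s 0 * d⁻¹ by rw [← hs]; group, ← mul_assoc, ← mul_assoc, ← hd,
        mul_assoc d (a0 hθ), ← hsa, ρ.char_conj]
      exact hB _ _ _ _ fun e => hm1 e.2.2
  · obtain ⟨c, y, ⟨hy, hy2⟩, rfl⟩ := bigQ1_conj hθ h
    rw [ρ.char_conj]
    obtain ⟨b, eb⟩ := (mem_Hf hθ).1 hy
    obtain rfl : y = hg hθ b := Subtype.ext eb
    rw [← one_mul (hg hθ b), ← hr0]
    exact hB _ _ _ _ fun e => (Hf_sq_iff hθ hy2).1 e.2.2

/-- The class sums over the `3`-elements. -/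
theorem three_sum {k : ℕ} (ρ : Representation ℂ ↥(fixG θ) (Fin k → ℂ))
    (hB : ∀ t u v : K, ∀ c : Kˣ, ¬ (t = 0 ∧ u = 0 ∧ c = 1) →
      ρ.character (rg hθ t u v * hg hθ c) = 0)
    (hZ : ∀ v : K, v ≠ 0 → ρ.character (rg hθ 0 0 v) = -(Fintype.card K : ℂ)) :
    let q : ℝ := Fintype.card K
    ∑ g ∈ {x : ↥(fixG θ) | x ≠ 1 ∧ x ^ 9 = 1}.toFinite.toFinset, (ρ.character g).re =
        (q ^ 3 + 1) * (-(q * (q - 1))) ∧
      ∑ g ∈ {x : ↥(fixG θ) | x ≠ 1 ∧ x ^ 9 = 1}.toFinite.toFinset, (ρ.character g).re ^ 2 =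
        (q ^ 3 + 1) * (q ^ 2 * (q - 1)) := by
  classical
  intro q
  let x : ↥(fixG θ) → ℝ := fun g => (ρ.character g).re
  have hx : ∀ g y, x (g * y * g⁻¹) = x y := fun g y => congrArg Complex.re (ρ.char_conj y g)
  set X : Finset ↥(fixG θ) := (Finset.univ.filter (· ∈ Uf θ)).erase 1
  have hset : {x : ↥(fixG θ) | x ≠ 1 ∧ x ^ 9 = 1}.toFinite.toFinset =
      (conjSet (X : Set ↥(fixG θ))).toFinset := by
    ext z
    rw [Set.Finite.mem_toFinset, Set.mem_toFinset, setP_eq hθ,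
      show ({y | y ∈ Uf θ ∧ y ≠ 1} : Set ↥(fixG θ)) = (X : Set ↥(fixG θ)) by ext y; simp [X, and_comm]]
  have hconj : ∀ m ∈ Bf θ, ∀ y ∈ X, m * y * m⁻¹ ∈ X := fun m hm y hy => by
    simp only [X, Finset.mem_erase, Finset.mem_filter, Finset.mem_univ, true_and] at hy ⊢
    refine ⟨fun e => hy.1 (conj_eq_one_iff.1 e), ?_⟩
    rw [← conj_Uf hθ hm]
    exact ⟨y, hy.2, rfl⟩
  have hsep : ∀ g, ∀ y ∈ X, g * y * g⁻¹ ∈ X → g ∈ Bf θ := fun g y hy h => by
    simp only [X, Finset.mem_erase, Finset.mem_filter, Finset.mem_univ, true_and] at hy h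
    by_contra hg'
    have hm : g * y * g⁻¹ ∈ Uf θ ⊓ MulAut.conj g • Uf θ := ⟨h.2, y, hy.2, rfl⟩
    rw [ti_of_not_mem hθ hg', Subgroup.mem_bot] at hm
    exact hy.1 (conj_eq_one_iff.1 hm)
  have hidx : ((Bf θ).index : ℝ) = q ^ 3 + 1 := by
    have h := (Bf θ).card_mul_index
    rw [card_Bf hθ, card_eq hθ, mul_assoc] at h
    have h1 := Nat.eq_of_mul_eq_mul_left (pow_pos Fintype.card_pos 3) h
    have h2 := Nat.eq_of_mul_eq_mul_left (by have := Fintype.one_lt_card (α := K); omega) h1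
    rw [h2, nq]
    push_cast [Nat.le_mul_self]
    ring
  have hU : ∀ F : ℝ → ℝ, F 0 = 0 → ∑ y ∈ X, F (x y) = (q - 1) * F (-q) := by
    intro F hF
    have hinj : Function.Injective fun v : K => rg hθ (0 : K) 0 v := fun v w e =>
      (ru_injective (congrArg Subtype.val e)).2.2
    rw [← Finset.sum_subset (s₁ := ((Finset.univ : Finset K).erase 0).image fun v => rg hθ (0 : K) 0 v)]
    · rw [Finset.sum_image hinj.injOn, Finset.sum_congr rfl fun v hv => show F (x (rg hθ 0 0 v)) = F (-q) by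
        simp [x, hZ v (Finset.ne_of_mem_erase hv), q]]
      simp [q, Nat.cast_sub (Fintype.card_pos (α := K))]
    · intro y hy
      simp only [Finset.mem_image, Finset.mem_erase, Finset.mem_univ, and_true] at hy
      obtain ⟨v, hv, rfl⟩ := hy
      simp only [X, Finset.mem_erase, Finset.mem_filter, Finset.mem_univ, true_and]
      exact ⟨fun e => ru_ne_one (θ := θ) (Or.inr (Or.inr hv)) (congrArg Subtype.val e),
        (mem_Uf hθ).2 ⟨0, 0, v, rfl⟩⟩
    · intro y hy hy'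
      simp only [X, Finset.mem_erase, Finset.mem_filter, Finset.mem_univ, true_and] at hy
      obtain ⟨t, u, v, e⟩ := (mem_Uf hθ).1 hy.2
      obtain rfl : y = rg hθ t u v := Subtype.ext e
      have h1 := hB t u v 1 fun e' => hy' (by
        obtain ⟨rfl, rfl, -⟩ := e'
        simp only [Finset.mem_image, Finset.mem_erase, Finset.mem_univ, and_true]
        exact ⟨v, fun h0 => hy.1 (by rw [h0]; exact Subtype.ext ru_zero), rfl⟩)
      rw [show hg hθ (1 : Kˣ) = 1 from Subtype.ext hh_one, mul_one] at h1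
      simp [x, h1, hF]
  constructor
  · rw [hset]
    refine (sum_conjSet X (Bf θ) hconj hsep x hx).trans ?_
    rw [hidx, show ∑ y ∈ X, x y = (q - 1) * -q from hU id rfl]
    ring
  · rw [hset]
    refine (sum_conjSet X (Bf θ) hconj hsep (fun y => x y ^ 2) fun g y => by simp only [hx]).trans ?_
    rw [hidx, show ∑ y ∈ X, x y ^ 2 = (q - 1) * (-q) ^ 2 from hU (· ^ 2) (by norm_num)]
    ring

/-- The smallest degree of a non-trivial representation of `²G₂(q)`. -/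
theorem degree_bound (hq : 3 < Fintype.card K) {k : ℕ} (ρ : Representation ℂ ↥(fixG θ) (Fin k → ℂ))
    (hρ : ρ.IsIrreducible) (hk : 2 ≤ k) :
    Fintype.card K * Fintype.card K - Fintype.card K + 1 ≤ k := by
  classical
  by_contra hlt
  push Not at hlt
  obtain ⟨hkq, hB, hZ⟩ := forced hθ hq ρ hρ hk hlt
  obtain ⟨A, B, hA, hB', hsum, hab, hNA, hNB, hcov⟩ := singer_tori hθ hq8 hq
  obtain ⟨hma, hmb⟩ := tori_mod hθ hq8 hsum hab
  obtain ⟨fA, cA, SA, TA, hdA, hcA, hSA, hTA, hsA, hsA2⟩ := singer_sum hθ hq8 hA hNA hma ρ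
  obtain ⟨fB, cB, SB, TB, hdB, hcB, hSB, hTB, hsB, hsB2⟩ := singer_sum hθ hq8 hB' hNB hmb ρ
  obtain ⟨hP1, hP2⟩ := three_sum hθ hq8 ρ hB hZ
  set q : ℝ := (Fintype.card K : ℝ) with hqR
  set P := {x : ↥(fixG θ) | x ≠ 1 ∧ x ^ 9 = 1}.toFinite.toFinset with hP
  set Q := {x : ↥(fixG θ) | HasBig (Fintype.card K + 1) x}.toFinite.toFinset with hQ
  set OA := (orb A).toFinite.toFinset with hOA
  set OB := (orb B).toFinite.toFinset with hOB
  have h9 : ∀ {n : ℕ} {y : ↥(fixG θ)}, y ^ 9 = 1 → ¬ HasBig n y := by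
    rintro n y hy ⟨l, hl, h3, hly, -⟩
    have := Nat.le_of_dvd (by norm_num) (hl.dvd_of_dvd_pow
      (show l ∣ 3 ^ 2 by simpa using hly.trans (orderOf_dvd_of_pow_eq_one hy)))
    omega
  have dPQ : Disjoint P Q := Finset.disjoint_left.2 fun y hy hy' => by
    simp only [hP, hQ, Set.Finite.mem_toFinset, Set.mem_setOf_eq] at hy hy'
    exact h9 hy.2 hy'
  have dPO : ∀ C, IsSinger C → Disjoint (P ∪ Q) (orb C).toFinite.toFinset := fun C hC =>
    Finset.disjoint_left.2 fun y hy hy' => by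
      simp only [hP, hQ, Finset.mem_union, Set.Finite.mem_toFinset, Set.mem_setOf_eq] at hy hy'
      rcases hy with hy | hy
      · exact h9 hy.2 (orb_subset hθ hq8 hC hy')
      · exact big_excl2 hθ hq8 hy (orb_subset hθ hq8 hC hy')
  have hco : (Nat.card ↥A).Coprime (Nat.card ↥B) := Nat.coprime_of_dvd fun r hr h1 h2 => by
    have hN : r ∣ nq K := hab ▸ dvd_mul_of_dvd_left h1 _
    have h7 := seven_le hr hN
    have h3 : r ∣ 2 * (Fintype.card K + 1) := by
      rw [show 2 * (Fintype.card K + 1) = Nat.card ↥A + Nat.card ↥B by omega]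
      exact dvd_add h1 h2
    rcases hr.dvd_mul.1 h3 with h | h
    · have := Nat.le_of_dvd two_pos h
      omega
    · exact not_dvd_nq_succ hr h hN
  have dAB : Disjoint OA OB := Finset.disjoint_left.2 fun y hy hy' => by
    simp only [hOA, hOB, Set.Finite.mem_toFinset] at hy hy'
    obtain ⟨g, a, ⟨ha, ha1⟩, rfl⟩ := hy
    obtain ⟨g', b, ⟨hb, -⟩, e⟩ := hy'
    refine ha1 (orderOf_eq_one_iff.1 (Nat.eq_one_of_dvd_coprimes hco
      (Subgroup.orderOf_dvd_natCard _ ha) ?_))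
    rw [← orderOf_conj' hθ g a, ← e, orderOf_conj' hθ]
    exact Subgroup.orderOf_dvd_natCard _ hb
  let x : ↥(fixG θ) → ℝ := fun g => (ρ.character g).re
  have h1n : (1 : ↥(fixG θ)) ∉ P ∪ Q ∪ OA ∪ OB := by
    simp only [hP, hQ, hOA, hOB, Finset.mem_union, Set.Finite.mem_toFinset, Set.mem_setOf_eq]
    rintro (((h | h) | h) | h)
    · exact h.1 rfl
    · exact h9 (one_pow 9) h
    · exact h9 (one_pow 9) (orb_subset hθ hq8 hA h)
    · exact h9 (one_pow 9) (orb_subset hθ hq8 hB' h)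
  have split : ∀ F : ℝ → ℝ, F 0 = 0 → ∑ g, F (x g) =
      F (x 1) + (∑ g ∈ P, F (x g) + ∑ g ∈ Q, F (x g) + ∑ g ∈ OA, F (x g) + ∑ g ∈ OB, F (x g)) := by
    intro F hF
    rw [← Finset.sum_union dPQ, ← Finset.sum_union (dPO A hA), ← Finset.sum_union
      (Finset.disjoint_union_left.2 ⟨dPO B hB', dAB⟩), ← Finset.sum_insert (f := fun g => F (x g)) h1n]
    refine (Finset.sum_subset (Finset.subset_univ _) fun g _ hg' => ?_).symm
    simp only [hP, hQ, hOA, hOB, Finset.mem_insert, Finset.mem_union, Set.Finite.mem_toFinset,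
      Set.mem_setOf_eq, not_or] at hg'
    obtain ⟨hg1, ⟨⟨hgP, hgQ⟩, hgA⟩, hgB⟩ := hg'
    have h0 : ρ.character g = 0 := by
      rcases classify hθ hq8 hg1 with h | h | h | h | h
      · exact absurd h hgP
      · exact char_zero hθ hq8 ρ hB (Or.inl h)
      · exact char_zero hθ hq8 ρ hB (Or.inr h)
      · exact absurd h hgQ
      · exact ((hcov g h).elim hgA hgB).elim
    simp [x, h0, hF]
  have hx1 : x 1 = q * (q - 1) := by
    simp only [x, Representation.char_one, Module.finrank_fin_fun, Complex.natCast_re]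
    rw [hkq, Nat.cast_mul, Nat.cast_sub (by omega), Nat.cast_one]
  have hsum0 : ∑ g, x g = 0 := by
    have h := congrArg Complex.re (sum_character_eq_zero ρ hρ
      (rep_faithful hθ hq ρ hρ hk (a0_ne_one hθ)))
    rwa [Complex.re_sum, Complex.zero_re] at h
  have e1 := split id rfl
  have e2 := split (· ^ 2) (by norm_num)
  simp only [id] at e1 e2
  rw [hsum0, hx1, hP1, hsA, hsB] at e1
  rw [hx1, hP2, hsA2, hsB2] at e2
  have hle := sum_re_sq_le ρ hρ
  change ∑ g, x g ^ 2 ≤ _ at hle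
  have hCS : (∑ g ∈ Q, x g) ^ 2 ≤ (Q.card : ℝ) * ∑ g ∈ Q, x g ^ 2 := sq_sum_le_card_mul_sum_sq
  have hQcard : (Q.card : ℝ) =
      (q - 3) * ((Subgroup.normalizer (VV hθ : Set ↥(fixG θ))).index : ℝ) := by
    rw [hQ, ← Set.ncard_eq_toFinset_card, ← Nat.card_coe_set_eq, cardQ2 hθ hq8, Nat.cast_mul,
      Nat.cast_sub hq.le, hqR]
    push_cast
    ring
  have hL : 6 * (q + 1) * ((Subgroup.normalizer (VV hθ : Set ↥(fixG θ))).index : ℝ) =
      (Nat.card ↥(fixG θ) : ℝ) := by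
    have h := (Subgroup.normalizer (VV hθ : Set ↥(fixG θ))).card_mul_index
    rw [card_NV hθ hq8] at h
    rw [hqR, ← h]
    push_cast
    ring
  have hnq : ((nq K : ℕ) : ℝ) = q ^ 2 - q + 1 := by
    rw [hqR, nq]
    push_cast [Nat.le_mul_self]
    ring
  have hG : (Nat.card ↥(fixG θ) : ℝ) = q ^ 3 * (q - 1) * (q ^ 3 + 1) := by
    rw [card_eq hθ, hqR]
    push_cast [hnq, Nat.cast_sub (show 1 ≤ Fintype.card K by omega)]
    rw [← hqR]
    ring
  have hab' : (Nat.card ↥A : ℝ) * (Nat.card ↥B : ℝ) = q ^ 2 - q + 1 := by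
    rw [← hnq, ← hab, Nat.cast_mul]
  have hk' : (k : ℝ) = (Nat.card ↥A : ℝ) * (Nat.card ↥B : ℝ) - 1 := by
    rw [hab', hkq, hqR, Nat.cast_mul, Nat.cast_sub (by omega), Nat.cast_one]
    ring
  have ha7 := hA.seven_le_card hθ hq8
  have hb7 := hB'.seven_le_card hθ hq8
  have hk3 : (3 : ℤ) ∣ k := by
    obtain ⟨t, ht⟩ := three_dvd_q (K := K)
    exact Int.natCast_dvd_natCast.2 ⟨t * (Fintype.card K - 1), by rw [hkq, ← mul_assoc, ← ht]⟩
  refine no_solution (q := q) (a := (Nat.card ↥A : ℝ)) (b := (Nat.card ↥B : ℝ))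
    (s := (fA : ℤ) - Nat.card ↥B + 1) (t := (fB : ℤ) - Nat.card ↥A + 1)
    (by rw [hqR]; exact_mod_cast hq) (by exact_mod_cast (show 1 < Nat.card ↥A by omega))
    (by exact_mod_cast (show 1 < Nat.card ↥B by omega)) hab'
    (by rw [hqR]; exact_mod_cast hsum) hG hcA hcB hL (by omega) (by omega)
    (by rw [hSA, hk']; push_cast; ring) (by rw [hSB, hk']; push_cast; ring) hTA hTB
    (by linarith) (by linarith) (hQcard ▸ hCS)

end CfsgLib.MinDeg.Ree
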