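import Cfsg.Agent.Lib.MinDeg.TraceWeight
import Cfsg.Agent.Lib.ReeG2.Struct
import Mathlib.NumberTheory.LegendreSymbol.AddCharacter
import Mathlib.RepresentationTheory.Character

/-!
# Weights of the abelian normal subgroup of the unipotent radical of `²G₂(q)`
-/

set_option autoImplicit false

namespace CfsgLib.MinDeg.Ree

open Module Cfsg.Lie CfsgLib.Chev CfsgLib.ReeG2
open scoped Matrix

variable {K : Type*} [Field K] [Fintype K] [CharP K 3] {θ : K ≃+* K}

/-- The elementary abelian subgroup `{(0, u, v)}`. -/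
noncomputable def zU (hθ : IsRee θ) : AddChar (K × K) ↥(fixG θ) where
  toFun p := rg hθ 0 p.1 p.2
  map_zero_eq_one' := Subtype.ext ru_zero
  map_add_eq_mul' p p' := Subtype.ext (by
    show ru θ 0 (p + p').1 (p + p').2 = ru θ 0 p.1 p.2 * ru θ 0 p'.1 p'.2
    rw [ru_mul hθ]
    congr 1 <;> simp)

theorem zU_apply (hθ : IsRee θ) (p : K × K) : zU hθ p = rg hθ 0 p.1 p.2 := rfl

variable (hθ : IsRee θ)

/-- The action of `ru t u v * hh a` on the subgroup. -/
noncomputable def sig (c : Kˣ) (t : K) : K × K ≃+ K × K where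
  toFun p := ((c : K) ^ 3 * bb θ c * p.1,
    (c : K) ^ 3 * (bb θ c : K) ^ 2 * p.2 + t * ((c : K) ^ 3 * bb θ c * p.1))
  invFun p := (((c : K) ^ 3 * bb θ c)⁻¹ * p.1,
    ((c : K) ^ 3 * (bb θ c : K) ^ 2)⁻¹ * (p.2 - t * p.1))
  left_inv p := by
    have h1 : (c : K) ^ 3 * bb θ c ≠ 0 := by simp
    have h2 : (c : K) ^ 3 * (bb θ c : K) ^ 2 ≠ 0 := by simp
    refine Prod.ext ?_ ?_
    · show ((c : K) ^ 3 * bb θ c)⁻¹ * ((c : K) ^ 3 * bb θ c * p.1) = p.1
      rw [inv_mul_cancel_left₀ h1]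
    · show ((c : K) ^ 3 * (bb θ c : K) ^ 2)⁻¹ * (((c : K) ^ 3 * (bb θ c : K) ^ 2 * p.2 +
        t * ((c : K) ^ 3 * bb θ c * p.1)) - t * ((c : K) ^ 3 * bb θ c * p.1)) = p.2
      rw [add_sub_cancel_right, inv_mul_cancel_left₀ h2]
  right_inv p := by
    have h1 : (c : K) ^ 3 * bb θ c ≠ 0 := by simp
    have h2 : (c : K) ^ 3 * (bb θ c : K) ^ 2 ≠ 0 := by simp
    refine Prod.ext ?_ ?_
    · show (c : K) ^ 3 * bb θ c * (((c : K) ^ 3 * bb θ c)⁻¹ * p.1) = p.1
      rw [mul_inv_cancel_left₀ h1]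
    · show (c : K) ^ 3 * (bb θ c : K) ^ 2 * (((c : K) ^ 3 * (bb θ c : K) ^ 2)⁻¹ * (p.2 - t * p.1)) +
        t * ((c : K) ^ 3 * bb θ c * (((c : K) ^ 3 * bb θ c)⁻¹ * p.1)) = p.2
      rw [mul_inv_cancel_left₀ h1, mul_inv_cancel_left₀ h2, sub_add_cancel]
  map_add' p p' := by ext <;> simp <;> ring

theorem mul_zU (t u v : K) (c : Kˣ) (p : K × K) :
    rg hθ t u v * hg hθ c * zU hθ p = zU hθ (sig (θ := θ) c t p) * (rg hθ t u v * hg hθ c) := by
  apply Subtype.ext
  show ru θ t u v * hh θ c * ru θ 0 p.1 p.2 = ru θ 0 _ _ * (ru θ t u v * hh θ c)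
  rw [mul_assoc, ru_mul_hh hθ, ← mul_assoc, ← mul_assoc, ru_mul hθ, ru_mul hθ]
  congr 2 <;> simp [sig]
  all_goals ring

/-- A character of the subgroup. -/
noncomputable def wt (ψ : AddChar K ℂ) (a b : K) : AddChar (K × K) ℂ where
  toFun p := ψ (a * p.1 + b * p.2)
  map_zero_eq_one' := by simp
  map_add_eq_mul' p p' := by
    rw [← AddChar.map_add_eq_mul]
    congr 1
    simp
    ring

theorem wt_apply (ψ : AddChar K ℂ) (a b : K) (p : K × K) :
    wt ψ a b p = ψ (a * p.1 + b * p.2) := rfl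

theorem wt_injective {ψ : AddChar K ℂ} (hψ : ψ.IsPrimitive) {a b a' b' : K}
    (h : wt ψ a b = wt ψ a' b') : a = a' ∧ b = b' := by
  constructor <;> by_contra hne <;> refine hψ (sub_ne_zero.2 hne) (DFunLike.ext _ _ fun x => ?_)
  · have h1 := DFunLike.congr_fun h (x, 0)
    simp only [wt_apply, mul_zero, add_zero] at h1
    rw [AddChar.mulShift_apply, AddChar.one_apply, sub_mul, sub_eq_add_neg, AddChar.map_add_eq_mul,
      h1, ← AddChar.map_add_eq_mul, add_neg_cancel, AddChar.map_zero_eq_one]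
  · have h1 := DFunLike.congr_fun h (0, x)
    simp only [wt_apply, mul_zero, zero_add] at h1
    rw [AddChar.mulShift_apply, AddChar.one_apply, sub_mul, sub_eq_add_neg, AddChar.map_add_eq_mul,
      h1, ← AddChar.map_add_eq_mul, add_neg_cancel, AddChar.map_zero_eq_one]

theorem wt_bijective {ψ : AddChar K ℂ} (hψ : ψ.IsPrimitive) :
    Function.Bijective (fun p : K × K => wt ψ p.1 p.2) := by
  refine (Fintype.bijective_iff_injective_and_card _).2 ⟨fun p p' h => ?_, ?_⟩
  · obtain ⟨h1, h2⟩ := wt_injective hψ h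
    exact Prod.ext h1 h2
  · rw [AddChar.card_eq]

include hθ

theorem exists_scale_v {x : K} (hx : x ≠ 0) : ∃ c : Kˣ, (c : K) ^ 3 * (bb θ c : K) ^ 2 = x := by
  classical
  let f : Kˣ →* Kˣ :=
    { toFun := fun c => c ^ 3 * bb θ c ^ 2
      map_one' := by simp [CfsgLib.ReeG2.bb_one]
      map_mul' := fun c d => by
        have : bb θ (c * d) = bb θ c * bb θ d := by simp [bb, mul_pow]
        rw [this, mul_pow, mul_pow]
        exact mul_mul_mul_comm _ _ _ _ }
  have hinj : Function.Injective f := (injective_iff_map_eq_one f).2 fun c hc => scale_v hθ hc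
  obtain ⟨c, hc⟩ := (Finite.injective_iff_surjective.1 hinj) (Units.mk0 x hx)
  exact ⟨c, by simpa [f] using congrArg Units.val hc⟩

variable {k : ℕ}

theorem rep_faithful (hq : 3 < Fintype.card K) (ρ : Representation ℂ ↥(fixG θ) (Fin k → ℂ))
    (hρ : ρ.IsIrreducible) (hk : 2 ≤ k) {g : ↥(fixG θ)} (hg1 : g ≠ 1) : ρ g ≠ 1 := by
  haveI := (simple hθ hq).1
  obtain ⟨s, -, hs⟩ := exists_rep_ne_one ρ hρ hk (Set.univ : Set ↥(fixG θ))
    (eq_top_iff.2 fun x _ => Subgroup.subset_normalClosure (Set.mem_univ x))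
  intro h
  rcases (MonoidHom.normal_ker ρ).eq_bot_or_eq_top with h' | h'
  · exact hg1 (by
      have : g ∈ MonoidHom.ker ρ := h
      rwa [h', Subgroup.mem_bot] at this)
  · exact hs (h' ▸ Subgroup.mem_top s : s ∈ MonoidHom.ker ρ)

/-- Below the bound, the character on the Borel subgroup is forced. -/
theorem forced (hq : 3 < Fintype.card K) (ρ : Representation ℂ ↥(fixG θ) (Fin k → ℂ))
    (hρ : ρ.IsIrreducible) (hk : 2 ≤ k)
    (hlt : k < Fintype.card K * Fintype.card K - Fintype.card K + 1) :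
    k = Fintype.card K * (Fintype.card K - 1) ∧
      (∀ t u v : K, ∀ c : Kˣ, ¬ (t = 0 ∧ u = 0 ∧ c = 1) →
        ρ.character (rg hθ t u v * hg hθ c) = 0) ∧
      ∀ v : K, v ≠ 0 → ρ.character (rg hθ 0 0 v) = -(Fintype.card K : ℂ) := by
  classical
  set q := Fintype.card K with hqdef
  obtain ⟨ψ, hψ⟩ : ∃ ψ : AddChar K ℂ, ψ.IsPrimitive :=
    ⟨AddChar.FiniteField.primitiveChar_to_Complex K,
      AddChar.FiniteField.primitiveChar_to_Complex_isPrimitive K⟩
  set E := resChar ρ (zU hθ) with hE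
  set m : K → K → ℕ := fun a b => finrank ℂ (weightSpace E (wt ψ a b)) with hm
  -- the image of a weight
  have himg : ∀ (t u v : K) (c : Kˣ) (a b : K), ∀ y ∈ weightSpace E (wt ψ a b),
      ρ (rg hθ t u v * hg hθ c) y ∈ weightSpace E (wt ψ
        (a / ((c : K) ^ 3 * bb θ c) - b / ((c : K) ^ 3 * (bb θ c : K) ^ 2) * t)
        (b / ((c : K) ^ 3 * (bb θ c : K) ^ 2))) := by
    intro t u v c a b
    refine mapsTo_weightSpace ρ (zU hθ) _ (sig c t) (mul_zU hθ t u v c) _ _ fun p => ?_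
    have h1 : (c : K) ^ 3 * bb θ c ≠ 0 := by simp
    have h2 : (c : K) ^ 3 * (bb θ c : K) ^ 2 ≠ 0 := by simp
    simp only [wt_apply, sig, AddEquiv.coe_mk, Equiv.coe_fn_mk]
    congr 1
    field_simp
    ring
  have hstep : ∀ (t : K) (c : Kˣ) (a b : K), m a b ≤
      m (a / ((c : K) ^ 3 * bb θ c) - b / ((c : K) ^ 3 * (bb θ c : K) ^ 2) * t)
        (b / ((c : K) ^ 3 * (bb θ c : K) ^ 2)) := fun t c a b =>
    LinearMap.finrank_le_finrank_of_injective
      (f := (ρ (rg hθ t 0 0 * hg hθ c)).restrict (himg t 0 0 c a b))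
      fun _ _ h => Subtype.ext (rep_injective ρ _ (congrArg Subtype.val h))
  have hle : ∀ a b a' b' : K, b ≠ 0 → b' ≠ 0 → m a b ≤ m a' b' := by
    intro a b a' b' hb hb'
    obtain ⟨c, hc⟩ := exists_scale_v hθ (div_ne_zero hb hb')
    have h1 : (c : K) ^ 3 * bb θ c ≠ 0 := by simp
    convert hstep ((a / ((c : K) ^ 3 * bb θ c) - a') / b') c a b using 2
    · rw [hc]
      field_simp
      ring
    · rw [hc]
      field_simp
  -- the dimension is the sum of the multiplicities
  have hsumP : ∑ p : K × K, weightProj E (wt ψ p.1 p.2) = 1 := by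
    refine LinearMap.ext fun y => ?_
    rw [LinearMap.sum_apply, Module.End.one_apply]
    exact (Equiv.sum_comp (Equiv.ofBijective _ (wt_bijective hψ))
      fun χ => weightProj E χ y).trans (sum_weightProj E y)
  have hproj : ∀ χ, LinearMap.IsProj (weightSpace E χ) (weightProj E χ) := fun χ =>
    ⟨weightProj_mem E χ, fun y hy => weightProj_of_mem hy⟩
  have hdim : k = ∑ a : K, ∑ b : K, m a b := by
    have h1 := congrArg (LinearMap.trace ℂ (Fin k → ℂ)) hsumP
    rw [map_sum, LinearMap.trace_one, Module.finrank_fin_fun,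
      Finset.sum_congr rfl fun p _ => (hproj _).trace, ← Nat.cast_sum, Nat.cast_inj,
      Fintype.sum_prod_type] at h1
    exact h1.symm
  -- some central weight occurs
  obtain ⟨a₀, b₀, hb₀, hm₀⟩ : ∃ a b, b ≠ 0 ∧ 1 ≤ m a b := by
    have hne : zU hθ ((0 : K), (1 : K)) ≠ 1 := fun h => ru_ne_one (θ := θ) (Or.inr (Or.inr one_ne_zero))
      (congrArg Subtype.val h)
    obtain ⟨χ, hχ1, hχ⟩ := exists_weight_apply_ne_one E (rep_faithful hθ hq ρ hρ hk hne)
    obtain ⟨⟨a, b⟩, rfl⟩ := (wt_bijective hψ).2 χ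
    refine ⟨a, b, fun hb => hχ1 ?_, one_le_finrank_of_ne_bot hχ⟩
    simp [wt_apply, hb]
  set M := m a₀ b₀ with hM
  have hall : ∀ a b : K, b ≠ 0 → m a b = M := fun a b hb =>
    le_antisymm (hle a b a₀ b₀ hb hb₀) (hle a₀ b₀ a b hb₀ hb)
  have hdim' : k = q * ((q - 1) * M) + ∑ a : K, m a 0 := by
    rw [hdim, Finset.sum_congr rfl fun a _ => (Finset.add_sum_erase _ (m a) (Finset.mem_univ (0 : K))).symm,
      Finset.sum_add_distrib, add_comm]
    congr 1
    rw [Finset.sum_congr rfl fun a _ => Finset.sum_congr rfl fun b hb => hall a b (Finset.ne_of_mem_erase hb)]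
    simp [hqdef]
  have hq1 : q * (q - 1) = q * q - q := Nat.mul_sub_one q q
  have hM1 : M = 1 := by
    by_contra hne
    have h2 : 2 ≤ M := by omega
    have h3 := Nat.mul_le_mul_left q (Nat.mul_le_mul_left (q - 1) h2)
    have h4 : 4 * 3 ≤ q * (q - 1) := Nat.mul_le_mul (by omega) (by omega)
    rw [← mul_assoc q (q - 1) 2, hq1] at h3
    omega
  rw [hM1, mul_one] at hdim'
  have h0 : ∑ a : K, m a 0 = 0 := by omega
  have hbot : ∀ a, weightProj E (wt ψ a 0) = 0 := fun a => LinearMap.ext fun y => by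
    have h1 : weightSpace E (wt ψ a 0) = ⊥ :=
      Submodule.finrank_eq_zero.1 ((Finset.sum_eq_zero_iff.1 h0) a (Finset.mem_univ a))
    have h2 := weightProj_mem E (wt ψ a 0) y
    rwa [h1, Submodule.mem_bot] at h2
  have hchar : ∀ g, ρ.character g = ∑ a : K, ∑ b ∈ Finset.univ.erase (0 : K),
      LinearMap.trace ℂ (Fin k → ℂ) (ρ g * weightProj E (wt ψ a b)) := by
    intro g
    show LinearMap.trace ℂ _ (ρ g) = _
    conv_lhs => rw [← mul_one (ρ g), ← hsumP, Finset.mul_sum, map_sum, Fintype.sum_prod_type]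
    refine Finset.sum_congr rfl fun a _ => ?_
    rw [← Finset.add_sum_erase _ _ (Finset.mem_univ (0 : K)), hbot, mul_zero, map_zero, zero_add]
  refine ⟨by omega, fun t u v c hne => ?_, fun v hv => ?_⟩
  · by_cases htc : t = 0 ∧ c = 1
    · obtain ⟨rfl, rfl⟩ := htc
      have hu : u ≠ 0 := fun h => hne ⟨rfl, h, rfl⟩
      have hg1 : hg hθ (1 : Kˣ) = 1 := Subtype.ext hh_one
      rw [hg1, mul_one, hchar, Finset.sum_comm]
      refine Finset.sum_eq_zero fun b hb => ?_
      have he : ∀ a, ρ (rg hθ 0 u v) * weightProj E (wt ψ a b) =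
          ψ (a * u + b * v) • weightProj E (wt ψ a b) := fun a => LinearMap.ext fun y =>
        mem_weightSpace.1 (weightProj_mem E (wt ψ a b) y) (u, v)
      simp only [he, map_smul, (hproj _).trace, smul_eq_mul, AddChar.map_add_eq_mul]
      have h5 : ∀ a, finrank ℂ (weightSpace E (wt ψ a b)) = 1 := fun a =>
        (hall a b (Finset.ne_of_mem_erase hb)).trans hM1
      simp only [h5, Nat.cast_one, mul_one, ← Finset.sum_mul]
      have h6 := AddChar.sum_mulShift (R := K) u hψ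
      simp only [hu, if_false, Nat.cast_zero] at h6
      rw [h6, zero_mul]
    · rw [hchar]
      refine Finset.sum_eq_zero fun a _ => Finset.sum_eq_zero fun b hb => ?_
      set P := weightProj E (wt ψ a b) with hP
      have hPP : P * P = P := LinearMap.ext fun y =>
        (hproj _).map_id _ ((hproj _).map_mem y)
      have hPgP : P * (ρ (rg hθ t u v * hg hθ c) * P) = 0 := LinearMap.ext fun y => by
        refine weightProj_of_mem_ne (fun hh' => htc ?_) (himg t u v c a b _ ((hproj _).map_mem y))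
        obtain ⟨h1, h2⟩ := wt_injective hψ hh'
        have hb0 := Finset.ne_of_mem_erase hb
        have hc2 : (c : K) ^ 3 * (bb θ c : K) ^ 2 = 1 := by
          have h3 : (c : K) ^ 3 * (bb θ c : K) ^ 2 ≠ 0 := by simp
          rw [eq_div_iff h3] at h2
          exact mul_left_cancel₀ hb0 (by rw [h2, mul_one])
        have hc : c = 1 := scale_v hθ (Units.ext (by simpa using hc2))
        subst hc
        refine ⟨?_, rfl⟩
        simp [CfsgLib.ReeG2.bb_one] at h1
        exact (mul_eq_zero.1 (show b * t = 0 by linear_combination h1)).resolve_left hb0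
      rw [← hPP, ← mul_assoc, LinearMap.trace_mul_comm, hPgP, map_zero]
  · rw [hchar]
    have he : ∀ a b, ρ (rg hθ 0 0 v) * weightProj E (wt ψ a b) =
        ψ (b * v) • weightProj E (wt ψ a b) := fun a b => LinearMap.ext fun y =>
      (mem_weightSpace.1 (weightProj_mem E (wt ψ a b) y) (0, v)).trans (by simp [wt_apply])
    have h5 : ∀ a b, b ∈ Finset.univ.erase (0 : K) → finrank ℂ (weightSpace E (wt ψ a b)) = 1 :=
      fun a b hb => (hall a b (Finset.ne_of_mem_erase hb)).trans hM1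
    rw [Finset.sum_congr rfl fun a _ => Finset.sum_congr rfl fun b hb =>
      show LinearMap.trace ℂ _ (ρ (rg hθ 0 0 v) * weightProj E (wt ψ a b)) = ψ (b * v) by
        rw [he, map_smul, (hproj _).trace, h5 a b hb, Nat.cast_one, smul_eq_mul, mul_one]]
    rw [Finset.sum_erase_eq_sub (Finset.mem_univ _), zero_mul, AddChar.map_zero_eq_one]
    have h6 := AddChar.sum_mulShift (R := K) v hψ
    simp only [hv, if_false, Nat.cast_zero] at h6
    rw [h6]
    simp [hqdef]

end CfsgLib.MinDeg.Ree
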