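import Cfsg.Agent.Lib.MinDeg.SLThin
import Cfsg.Agent.Lib.Char.Integral
import Mathlib.LinearAlgebra.Projectivization.Cardinality
import Mathlib.Tactic.IntervalCases

/-!
# The degree bound for thin representations of `SL_n`
-/

set_option autoImplicit false

namespace CfsgLib.MinDeg.SLTv

open Matrix Module

universe u v

variable {F : Type u} [Field F] [Fintype F] [DecidableEq F]

local notation "SL" => Matrix.SpecialLinearGroup

/-- `1 + q + ⋯ + q^(m-1)`. -/
def gs (q m : ℕ) : ℕ := ∑ i ∈ Finset.range m, q ^ i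

theorem gs_succ (q m : ℕ) : gs q (m + 1) = q * gs q m + 1 := by
  rw [gs, gs, Finset.sum_range_succ', Finset.mul_sum, pow_zero]
  simp [pow_succ, mul_comm]

theorem gs_mul {q : ℕ} (hq : 1 ≤ q) (m : ℕ) : (q - 1) * gs q m + 1 = q ^ m := by
  obtain ⟨r, rfl⟩ : ∃ r, q = r + 1 := ⟨q - 1, by omega⟩
  induction m with
  | zero => simp [gs]
  | succ m ih =>
    rw [gs_succ, pow_succ, ← ih, Nat.add_sub_cancel]
    ring

/-- Lower bound for thin representations of `SL_(i+3)`. -/
def lowerBd (q i : ℕ) : ℕ :=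
  if i = 0 ∧ q = 4 then 18 else if i = 0 ∧ q = 2 then 4 else
    if i = 1 ∧ q = 2 then 12 else q * gs q (i + 2)

section Count

variable {m : ℕ}

omit [DecidableEq F] in
theorem card_orth (x : Fin (m + 1) → F) (hx : x ≠ 0) :
    Nat.card {y : Fin (m + 1) → F // y ⬝ᵥ x = 0} = Fintype.card F ^ m := by
  classical
  let φ : (Fin (m + 1) → F) →ₗ[F] F :=
    { toFun := fun y => y ⬝ᵥ x
      map_add' := fun a b => add_dotProduct a b x
      map_smul' := fun c a => smul_dotProduct c a x }
  have hsurj : LinearMap.range φ = ⊤ := by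
    obtain ⟨i, hi⟩ := Function.ne_iff.1 hx
    refine LinearMap.range_eq_top.2 fun c => ⟨Pi.single i (c / x i), ?_⟩
    show Pi.single i (c / x i) ⬝ᵥ x = c
    rw [single_dotProduct, div_mul_cancel₀ _ hi]
  have h1 := LinearMap.finrank_range_add_finrank_ker φ
  rw [hsurj, finrank_top, Module.finrank_self, Module.finrank_fin_fun] at h1
  have hk : finrank F (LinearMap.ker φ) = m := by omega
  have h2 := Module.card_eq_pow_finrank (K := F) (V := LinearMap.ker φ)
  rw [hk] at h2
  rw [← h2, ← Nat.card_eq_fintype_card]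
  rfl

/-- The number of transvections. -/
theorem card_isConj_rowRad (hm : 2 ≤ m) (w : Fin m → F) (hw : w ≠ 0) :
    Nat.card {g : SL (Fin (m + 1)) F // IsConj (rowRad w) g} =
      gs (Fintype.card F) (m + 1) * (Fintype.card F ^ m - 1) := by
  classical
  let P := Projectivization F (Fin (m + 1) → F)
  haveI : Fintype P := Fintype.ofFinite P
  let Φ : (Σ p : P, {y : Fin (m + 1) → F // y ⬝ᵥ p.rep = 0 ∧ y ≠ 0}) →
      {g : SL (Fin (m + 1)) F // IsConj (rowRad w) g} := fun s =>
    ⟨tv s.1.rep s.2.1 s.2.2.1, isConj_rowRad hm _ _ _ s.1.rep_nonzero s.2.2.2 w hw⟩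
  have hΦ : Function.Bijective Φ := by
    constructor
    · rintro ⟨p, y, hy, hy0⟩ ⟨p', y', hy', hy0'⟩ h
      have h1 : vecMulVec p.rep y = vecMulVec p'.rep y' :=
        add_left_cancel (a := (1 : Matrix (Fin (m + 1)) (Fin (m + 1)) F))
          (congrArg Subtype.val (congrArg Subtype.val h))
      obtain ⟨k, hk⟩ := Function.ne_iff.1 hy0
      have hp : p = p' := by
        rw [← p.mk_rep, ← p'.mk_rep, Projectivization.mk_eq_mk_iff']
        refine ⟨y' k / y k, funext fun i => ?_⟩
        have := congrFun (congrFun h1 i) k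
        simp only [vecMulVec_apply] at this
        rw [Pi.smul_apply, smul_eq_mul, div_mul_eq_mul_div, mul_comm, ← this, mul_div_assoc,
          div_self hk, mul_one]
      subst hp
      obtain ⟨i, hi⟩ := Function.ne_iff.1 p.rep_nonzero
      have hyy : y = y' := funext fun k => mul_left_cancel₀ hi (congrFun (congrFun h1 i) k)
      subst hyy
      rfl
    · rintro ⟨g, hg⟩
      obtain ⟨a, ha⟩ := isConj_iff.1 hg
      set x := a.1 *ᵥ (Pi.single 0 1 : Fin (m + 1) → F) with hxdef
      have hinv : Function.Injective fun v : Fin (m + 1) → F => a.1 *ᵥ v :=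
        mulVec_injective_iff_isUnit.2 ((isUnit_iff_isUnit_det _).2 (by rw [a.2]; exact isUnit_one))
      have hx : x ≠ 0 := fun h => by
        have := hinv (h.trans (mulVec_zero _).symm)
        simp at this
      set y := (Fin.cons 0 w : Fin (m + 1) → F) ᵥ* (a⁻¹ : SL (Fin (m + 1)) F).1 with hydef
      have hya : y ᵥ* a.1 = Fin.cons 0 w := by
        rw [hydef, vecMul_vecMul, show (a⁻¹ : SL (Fin (m + 1)) F).1 * a.1 = 1 from
          congrArg Subtype.val (inv_mul_cancel a), vecMul_one]
      have hyx : y ⬝ᵥ x = 0 := by rw [hxdef, dotProduct_mulVec, hya, cons_zero_dot]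
      have hy : y ≠ 0 := fun h => hw (by
        rw [h, zero_vecMul, ← cons_zero_zero] at hya
        exact ((Fin.cons_inj (α := fun _ => F)).1 hya).2.symm)
      have hg' : g = tv x y hyx := by
        have e : a * rowRad w = tv x y hyx * a := mul_tv a (cons_zero_dot w) hyx rfl hya
        rw [← ha, e]
        group
      set p : P := Projectivization.mk F x hx
      obtain ⟨u, hu⟩ := Projectivization.exists_smul_eq_mk_rep F x hx
      change (u : F) • x = p.rep at hu
      refine ⟨⟨p, (u : F)⁻¹ • y, ?_, smul_ne_zero (inv_ne_zero u.ne_zero) hy⟩, Subtype.ext ?_⟩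
      · rw [← hu, smul_dotProduct, dotProduct_smul, hyx, smul_zero, smul_zero]
      · apply Subtype.ext
        show 1 + vecMulVec p.rep ((u : F)⁻¹ • y) = g.1
        rw [hg', coe_tv, ← hu, smul_vecMulVec, vecMulVec_smul, smul_smul,
          mul_inv_cancel₀ u.ne_zero, one_smul]
  rw [← Nat.card_congr (Equiv.ofBijective Φ hΦ), Nat.card_sigma]
  have hfib : ∀ p : P, Nat.card {y : Fin (m + 1) → F // y ⬝ᵥ p.rep = 0 ∧ y ≠ 0} =
      Fintype.card F ^ m - 1 := by
    intro p
    rw [← card_orth p.rep p.rep_nonzero, Nat.card_eq_fintype_card, Nat.card_eq_fintype_card,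
      Fintype.card_subtype, Fintype.card_subtype, ← Finset.card_erase_of_mem
        (s := Finset.univ.filter fun y : Fin (m + 1) → F => y ⬝ᵥ p.rep = 0) (a := 0) (by simp)]
    congr 1
    ext y
    simp [and_comm]
  rw [Finset.sum_congr rfl fun p _ => hfib p, Finset.sum_const, Finset.card_univ, smul_eq_mul,
    ← Nat.card_eq_fintype_card, Projectivization.card_of_finrank F _ (Module.finrank_fin_fun F),
    Nat.card_eq_fintype_card]
  rfl

end Count

section Bound

variable {V : Type v} [AddCommGroup V] [Module ℂ V] [FiniteDimensional ℂ V]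

omit [DecidableEq F] in
theorem nontrivial_fun (m : ℕ) : Nontrivial (Fin (m + 1) → F) := inferInstance

/-- Dimension and trace of a thin representation through the fixed points of the row radical. -/
theorem Thin.dim {i : ℕ} {ρ : Representation ℂ (SL (Fin (i + 3)) F) V} (hρ : Thin ρ) :
    finrank ℂ V + 1 = finrank ℂ (weightSpace (resChar ρ rowRad) 0) + Fintype.card F ^ (i + 2) ∧
      ∀ w, w ≠ 0 → ρ.character (rowRad w) =
        (finrank ℂ (weightSpace (resChar ρ rowRad) 0) : ℂ) - 1 := by
  obtain ⟨ψ, hψ⟩ := exists_char_ne_zero (Fin (i + 2) → F)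
  have key := fun w (hw : w ≠ 0) => dim_of_const (resChar ρ rowRad) (ρ.character (rowRad w))
    (trace_row_const (by omega) ρ w hw).1 hψ (hρ.row ψ hψ)
  refine ⟨?_, fun w hw => (key w hw).2⟩
  have := (key (Pi.single 0 1) (by simp)).1
  rwa [Fintype.card_fun, Fintype.card_fin] at this

/-- Integrality of the central character at the transvections. -/
theorem Thin.dvd {i : ℕ} {ρ : Representation ℂ (SL (Fin (i + 3)) F) V} [ρ.IsIrreducible]
    (hρ : Thin ρ) (hf : 1 ≤ finrank ℂ (weightSpace (resChar ρ rowRad) 0)) :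
    finrank ℂ V ∣ gs (Fintype.card F) (i + 3) * (Fintype.card F ^ (i + 2) - 1) *
      (finrank ℂ (weightSpace (resChar ρ rowRad) 0) - 1) := by
  classical
  set w : Fin (i + 2) → F := Pi.single 0 1
  have hw : w ≠ 0 := by simp [w]
  refine CfsgLib.Char.dvd_of_isIntegral_natCast_div
    (CfsgLib.Char.finrank_pos_of_irreducible ρ).ne' ?_
  have h := CfsgLib.Char.isIntegral_central_sum ρ (fun g => if IsConj (rowRad w) g then 1 else 0)
    (fun g c => by
      have h' : IsConj (rowRad w) (c * g * c⁻¹) ↔ IsConj (rowRad w) g :=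
        ⟨fun h => h.trans (isConj_iff.mpr ⟨c⁻¹, by group⟩),
          fun h => h.trans (isConj_iff.mpr ⟨c, rfl⟩)⟩
      simp only [h'])
    (fun g => by split_ifs <;> [exact isIntegral_one; exact isIntegral_zero])
  have hval : ∀ g, IsConj (rowRad w) g → ρ.character g =
      ((finrank ℂ (weightSpace (resChar ρ rowRad) 0) : ℂ) - 1) := fun g hg => by
    obtain ⟨c, rfl⟩ := isConj_iff.1 hg
    rw [ρ.char_conj, hρ.dim.2 w hw]
  rw [← card_isConj_rowRad (m := i + 2) (by omega) w hw]
  simp only [ite_mul, one_mul, zero_mul, ← Finset.sum_filter] at h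
  rw [Finset.sum_congr rfl fun g hg => hval g (Finset.mem_filter.1 hg).2, Finset.sum_const,
    nsmul_eq_mul, ← Fintype.card_subtype, ← Nat.card_eq_fintype_card] at h
  convert h using 2
  push_cast [Nat.cast_sub hf]
  ring

/-- Sub-representations which are non-trivial stay thin. -/
theorem Thin.sub {i : ℕ} {ρ : Representation ℂ (SL (Fin (i + 3)) F) V} (hρ : Thin ρ)
    (S : Subrepresentation ρ) (hne : ∃ g, S.toRepresentation g ≠ 1) : Thin S.toRepresentation := by
  obtain ⟨r, hr0, hr⟩ := exists_mult (m := i + 2) (by omega) S.toRepresentation hne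
  have hmap : ∀ (u : AddChar (Fin (i + 2) → F) (SL (Fin (i + 3)) F)) ψ,
      (weightSpace (resChar S.toRepresentation u) ψ).map S.toSubmodule.subtype ≤
        weightSpace (resChar ρ u) ψ := by
    rintro u ψ _ ⟨v, hv, rfl⟩
    exact mem_weightSpace.2 fun a => congrArg Subtype.val (mem_weightSpace.1 hv a)
  obtain ⟨ψ₀, hψ₀⟩ := exists_char_ne_zero (Fin (i + 2) → F)
  have hle : finrank ℂ (weightSpace (resChar S.toRepresentation rowRad) ψ₀) ≤ 1 := by
    rw [← Submodule.finrank_map_subtype_eq, ← hρ.row ψ₀ hψ₀]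
    exact Submodule.finrank_mono (hmap rowRad ψ₀)
  have hr1 : r = 1 := by rw [(hr ψ₀ hψ₀).1] at hle; omega
  refine ⟨fun ψ hψ => (hr ψ hψ).1.trans hr1, fun ψ hψ => (hr ψ hψ).2.trans hr1,
    fun v hv0 μ ψ hμ hψ hz => hρ.mixed v.1 (fun h => hv0 (Subtype.ext h)) μ ψ
      (hmap rowRad μ ⟨v, hμ, rfl⟩) (hmap colRad ψ ⟨v, hψ, rfl⟩) hz⟩

/-- Reduction to irreducible representations. -/
theorem bound_of_irreducible {i B : ℕ}
    (hirr : ∀ (W : Type v) [AddCommGroup W] [Module ℂ W] [FiniteDimensional ℂ W]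
      (σ : Representation ℂ (SL (Fin (i + 3)) F) W), σ.IsIrreducible → Thin σ → B ≤ finrank ℂ W)
    (ρ : Representation ℂ (SL (Fin (i + 3)) F) V) (hρ : Thin ρ) : B ≤ finrank ℂ V := by
  induction hn : finrank ℂ V using Nat.strong_induction_on generalizing V with
  | _ n ih =>
  obtain ⟨ψ₀, hψ₀⟩ := exists_char_ne_zero (Fin (i + 2) → F)
  obtain ⟨g, hg⟩ := exists_rep_ne_one_of_weight ρ rowRad hψ₀ (hρ.row ψ₀ hψ₀)
  by_cases hI : ρ.IsIrreducible
  · exact hn ▸ hirr V ρ hI hρ
  have : ∃ S : Subrepresentation ρ, S ≠ ⊥ ∧ S ≠ ⊤ := by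
    by_contra h
    push Not at h
    refine hI { eq_bot_or_eq_top := fun S => or_iff_not_imp_left.2 (h S), exists_pair_ne := ?_ }
    refine ⟨⊥, ⊤, fun h' => hg (LinearMap.ext fun v => ?_)⟩
    have hv : v ∈ (⊤ : Subrepresentation ρ).toSubmodule := by trivial
    rw [← h'] at hv
    have h0 : v = 0 := (Submodule.mem_bot ℂ).1 hv
    rw [h0, map_zero, map_zero]
  obtain ⟨S, hS0, hS1⟩ := this
  obtain ⟨T, hT⟩ := exists_isCompl S
  have hT1 : T ≠ ⊤ := fun h => hS0 (by simpa [h] using hT.disjoint)
  have hlt : ∀ U : Subrepresentation ρ, U ≠ ⊤ → finrank ℂ U.toSubmodule < finrank ℂ V := fun U hU =>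
    Submodule.finrank_lt fun h => hU (Subrepresentation.toSubmodule_injective h)
  rcases em (∃ g, S.toRepresentation g ≠ 1) with hS | hS
  · exact le_trans (ih _ (hn ▸ hlt S hS1) S.toRepresentation (hρ.sub S hS) rfl) (hn ▸ (hlt S hS1).le)
  rcases em (∃ g, T.toRepresentation g ≠ 1) with hT' | hT'
  · exact le_trans (ih _ (hn ▸ hlt T hT1) T.toRepresentation (hρ.sub T hT') rfl) (hn ▸ (hlt T hT1).le)
  push Not at hS hT'
  refine absurd (LinearMap.ext fun v => ?_) hg
  have hv : v ∈ (⊤ : Subrepresentation ρ).toSubmodule := by trivial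
  rw [← hT.sup_eq_top] at hv
  obtain ⟨s, hs, t, ht, rfl⟩ := Submodule.mem_sup.1 hv
  rw [map_add, Module.End.one_apply]
  congr 1
  · exact congrArg Subtype.val (LinearMap.congr_fun (hS g) ⟨s, hs⟩)
  · exact congrArg Subtype.val (LinearMap.congr_fun (hT' g) ⟨t, ht⟩)

theorem general_no_dvd {q A : ℕ} (hq : 2 ≤ q) (hA : q ^ 2 + q + 1 ≤ A) :
    ¬ q * A - 1 ∣ (q * A + 1) * ((q - 1) * A) * (A - 2) := by
  intro h
  have hA2 : 2 ≤ A := le_trans (by nlinarith) hA
  have h1 : (1 : ℕ) ≤ q * A := Nat.mul_pos (by omega) (by omega)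
  obtain ⟨c, hc⟩ := Int.natCast_dvd_natCast.2 h
  push_cast [Nat.cast_sub h1, Nat.cast_sub (show 1 ≤ q by omega), Nat.cast_sub hA2] at hc
  have hdvd : ((q : ℤ) * A - 1) ∣ 2 * ((q : ℤ) - 1) * (2 * q - 1) := by
    refine ⟨((q : ℤ) - 1) * ((q : ℤ) ^ 2 * (A : ℤ) ^ 2 + 2 * (q * A) - 2 * q * (q * A) + 2 - 4 * q) -
      (q : ℤ) ^ 2 * c, ?_⟩
    linear_combination -((q : ℤ) ^ 2) * hc
  have hle := Int.le_of_dvd (mul_pos (mul_pos two_pos (by omega)) (by omega)) hdvd
  have : ((q : ℤ)) ^ 2 + q + 1 ≤ A := by exact_mod_cast hA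
  nlinarith

/-- The degree bound for thin representations. -/
theorem lowerBd_le : ∀ (i : ℕ) (V : Type v) [AddCommGroup V] [Module ℂ V] [FiniteDimensional ℂ V]
    (ρ : Representation ℂ (SL (Fin (i + 3)) F) V), Thin ρ →
    lowerBd (Fintype.card F) i ≤ finrank ℂ V := by
  intro i
  induction i with
  | zero =>
    intro V _ _ _ ρ hρ
    refine bound_of_irreducible (fun W _ _ _ σ hI hσ => ?_) ρ hρ
    haveI := hI
    obtain ⟨hd, -⟩ := hσ.dim
    set q := Fintype.card F with hq
    set f := finrank ℂ (weightSpace (resChar σ rowRad) 0) with hfdef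
    have hq2 : 2 ≤ q := Fintype.one_lt_card
    have hfq : q - 1 ≤ f := by
      classical
      have h := mul_le_finrank (resChar (fixedRep σ) colRad)
        ((Finset.univ : Finset (AddChar (Fin 1 → F) ℂ)).erase 0) 1
        fun χ hχ => (hσ.fixed_col χ (Finset.ne_of_mem_erase hχ)).ge
      rwa [mul_one, Finset.card_erase_of_mem (Finset.mem_univ _), Finset.card_univ, AddChar.card_eq,
        Fintype.card_fun, Fintype.card_fin, pow_one] at h
    have hdvd := hσ.dvd (by omega)
    rw [← hfdef, ← hq] at hdvd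
    set d := finrank ℂ W
    simp only [lowerBd, gs, Finset.sum_range_succ, Finset.range_zero, Finset.sum_empty, zero_add,
      pow_zero, pow_one] at hdvd ⊢
    norm_num at hd hdvd ⊢
    have hqq : 4 ≤ q * q := Nat.mul_le_mul hq2 hq2
    split_ifs with h4 h2
    · rw [h4] at hd hfq; omega
    · rw [h2] at hd hfq; omega
    by_cases hbig : q + 1 ≤ f
    · rw [mul_add, mul_one]; rw [sq] at hd; omega
    exfalso
    have hf2 : f = q - 1 ∨ f = q := by omega
    have hpp : IsPrimePow q := Fintype.isPrimePow_card_of_field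
    obtain ⟨r, hr⟩ : ∃ r, q = r + 2 := ⟨q - 2, by omega⟩
    have hq3 : (q - 1 : ℕ) = r + 1 := by omega
    rcases hf2 with hf | hf
    · have hd' : d = (r + 4) * (r + 1) := by
        have e : (r + 4) * (r + 1) + 1 = (r + 1) + (r + 2) ^ 2 := by ring
        rw [hr] at hd hf; omega
      rw [hd', hr, show f - 1 = r by omega,
        show (r + 2) ^ 2 - 1 = (r + 1) * (r + 3) by
          rw [show (r + 2) ^ 2 = (r + 1) * (r + 3) + 1 by ring, Nat.add_sub_cancel],
        show (1 + (r + 2) + (r + 2) ^ 2) * ((r + 1) * (r + 3)) * r =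
          ((1 + (r + 2) + (r + 2) ^ 2) * (r + 3) * r) * (r + 1) by ring] at hdvd
      have h4' : r + 4 ∣ (1 + (r + 2) + (r + 2) ^ 2) * (r + 3) * r :=
        Nat.dvd_of_mul_dvd_mul_right (by omega) hdvd
      have h12 : r + 4 ∣ 12 := by
        have e : ((r : ℤ) + 4) ∣ 12 := by
          obtain ⟨c, hc⟩ := Int.natCast_dvd_natCast.2 h4'
          refine ⟨c - ((r : ℤ) ^ 3 + 4 * r ^ 2 + 6 * r - 3), ?_⟩
          push_cast at hc
          linear_combination hc
        exact_mod_cast e
      have hle := Nat.le_of_dvd (by norm_num) h12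
      have : r ≤ 8 := by omega
      interval_cases r <;> norm_num at h12 <;> try omega
      rw [hr, isPrimePow_nat_iff] at hpp
      obtain ⟨p, k, hp, hk, hpk⟩ := hpp
      have hp10 : p ∣ 10 := by simpa [hpk] using dvd_pow_self p hk.ne'
      have hp' : p = 2 ∨ p = 5 := by
        have := Nat.le_of_dvd (by norm_num) hp10
        interval_cases p <;> first | decide | (revert hp hp10; norm_num)
      rcases hp' with rfl | rfl
      · have : k < 4 := by
          by_contra hk4
          have := Nat.pow_le_pow_right (show 1 ≤ 2 by norm_num) (show 4 ≤ k by omega)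
          omega
        interval_cases k <;> norm_num at hpk
      · have : k < 2 := by
          by_contra hk2
          have := Nat.pow_le_pow_right (show 1 ≤ 5 by norm_num) (show 2 ≤ k by omega)
          omega
        interval_cases k <;> norm_num at hpk
    · have hd' : d = r * r + 5 * r + 5 := by
        have e : (r * r + 5 * r + 5) + 1 = (r + 2) + (r + 2) ^ 2 := by ring
        rw [hr] at hd hf; omega
      rw [hd', hr, show f - 1 = r + 1 by omega,
        show (r + 2) ^ 2 - 1 = (r + 1) * (r + 3) by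
          rw [show (r + 2) ^ 2 = (r + 1) * (r + 3) + 1 by ring, Nat.add_sub_cancel]] at hdvd
      have h2' : r * r + 5 * r + 5 ∣ 2 * (r + 1) * (r + 2) := by
        have e : ((r : ℤ) * r + 5 * r + 5) ∣ 2 * ((r : ℤ) + 1) * (r + 2) := by
          obtain ⟨c, hc⟩ := Int.natCast_dvd_natCast.2 hdvd
          refine ⟨((r : ℤ) + 1) * (r * r + 4 * r + 5) - c, ?_⟩
          push_cast at hc
          linear_combination -hc
        exact_mod_cast e
      obtain ⟨c, hc⟩ := h2'
      rcases c with _ | _ | c <;> rcases Nat.eq_zero_or_pos r with h0 | h0 <;>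
        first | (subst h0; omega) | nlinarith
  | succ i ih =>
    intro V _ _ _ ρ hρ
    refine bound_of_irreducible (fun W _ _ _ σ hI hσ => ?_) ρ hρ
    haveI := hI
    obtain ⟨hd, -⟩ := hσ.dim
    have hB := ih _ (fixedRep σ) (hσ.fixed (by omega))
    set q := Fintype.card F with hq
    set f := finrank ℂ (weightSpace (resChar σ rowRad) 0) with hfdef
    have hq2 : 2 ≤ q := Fintype.one_lt_card
    set d := finrank ℂ W
    have hgs2 : gs q 2 = q + 1 := by simp [gs, Finset.sum_range_succ, add_comm]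
    have hstep : gs q (i + 2 + 1) = gs q (i + 2) + q ^ (i + 2) := Finset.sum_range_succ _ _
    have hN : q * gs q (i + 1 + 2) = q * gs q (i + 2) + q ^ (i + 3) := by
      rw [show i + 1 + 2 = i + 2 + 1 by ring, hstep, mul_add, pow_succ' q (i + 2)]
    have hL : lowerBd q (i + 1) = if i = 0 ∧ q = 2 then 12 else q * gs q (i + 1 + 2) := by
      simp [lowerBd]
    rw [hL]
    by_cases hbig : q * gs q (i + 2) + 1 ≤ f
    · have hmain : q * gs q (i + 1 + 2) ≤ d := by
        rw [hN]; rw [show i + 1 + 2 = i + 3 by ring] at hd; omega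
      split_ifs with h3
      · obtain ⟨rfl, h3'⟩ := h3
        rw [h3'] at hmain
        simp [gs, Finset.sum_range_succ] at hmain
        omega
      · exact hmain
    have hf1 : 1 ≤ f := by
      refine le_trans ?_ hB
      simp only [lowerBd]
      split_ifs <;> first | omega | exact Nat.mul_pos (by omega) (by rw [gs_succ]; omega)
    have hdvd := hσ.dvd hf1
    rw [← hfdef, ← hq] at hdvd
    change d ∣ _ at hdvd
    -- the last value is always excluded
    have hlast : f ≠ q * gs q (i + 2) := by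
      intro hf
      refine general_no_dvd (A := gs q (i + 3)) hq2 ?_ ?_
      · calc q ^ 2 + q + 1 = gs q 3 := by simp [gs, Finset.sum_range_succ]; ring
          _ ≤ _ := Finset.sum_le_sum_of_subset (Finset.range_mono (by omega))
      · have hA : gs q (i + 3) = f + 1 := by
          rw [hf, show i + 3 = i + 2 + 1 by ring, gs_succ]
        have e1 : d = q * gs q (i + 3) - 1 := by
          rw [show q * gs q (i + 3) = q * gs q (i + 1 + 2) by ring_nf, hN]
          rw [show i + 1 + 2 = i + 3 by ring] at hd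
          omega
        have e2 : gs q (i + 1 + 3) = q * gs q (i + 3) + 1 := gs_succ q (i + 3)
        have e3 : q ^ (i + 1 + 2) - 1 = (q - 1) * gs q (i + 3) := by
          rw [show i + 1 + 2 = i + 3 by ring, ← gs_mul (q := q) (by omega) (i + 3),
            Nat.add_sub_cancel]
        rw [e2, e3, e1, show f - 1 = gs q (i + 3) - 2 by omega] at hdvd
        exact hdvd
    simp only [lowerBd] at hB
    split_ifs at hB with h4 h2 h12
    · obtain ⟨rfl, h4⟩ := h4
      rw [h4] at hd hdvd hbig hlast
      simp [gs, Finset.sum_range_succ] at hd hdvd hbig hlast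
      rcases (show f = 18 ∨ f = 19 by omega) with hf | hf
      · rw [hf, show d = 81 by omega] at hdvd; norm_num at hdvd
      · rw [hf, show d = 82 by omega] at hdvd; norm_num at hdvd
    · obtain ⟨rfl, h2⟩ := h2
      rw [if_pos ⟨rfl, h2⟩]
      rw [h2] at hd hdvd hbig hlast
      simp [gs, Finset.sum_range_succ] at hd hdvd hbig hlast
      by_contra hlt
      rw [show f = 4 by omega, show d = 11 by omega] at hdvd
      norm_num at hdvd
    · obtain ⟨rfl, hq'⟩ := h12
      rw [hq'] at hd hdvd hbig hlast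
      simp [gs, Finset.sum_range_succ] at hd hdvd hbig hlast
      rcases (show f = 12 ∨ f = 13 by omega) with hf | hf
      · rw [hf, show d = 27 by omega] at hdvd; norm_num at hdvd
      · rw [hf, show d = 28 by omega] at hdvd; norm_num at hdvd
    · omega

end Bound

end CfsgLib.MinDeg.SLTv
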