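import Cfsg.Agent.Lib.MinDeg.SLBound
import Cfsg.Agent.Lib.Char.Basic
import Cfsg.Agent.Lib.Char.Equiv
import Mathlib.LinearAlgebra.StdBasis

/-!
# The permutation representation of `SL_n` on the non-zero vectors
-/

set_option autoImplicit false

namespace CfsgLib.MinDeg.SLTv.Perm

open Matrix Module
open CfsgLib.MinDeg

universe u

variable {F : Type u} [Field F] [Fintype F] [DecidableEq F] {m : ℕ}

local notation "SL" => Matrix.SpecialLinearGroup

/-- Non-zero vectors. -/
abbrev Vec (F : Type u) [Field F] (m : ℕ) : Type u := {v : Fin (m + 1) → F // v ≠ 0}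

omit [Fintype F] [DecidableEq F] in
theorem mulVec_mulVec_inv (g : SL (Fin (m + 1)) F) (v : Fin (m + 1) → F) :
    g.1 *ᵥ ((g⁻¹ : SL (Fin (m + 1)) F).1 *ᵥ v) = v := by
  rw [mulVec_mulVec, show g.1 * (g⁻¹ : SL (Fin (m + 1)) F).1 = 1 from
    congrArg Subtype.val (mul_inv_cancel g), one_mulVec]

omit [Fintype F] [DecidableEq F] in
theorem inv_mulVec_mulVec (g : SL (Fin (m + 1)) F) (v : Fin (m + 1) → F) :
    (g⁻¹ : SL (Fin (m + 1)) F).1 *ᵥ (g.1 *ᵥ v) = v := by
  rw [mulVec_mulVec, show (g⁻¹ : SL (Fin (m + 1)) F).1 * g.1 = 1 from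
    congrArg Subtype.val (inv_mul_cancel g), one_mulVec]

omit [Fintype F] [DecidableEq F] in
theorem mulVec_mul (g h : SL (Fin (m + 1)) F) (w : Fin (m + 1) → F) :
    (g * h).1 *ᵥ w = g.1 *ᵥ (h.1 *ᵥ w) := (mulVec_mulVec w g.1 h.1).symm

omit [Fintype F] [DecidableEq F] in
theorem mulVec_ne_zero (g : SL (Fin (m + 1)) F) {v : Fin (m + 1) → F} (hv : v ≠ 0) :
    g.1 *ᵥ v ≠ 0 := fun h => hv (by rw [← inv_mulVec_mulVec g v, h, mulVec_zero])

/-- The action on non-zero vectors. -/
def act (g : SL (Fin (m + 1)) F) (v : Vec F m) : Vec F m := ⟨g.1 *ᵥ v.1, mulVec_ne_zero g v.2⟩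

omit [Fintype F] [DecidableEq F] in
theorem act_mul (g h : SL (Fin (m + 1)) F) (v : Vec F m) : act (g * h) v = act g (act h v) :=
  Subtype.ext (mulVec_mul g h v.1)

omit [Fintype F] [DecidableEq F] in
theorem act_one (v : Vec F m) : act (1 : SL (Fin (m + 1)) F) v = v :=
  Subtype.ext (one_mulVec _)

omit [Fintype F] [DecidableEq F] in
theorem act_inv_act (g : SL (Fin (m + 1)) F) (v : Vec F m) : act g⁻¹ (act g v) = v :=
  Subtype.ext (inv_mulVec_mulVec g v.1)

omit [Fintype F] [DecidableEq F] in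
theorem act_act_inv (g : SL (Fin (m + 1)) F) (v : Vec F m) : act g (act g⁻¹ v) = v :=
  Subtype.ext (mulVec_mulVec_inv g v.1)

/-- The action as an equivalence. -/
def actEquiv (g : SL (Fin (m + 1)) F) : Vec F m ≃ Vec F m :=
  ⟨act g, act g⁻¹, act_inv_act g, act_act_inv g⟩

/-- Scaling. -/
def scal (a : Fˣ) (v : Vec F m) : Vec F m := ⟨(a : F) • v.1, smul_ne_zero a.ne_zero v.2⟩

omit [Fintype F] [DecidableEq F] in
theorem scal_mul (a b : Fˣ) (v : Vec F m) : scal (a * b) v = scal a (scal b v) :=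
  Subtype.ext (by simp [scal, smul_smul])

omit [Fintype F] [DecidableEq F] in
theorem scal_one (v : Vec F m) : scal (1 : Fˣ) v = v := Subtype.ext (by simp [scal])

omit [Fintype F] [DecidableEq F] in
theorem act_scal (g : SL (Fin (m + 1)) F) (a : Fˣ) (v : Vec F m) :
    act g (scal a v) = scal a (act g v) := Subtype.ext (mulVec_smul g.1 (a : F) v.1)

omit [Fintype F] [DecidableEq F] in
theorem scal_injective (v : Vec F m) : Function.Injective fun a : Fˣ => scal a v := fun a b h =>
  Units.ext (smul_left_injective F v.2 (congrArg Subtype.val h))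

/-- The permutation representation. -/
def perm : Representation ℂ (SL (Fin (m + 1)) F) (Vec F m → ℂ) where
  toFun g := LinearMap.funLeft ℂ ℂ (act g⁻¹)
  map_one' := LinearMap.ext fun f => funext fun v => by
    show f (act 1⁻¹ v) = f v
    rw [inv_one, act_one]
  map_mul' g h := LinearMap.ext fun f => funext fun v => by
    show f (act (g * h)⁻¹ v) = f (act h⁻¹ (act g⁻¹ v))
    rw [_root_.mul_inv_rev, act_mul]

omit [Fintype F] [DecidableEq F] in
theorem perm_apply (g : SL (Fin (m + 1)) F) (f : Vec F m → ℂ) (v : Vec F m) :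
    perm g f v = f (act g⁻¹ v) := rfl

/-- The scalings as operators. -/
def scalOp : AddChar (Additive Fˣ) (Module.End ℂ (Vec F m → ℂ)) where
  toFun a := LinearMap.funLeft ℂ ℂ (scal a.toMul)
  map_zero_eq_one' := LinearMap.ext fun f => funext fun v => by
    show f (scal 1 v) = f v
    rw [scal_one]
  map_add_eq_mul' a b := LinearMap.ext fun f => funext fun v => by
    show f (scal (a.toMul * b.toMul) v) = f (scal b.toMul (scal a.toMul v))
    rw [mul_comm, scal_mul]

omit [Fintype F] [DecidableEq F] in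
theorem mem_weight_iff {θ : AddChar (Additive Fˣ) ℂ} {f : Vec F m → ℂ} :
    f ∈ weightSpace scalOp θ ↔ ∀ (a : Fˣ) v, f (scal a v) = θ (Additive.ofMul a) * f v := by
  rw [mem_weightSpace]
  exact ⟨fun h a v => congrFun (h (Additive.ofMul a)) v, fun h a => funext fun v => h a.toMul v⟩

/-- The functions with total zero. -/
noncomputable def sumZero : Submodule ℂ (Vec F m → ℂ) := by
  classical exact LinearMap.ker (∑ v, LinearMap.proj v : (Vec F m → ℂ) →ₗ[ℂ] ℂ)

theorem mem_sumZero [Fintype (Vec F m)] {f : Vec F m → ℂ} : f ∈ sumZero ↔ ∑ v, f v = 0 := by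
  rw [sumZero, LinearMap.mem_ker, LinearMap.sum_apply]
  simp only [LinearMap.proj_apply]
  constructor <;> intro h <;> convert h

/-- The constituent of the permutation representation. -/
noncomputable def part (θ : AddChar (Additive Fˣ) ℂ) : Submodule ℂ (Vec F m → ℂ) :=
  weightSpace scalOp θ ⊓ sumZero

theorem sum_scal_orbit [Fintype (Vec F m)] (v : Vec F m) (f : Vec F m → ℂ) :
    ∑ a : Fˣ, f (scal a v) = ∑ y ∈ Finset.univ.image (fun a : Fˣ => scal a v), f y :=
  (Finset.sum_image fun _ _ _ _ h => scal_injective v h).symm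

theorem perm_mem (θ : AddChar (Additive Fˣ) ℂ) (g : SL (Fin (m + 1)) F) :
    ∀ f ∈ part (m := m) θ, perm g f ∈ part θ := by
  classical
  rintro f ⟨h1, h2⟩
  refine ⟨mem_weight_iff.2 fun a v => ?_, mem_sumZero.2 ?_⟩
  · rw [perm_apply, perm_apply, act_scal, mem_weight_iff.1 h1]
  · rw [← mem_sumZero.1 h2]
    exact Fintype.sum_equiv (actEquiv g⁻¹) _ _ fun v => rfl

/-- The restricted representation. -/
noncomputable def partRep (θ : AddChar (Additive Fˣ) ℂ) :
    Representation ℂ (SL (Fin (m + 1)) F) (part (F := F) (m := m) θ) where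
  toFun g := (perm g).restrict (perm_mem θ g)
  map_one' := LinearMap.ext fun v => Subtype.ext (by simp)
  map_mul' g h := LinearMap.ext fun v => Subtype.ext (by simp)

omit [Fintype F] [DecidableEq F] in
/-- The stabiliser of a vector is transitive on the vectors independent of it. -/
theorem exists_stab (hm : 2 ≤ m) (x y y' : Vec F m) (hy : ∀ c : F, y.1 ≠ c • x.1)
    (hy' : ∀ c : F, y'.1 ≠ c • x.1) :
    ∃ g : SL (Fin (m + 1)) F, act g x = x ∧ act g y = y' := by
  classical
  obtain ⟨G, hG, hGx⟩ := exists_det_one_mulVec (by omega) x.1 (Pi.single 0 1) x.2 (by simp)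
  set a : SL (Fin (m + 1)) F := ⟨G, hG⟩
  have ha : a.1 *ᵥ x.1 = Pi.single 0 1 := hGx
  have htail : ∀ z : Vec F m, (∀ c : F, z.1 ≠ c • x.1) → Fin.tail (a.1 *ᵥ z.1) ≠ 0 := by
    intro z hz h
    apply hz ((a.1 *ᵥ z.1) 0)
    have e : a.1 *ᵥ z.1 = (a.1 *ᵥ z.1) 0 • (Pi.single 0 1 : Fin (m + 1) → F) := by
      funext i; refine Fin.cases ?_ (fun i => ?_) i
      · simp
      · have := congrFun h i
        simp only [Fin.tail, Pi.zero_apply] at this
        simp [this, Fin.succ_ne_zero]
    calc z.1 = (a⁻¹ : SL (Fin (m + 1)) F).1 *ᵥ (a.1 *ᵥ z.1) := (inv_mulVec_mulVec a z.1).symm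
      _ = (a⁻¹ : SL (Fin (m + 1)) F).1 *ᵥ ((a.1 *ᵥ z.1) 0 • (Pi.single 0 1 : Fin (m + 1) → F)) :=
        congrArg _ e
      _ = _ := by rw [mulVec_smul, ← ha, inv_mulVec_mulVec]
  set w := a.1 *ᵥ y.1
  set w' := a.1 *ᵥ y'.1
  obtain ⟨B, hB, hBw⟩ := exists_det_one_mulVec hm (Fin.tail w) (Fin.tail w') (htail y hy) (htail y' hy')
  obtain ⟨k, hk⟩ := Function.ne_iff.1 (htail y' hy')
  set z : Fin m → F := Pi.single k ((w' 0 - w 0) / Fin.tail w' k)
  set b : SL (Fin m) F := ⟨B, hB⟩
  set g₁ : SL (Fin (m + 1)) F := rowRad z * up b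
  have h1 : g₁.1 *ᵥ w = w' := by
    rw [mulVec_mul]
    conv_lhs => rw [← Fin.cons_self_tail w]
    rw [coe_up, upMat_mulVec, show b.1 *ᵥ Fin.tail w = Fin.tail w' from hBw, rowRad_apply, tv_mulVec]
    have : (Fin.cons 0 z : Fin (m + 1) → F) ⬝ᵥ Fin.cons (w 0) (Fin.tail w') = w' 0 - w 0 := by
      simp only [dotProduct, Fin.sum_univ_succ, Fin.cons_zero, zero_mul, Fin.cons_succ, zero_add]
      show z ⬝ᵥ Fin.tail w' = _
      simp [z]; exact div_mul_cancel₀ _ hk
    rw [this]
    funext i; refine Fin.cases ?_ (fun i => ?_) i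
    · simp
    · simp [Fin.succ_ne_zero, Fin.tail]
  have h0 : g₁.1 *ᵥ (Pi.single 0 1) = Pi.single 0 1 := by
    rw [mulVec_mul, show (Pi.single 0 1 : Fin (m + 1) → F) = Fin.cons 1 0 by
      funext i; refine Fin.cases ?_ (fun i => ?_) i <;> simp [Fin.succ_ne_zero],
      coe_up, upMat_mulVec, mulVec_zero, rowRad_apply, tv_mulVec]
    simp [dotProduct, Fin.sum_univ_succ]
  refine ⟨a⁻¹ * g₁ * a, Subtype.ext ?_, Subtype.ext ?_⟩
  · show (a⁻¹ * g₁ * a).1 *ᵥ x.1 = x.1
    rw [mulVec_mul, mulVec_mul, ha, h0, ← ha, inv_mulVec_mulVec]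
  · show (a⁻¹ * g₁ * a).1 *ᵥ y.1 = y'.1
    rw [mulVec_mul, mulVec_mul, h1, inv_mulVec_mulVec]

omit [Fintype F] [DecidableEq F] in
theorem exists_move (hm : 2 ≤ m) (x y : Vec F m) : ∃ g : SL (Fin (m + 1)) F, act g x = y := by
  obtain ⟨G, hG, hGx⟩ := exists_det_one_mulVec (by omega) x.1 y.1 x.2 y.2
  exact ⟨⟨G, hG⟩, Subtype.ext hGx⟩

/-- A function in a weight space fixed by the stabiliser of `x`. -/
theorem shape (hm : 2 ≤ m) (x : Vec F m) {θ : AddChar (Additive Fˣ) ℂ} {f : Vec F m → ℂ}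
    (hf : f ∈ weightSpace scalOp θ)
    (hfix : ∀ g : SL (Fin (m + 1)) F, act g x = x → perm g f = f) :
    ∃ b : ℂ, (∀ y : Vec F m, (∀ c : F, y.1 ≠ c • x.1) → f y = b) ∧
      ∀ a : Fˣ, θ (Additive.ofMul a) * b = b := by
  classical
  have hconst : ∀ y y' : Vec F m, (∀ c : F, y.1 ≠ c • x.1) → (∀ c : F, y'.1 ≠ c • x.1) →
      f y = f y' := by
    intro y y' hy hy'
    obtain ⟨g, hgx, hgy⟩ := exists_stab hm x y y' hy hy'
    have := congrFun (hfix g hgx) y'
    rw [perm_apply, ← hgy, act_inv_act] at this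
    rw [this, hgy]
  obtain ⟨y₀, hy₀⟩ : ∃ y : Vec F m, ∀ c : F, y.1 ≠ c • x.1 := by
    by_contra h
    push Not at h
    obtain ⟨i, hi⟩ := Function.ne_iff.1 x.2
    obtain ⟨j, hj⟩ := Fintype.exists_ne_of_one_lt_card
      (by rw [Fintype.card_fin]; omega : 1 < Fintype.card (Fin (m + 1))) i
    obtain ⟨c, hc⟩ := h ⟨Pi.single j 1, by simp⟩
    have h1 := congrFun hc i
    simp [hj.symm] at h1
    rcases h1 with rfl | h1
    · simpa using congrFun hc j
    · exact hi h1
  refine ⟨f y₀, fun y hy => hconst y y₀ hy hy₀, fun a => ?_⟩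
  rw [← mem_weight_iff.1 hf a y₀]
  refine hconst _ _ (fun c hc => hy₀ ((a : F)⁻¹ * c) ?_) hy₀
  change (a : F) • y₀.1 = c • x.1 at hc
  rw [← smul_smul, ← hc, smul_smul, inv_mul_cancel₀ a.ne_zero, one_smul]

theorem perm_of_shape (hm : 2 ≤ m) (x : Vec F m) {θ : AddChar (Additive Fˣ) ℂ} {f : Vec F m → ℂ}
    (hf : f ∈ weightSpace scalOp θ)
    (hfix : ∀ g : SL (Fin (m + 1)) F, act g x = x → perm g f = f)
    (g : SL (Fin (m + 1)) F) (a : Fˣ) (hg : act g x = scal a x) :
    perm g f = θ (Additive.ofMul a⁻¹) • f := by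
  classical
  obtain ⟨b, hb, hbθ⟩ := shape hm x hf hfix
  funext y
  rw [perm_apply, Pi.smul_apply, smul_eq_mul]
  have hx : act g⁻¹ x = scal a⁻¹ x := by
    apply (actEquiv g).injective
    show act g (act g⁻¹ x) = act g (scal a⁻¹ x)
    rw [act_act_inv, act_scal, hg, ← scal_mul, inv_mul_cancel, scal_one]
  by_cases h : ∃ c : F, y.1 = c • x.1
  · obtain ⟨c, hc⟩ := h
    have hc0 : c ≠ 0 := fun h0 => y.2 (by rw [hc, h0, zero_smul])
    obtain rfl : y = scal (Units.mk0 c hc0) x := Subtype.ext hc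
    rw [act_scal, hx, ← scal_mul, mem_weight_iff.1 hf, mem_weight_iff.1 hf, mul_comm (Units.mk0 c hc0)]
    rw [ofMul_mul, AddChar.map_add_eq_mul, mul_assoc]
  · push Not at h
    have h' : ∀ c : F, (act g⁻¹ y).1 ≠ c • x.1 := by
      intro c hc
      have := congrArg (fun v => g.1 *ᵥ v) hc
      rw [show (act g⁻¹ y).1 = (g⁻¹ : SL (Fin (m + 1)) F).1 *ᵥ y.1 from rfl] at this
      simp only [mulVec_mulVec_inv, mulVec_smul] at this
      rw [show g.1 *ᵥ x.1 = (a : F) • x.1 from congrArg Subtype.val hg, smul_smul] at this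
      exact h _ this
    rw [hb y h, hb _ h', hbθ]

/-- Stabiliser average. -/
theorem exists_fixed (x : Vec F m) {θ : AddChar (Additive Fˣ) ℂ}
    (K : Submodule ℂ (Vec F m → ℂ)) (hK : ∀ g : SL (Fin (m + 1)) F, ∀ f ∈ K, perm g f ∈ K)
    (f : Vec F m → ℂ) (hf : f ∈ K) (hx : f x ≠ 0) (hsub : K ≤ part θ) :
    ∃ f' ∈ K, f' x ≠ 0 ∧ ∀ g : SL (Fin (m + 1)) F, act g x = x → perm g f' = f' := by
  classical
  let S : Finset (SL (Fin (m + 1)) F) := {g | act g x = x}
  refine ⟨∑ g ∈ S, perm g f, K.sum_mem fun g _ => hK g f hf, ?_, fun h hh => ?_⟩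
  · rw [Finset.sum_apply, Finset.sum_congr rfl (g := fun _ => f x), Finset.sum_const, nsmul_eq_mul]
    · exact mul_ne_zero (Nat.cast_ne_zero.2 (Finset.card_ne_zero.2 ⟨1, by simp [S, act_one]⟩)) hx
    · intro g hg
      simp only [S, Finset.mem_filter, Finset.mem_univ, true_and] at hg
      rw [perm_apply]
      conv_lhs => rw [← hg]
      rw [act_inv_act]
  · have hh' : act h⁻¹ x = x := by
      conv_lhs => rw [← hh]
      rw [act_inv_act]
    rw [map_sum]
    refine Finset.sum_bij (fun g _ => h * g) (fun g hg => ?_) (fun _ _ _ _ e => mul_left_cancel e)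
      (fun g hg => ⟨h⁻¹ * g, ?_, by simp⟩) (fun g _ => by rw [map_mul]; rfl)
    · simp only [S, Finset.mem_filter, Finset.mem_univ, true_and] at hg ⊢
      rw [act_mul, hg, hh]
    · simp only [S, Finset.mem_filter, Finset.mem_univ, true_and] at hg ⊢
      rw [act_mul, hg, hh']

theorem part_irreducible (hm : 2 ≤ m) (θ : AddChar (Additive Fˣ) ℂ)
    (K : Submodule ℂ (Vec F m → ℂ)) (hK : ∀ g : SL (Fin (m + 1)) F, ∀ f ∈ K, perm g f ∈ K)
    (hsub : K ≤ part θ) (hne : K ≠ ⊥) : K = part θ := by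
  classical
  obtain ⟨f₀, hf₀, hf00⟩ := Submodule.exists_mem_ne_zero_of_ne_bot hne
  obtain ⟨x, hx⟩ := Function.ne_iff.1 hf00
  obtain ⟨f, hf, hfx, hfix⟩ := exists_fixed x K hK f₀ hf₀ hx hsub
  obtain ⟨b, hb, hbθ⟩ := shape hm x (hsub hf).1 hfix
  set a := f x
  have hab : a ≠ b := by
    intro h
    have hall : ∀ y, f y = a := by
      intro y
      by_cases hy : ∃ c : F, y.1 = c • x.1
      · obtain ⟨c, hc⟩ := hy
        have hc0 : c ≠ 0 := fun h0 => y.2 (by rw [hc, h0, zero_smul])
        obtain rfl : y = scal (Units.mk0 c hc0) x := Subtype.ext hc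
        rw [mem_weight_iff.1 (hsub hf).1, show f x = b from h, hbθ, ← h]
      · push Not at hy
        rw [hb y hy, h]
    have hs := mem_sumZero.1 (hsub hf).2
    simp only [hall, Finset.sum_const, Finset.card_univ, nsmul_eq_mul, mul_eq_zero] at hs
    exact hfx (hs.resolve_left (Nat.cast_ne_zero.2 (by haveI : Nonempty (Vec F m) := ⟨x⟩; exact Fintype.card_ne_zero)))
  refine le_antisymm hsub fun w hw => ?_
  choose g hg using fun y => exists_move hm x y
  have key : ∑ y, w y • perm (g y) f = ((Fintype.card Fˣ : ℂ) * (a - b)) • w := by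
    funext z
    rw [Finset.sum_apply, Pi.smul_apply, smul_eq_mul]
    simp only [Pi.smul_apply, smul_eq_mul, perm_apply]
    set L := Finset.univ.image fun c : Fˣ => scal c z with hL
    rw [← Finset.sum_add_sum_compl L]
    have hin : ∑ y ∈ L, w y * f (act (g y)⁻¹ z) = (Fintype.card Fˣ : ℂ) * a * w z := by
      rw [hL, ← sum_scal_orbit z (fun y => w y * f (act (g y)⁻¹ z))]
      rw [Finset.sum_congr rfl (g := fun _ => a * w z), Finset.sum_const, Finset.card_univ,
        nsmul_eq_mul, mul_assoc]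
      intro c _
      have e : act (g (scal c z))⁻¹ z = scal c⁻¹ x := by
        have e1 : act (g (scal c z))⁻¹ (scal c z) = x := by
          conv_lhs => arg 2; rw [← hg (scal c z)]
          rw [act_inv_act]
        rw [act_scal] at e1
        conv_rhs => rw [← e1]
        rw [← scal_mul, inv_mul_cancel, scal_one]
      rw [e, mem_weight_iff.1 hw.1, mem_weight_iff.1 (hsub hf).1]
      have : θ (Additive.ofMul c) * θ (Additive.ofMul c⁻¹) = 1 := by
        rw [← AddChar.map_add_eq_mul, ← ofMul_mul, mul_inv_cancel, ofMul_one, AddChar.map_zero_eq_one]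
      linear_combination (w z * a) * this
    have hout : ∀ y ∈ Lᶜ, w y * f (act (g y)⁻¹ z) = b * w y := by
      intro y hy
      rw [hb _ fun c hc => ?_, mul_comm]
      have hc' := congrArg (fun v => (g y).1 *ᵥ v) hc
      rw [show (act (g y)⁻¹ z).1 = ((g y)⁻¹ : SL (Fin (m + 1)) F).1 *ᵥ z.1 from rfl] at hc'
      simp only [mulVec_mulVec_inv, mulVec_smul] at hc'
      rw [show (g y).1 *ᵥ x.1 = y.1 from congrArg Subtype.val (hg y)] at hc'
      have hc0 : c ≠ 0 := fun h0 => z.2 (by rw [hc', h0, zero_smul])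
      refine Finset.mem_compl.1 hy (Finset.mem_image.2 ⟨(Units.mk0 c hc0)⁻¹, Finset.mem_univ _, ?_⟩)
      apply Subtype.ext
      show ((Units.mk0 c hc0)⁻¹ : F) • z.1 = y.1
      rw [hc', smul_smul, Units.val_mk0, inv_mul_cancel₀ hc0, one_smul]
    rw [hin, Finset.sum_congr rfl hout, ← Finset.mul_sum]
    have hs : ∑ y ∈ L, w y + ∑ y ∈ Lᶜ, w y = 0 := by
      rw [Finset.sum_add_sum_compl]; exact mem_sumZero.1 hw.2
    have hsL : b * ∑ y ∈ L, w y = (Fintype.card Fˣ : ℂ) * (b * w z) := by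
      rw [hL, ← sum_scal_orbit z w, Finset.mul_sum, Finset.sum_congr rfl (g := fun _ => b * w z),
        Finset.sum_const, Finset.card_univ, nsmul_eq_mul]
      intro c _
      rw [mem_weight_iff.1 hw.1, ← mul_assoc, mul_comm b, hbθ]
    linear_combination b * hs - hsL
  have hne0 : (Fintype.card Fˣ : ℂ) * (a - b) ≠ 0 :=
    mul_ne_zero (Nat.cast_ne_zero.2 Fintype.card_ne_zero) (sub_ne_zero.2 hab)
  have hmem := K.smul_mem ((Fintype.card Fˣ : ℂ) * (a - b))⁻¹
    (K.sum_mem (t := Finset.univ) fun y _ => K.smul_mem (w y) (hK (g y) f hf))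
  rwa [key, smul_smul, inv_mul_cancel₀ hne0, one_smul] at hmem

/-- Averaging to a constant. -/
noncomputable def avg : Module.End ℂ (Vec F m → ℂ) := by
  classical
  exact LinearMap.smulRight (∑ v, LinearMap.proj v : (Vec F m → ℂ) →ₗ[ℂ] ℂ)
    (fun _ => (Fintype.card (Vec F m) : ℂ)⁻¹)

theorem avg_apply [Fintype (Vec F m)] (f : Vec F m → ℂ) (v : Vec F m) :
    avg f v = (∑ y, f y) * (Fintype.card (Vec F m) : ℂ)⁻¹ := by
  simp only [avg, LinearMap.smulRight_apply, LinearMap.sum_apply, LinearMap.proj_apply,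
    Pi.smul_apply, smul_eq_mul]
  congr! 4

/-- Projection on a constituent. -/
noncomputable def proj (θ : AddChar (Additive Fˣ) ℂ) : Module.End ℂ (Vec F m → ℂ) := by
  classical
  exact weightProj scalOp θ - if θ = 0 then avg else 0

theorem proj_isProj [Nonempty (Vec F m)] (θ : AddChar (Additive Fˣ) ℂ) :
    LinearMap.IsProj (part (F := F) (m := m) θ) (proj θ) := by
  classical
  have hN : (Fintype.card (Vec F m) : ℂ) ≠ 0 := Nat.cast_ne_zero.2 Fintype.card_ne_zero
  have hconst : ∀ f : Vec F m → ℂ, avg f ∈ weightSpace scalOp (0 : AddChar (Additive Fˣ) ℂ) :=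
    fun f => mem_weight_iff.2 fun a v => by rw [avg_apply, avg_apply]; simp
  refine ⟨fun f => ⟨?_, mem_sumZero.2 ?_⟩, fun f hf => ?_⟩
  · rw [proj, LinearMap.sub_apply]
    refine sub_mem (weightProj_mem _ _ _) ?_
    split_ifs with h
    · subst h; exact hconst f
    · rw [LinearMap.zero_apply]; exact zero_mem _
  · have hsum : ∑ v, weightProj scalOp θ f v =
        (Fintype.card (Additive Fˣ) : ℂ)⁻¹ * ((∑ a, θ (-a)) * ∑ v, f v) := by
      simp only [weightProj_apply, Pi.smul_apply, Finset.sum_apply, smul_eq_mul]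
      rw [← Finset.mul_sum, Finset.sum_comm, Finset.sum_mul]
      congr 1
      refine Finset.sum_congr rfl fun a _ => ?_
      rw [← Finset.mul_sum]
      congr 1
      exact Fintype.sum_bijective (scal a.toMul)
        ⟨fun v w h => by
          rw [← scal_one v, ← scal_one w, ← inv_mul_cancel a.toMul, scal_mul, h, ← scal_mul],
        fun v => ⟨scal a.toMul⁻¹ v, by rw [← scal_mul, mul_inv_cancel, scal_one]⟩⟩ _ _ fun v => rfl
    simp only [proj, LinearMap.sub_apply, Pi.sub_apply, Finset.sum_sub_distrib]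
    rw [hsum, Fintype.sum_equiv (Equiv.neg _) (fun a => θ (-a)) θ fun a => rfl]
    split_ifs with h
    · subst h
      simp only [avg_apply, Finset.sum_const, Finset.card_univ, AddChar.zero_apply, nsmul_eq_mul,
        mul_one]
      rw [← mul_assoc, inv_mul_cancel₀ (card_cast_ne_zero (A := Additive Fˣ)), one_mul,
        ← mul_assoc, mul_comm _ (∑ y, f y), mul_assoc, mul_inv_cancel₀ hN, mul_one, sub_self]
    · rw [AddChar.sum_eq_zero_iff_ne_zero.2 h]; simp
  · rw [proj, LinearMap.sub_apply, weightProj_of_mem hf.1]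
    split_ifs
    · funext v
      rw [Pi.sub_apply, avg_apply, mem_sumZero.1 hf.2, zero_mul, sub_zero]
    · simp

theorem sum_proj : ∑ θ : AddChar (Additive Fˣ) ℂ, proj (F := F) (m := m) θ = 1 - avg := by
  classical
  simp only [proj, Finset.sum_sub_distrib, Finset.sum_ite_eq', Finset.mem_univ, if_true]
  congr 1
  exact LinearMap.ext fun f => by rw [LinearMap.sum_apply, sum_weightProj]; rfl

theorem trace_avg [Nonempty (Vec F m)] : LinearMap.trace ℂ _ (avg (F := F) (m := m)) = 1 := by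
  classical
  rw [avg, LinearMap.trace_smulRight]
  simp only [LinearMap.sum_apply, LinearMap.proj_apply, Finset.sum_const, Finset.card_univ,
    nsmul_eq_mul]
  exact mul_inv_cancel₀ (Nat.cast_ne_zero.2 Fintype.card_ne_zero)

theorem trace_funLeft {X : Type*} [Fintype X] [DecidableEq X] (φ : X → X) :
    LinearMap.trace ℂ (X → ℂ) (LinearMap.funLeft ℂ ℂ φ) = Nat.card {x // φ x = x} := by
  rw [LinearMap.trace_eq_matrix_trace ℂ (Pi.basisFun ℂ X), Matrix.trace,
    Nat.card_eq_fintype_card, Fintype.card_subtype, Finset.card_filter, Nat.cast_sum]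
  refine Finset.sum_congr rfl fun x _ => ?_
  simp [LinearMap.toMatrix_apply, LinearMap.funLeft_apply, Pi.single_apply]

theorem character_part [Nonempty (Vec F m)] (θ : AddChar (Additive Fˣ) ℂ)
    (g : SL (Fin (m + 1)) F) :
    (partRep θ).character g = LinearMap.trace ℂ _ (perm g * proj θ) := by
  classical
  have hp := proj_isProj (F := F) (m := m) θ
  let π : (Vec F m → ℂ) →ₗ[ℂ] part (F := F) (m := m) θ := (proj θ).codRestrict _ hp.map_mem
  have h1 : perm g * proj θ = (perm g ∘ₗ (part θ).subtype) ∘ₗ π := LinearMap.ext fun f => rfl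
  rw [h1, LinearMap.trace_comp_comm']
  refine congrArg _ (LinearMap.ext fun v => Subtype.ext ?_)
  exact (hp.map_id _ (perm_mem θ g v.1 v.2)).symm

/-- The statement about the permutation character. -/
theorem constituents (hm : 2 ≤ m) :
    (∀ θ : AddChar (Additive Fˣ) ℂ, (partRep (F := F) (m := m) θ).IsIrreducible) ∧
    Function.Injective (fun θ => (partRep (F := F) (m := m) θ).character) ∧
    (∀ g : SL (Fin (m + 1)) F,
      (Nat.card {v : Fin (m + 1) → F // v ≠ 0 ∧ g.1 *ᵥ v = v} : ℂ) =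
        1 + ∑ θ, (partRep (m := m) θ).character g) ∧
    finrank ℂ (part (F := F) (m := m) 0) = Fintype.card F * gs (Fintype.card F) m := by
  classical
  haveI : Nonempty (Vec F m) := ⟨⟨Pi.single 0 1, by simp⟩⟩
  have hdim : ∀ θ : AddChar (Additive Fˣ) ℂ, (finrank ℂ (part (F := F) (m := m) θ) : ℂ) =
      (Fintype.card Fˣ : ℂ)⁻¹ * Fintype.card (Vec F m) - if θ = 0 then 1 else 0 := by
    intro θ
    rw [← (proj_isProj θ).trace, proj, map_sub, apply_ite (LinearMap.trace ℂ _), trace_avg, map_zero]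
    congr 1
    rw [weightProj, map_smul, map_sum, smul_eq_mul, Fintype.card_additive,
      Finset.sum_eq_single (0 : Additive Fˣ)]
    · rw [map_smul, neg_zero, AddChar.map_zero_eq_one, one_smul, AddChar.map_zero_eq_one,
        LinearMap.trace_one, Module.finrank_fintype_fun_eq_card]
    · intro a _ ha
      rw [map_smul, show scalOp a = LinearMap.funLeft ℂ ℂ (scal (m := m) a.toMul) from rfl,
        trace_funLeft]
      have : IsEmpty {v : Vec F m // scal a.toMul v = v} := ⟨fun v => ha (by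
        have := scal_injective v.1 (v.2.trans (scal_one v.1).symm)
        exact this)⟩
      simp
    · simp
  have hV : Fintype.card (Vec F m) = Fintype.card Fˣ * gs (Fintype.card F) (m + 1) := by
    rw [Fintype.card_units, Fintype.card_subtype_compl, Fintype.card_subtype_eq, Fintype.card_fun,
      Fintype.card_fin, ← gs_mul (q := Fintype.card F) Fintype.card_pos (m + 1), Nat.add_sub_cancel]
  have hu : (Fintype.card Fˣ : ℂ) ≠ 0 := Nat.cast_ne_zero.2 Fintype.card_ne_zero
  have hne : ∀ θ : AddChar (Additive Fˣ) ℂ, part (F := F) (m := m) θ ≠ ⊥ := by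
    intro θ h
    have h0 := hdim θ
    rw [h, finrank_bot, hV, Nat.cast_mul, ← mul_assoc, inv_mul_cancel₀ hu, one_mul, gs_succ] at h0
    have hpos : 0 < Fintype.card F * gs (Fintype.card F) m :=
      Nat.mul_pos Fintype.card_pos (by rw [show m = m - 1 + 1 by omega, gs_succ]; omega)
    split_ifs at h0 with hθ
    · push_cast at h0
      have h1 : ((Fintype.card F * gs (Fintype.card F) m : ℕ) : ℂ) = 0 := by
        push_cast; linear_combination -h0
      exact hpos.ne' (Nat.cast_eq_zero.1 h1)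
    · rw [sub_zero] at h0
      have := Nat.cast_inj.1 h0.symm
      omega
  have hirr : ∀ θ : AddChar (Additive Fˣ) ℂ, (partRep (F := F) (m := m) θ).IsIrreducible := by
    intro θ
    refine { exists_pair_ne := ⟨⊥, ⊤, fun h => ?_⟩, eq_bot_or_eq_top := fun S => ?_ }
    · obtain ⟨v, hv, hv0⟩ := Submodule.exists_mem_ne_zero_of_ne_bot (hne θ)
      have : (⟨v, hv⟩ : part θ) ∈ (⊤ : Subrepresentation (partRep θ)).toSubmodule := by trivial
      rw [← h] at this
      exact hv0 (congrArg Subtype.val ((Submodule.mem_bot ℂ).1 this))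
    · refine or_iff_not_imp_left.2 fun hS => Subrepresentation.toSubmodule_injective ?_
      have hS' : S.toSubmodule ≠ ⊥ := fun h => hS (Subrepresentation.toSubmodule_injective h)
      have := part_irreducible hm θ (S.toSubmodule.map (part θ).subtype) (fun g f hf => ?_)
        (Submodule.map_subtype_le _ _)
        (fun h => hS' (Submodule.map_injective_of_injective (Submodule.injective_subtype _)
          (h.trans (Submodule.map_bot _).symm)))
      · show S.toSubmodule = ⊤
        refine Submodule.map_injective_of_injective (Submodule.injective_subtype (part θ)) ?_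
        rw [this, Submodule.map_top, Submodule.range_subtype]
      · obtain ⟨v, hv, rfl⟩ := hf
        exact ⟨partRep θ g v, S.apply_mem_toSubmodule g hv, rfl⟩
  refine ⟨hirr, fun θ φ h => ?_, fun g => ?_, ?_⟩
  · obtain ⟨e⟩ := CfsgLib.Char.nonempty_equiv_of_character_eq (partRep θ) (partRep φ) h
    have he : ∀ g (v : part θ), e.toLinearEquiv (partRep θ g v) = partRep φ g (e.toLinearEquiv v) :=
      fun g v => e.toIntertwiningMap.isIntertwining _ _ g v
    obtain ⟨f₀, hf₀, hf00⟩ := Submodule.exists_mem_ne_zero_of_ne_bot (hne θ)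
    obtain ⟨x, hx⟩ := Function.ne_iff.1 hf00
    obtain ⟨f, hf, hfx, hfix⟩ := exists_fixed x (part θ) (fun g f hf => perm_mem θ g f hf) f₀ hf₀ hx le_rfl
    set v : part θ := ⟨f, hf⟩
    set w : part φ := e.toLinearEquiv v
    have hfix' : ∀ g : SL (Fin (m + 1)) F, act g x = x → perm g w.1 = w.1 := by
      intro g hg
      have h1 : partRep θ g v = v := Subtype.ext (hfix g hg)
      have h2 := he g v
      rw [h1] at h2
      exact (congrArg Subtype.val h2).symm
    have hw0 : w.1 ≠ 0 := fun h => by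
      have h1 : e.toLinearEquiv v = 0 := Subtype.ext h
      rw [LinearEquiv.map_eq_zero_iff] at h1
      exact hfx (congrFun (congrArg Subtype.val h1) x)
    refine DFunLike.ext _ _ fun a => ?_
    obtain ⟨g, hg⟩ := exists_move hm x (scal (a.toMul)⁻¹ x)
    have h1 : partRep θ g v = θ a • v := Subtype.ext (by
      show perm g f = θ a • f
      rw [perm_of_shape hm x hf.1 hfix g _ hg, inv_inv]; rfl)
    have h2 := he g v
    rw [h1, map_smul] at h2
    have h3 : θ a • w.1 = φ a • w.1 := by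
      have h4 : θ a • w.1 = perm g w.1 := congrArg Subtype.val h2
      rw [h4, perm_of_shape hm x w.2.1 hfix' g _ hg, inv_inv]; rfl
    exact smul_left_injective ℂ hw0 h3
  · simp only [character_part, ← map_sum, ← Finset.mul_sum, sum_proj, mul_sub, mul_one, map_sub]
    have hP : perm g * avg = avg (F := F) (m := m) :=
      LinearMap.ext fun f => funext fun v => by
        show avg f (act g⁻¹ v) = avg f v
        rw [avg_apply, avg_apply]
    rw [hP, trace_avg, add_sub_cancel, show perm g = LinearMap.funLeft ℂ ℂ (act g⁻¹) from rfl,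
      trace_funLeft]
    congr 1
    refine Nat.card_congr
      { toFun := fun v => ⟨⟨v.1, v.2.1⟩, Subtype.ext (by
          show (g⁻¹ : SL (Fin (m + 1)) F).1 *ᵥ v.1 = v.1
          conv_lhs => rw [← v.2.2]
          exact inv_mulVec_mulVec g v.1)⟩
        invFun := fun v => ⟨v.1.1, v.1.2, by
          conv_lhs => rw [← show (g⁻¹ : SL (Fin (m + 1)) F).1 *ᵥ v.1.1 = v.1.1 from congrArg Subtype.val v.2]
          exact mulVec_mulVec_inv g v.1.1⟩
        left_inv := fun v => rfl
        right_inv := fun v => rfl }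
  · have h0 := hdim 0
    rw [if_pos rfl, hV, Nat.cast_mul, ← mul_assoc, inv_mul_cancel₀ hu, one_mul, gs_succ] at h0
    push_cast at h0
    rw [add_sub_cancel_right] at h0
    exact_mod_cast h0

end CfsgLib.MinDeg.SLTv.Perm
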