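import Cfsg.Agent.Lib.MinDeg.HermOrbit
import Mathlib.LinearAlgebra.Matrix.SpecialLinearGroup
import Mathlib.Algebra.Group.AddChar

/-!
# Transvections, the two radicals and the corner embedding in `SL_n`
-/

set_option autoImplicit false

namespace CfsgLib.MinDeg.SLTv

open Matrix

variable {F : Type*} [Field F]

local notation "SL" => Matrix.SpecialLinearGroup

section General

variable {k : ℕ}

/-- The transvection `v ↦ v + (y ⬝ v) x`. -/
def tv (x y : Fin k → F) (h : y ⬝ᵥ x = 0) : SL (Fin k) F :=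
  ⟨1 + vecMulVec x y, by rw [det_one_add_vecMulVec, h, add_zero]⟩

@[simp] theorem coe_tv (x y : Fin k → F) (h : y ⬝ᵥ x = 0) :
    ((tv x y h : SL (Fin k) F) : Matrix (Fin k) (Fin k) F) = 1 + vecMulVec x y := rfl

theorem tv_congr {x x' y y' : Fin k → F} {h : y ⬝ᵥ x = 0} {h' : y' ⬝ᵥ x' = 0} (hx : x = x') (hy : y = y') :
    tv x y h = tv x' y' h' := by subst hx; subst hy; rfl

theorem mul_tv (g : SL (Fin k) F) {x x' y y' : Fin k → F} (h : y ⬝ᵥ x = 0) (h' : y' ⬝ᵥ x' = 0)
    (hx : g.1 *ᵥ x = x') (hy : y' ᵥ* g.1 = y) : g * tv x y h = tv x' y' h' * g := by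
  apply Subtype.ext
  simp only [SpecialLinearGroup.coe_mul, coe_tv, Matrix.mul_add, Matrix.add_mul, Matrix.mul_one,
    Matrix.one_mul, mul_vecMulVec, vecMulVec_mul, hx, hy]

theorem tv_mul_left {x x' y : Fin k → F} (h : y ⬝ᵥ x = 0) (h' : y ⬝ᵥ x' = 0) (h'' : y ⬝ᵥ (x + x') = 0) :
    tv (x + x') y h'' = tv x y h * tv x' y h' := by
  apply Subtype.ext
  simp only [SpecialLinearGroup.coe_mul, coe_tv, add_vecMulVec, Matrix.mul_add, Matrix.add_mul,
    Matrix.mul_one, Matrix.one_mul, vecMulVec_mul_vecMulVec, h', zero_smul, vecMulVec_zero]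
  abel

theorem tv_mul_right {x y y' : Fin k → F} (h : y ⬝ᵥ x = 0) (h' : y' ⬝ᵥ x = 0) (h'' : (y + y') ⬝ᵥ x = 0) :
    tv x (y + y') h'' = tv x y h * tv x y' h' := by
  apply Subtype.ext
  simp only [SpecialLinearGroup.coe_mul, coe_tv, vecMulVec_add, Matrix.mul_add, Matrix.add_mul,
    Matrix.mul_one, Matrix.one_mul, vecMulVec_mul_vecMulVec, h, zero_smul, vecMulVec_zero]
  abel

theorem tv_mulVec (x y : Fin k → F) (h : y ⬝ᵥ x = 0) (v : Fin k → F) :
    (tv x y h).1 *ᵥ v = v + (y ⬝ᵥ v) • x := by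
  rw [coe_tv, one_add_vecMulVec_mulVec]

theorem vecMul_tv (x y : Fin k → F) (h : y ⬝ᵥ x = 0) (v : Fin k → F) :
    v ᵥ* (tv x y h).1 = v + (v ⬝ᵥ x) • y := by
  rw [coe_tv, vecMul_add, vecMul_one, vecMul_vecMulVec]

theorem tv_eq_one (x y : Fin k → F) (h : y ⬝ᵥ x = 0) (h0 : x = 0 ∨ y = 0) : tv x y h = 1 := by
  apply Subtype.ext
  rcases h0 with rfl | rfl <;> simp

theorem transvection_eq_tv {i j : Fin k} (hij : i ≠ j) (c : F) :
    SpecialLinearGroup.transvection hij c =
      tv (Pi.single i 1) (Pi.single j c) (by simp [hij.symm]) := by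
  apply Subtype.ext
  rw [SpecialLinearGroup.transvection_coe, coe_tv]
  try rw [Matrix.transvection]
  congr 1
  ext a b
  rw [vecMulVec_apply]
  by_cases ha : a = i <;> by_cases hb : b = j
  · subst ha hb; simp [Matrix.single_apply]
  · subst ha; simp [Matrix.single_apply, hb, Ne.symm hb]
  · subst hb; simp [Matrix.single_apply, ha, Ne.symm ha]
  · simp [Matrix.single_apply, ha, hb, Ne.symm ha]

end General

section Radicals

variable {m : ℕ}

theorem cons_zero_dot (y : Fin m → F) :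
    (Fin.cons 0 y : Fin (m + 1) → F) ⬝ᵥ (Pi.single 0 1) = 0 := by simp

theorem last_dot_snoc (x : Fin m → F) :
    (Pi.single (Fin.last m) 1 : Fin (m + 1) → F) ⬝ᵥ (Fin.snoc x 0) = 0 := by simp

/-- First row elements. -/
def rowT (y : Fin m → F) : SL (Fin (m + 1)) F := tv (Pi.single 0 1) (Fin.cons 0 y) (cons_zero_dot y)

/-- Last column elements. -/
def colT (x : Fin m → F) : SL (Fin (m + 1)) F :=
  tv (Fin.snoc x 0) (Pi.single (Fin.last m) 1) (last_dot_snoc x)

theorem snoc_add (x x' : Fin m → F) :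
    (Fin.snoc (x + x') 0 : Fin (m + 1) → F) = Fin.snoc x 0 + Fin.snoc x' 0 := by
  funext i; refine Fin.lastCases ?_ (fun i => ?_) i <;> simp

theorem cons_add (x x' : Fin m → F) :
    (Fin.cons 0 (x + x') : Fin (m + 1) → F) = Fin.cons 0 x + Fin.cons 0 x' := by
  funext i; refine Fin.cases ?_ (fun i => ?_) i <;> simp

theorem cons_zero_zero : (Fin.cons 0 0 : Fin (m + 1) → F) = 0 := by
  funext i; refine Fin.cases ?_ (fun i => ?_) i <;> simp

theorem snoc_zero_zero : (Fin.snoc 0 0 : Fin (m + 1) → F) = 0 := by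
  funext i; refine Fin.lastCases ?_ (fun i => ?_) i <;> simp

/-- The row radical. -/
def rowRad : AddChar (Fin m → F) (SL (Fin (m + 1)) F) where
  toFun := rowT
  map_zero_eq_one' := tv_eq_one _ _ _ (Or.inr cons_zero_zero)
  map_add_eq_mul' y y' := by
    simp only [rowT]
    rw [← tv_mul_right (cons_zero_dot y) (cons_zero_dot y') (by simp)]
    exact tv_congr rfl (cons_add y y')

/-- The column radical. -/
def colRad : AddChar (Fin m → F) (SL (Fin (m + 1)) F) where
  toFun := colT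
  map_zero_eq_one' := tv_eq_one _ _ _ (Or.inl snoc_zero_zero)
  map_add_eq_mul' x x' := by
    simp only [colT]
    rw [← tv_mul_left (last_dot_snoc x) (last_dot_snoc x') (by rw [← snoc_add]; exact last_dot_snoc _)]
    exact tv_congr (snoc_add x x') rfl

theorem rowRad_apply (y : Fin m → F) :
    rowRad y = tv (Pi.single 0 1) (Fin.cons 0 y) (cons_zero_dot y) := rfl

theorem colRad_apply (x : Fin m → F) :
    colRad x = tv (Fin.snoc x 0) (Pi.single (Fin.last m) 1) (last_dot_snoc x) := rfl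

/-- The corner matrix. -/
def upMat (A : Matrix (Fin m) (Fin m) F) : Matrix (Fin (m + 1)) (Fin (m + 1)) F :=
  Matrix.of (Fin.cases (Pi.single 0 1) fun i => Fin.cons 0 (A i))

theorem upMat_mulVec (A : Matrix (Fin m) (Fin m) F) (a : F) (v : Fin m → F) :
    upMat A *ᵥ (Fin.cons a v) = Fin.cons a (A *ᵥ v) := by
  funext i
  refine Fin.cases ?_ (fun i => ?_) i
  · simp [upMat, mulVec]
  · simp [upMat, mulVec, dotProduct, Fin.sum_univ_succ]

theorem vecMul_upMat (A : Matrix (Fin m) (Fin m) F) (a : F) (v : Fin m → F) :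
    (Fin.cons a v) ᵥ* upMat A = Fin.cons a (v ᵥ* A) := by
  funext i
  refine Fin.cases ?_ (fun i => ?_) i <;>
    simp [upMat, vecMul, dotProduct, Fin.sum_univ_succ]

theorem det_upMat (A : Matrix (Fin m) (Fin m) F) : (upMat A).det = A.det := by
  rw [det_succ_row_zero, Fin.sum_univ_succ, Finset.sum_eq_zero (fun i _ => by simp [upMat]), add_zero]
  have : (upMat A).submatrix Fin.succ (Fin.succAbove 0) = A := by
    ext a b; simp [upMat]
  rw [this]
  simp [upMat]

theorem ext_cons {M N : Matrix (Fin (m + 1)) (Fin (m + 1)) F}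
    (h : ∀ a v, M *ᵥ (Fin.cons a v) = N *ᵥ (Fin.cons a v)) : M = N :=
  ext_of_mulVec_single fun i => by
    have h' := h ((Pi.single i (1 : F) : Fin (m + 1) → F) 0) (Fin.tail (Pi.single i (1 : F) : Fin (m + 1) → F))
    rwa [Fin.cons_self_tail] at h'

/-- The corner embedding. -/
def up : SL (Fin m) F →* SL (Fin (m + 1)) F where
  toFun A := ⟨upMat A.1, by rw [det_upMat]; exact A.2⟩
  map_one' := by
    apply Subtype.ext
    refine ext_cons fun a v => ?_
    simp [upMat_mulVec]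
  map_mul' A B := by
    apply Subtype.ext
    refine ext_cons fun a v => ?_
    show upMat (A * B).1 *ᵥ _ = (upMat A.1 * upMat B.1) *ᵥ _
    rw [← mulVec_mulVec]
    simp [upMat_mulVec, mulVec_mulVec]

theorem coe_up (A : SL (Fin m) F) : (up A).1 = upMat A.1 := rfl

theorem up_tv (x y : Fin m → F) (h : y ⬝ᵥ x = 0) :
    up (tv x y h) = tv (Fin.cons 0 x) (Fin.cons 0 y)
      (by simp [dotProduct, Fin.sum_univ_succ] at h ⊢; exact h) := by
  apply Subtype.ext
  refine ext_cons fun a v => ?_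
  rw [coe_up, upMat_mulVec, tv_mulVec, tv_mulVec]
  funext j
  refine Fin.cases ?_ (fun j => ?_) j <;> simp [dotProduct, Fin.sum_univ_succ]

theorem cons_zero_single (i : Fin m) (a : F) :
    (Fin.cons 0 (Pi.single i a) : Fin (m + 1) → F) = Pi.single i.succ a := by
  funext j; refine Fin.cases ?_ (fun j => ?_) j
  · simp [(Fin.succ_ne_zero i).symm]
  · simp [Pi.single_apply]

theorem up_colRad (x : Fin m → F) : up (colRad x) = colRad (Fin.cons 0 x) := by
  rw [colRad_apply, up_tv, colRad_apply]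
  refine tv_congr ?_ ?_
  · exact Fin.cons_snoc_eq_snoc_cons _ _ _
  · rw [cons_zero_single, Fin.succ_last]

/-- The corner subgroup normalises the row radical. -/
theorem up_mul_rowRad (A : SL (Fin m) F) (y : Fin m → F) :
    up A * rowRad y = rowRad (y ᵥ* (A⁻¹ : SL (Fin m) F).1) * up A := by
  refine mul_tv _ (cons_zero_dot y) (cons_zero_dot _) ?_ ?_
  · rw [show (Pi.single 0 1 : Fin (m + 1) → F) = Fin.cons 1 0 by
      funext j; refine Fin.cases ?_ (fun j => ?_) j <;> simp, coe_up, upMat_mulVec, mulVec_zero]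
  · rw [coe_up, vecMul_upMat, vecMul_vecMul, ← SpecialLinearGroup.coe_mul, inv_mul_cancel,
      SpecialLinearGroup.coe_one, vecMul_one]

end Radicals

section Conjugacy

variable [Fintype F]

omit [Fintype F] in
/-- All non-trivial transvections of `SL_n`, `n ≥ 3`, are conjugate. -/
theorem isConj_rowRad {m : ℕ} (hm : 2 ≤ m) (x y : Fin (m + 1) → F) (h : y ⬝ᵥ x = 0) (hx : x ≠ 0)
    (hy : y ≠ 0) (w : Fin m → F) (hw : w ≠ 0) : IsConj (rowRad w) (tv x y h) := by
  have he : (Pi.single 0 1 : Fin (m + 1) → F) ≠ 0 := by simp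
  obtain ⟨G, hG, hGe⟩ := exists_det_one_mulVec (by omega) (Pi.single 0 1) x he hx
  set g : SL (Fin (m + 1)) F := ⟨G, hG⟩
  set y' := y ᵥ* G with hy'
  have hy0 : y' ⬝ᵥ Pi.single 0 1 = 0 := by rw [hy', ← dotProduct_mulVec, hGe, h]
  have hy'0 : y' 0 = 0 := by simpa using hy0
  have hne : Fin.tail y' ≠ 0 := by
    intro ht
    apply hy
    have h1 : y' = 0 := by
      rw [← Fin.cons_self_tail y', hy'0, ht, cons_zero_zero]
    rw [hy'] at h1
    exact vecMul_injective_iff_isUnit.2 ((isUnit_iff_isUnit_det _).2 (hG ▸ isUnit_one))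
      (h1.trans (zero_vecMul G).symm)
  obtain ⟨B, hB, hBw⟩ := exists_det_one_mulVec hm w (Fin.tail y') hw hne
  set b : SL (Fin m) F := ⟨Bᵀ, by rw [det_transpose]; exact hB⟩
  have e1 : up b⁻¹ * rowRad w = rowRad (Fin.tail y') * up b⁻¹ := by
    rw [up_mul_rowRad, inv_inv, show w ᵥ* b.1 = Fin.tail y' from by
      rw [show b.1 = Bᵀ from rfl, vecMul_transpose, hBw]]
  have e2 : g * rowRad (Fin.tail y') = tv x y h * g := by
    refine mul_tv g (cons_zero_dot _) h hGe ?_
    show y ᵥ* G = _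
    rw [← hy', ← Fin.cons_self_tail y', hy'0, Fin.tail_cons]
  refine isConj_iff.2 ⟨g * up b⁻¹, ?_⟩
  rw [mul_assoc g, e1, ← mul_assoc, e2]
  group

end Conjugacy

end CfsgLib.MinDeg.SLTv
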