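import Cfsg.Agent.Lib.MinDeg.TraceWeight
import Cfsg.Agent.Lib.MinDeg.SLTv
import Cfsg.Agent.Lib.Linear.Transvection
import Mathlib.RepresentationTheory.Maschke
import Mathlib.RepresentationTheory.Semisimple
import Mathlib.FieldTheory.Finite.Basic

/-!
# Representations of `SL_n` whose radical weights all have multiplicity one
-/

set_option autoImplicit false

namespace CfsgLib.MinDeg.SLTv

open Matrix Module

variable {F : Type*} [Field F] [Fintype F] [DecidableEq F]

local notation "SL" => Matrix.SpecialLinearGroup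

/-- Multiplicity one for both radicals, and no common vector with two non-trivial weights. -/
structure Thin {j : ℕ} {V : Type*} [AddCommGroup V] [Module ℂ V]
    (ρ : Representation ℂ (SL (Fin (j + 2)) F) V) : Prop where
  row : ∀ ψ : AddChar (Fin (j + 1) → F) ℂ, ψ ≠ 0 →
    finrank ℂ (weightSpace (resChar ρ rowRad) ψ) = 1
  col : ∀ ψ : AddChar (Fin (j + 1) → F) ℂ, ψ ≠ 0 →
    finrank ℂ (weightSpace (resChar ρ colRad) ψ) = 1
  mixed : ∀ v : V, v ≠ 0 → ∀ μ ψ : AddChar (Fin (j + 1) → F) ℂ,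
    v ∈ weightSpace (resChar ρ rowRad) μ → v ∈ weightSpace (resChar ρ colRad) ψ →
    (∀ c, ψ (Pi.single 0 c) = 1) → μ = 0 ∨ ψ = 0

section Basics

variable {m : ℕ}

omit [Fintype F] [DecidableEq F] in
theorem colRad_injective : Function.Injective (colRad (F := F) (m := m)) := by
  intro x x' h
  have h1 := congrArg (fun g : SL (Fin (m + 1)) F => g.1 *ᵥ Pi.single (Fin.last m) 1) h
  simp only [colRad_apply, tv_mulVec] at h1
  simp at h1
  exact h1

omit [Fintype F] [DecidableEq F] in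
theorem tv_smul {k : ℕ} (x y : Fin k → F) (c : F) (h : y ⬝ᵥ (c • x) = 0) (h' : (c • y) ⬝ᵥ x = 0) :
    tv (c • x) y h = tv x (c • y) h' := by
  apply Subtype.ext
  simp [smul_vecMulVec, vecMulVec_smul]

omit [Fintype F] [DecidableEq F] in
theorem colRad_single_zero {j : ℕ} (c : F) :
    colRad (m := j + 1) (Pi.single 0 c) = rowRad (Pi.single (Fin.last j) c) := by
  apply Subtype.ext
  simp only [colRad_apply, rowRad_apply, coe_tv, cons_zero_single, Fin.succ_last]
  congr 1
  have : (Fin.snoc (Pi.single 0 c) 0 : Fin (j + 2) → F) = c • Pi.single 0 1 := by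
    funext i; refine Fin.lastCases ?_ (fun i => ?_) i
    · simp [Fin.last_pos.ne']
    · simp [Pi.single_apply]
  rw [this, smul_vecMulVec, ← vecMulVec_smul]
  simp [← Pi.single_smul]

omit [DecidableEq F] in
theorem scale_of_stab {V : Type*} [AddCommGroup V] [Module ℂ V] {A G : Type*} [AddCommGroup A]
    [Finite A] [Group G] (ρ : Representation ℂ G V) (u : AddChar A G) (hu : Function.Injective u)
    {ψ : AddChar A ℂ} (h1 : finrank ℂ (weightSpace (resChar ρ u) ψ) = 1) {v : V}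
    (hv : v ∈ weightSpace (resChar ρ u) ψ) (hv0 : v ≠ 0) (g : G)
    (h : ∀ a, ∃ a', g * u a = u a' * g ∧ ψ a' = ψ a) : ∃ s : ℂ, s ≠ 0 ∧ ρ g v = s • v := by
  choose φ hφ hψ using h
  have hinj : Function.Injective φ := fun a b hab => hu (mul_left_cancel (a := g) (by rw [hφ, hφ, hab]))
  have hmem : ρ g v ∈ weightSpace (resChar ρ u) ψ := by
    rw [mem_weightSpace]
    intro b
    obtain ⟨a, rfl⟩ := (Finite.injective_iff_surjective.1 hinj) b
    rw [resChar_apply, ← Module.End.mul_apply, ← map_mul, ← hφ a, map_mul, Module.End.mul_apply,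
      ← resChar_apply ρ u, mem_weightSpace.1 hv a, map_smul, hψ a]
  obtain ⟨s, hs⟩ := exists_smul_of_finrank_one h1 hv hv0 hmem
  exact ⟨s, fun h0 => hv0 (rep_injective ρ g (by rw [hs, h0, zero_smul, map_zero])), hs⟩

omit [DecidableEq F] in
/-- Transvections fixing the last functional and a column weight scale its line. -/
theorem scale_tv {V : Type*} [AddCommGroup V] [Module ℂ V]
    (ρ : Representation ℂ (SL (Fin (m + 1)) F) V) {ψ : AddChar (Fin m → F) ℂ}
    (h1 : finrank ℂ (weightSpace (resChar ρ colRad) ψ) = 1) {v : V}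
    (hv : v ∈ weightSpace (resChar ρ colRad) ψ) (hv0 : v ≠ 0) (x : Fin m → F) (W : Fin (m + 1) → F)
    (h : W ⬝ᵥ Fin.snoc x 0 = 0) (hψ : ∀ c : F, ψ (c • x) = 1) :
    ∃ s : ℂ, s ≠ 0 ∧ ρ (tv (Fin.snoc x 0) W h) v = s • v := by
  refine scale_of_stab ρ colRad colRad_injective h1 hv hv0 _ fun a => ?_
  refine ⟨a + (W ⬝ᵥ Fin.snoc a 0) • x, ?_, by rw [AddChar.map_add_eq_mul, hψ, mul_one]⟩
  rw [colRad_apply, colRad_apply]
  refine mul_tv _ _ _ ?_ ?_
  · rw [tv_mulVec]
    funext i; refine Fin.lastCases ?_ (fun i => ?_) i <;> simp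
  · rw [vecMul_tv]; simp

omit [DecidableEq F] in
/-- The row radical acts by scalars on a column weight line that is trivial at `z`. -/
theorem scale_row {j : ℕ} {V : Type*} [AddCommGroup V] [Module ℂ V]
    (ρ : Representation ℂ (SL (Fin (j + 2)) F) V) {ψ : AddChar (Fin (j + 1) → F) ℂ}
    (h1 : finrank ℂ (weightSpace (resChar ρ colRad) ψ) = 1) {v : V}
    (hv : v ∈ weightSpace (resChar ρ colRad) ψ) (hv0 : v ≠ 0)
    (hψ : ∀ c : F, ψ (Pi.single 0 c) = 1) :
    ∃ μ : AddChar (Fin (j + 1) → F) ℂ, v ∈ weightSpace (resChar ρ rowRad) μ := by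
  refine exists_weight_of_mem_span _ hv0 fun y => ?_
  have e : (Fin.snoc (Pi.single 0 1) 0 : Fin (j + 2) → F) = Pi.single 0 1 := by
    funext i; refine Fin.lastCases ?_ (fun i => ?_) i
    · simp [Fin.last_pos.ne']
    · simp [Pi.single_apply]
  obtain ⟨s, -, hs⟩ := scale_tv ρ h1 hv hv0 (Pi.single 0 1) (Fin.cons 0 y)
    (by rw [e]; exact cons_zero_dot y) (fun c => by rw [← Pi.single_smul]; simpa using hψ c)
  refine ⟨s, ?_⟩
  rw [resChar_apply, rowRad_apply, tv_congr e.symm rfl]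
  exact hs

theorem trace_rowRad {V : Type*} [AddCommGroup V] [Module ℂ V] (hm : 2 ≤ m)
    (ρ : Representation ℂ (SL (Fin (m + 1)) F) V) (w : Fin m → F) (hw : w ≠ 0) (x y : Fin (m + 1) → F)
    (h : y ⬝ᵥ x = 0) (hx : x ≠ 0) (hy : y ≠ 0) : ρ.character (tv x y h) = ρ.character (rowRad w) := by
  obtain ⟨g, hg⟩ := isConj_iff.1 (isConj_rowRad hm x y h hx hy w hw)
  rw [← hg, Representation.char_conj]

theorem trace_row_const {V : Type*} [AddCommGroup V] [Module ℂ V] (hm : 2 ≤ m)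
    (ρ : Representation ℂ (SL (Fin (m + 1)) F) V) (w : Fin m → F) (hw : w ≠ 0) :
    (∀ a, a ≠ 0 → LinearMap.trace ℂ V (resChar ρ rowRad a) = ρ.character (rowRad w)) ∧
    (∀ a, a ≠ 0 → LinearMap.trace ℂ V (resChar ρ colRad a) = ρ.character (rowRad w)) := by
  refine ⟨fun a ha => trace_rowRad hm ρ w hw (Pi.single 0 1) (Fin.cons 0 a) (cons_zero_dot a)
      (by simp) fun h => ha ?_,
    fun a ha => trace_rowRad hm ρ w hw (Fin.snoc a 0) (Pi.single (Fin.last m) 1) (last_dot_snoc a)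
      (fun h => ha ?_) (by simp)⟩
  · rw [← cons_zero_zero] at h
    exact ((Fin.cons_inj (α := fun _ => F)).1 h).2
  · rw [← snoc_zero_zero] at h
    exact ((Fin.snoc_inj (α := fun _ => F)).1 h).1

theorem eq_one_of_rowRad_eq_one {V : Type*} [AddCommGroup V] [Module ℂ V] (hm : 2 ≤ m)
    (ρ : Representation ℂ (SL (Fin (m + 1)) F) V) (w : Fin m → F) (hw : w ≠ 0)
    (h1 : ρ (rowRad w) = 1) (g : SL (Fin (m + 1)) F) : ρ g = 1 := by
  refine CfsgLib.Linear.SL_transvection_induction (fun A => ρ A = 1) (map_one ρ)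
    (fun i j hij c => ?_) (fun A B hA hB => by rw [map_mul, hA, hB, one_mul]) g
  rw [transvection_eq_tv]
  by_cases hc : c = 0
  · rw [tv_eq_one _ _ _ (Or.inr (by simp [hc])), map_one]
  · obtain ⟨g, hg⟩ := isConj_iff.1
      (isConj_rowRad hm (Pi.single i 1) (Pi.single j c) (by simp [hij.symm]) (by simp) (by simp [hc]) w hw)
    rw [← hg, map_mul, map_mul, h1, mul_one, ← map_mul, mul_inv_cancel, map_one]

/-- On a non-trivial representation the radical weights all have the same positive multiplicity. -/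
theorem exists_mult {V : Type*} [AddCommGroup V] [Module ℂ V] [FiniteDimensional ℂ V] (hm : 2 ≤ m)
    (ρ : Representation ℂ (SL (Fin (m + 1)) F) V) (hne : ∃ g, ρ g ≠ 1) :
    ∃ r : ℕ, 0 < r ∧ ∀ ψ : AddChar (Fin m → F) ℂ, ψ ≠ 0 →
      finrank ℂ (weightSpace (resChar ρ rowRad) ψ) = r ∧
      finrank ℂ (weightSpace (resChar ρ colRad) ψ) = r := by
  have : NeZero m := ⟨by omega⟩
  set w : Fin m → F := Pi.single 0 1
  have hw : w ≠ 0 := by simp [w]
  obtain ⟨hr, hc⟩ := trace_row_const hm ρ w hw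
  obtain ⟨g, hg⟩ := hne
  obtain ⟨ψ₀, hψ₀, hW⟩ := exists_weight_ne_zero (resChar ρ rowRad) (a := w)
    (fun h => hg (eq_one_of_rowRad_eq_one hm ρ w hw h g))
  refine ⟨_, one_le_finrank_of_ne_bot hW, fun ψ hψ => ⟨mult_eq_mult _ _ hr hψ hψ₀, ?_⟩⟩
  have h := (mult_of_const _ _ hc hψ).trans (mult_of_const _ _ hr hψ₀).symm
  exact_mod_cast mul_right_cancel₀ card_cast_ne_zero h

end Basics

section Step

variable {i : ℕ} {V : Type*} [AddCommGroup V] [Module ℂ V]
  (ρ : Representation ℂ (SL (Fin (i + 3)) F) V)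

omit [DecidableEq F] [Fintype F] in
theorem up_mem_fixed (A : SL (Fin (i + 2)) F) :
    ∀ v ∈ weightSpace (resChar ρ rowRad) 0, ρ (up A) v ∈ weightSpace (resChar ρ rowRad) 0 := by
  intro v hv
  rw [mem_weightSpace] at hv ⊢
  intro b
  have e := up_mul_rowRad A (b ᵥ* A.1)
  rw [vecMul_vecMul, show A.1 * (A⁻¹ : SL (Fin (i + 2)) F).1 = 1 from
      congrArg Subtype.val (mul_inv_cancel A), vecMul_one] at e
  rw [resChar_apply, ← Module.End.mul_apply, ← map_mul, ← e, map_mul, Module.End.mul_apply,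
    ← resChar_apply ρ rowRad, hv, map_smul]
  simp

/-- The representation of the corner subgroup on the fixed points of the row radical. -/
noncomputable def fixedRep :
    Representation ℂ (SL (Fin (i + 2)) F) (weightSpace (resChar ρ rowRad) 0) where
  toFun A := (ρ (up A)).restrict (up_mem_fixed ρ A)
  map_one' := LinearMap.ext fun v => Subtype.ext (by simp)
  map_mul' A B := LinearMap.ext fun v => Subtype.ext (by simp)

omit [DecidableEq F] [Fintype F] in
theorem fixedRep_apply (A : SL (Fin (i + 2)) F) (v : weightSpace (resChar ρ rowRad) 0) :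
    ((fixedRep ρ A v : weightSpace (resChar ρ rowRad) 0) : V) = ρ (up A) v.1 := rfl

/-- The tail map. -/
def tailHom (F : Type*) [Field F] (i : ℕ) : (Fin (i + 2) → F) →+ (Fin (i + 1) → F) where
  toFun x := Fin.tail x
  map_zero' := rfl
  map_add' _ _ := rfl

omit [DecidableEq F] [Fintype F] in
theorem tail_char_single (χ : AddChar (Fin (i + 1) → F) ℂ) (c : F) :
    χ.compAddMonoidHom (tailHom F i) (Pi.single 0 c) = 1 := by
  show χ (Fin.tail (Pi.single 0 c : Fin (i + 2) → F)) = 1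
  rw [show Fin.tail (Pi.single 0 c : Fin (i + 2) → F) = 0 from funext fun k => by
    simp [Fin.tail, Fin.succ_ne_zero], AddChar.map_zero_eq_one]

omit [DecidableEq F] [Fintype F] in
theorem tail_char_ne_zero {χ : AddChar (Fin (i + 1) → F) ℂ} (hχ : χ ≠ 0) :
    χ.compAddMonoidHom (tailHom F i) ≠ 0 := fun h => hχ <| DFunLike.ext _ _ fun x => by
  have := DFunLike.congr_fun h (Fin.cons 0 x)
  exact this

omit [DecidableEq F] in
theorem fixedRep_col_mem {χ : AddChar (Fin (i + 1) → F) ℂ} {v : weightSpace (resChar ρ rowRad) 0}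
    (hv : v ∈ weightSpace (resChar (fixedRep ρ) colRad) χ) :
    v.1 ∈ weightSpace (resChar ρ colRad) (χ.compAddMonoidHom (tailHom F i)) := by
  rw [mem_weightSpace]
  intro x
  have hx : x = Pi.single 0 (x 0) + Fin.cons 0 (Fin.tail x) := by
    funext k; refine Fin.cases ?_ (fun k => ?_) k <;> simp [Fin.tail, Fin.succ_ne_zero]
  show _ = χ (Fin.tail x) • v.1
  have h1 := congrArg Subtype.val (mem_weightSpace.1 hv (Fin.tail x))
  rw [resChar_apply, fixedRep_apply, up_colRad] at h1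
  have h1' : ρ (colRad (Fin.cons 0 (Fin.tail x))) v.1 = χ (Fin.tail x) • v.1 := h1
  conv_lhs => rw [hx]
  rw [resChar_apply, AddChar.map_add_eq_mul, map_mul, Module.End.mul_apply, h1', map_smul,
    colRad_single_zero, ← resChar_apply ρ rowRad, mem_weightSpace.1 v.2]
  simp

variable [FiniteDimensional ℂ V] {ρ}

omit [DecidableEq F] in
/-- Column weights of the fixed points of the row radical have multiplicity one. -/
theorem Thin.fixed_col (hρ : Thin ρ) (χ : AddChar (Fin (i + 1) → F) ℂ) (hχ : χ ≠ 0) :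
    finrank ℂ (weightSpace (resChar (fixedRep ρ) colRad) χ) = 1 := by
  set ψ := χ.compAddMonoidHom (tailHom F i) with hψdef
  have hψ := tail_char_ne_zero hχ
  have h1 := hρ.col ψ hψ
  suffices hmap : (weightSpace (resChar (fixedRep ρ) colRad) χ).map
      (weightSpace (resChar ρ rowRad) 0).subtype = weightSpace (resChar ρ colRad) ψ by
    rw [← Submodule.finrank_map_subtype_eq, hmap, h1]
  refine le_antisymm ?_ fun v hv => ?_
  · rintro _ ⟨v, hv, rfl⟩
    exact fixedRep_col_mem ρ hv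
  · by_cases hv0 : v = 0
    · rw [hv0]; exact zero_mem _
    obtain ⟨μ, hμ⟩ := scale_row ρ h1 hv hv0 (tail_char_single χ)
    rcases hρ.mixed v hv0 μ ψ hμ hv (tail_char_single χ) with rfl | h
    · refine ⟨⟨v, hμ⟩, mem_weightSpace.2 fun x => Subtype.ext ?_, rfl⟩
      rw [resChar_apply, fixedRep_apply, up_colRad]
      show ρ (colRad (Fin.cons 0 x)) v = χ x • v
      rw [← resChar_apply ρ colRad, mem_weightSpace.1 hv]
      simp [hψdef, tailHom]
      rfl
    · exact absurd h hψ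

theorem exists_rep_ne_one_of_weight {G A : Type*} [Group G] [AddCommGroup A] {W : Type*}
    [AddCommGroup W] [Module ℂ W] (σ : Representation ℂ G W) (u : AddChar A G) {ψ : AddChar A ℂ}
    (hψ : ψ ≠ 0) (h1 : finrank ℂ (weightSpace (resChar σ u) ψ) = 1) : ∃ g, σ g ≠ 1 := by
  by_contra hall
  push Not at hall
  obtain ⟨v, hv, hv0⟩ := Submodule.exists_mem_ne_zero_of_ne_bot
    (p := weightSpace (resChar σ u) ψ) (fun h => by rw [h, finrank_bot] at h1; omega)
  refine hψ (DFunLike.ext _ _ fun a => ?_)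
  have := mem_weightSpace.1 hv a
  rw [resChar_apply, hall, Module.End.one_apply] at this
  exact (smul_left_injective ℂ hv0 (show (1 : ℂ) • v = ψ a • v by rw [one_smul]; exact this)).symm

theorem exists_char_ne_zero (A : Type*) [AddCommGroup A] [Finite A] [Nontrivial A] :
    ∃ ψ : AddChar A ℂ, ψ ≠ 0 := by
  obtain ⟨a, ha⟩ := exists_ne (0 : A)
  obtain ⟨ψ, hψ⟩ := AddChar.exists_apply_ne_zero.2 ha
  exact ⟨ψ, fun h => hψ (by simp [h])⟩

/-- The fixed points of the row radical are again thin. -/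
theorem Thin.fixed (hρ : Thin ρ) (hi : 1 ≤ i) : Thin (fixedRep ρ) := by
  obtain ⟨χ₀, hχ₀⟩ := exists_char_ne_zero (Fin (i + 1) → F)
  obtain ⟨r, -, hr⟩ := exists_mult (m := i + 1) (by omega) (fixedRep ρ)
    (exists_rep_ne_one_of_weight _ colRad hχ₀ (hρ.fixed_col χ₀ hχ₀))
  have hr1 : r = 1 := by rw [← (hr χ₀ hχ₀).2, hρ.fixed_col χ₀ hχ₀]
  refine ⟨fun ψ hψ => (hr ψ hψ).1.trans hr1, hρ.fixed_col, fun v hv0 μ χ hμ hχv hz => ?_⟩
  refine (or_iff_not_imp_right).2 fun hχ => DFunLike.ext _ _ fun y => ?_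
  set ψ := χ.compAddMonoidHom (tailHom F i) with hψdef
  have hv := fixedRep_col_mem ρ hχv
  have h1 := hρ.col ψ (tail_char_ne_zero hχ)
  have hv0' : v.1 ≠ 0 := fun h => hv0 (Subtype.ext h)
  -- the two stabilising transvections
  set X : Fin (i + 2) → F := Pi.single 1 1 with hX
  set W₁ : Fin (i + 3) → F := Pi.single 0 1 with hW₁
  have hone : ((1 : Fin (i + 2)).castSucc : Fin (i + 3)) = (0 : Fin (i + 2)).succ := rfl
  have hsn : (Fin.snoc X 0 : Fin (i + 3) → F) = Pi.single (0 : Fin (i + 2)).succ 1 := by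
    funext k; refine Fin.lastCases ?_ (fun k => ?_) k
    · rw [Fin.snoc_last, Pi.single_eq_of_ne]
      intro h
      have := congrArg Fin.val h
      simp at this
    · rw [Fin.snoc_castSucc, ← hone, hX]
      rcases eq_or_ne k 1 with rfl | hk
      · rw [Pi.single_eq_same, Pi.single_eq_same]
      · rw [Pi.single_eq_of_ne hk, Pi.single_eq_of_ne fun h => hk (Fin.castSucc_injective _ h)]
  have hd : W₁ ⬝ᵥ Fin.snoc X 0 = 0 := by rw [hsn, hW₁]; simp [Fin.succ_ne_zero]
  obtain ⟨s, hs0, hs⟩ := scale_tv ρ h1 hv hv0' X W₁ hd (fun c => by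
    show χ (Fin.tail (c • X : Fin (i + 2) → F)) = 1
    rw [show Fin.tail (c • X : Fin (i + 2) → F) = Pi.single 0 c from funext fun k => by
      show c * (Pi.single (0 : Fin (i + 1)).succ 1 : Fin (i + 2) → F) k.succ = _
      rcases eq_or_ne k 0 with rfl | hk
      · rw [Pi.single_eq_same, Pi.single_eq_same, mul_one]
      · rw [Pi.single_eq_of_ne hk, Pi.single_eq_of_ne fun h => hk (Fin.succ_injective _ h),
          mul_zero], hz])
  set y₂ : Fin (i + 2) → F := Fin.cons 0 y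
  have hy₂ : ρ (rowRad y₂) v.1 = v.1 := by
    simpa using mem_weightSpace.1 v.2 y₂
  set g₁ := tv (Fin.snoc X 0) W₁ hd
  have hR : up (rowRad y) = tv (Fin.snoc X 0) (Fin.cons 0 y₂) (by
      rw [hsn]; simp [y₂]) := by
    rw [rowRad_apply, up_tv]
    exact tv_congr (by rw [hsn, cons_zero_single]) rfl
  have key : g₁ * rowRad y₂ = up (rowRad y) * rowRad y₂ * g₁ := by
    rw [hR, rowRad_apply, ← tv_mul_left (h'' := by rw [hsn]; simp [y₂])]
    refine mul_tv _ _ _ ?_ ?_
    · rw [tv_mulVec, hW₁]; simp [add_comm]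
    · rw [vecMul_tv, hsn]; simp [y₂]
  have h2 := congrArg (fun g => ρ g v.1) key
  simp only [map_mul, Module.End.mul_apply, hy₂, hs, map_smul] at h2
  have h3 : ρ (up (rowRad y)) v.1 = μ y • v.1 :=
    congrArg Subtype.val (mem_weightSpace.1 hμ y)
  rw [h3, smul_smul] at h2
  show μ y = 1
  exact mul_left_cancel₀ hs0 ((smul_left_injective ℂ hv0' h2.symm).trans (mul_one s).symm)

end Step

section Top

variable {j : ℕ} {V : Type*} [AddCommGroup V] [Module ℂ V] [FiniteDimensional ℂ V]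
  {ρ : Representation ℂ (SL (Fin (j + 2)) F) V} {μ ψ : AddChar (Fin (j + 1) → F) ℂ} {v : V}

omit [DecidableEq F] [FiniteDimensional ℂ V] in
/-- Commutator argument: `μ` is trivial on rows orthogonal to a middle vector killed by `ψ`. -/
theorem row_char_eq_one (h1 : finrank ℂ (weightSpace (resChar ρ colRad) ψ) = 1)
    (hv0 : v ≠ 0) (hμ : v ∈ weightSpace (resChar ρ rowRad) μ)
    (hv : v ∈ weightSpace (resChar ρ colRad) ψ) (x : Fin j → F) (hx : x ≠ 0)
    (hψx : ∀ c : F, ψ (c • Fin.cons 0 x) = 1) (y : Fin (j + 1) → F)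
    (hy : y ⬝ᵥ Fin.snoc x 0 = 0) : μ y = 1 := by
  set X : Fin (j + 1) → F := Fin.cons 0 x
  have hsn : (Fin.snoc X 0 : Fin (j + 2) → F) = Fin.cons 0 (Fin.snoc x 0) :=
    (Fin.cons_snoc_eq_snoc_cons _ _ _).symm
  have hW : (Fin.cons 0 y : Fin (j + 2) → F) ⬝ᵥ Fin.snoc X 0 = 0 := by
    rw [hsn]; simpa [dotProduct, Fin.sum_univ_succ] using hy
  obtain ⟨k, hk⟩ := Function.ne_iff.1 hx
  set u : Fin (j + 1) → F := Pi.single k.castSucc (x k)⁻¹
  have hu : (Fin.cons 0 u : Fin (j + 2) → F) ⬝ᵥ Fin.snoc X 0 = 1 := by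
    rw [hsn]
    simp only [dotProduct, Fin.sum_univ_succ, Fin.cons_zero, zero_mul, Fin.cons_succ, zero_add]
    rw [← Fin.sum_univ_succ (f := fun i => u i * (Fin.snoc x 0 : Fin (j + 1) → F) i)]
    show u ⬝ᵥ _ = 1
    simp [u, inv_mul_cancel₀ hk]
  obtain ⟨s, hs0, hs⟩ := scale_tv ρ h1 hv hv0 X (Fin.cons 0 y) hW hψx
  have key : rowRad u * tv (Fin.snoc X 0) (Fin.cons 0 y) hW =
      rowRad y * tv (Fin.snoc X 0) (Fin.cons 0 y) hW * rowRad u := by
    rw [rowRad_apply, rowRad_apply,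
      ← tv_mul_left (h'' := by rw [dotProduct_add, hW, cons_zero_dot, add_zero])]
    refine mul_tv _ _ _ ?_ ?_
    · rw [tv_mulVec, hu, one_smul]; exact add_comm _ _
    · rw [vecMul_tv, cons_zero_dot, zero_smul, add_zero]
  have h2 := congrArg (fun g => ρ g v) key
  have hu' : ρ (rowRad u) v = μ u • v := mem_weightSpace.1 hμ u
  have hy' : ρ (rowRad y) v = μ y • v := mem_weightSpace.1 hμ y
  simp only [map_mul, Module.End.mul_apply, hs, hu', hy', map_smul, smul_smul] at h2
  have h3 := smul_left_injective ℂ hv0 h2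
  have hne : s * μ u ≠ 0 := mul_ne_zero hs0 (μ.val_isUnit u).ne_zero
  refine mul_left_cancel₀ hne ?_
  rw [mul_one]
  linear_combination -h3

omit [DecidableEq F] in
/-- A non-zero middle vector killed by `ψ`, orthogonal to a given one. -/
theorem exists_middle (ψ : AddChar (Fin (j + 1) → F) ℂ) (hj : 3 ≤ j) (y : Fin (j + 1) → F) :
    ∃ x : Fin j → F, x ≠ 0 ∧ (∀ c : F, ψ (c • Fin.cons 0 x) = 1) ∧ y ⬝ᵥ Fin.snoc x 0 = 0 := by
  let L : (Fin j → F) → AddChar F ℂ × F := fun x =>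
    ({ toFun := fun c => ψ (c • Fin.cons 0 x)
       map_zero_eq_one' := by simp
       map_add_eq_mul' := fun a b => by rw [add_smul, AddChar.map_add_eq_mul] }, y ⬝ᵥ Fin.snoc x 0)
  obtain ⟨a, b, hab, hne⟩ := Fintype.exists_ne_map_eq_of_card_lt L (by
    rw [Fintype.card_prod, AddChar.card_eq, Fintype.card_fun, Fintype.card_fin]
    calc _ < Fintype.card F ^ 3 := by nlinarith [Fintype.one_lt_card (α := F)]
      _ ≤ _ := Nat.pow_le_pow_right Fintype.card_pos hj)
  refine ⟨a - b, sub_ne_zero.2 hab, fun c => ?_, ?_⟩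
  · have e := DFunLike.congr_fun (congrArg Prod.fst hne) c
    change ψ (c • Fin.cons 0 a) = ψ (c • Fin.cons 0 b) at e
    rw [show c • (Fin.cons 0 (a - b) : Fin (j + 1) → F) = c • Fin.cons 0 a - c • Fin.cons 0 b by
      funext k; refine Fin.cases ?_ (fun k => ?_) k <;> simp [mul_sub], AddChar.map_sub_eq_div, e,
      div_self (ψ.val_isUnit _).ne_zero]
  · rw [show (Fin.snoc (a - b) 0 : Fin (j + 1) → F) = Fin.snoc a 0 - Fin.snoc b 0 by
      funext k; refine Fin.lastCases ?_ (fun k => ?_) k <;> simp, dotProduct_sub]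
    exact sub_eq_zero.2 (congrArg Prod.snd hne)

omit [DecidableEq F] in
/-- A non-zero middle vector killed by `ψ`. -/
theorem exists_middle_two (ψ : AddChar (Fin (j + 1) → F) ℂ) (hj : 2 ≤ j) :
    ∃ x : Fin j → F, x ≠ 0 ∧ (∀ c : F, ψ (c • Fin.cons 0 x) = 1) := by
  let L : (Fin j → F) → AddChar F ℂ := fun x =>
    { toFun := fun c => ψ (c • Fin.cons 0 x)
      map_zero_eq_one' := by simp
      map_add_eq_mul' := fun a b => by rw [add_smul, AddChar.map_add_eq_mul] }
  obtain ⟨a, b, hab, hne⟩ := Fintype.exists_ne_map_eq_of_card_lt L (by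
    rw [AddChar.card_eq, Fintype.card_fun, Fintype.card_fin]
    calc _ < Fintype.card F ^ 2 := by nlinarith [Fintype.one_lt_card (α := F)]
      _ ≤ _ := Nat.pow_le_pow_right Fintype.card_pos hj)
  refine ⟨a - b, sub_ne_zero.2 hab, fun c => ?_⟩
  have e := DFunLike.congr_fun hne c
  change ψ (c • Fin.cons 0 a) = ψ (c • Fin.cons 0 b) at e
  rw [show c • (Fin.cons 0 (a - b) : Fin (j + 1) → F) = c • Fin.cons 0 a - c • Fin.cons 0 b by
    funext k; refine Fin.cases ?_ (fun k => ?_) k <;> simp [mul_sub], AddChar.map_sub_eq_div, e,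
    div_self (ψ.val_isUnit _).ne_zero]

omit [FiniteDimensional ℂ V] in
/-- Torus argument on a weight line. -/
theorem row_char_smul (hv0 : v ≠ 0) (hμ : v ∈ weightSpace (resChar ρ rowRad) μ)
    (h1 : finrank ℂ (weightSpace (resChar ρ colRad) ψ) = 1)
    (hv : v ∈ weightSpace (resChar ρ colRad) ψ) (h : SL (Fin (j + 2)) F) (y y' : Fin (j + 1) → F)
    (hcol : ∀ a, ∃ a', h * colRad a = colRad a' * h ∧ ψ a' = ψ a)
    (hrow : h * rowRad y = rowRad y' * h) : μ y' = μ y := by
  obtain ⟨s, hs0, hs⟩ := scale_of_stab ρ colRad colRad_injective h1 hv hv0 h hcol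
  have h2 := congrArg (fun g => ρ g v) hrow
  have e : ∀ z, ρ (rowRad z) v = μ z • v := mem_weightSpace.1 hμ
  simp only [map_mul, Module.End.mul_apply, hs, e, map_smul, smul_smul] at h2
  exact (mul_left_cancel₀ hs0 (by linear_combination smul_left_injective ℂ hv0 h2)).symm

end Top

end CfsgLib.MinDeg.SLTv
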