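import Cfsg.Agent.Lib.MinDeg.SLBound

/-!
# The smallest degree of a non-linear irreducible representation of `SL_n`, lower bound
-/

set_option autoImplicit false

namespace CfsgLib.MinDeg.SLTv

open Matrix Module

universe u v

variable {F : Type u} [Field F] [Fintype F] [DecidableEq F]

local notation "SL" => Matrix.SpecialLinearGroup

omit [Fintype F] [DecidableEq F] in
theorem mul_rowRad_of {m : ℕ} (g : SL (Fin (m + 1)) F) (t : F) (ht : t ≠ 0) (y y' : Fin m → F)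
    (hx : g.1 *ᵥ Pi.single 0 1 = t • Pi.single 0 1)
    (hy : (Fin.cons 0 y' : Fin (m + 1) → F) ᵥ* g.1 = t • Fin.cons 0 y) :
    g * rowRad y = rowRad y' * g := by
  have h1 : (t⁻¹ • Fin.cons 0 y' : Fin (m + 1) → F) ⬝ᵥ (t • Pi.single 0 1) = 0 := by simp
  rw [rowRad_apply, mul_tv g _ h1 hx (by rw [smul_vecMul, hy, smul_smul, inv_mul_cancel₀ ht, one_smul])]
  congr 1
  apply Subtype.ext
  simp [rowRad_apply, smul_vecMulVec, vecMulVec_smul, smul_smul, inv_mul_cancel₀ ht]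

omit [Fintype F] [DecidableEq F] in
theorem mul_colRad_of {m : ℕ} (g : SL (Fin (m + 1)) F) (c : F) (hc : c ≠ 0) (a a' : Fin m → F)
    (hx : g.1 *ᵥ Fin.snoc a 0 = c • Fin.snoc a' 0)
    (hy : (Pi.single (Fin.last m) 1 : Fin (m + 1) → F) ᵥ* g.1 = c • Pi.single (Fin.last m) 1) :
    g * colRad a = colRad a' * g := by
  have h1 : (c⁻¹ • Pi.single (Fin.last m) 1 : Fin (m + 1) → F) ⬝ᵥ (c • Fin.snoc a' 0) = 0 := by simp
  rw [colRad_apply, mul_tv g _ h1 hx (by rw [smul_vecMul, hy, smul_smul, inv_mul_cancel₀ hc, one_smul])]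
  congr 1
  apply Subtype.ext
  simp [colRad_apply, smul_vecMulVec, vecMulVec_smul, smul_smul, inv_mul_cancel₀ hc]

omit [DecidableEq F] in
theorem exists_pow_ne_one {k : ℕ} (h : ¬ (Fintype.card F - 1 ∣ k)) :
    ∃ s : F, s ≠ 0 ∧ s ^ k ≠ 1 := by
  rw [← FiniteField.forall_pow_eq_one_iff F] at h
  push Not at h
  obtain ⟨x, hx⟩ := h
  exact ⟨x, x.ne_zero, fun e => hx (Units.ext (by simpa using e))⟩

omit [Fintype F] [DecidableEq F] in
theorem char_eq_zero_of_smul_invariant {m : ℕ} (μ : AddChar (Fin m → F) ℂ) {c : F} (hc : c ≠ 1)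
    (h : ∀ y, μ (c • y) = μ y) : μ = 0 := by
  refine DFunLike.ext _ _ fun y => ?_
  have e := h ((c - 1)⁻¹ • y)
  have hy : c • ((c - 1)⁻¹ • y) = y + (c - 1)⁻¹ • y := by
    rw [smul_smul, ← sub_eq_iff_eq_add, ← sub_smul, ← sub_one_mul,
      mul_inv_cancel₀ (sub_ne_zero.2 hc), one_smul]
  rw [hy, AddChar.map_add_eq_mul] at e
  exact (mul_eq_right₀ (μ.val_isUnit _).ne_zero).1 e

section

variable {V : Type v} [AddCommGroup V] [Module ℂ V] [FiniteDimensional ℂ V]

omit [DecidableEq F] [FiniteDimensional ℂ V] in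
theorem mixed_three (h2 : Fintype.card F ≠ 2) (h4 : Fintype.card F ≠ 4)
    (ρ : Representation ℂ (SL (Fin 3) F) V) {μ ψ : AddChar (Fin 2 → F) ℂ} {v : V} (hv0 : v ≠ 0)
    (h1 : finrank ℂ (weightSpace (resChar ρ colRad) ψ) = 1)
    (hμ : v ∈ weightSpace (resChar ρ rowRad) μ) (hv : v ∈ weightSpace (resChar ρ colRad) ψ)
    (hz : ∀ c, ψ (Pi.single 0 c) = 1) : μ = 0 := by
  classical
  obtain ⟨s, hs, hs3⟩ := exists_pow_ne_one (F := F) (k := 3) (fun h => by
    have := Fintype.one_lt_card (α := F)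
    rcases (Nat.dvd_prime Nat.prime_three).1 h with h | h <;> omega)
  set t := (s * s)⁻¹ with ht
  have ht0 : t ≠ 0 := by simp [ht, hs]
  let g : SL (Fin 3) F := ⟨diagonal ![t, s, s], by
    rw [det_diagonal, Fin.prod_univ_three]
    show t * s * s = 1
    rw [ht, mul_assoc, inv_mul_cancel₀ (mul_ne_zero hs hs)]⟩
  refine char_eq_zero_of_smul_invariant μ (c := t / s) ?_ fun y => ?_
  · intro h
    rw [div_eq_one_iff_eq hs] at h
    apply hs3
    calc s ^ 3 = t * (s * s) := by rw [h]; ring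
      _ = 1 := by rw [ht, inv_mul_cancel₀ (mul_ne_zero hs hs)]
  refine row_char_smul (j := 1) hv0 hμ h1 hv g y ((t / s) • y) (fun a => ?_) ?_
  · refine ⟨a + Pi.single 0 ((t / s - 1) * a 0), mul_colRad_of g s hs a _ ?_ ?_,
      by rw [AddChar.map_add_eq_mul, hz, mul_one]⟩
    · funext k
      show (diagonal ![t, s, s] *ᵥ Fin.snoc a 0) k = _
      rw [mulVec_diagonal]
      fin_cases k <;> simp [Fin.snoc] <;> field_simp <;> ring
    · funext k
      show (_ ᵥ* diagonal ![t, s, s]) k = _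
      rw [vecMul_diagonal]
      fin_cases k <;> simp [Pi.single_apply]
  · refine mul_rowRad_of g t ht0 y _ ?_ ?_
    · funext k
      show (diagonal ![t, s, s] *ᵥ _) k = _
      rw [mulVec_diagonal]
      fin_cases k <;> simp
    · funext k
      show (_ ᵥ* diagonal ![t, s, s]) k = _
      rw [vecMul_diagonal]
      refine Fin.cases ?_ (fun k => ?_) k
      · simp
      · simp only [Pi.smul_apply, smul_eq_mul, Fin.cons_succ]
        fin_cases k <;> simp <;> field_simp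

omit [DecidableEq F] [FiniteDimensional ℂ V] in
theorem mixed_four (h4 : 4 ≤ Fintype.card F)
    (ρ : Representation ℂ (SL (Fin 4) F) V) {μ ψ : AddChar (Fin 3 → F) ℂ} {v : V} (hv0 : v ≠ 0)
    (h1 : finrank ℂ (weightSpace (resChar ρ colRad) ψ) = 1)
    (hμ : v ∈ weightSpace (resChar ρ rowRad) μ) (hv : v ∈ weightSpace (resChar ρ colRad) ψ)
    (hz : ∀ c, ψ (Pi.single 0 c) = 1) : μ = 0 := by
  classical
  obtain ⟨x, hx, hψx⟩ := exists_middle_two (j := 2) ψ le_rfl
  obtain ⟨k, hk⟩ := Function.ne_iff.1 hx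
  set u : Fin 3 → F := Pi.single k.castSucc (x k)⁻¹ with hu
  have hux : u ⬝ᵥ Fin.snoc x 0 = 1 := by simp [hu, inv_mul_cancel₀ hk]
  set X : Fin 4 → F := Fin.snoc (Fin.cons 0 x) 0 with hX
  have hX' : X = Fin.cons 0 (Fin.snoc x 0) := (Fin.cons_snoc_eq_snoc_cons _ _ _).symm
  set U : Fin 4 → F := Fin.cons 0 u with hU
  have hUX : U ⬝ᵥ X = 1 := by
    rw [hX', hU]
    have : ∀ a b : Fin 3 → F, (Fin.cons 0 a : Fin 4 → F) ⬝ᵥ Fin.cons 0 b = a ⬝ᵥ b := fun a b => by
      simp [dotProduct, Fin.sum_univ_succ]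
    rw [this, hux]
  obtain ⟨r, hr, hr2⟩ := exists_pow_ne_one (F := F) (k := 2) (fun h => by
    have := Nat.le_of_dvd (by norm_num) h; omega)
  set e₀ : Fin 4 → F := Pi.single 0 1 with he₀
  let g : SL (Fin 4) F := ⟨(1 + vecMulVec e₀ ((r⁻¹ - 1) • e₀)) * (1 + vecMulVec X ((r - 1) • U)), by
    rw [det_mul, det_one_add_vecMulVec, det_one_add_vecMulVec, smul_dotProduct, smul_dotProduct,
      hUX, he₀]
    simp [hr]⟩
  have hX0 : X 0 = 0 := by rw [hX']; simp
  have hXl : X 3 = 0 := by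
    rw [hX]; exact Fin.snoc_last (α := fun _ => F) (0 : F) _
  have hg : ∀ w, g.1 *ᵥ w = w + ((r - 1) * (U ⬝ᵥ w)) • X + ((r⁻¹ - 1) * w 0) • e₀ := fun w => by
    show ((1 + _) * (1 + _)) *ᵥ w = _
    rw [← mulVec_mulVec, one_add_vecMulVec_mulVec, one_add_vecMulVec_mulVec, smul_dotProduct,
      smul_dotProduct, smul_eq_mul, smul_eq_mul, he₀, single_one_dotProduct]
    simp [hX0]
  have hg' : ∀ w, w ᵥ* g.1 = (w + (w 0 * (r⁻¹ - 1)) • e₀) +
      ((w + (w 0 * (r⁻¹ - 1)) • e₀) ⬝ᵥ X * (r - 1)) • U := fun w => by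
    show w ᵥ* ((1 + _) * (1 + _)) = _
    rw [← vecMul_vecMul]
    simp only [vecMul_add, vecMul_one, vecMul_vecMulVec, smul_smul,
      show w ⬝ᵥ e₀ = w 0 by simp [he₀]]
  have hcol : ∀ a, ∃ a', g * colRad a = colRad a' * g ∧ ψ a' = ψ a := fun a => by
    refine ⟨a + ((r - 1) * (U ⬝ᵥ Fin.snoc a 0)) • Fin.cons 0 x + Pi.single 0 ((r⁻¹ - 1) * a 0),
      mul_colRad_of g 1 one_ne_zero a _ ?_ ?_,
      by rw [AddChar.map_add_eq_mul, AddChar.map_add_eq_mul, hz, hψx, mul_one, mul_one]⟩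
    · rw [hg, one_smul]
      funext i
      refine Fin.lastCases ?_ (fun i => ?_) i
      · simp [hX, he₀, -Fin.reduceLast]
      · simp [hX, he₀, Pi.single_apply]
    · rw [hg', one_smul]
      have e : (Pi.single (Fin.last 3) (1 : F) : Fin 4 → F) 0 = 0 := by simp
      rw [e, zero_mul, zero_smul, add_zero, single_one_dotProduct,
        show X (Fin.last 3) = 0 from hXl, zero_mul, zero_smul, add_zero]
  have horth : ∀ y : Fin 3 → F, y ⬝ᵥ Fin.snoc x 0 = 0 → μ y = 1 := fun y hy =>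
    row_char_eq_one (j := 2) h1 hv0 hμ hv x hx hψx y hy
  have hline : ∀ a : F, μ (a • u) = 1 := by
    intro a
    have key : ∀ b : F, μ (((r⁻¹) ^ 2 * b) • u) = μ (b • u) := fun b => by
      refine row_char_smul (j := 2) hv0 hμ h1 hv g (b • u) _ hcol
        (mul_rowRad_of g r⁻¹ (inv_ne_zero hr) _ _ ?_ ?_)
      · rw [hg, he₀]
        have : U ⬝ᵥ (Pi.single 0 1 : Fin 4 → F) = 0 := by rw [hU]; simp
        rw [this]
        funext i
        by_cases hi : i = 0
        · subst hi; simp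
        · simp [hi]
      · rw [hg']
        have hc : ∀ c : F, (Fin.cons 0 (c • u) : Fin 4 → F) = c • U := fun c => by
          rw [hU]; funext i; refine Fin.cases ?_ (fun i => ?_) i <;> simp
        rw [hc, hc]
        have : (((r⁻¹) ^ 2 * b) • U) 0 = 0 := by rw [hU]; simp
        rw [this, zero_mul, zero_smul, add_zero, smul_dotProduct, hUX, smul_eq_mul, mul_one,
          ← add_smul, smul_smul]
        congr 1
        field_simp
        ring
    have hne : (r⁻¹) ^ 2 - 1 ≠ (0 : F) := by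
      intro h
      apply hr2
      rw [sub_eq_zero, inv_pow, inv_eq_one] at h
      exact h
    have e := key (((r⁻¹) ^ 2 - 1)⁻¹ * a)
    have hy : ((r⁻¹) ^ 2 * (((r⁻¹) ^ 2 - 1)⁻¹ * a)) • u =
        a • u + (((r⁻¹) ^ 2 - 1)⁻¹ * a) • u := by
      rw [← add_smul]; congr 1
      linear_combination mul_inv_cancel₀ hne * a
    rw [hy, AddChar.map_add_eq_mul] at e
    exact (mul_eq_right₀ (μ.val_isUnit _).ne_zero).1 e
  refine DFunLike.ext _ _ fun y => ?_
  rw [show y = (y - (y ⬝ᵥ Fin.snoc x 0) • u) + (y ⬝ᵥ Fin.snoc x 0) • u by abel,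
    AddChar.map_add_eq_mul, hline, horth _ (by rw [sub_dotProduct, smul_dotProduct, hux]; simp)]
  simp

end

/-- The lower bound for the degree of non-trivial representations of `SL_n`. -/
theorem min_degree_le {i : ℕ} (h3 : i = 0 → Fintype.card F ≠ 2 ∧ Fintype.card F ≠ 4)
    (h4 : i = 1 → Fintype.card F ≠ 2 ∧ Fintype.card F ≠ 3)
    {V : Type v} [AddCommGroup V] [Module ℂ V] [FiniteDimensional ℂ V]
    (ρ : Representation ℂ (SL (Fin (i + 3)) F) V) (hne : ∃ g, ρ g ≠ 1) :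
    Fintype.card F * gs (Fintype.card F) (i + 2) ≤ finrank ℂ V := by
  classical
  by_contra hlt
  set q := Fintype.card F with hq
  have hq2 : 2 ≤ q := Fintype.one_lt_card
  obtain ⟨r, hr0, hr⟩ := exists_mult (m := i + 2) (by omega) ρ hne
  have hmul := mul_le_finrank (resChar ρ rowRad)
    ((Finset.univ : Finset (AddChar (Fin (i + 2) → F) ℂ)).erase 0) r
    fun χ hχ => ((hr χ (Finset.ne_of_mem_erase hχ)).1).ge
  rw [Finset.card_erase_of_mem (Finset.mem_univ _), Finset.card_univ, AddChar.card_eq,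
    Fintype.card_fun, Fintype.card_fin, ← hq, ← gs_mul (q := q) (by omega) (i + 2),
    Nat.add_sub_cancel] at hmul
  have hr1 : r = 1 := by
    by_contra hne1
    apply hlt
    have h2 : q ≤ (q - 1) * r := by
      calc q ≤ (q - 1) * 2 := by omega
        _ ≤ _ := Nat.mul_le_mul_left _ (by omega)
    calc q * gs q (i + 2) ≤ (q - 1) * r * gs q (i + 2) := Nat.mul_le_mul_right _ h2
      _ = (q - 1) * gs q (i + 2) * r := by ring
      _ ≤ _ := hmul
  have hT : Thin ρ := by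
    refine ⟨fun ψ hψ => (hr ψ hψ).1.trans hr1, fun ψ hψ => (hr ψ hψ).2.trans hr1,
      fun v hv0 μ ψ hμ hv hz => (or_iff_not_imp_right).2 fun hψ => ?_⟩
    have h1 := (hr ψ hψ).2.trans hr1
    match i, h3, h4 with
    | 0, h3, _ => exact mixed_three (h3 rfl).1 (h3 rfl).2 ρ hv0 h1 hμ hv hz
    | 1, _, h4 => exact mixed_four (by have := h4 rfl; omega) ρ hv0 h1 hμ hv hz
    | i + 2, _, _ =>
      refine DFunLike.ext _ _ fun y => ?_
      obtain ⟨x, hx, hψx, hy⟩ := exists_middle (j := i + 3) ψ (by omega) y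
      exact row_char_eq_one (j := i + 3) h1 hv0 hμ hv x hx hψx y hy
  have hb := lowerBd_le i V ρ hT
  simp only [lowerBd, ← hq] at hb
  split_ifs at hb with c1 c2 c3
  · exact (h3 c1.1).2 c1.2
  · exact (h3 c2.1).1 c2.2
  · exact (h4 c3.1).1 c3.2
  · exact hlt hb

end CfsgLib.MinDeg.SLTv
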