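import Cfsg.Agent.Lib.MinDeg.SlChev

/-!
# The lower bound from a chain of layers
-/

set_option autoImplicit false
set_option linter.unusedSectionVars false

namespace CfsgLib.MinDeg.SLRoots

open Module

variable {F : Type*} [Field F] [Fintype F] {G : Type*} [Group G] (S : SLRoots F G)
variable {V : Type*} [AddCommGroup V] [Module ℂ V] [FiniteDimensional ℂ V]
  (ρ : Representation ℂ G V)

/-- The roots in `P` can be scaled by any amount at `a`. -/
def ScaleOK (P : List ℕ) (a : ℕ) : Prop :=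
  ∀ c : Fˣ, ∃ (g : G) (f : ℕ → F), f a = c ∧ ∀ r ∈ P, ∀ t, g * S.x r t * g⁻¹ = S.x r (f r * t)

theorem single_scale {R U P : List ℕ} {a : ℕ} (hscale : S.ScaleOK P a) (hRP : ∀ r ∈ R, r ∈ P)
    (hUP : ∀ r ∈ U, r ∈ P) (haU : a ∈ U) {φ : Slots F}
    (hφ : ∀ s ∈ U, s ≠ a → ∀ t, φ s t = 1) {χ₀ : AddChar F ℂ} (h₀ : χ₀ ≠ 0)
    (hφa : ∀ t, φ a t = χ₀ t) {χ : AddChar F ℂ} (hχ : χ ≠ 0) :
    finrank ℂ (S.eig ρ R U φ) ≤ finrank ℂ (S.eig ρ R U (single a χ)) := by
  obtain ⟨c, hc⟩ := char_scale h₀ χ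
  have hc0 : c ≠ 0 := fun h => hχ (AddChar.ext _ _ fun t => by simp [hc t, h])
  obtain ⟨g, f, hfa, hg⟩ := hscale (Units.mk0 c hc0)
  refine S.finrank_eig_le ρ g (S.eig_conj ρ g (fun r hr t v hv => ?_) (fun r hr t v hv => ?_))
  · rw [hg r (hRP r hr), hv r hr]
  · rw [hg r (hUP r hr), hv.2 r hr]
    congr 1
    unfold single
    split_ifs with h
    · subst h; rw [hφa, hfa, Units.val_mk0, hc]
    · exact hφ r hr h _

/-- The sum over a layer. -/
def layerSum (q : ℕ) (rk : ℕ → ℕ) (a : ℕ) (U : List ℕ) : ℕ :=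
  (U.map fun β => q ^ (rk β - rk a)).sum

/-- The sum over a chain of layers. -/
def chainSum (q : ℕ) (rk : ℕ → ℕ) : List (List ℕ × List ℕ × ℕ) → ℕ
  | [] => 0
  | (U, _, a) :: L => (q - 1) * layerSum q rk a U + chainSum q rk L

/-- The conditions on a chain of layers. -/
def ChainOK (P : List ℕ) (rk : ℕ → ℕ) : List ℕ → List (List ℕ × List ℕ × ℕ) → Prop
  | _, [] => True
  | R, (U, nodes, a) :: L => S.CellOK R U nodes rk a ∧ U.Nodup ∧ (∀ r ∈ R, r ∈ P ∧ r ≠ a) ∧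
      (∀ r ∈ U, r ∈ P) ∧ ChainOK P rk (R ++ U) L

theorem chain_le {P : List ℕ} {rk : ℕ → ℕ} (L : List (List ℕ × List ℕ × ℕ)) (R : List ℕ)
    (hok : S.ChainOK P rk R L)
    (hW : ∀ x ∈ L, ∀ χ : AddChar F ℂ, χ ≠ 0 → S.Whit ρ P x.2.2 χ) :
    chainSum (Fintype.card F) rk L ≤ finrank ℂ (S.fix ρ R) := by
  induction L generalizing R with
  | nil => simp [chainSum]
  | cons x L ih =>
    obtain ⟨U, nodes, a⟩ := x
    obtain ⟨hcell, hnd, hR, hU, hrest⟩ := hok
    obtain ⟨T, hT, hTc, hTa⟩ := S.whit_fam ρ (rk := rk) hR hU hcell.1 (hW _ List.mem_cons_self)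
    have h1 := S.layer_le ρ one_pos hcell hnd hT hTa
    have h2 := ih _ hrest fun x hx => hW x (List.mem_cons_of_mem _ hx)
    rw [hTc, mul_one] at h1
    simp only [chainSum, layerSum]
    omega

/-- Either many weights in the first layer, or a degenerate Whittaker vector at its lowest root. -/
theorem first_layer {R U P : List ℕ} {p δ₀ a : ℕ} {L₁ Sh : List (ℕ × ℕ)} {L₂ L₃ nodes w : List ℕ}
    {rk : ℕ → ℕ} (htop : S.TopOK R U p δ₀ L₁ Sh L₂ L₃) (hab : S.AbelOK R U) (hnd : U.Nodup)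
    (hcell : S.CellOK R U nodes rk a) (hstab : S.StabOK R U P a) (haR : a ∉ R)
    (hscale : S.ScaleOK P a) (hRP : ∀ r ∈ R, r ∈ P) (hUP : ∀ r ∈ U, r ∈ P)
    (hw : S.NodesOK R U w) (hwa : S.path w a = p) (hinj : ∀ s ∈ U, s ≠ a → S.path w s ≠ p)
    (hmove : ∃ t, ∃ v ∈ S.fix ρ R, ρ (S.x p t) v ≠ v) :
    Fintype.card F ^ (L₁.length + Sh.length) ≤ finrank ℂ (S.fix ρ R) ∨
    2 * ((Fintype.card F - 1) * layerSum (Fintype.card F) rk a U) ≤ finrank ℂ (S.fix ρ R) ∨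
    ∀ χ : AddChar F ℂ, χ ≠ 0 → S.Whit ρ P a χ := by
  classical
  have haU := hcell.1
  rcases S.top_cases ρ htop hab hnd hmove with h | ⟨ψ, hr, ⟨t₀, ht₀⟩, hψ⟩
  · exact Or.inl h
  obtain ⟨ψ', hr', hval⟩ := S.exists_path ρ w hw ψ
  have hpos : 0 < finrank ℂ (S.eig ρ R U ψ') := hr.trans_le hr'
  have hψ' : ∀ s ∈ U, s ≠ a → ∀ t, ψ' s t = 1 := fun s hs hne t => by
    obtain ⟨hmem, c, -, e⟩ := hval s hs
    rw [e, hψ _ hmem (hinj s hs hne)]
  obtain ⟨χ₁, hχ₁⟩ := S.slot_char ρ hpos haU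
  have hχ₁ne : χ₁ ≠ 0 := fun h0 => by
    obtain ⟨-, c, hc, e⟩ := hval a haU
    apply ht₀
    have := e (c⁻¹ * t₀)
    rwa [hχ₁, h0, AddChar.zero_apply, hwa, mul_inv_cancel_left₀ hc, eq_comm] at this
  by_cases htwo : ∃ φ : Slots F, (∀ s ∈ U, s ≠ a → ∀ t, φ s t = 1) ∧ (∃ t, φ a t ≠ 1) ∧
      2 ≤ finrank ℂ (S.eig ρ R U φ)
  · refine Or.inr (Or.inl ?_)
    obtain ⟨φ, hφ, ⟨t, ht⟩, h2⟩ := htwo
    obtain ⟨χ₀, hχ₀⟩ := S.slot_char ρ (by omega : 0 < finrank ℂ (S.eig ρ R U φ)) haU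
    have hne : χ₀ ≠ 0 := fun h0 => ht (by rw [hχ₀, h0, AddChar.zero_apply])
    let T : Finset (Slots F) := (Finset.univ.erase (0 : AddChar F ℂ)).image (single a)
    have hT : S.Fam ρ R U 2 T := by
      refine ⟨fun ψ hψ ψ' hψ' e => ?_, fun ψ hψ => ?_⟩
      · obtain ⟨χ, -, rfl⟩ := Finset.mem_image.1 hψ
        obtain ⟨χ', -, rfl⟩ := Finset.mem_image.1 hψ'
        rw [show χ = χ' from AddChar.ext _ _ fun t => by simpa [single] using e a haU t]
      · obtain ⟨χ, hχ, rfl⟩ := Finset.mem_image.1 hψ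
        exact h2.trans
          (S.single_scale ρ hscale hRP hUP haU hφ hne hχ₀ (Finset.ne_of_mem_erase hχ))
    have hTa : ∀ ψ ∈ T, TopAt U rk a ψ := by
      intro ψ hψ
      obtain ⟨χ, hχ, rfl⟩ := Finset.mem_image.1 hψ
      obtain ⟨t, ht⟩ := AddChar.ne_zero_iff.1 (Finset.ne_of_mem_erase hχ)
      exact ⟨⟨t, by simpa [single] using ht⟩, fun δ _ hne _ t => by simp [single, hne]⟩
    have hTc : T.card = Fintype.card F - 1 := by
      rw [Finset.card_image_of_injective _ (fun χ χ' e => AddChar.ext _ _ fun t => by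
        simpa [single] using congrFun (congrFun e a) t),
        Finset.card_erase_of_mem (Finset.mem_univ _), Finset.card_univ, AddChar.card_eq]
    have h := S.layer_le ρ two_pos hcell hnd hT hTa
    rw [hTc] at h
    simp only [layerSum]
    refine le_trans (le_of_eq ?_) ((Nat.le_add_left _ _).trans h)
    ring
  · push Not at htwo
    refine Or.inr (Or.inr fun χ hχ => ?_)
    have hW := S.whit_of_line ρ hstab (fun φ h1 h2 => Nat.le_of_lt_succ (htwo φ h1 h2))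
      hpos hψ' hχ₁ne hχ₁
    exact S.whit_all ρ hscale (hUP a haU) hχ₁ne hW hχ

/-- Degenerate Whittaker vectors spread along the edges of the diagram. -/
theorem whit_edges {P : List ℕ} (E : List (ℕ × ℕ))
    (hE : ∀ e ∈ E, ∃ R c i j, S.PropOK P R e.1 e.2 c i j) (hscale : ∀ e ∈ E, S.ScaleOK P e.2)
    (done : List ℕ) (hdone : ∀ a ∈ done, ∀ χ : AddChar F ℂ, χ ≠ 0 → S.Whit ρ P a χ)
    (hfrom : ∀ k (hk : k < E.length), E[k].1 ∈ done ++ (E.take k).map Prod.snd) :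
    ∀ a ∈ done ++ E.map Prod.snd, ∀ χ : AddChar F ℂ, χ ≠ 0 → S.Whit ρ P a χ := by
  induction E generalizing done with
  | nil => simpa using hdone
  | cons e E ih =>
    obtain ⟨R, c, i, j, hok⟩ := hE e List.mem_cons_self
    have he1 : e.1 ∈ done := by
      have := hfrom 0 (Nat.succ_pos _)
      rwa [List.getElem_cons_zero, List.take_zero, List.map_nil, List.append_nil] at this
    have hnew : ∀ χ : AddChar F ℂ, χ ≠ 0 → S.Whit ρ P e.2 χ := fun χ hχ => by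
      obtain ⟨χ', hχ', hW⟩ := S.propagate ρ hok hχ (hdone e.1 he1 χ hχ)
      exact S.whit_all ρ (hscale e List.mem_cons_self) hok.2.2.2.2.2.2.2.2.1 hχ' hW hχ
    intro a ha
    refine ih (fun x hx => hE x (List.mem_cons_of_mem _ hx))
      (fun x hx => hscale x (List.mem_cons_of_mem _ hx)) (done ++ [e.2])
      (fun a ha => ?_) (fun k hk => ?_) a ?_
    · rcases List.mem_append.1 ha with h | h
      · exact hdone a h
      · rw [List.mem_singleton.1 h]; exact hnew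
    · have := hfrom (k + 1) (by simpa using hk)
      simpa [List.take_succ_cons, List.append_assoc] using this
    · simpa [List.append_assoc] using ha

end CfsgLib.MinDeg.SLRoots
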