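import Cfsg.Agent.Lib.MinDeg.SlTop
import Cfsg.Agent.Lib.Chev.BN
import Cfsg.Agent.Lib.Chev.Comm

/-!
# Simply laced Chevalley groups as groups with root data, and checkers for the certificates
-/

set_option autoImplicit false
set_option linter.unusedSectionVars false
set_option linter.unusedSimpArgs false

namespace CfsgLib.MinDeg

open Cfsg.Lie CfsgLib.Chev

/-- All chains of roots have length at most one, with structure constants `±1`. -/
def shortB (D : ChevalleyDatum) : Bool :=
  D.chain.toList.all fun C => C.toList.all fun e =>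
    decide (e.2.toList.length ≤ 1) && e.2.toList.all fun q => decide (q.2 = 1) || decide (q.2 = -1)

theorem short_spec {D : ChevalleyDatum} (h : shortB D = true) (r s : ℕ) :
    (D.chainEntry r s).length ≤ 1 ∧ ∀ q ∈ D.chainEntry r s, q.2 = 1 ∨ q.2 = -1 := by
  simp only [shortB, List.all_eq_true, Bool.and_eq_true, Bool.or_eq_true, decide_eq_true_eq] at h
  unfold ChevalleyDatum.chainEntry
  cases hf : List.find? (fun e => e.1 = s) (D.chain.getD r #[]).toList with
  | none => simp
  | some e =>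
    have he := List.mem_of_find?_eq_some hf
    by_cases hr : r < D.chain.size
    · refine h _ ?_ e he
      rw [array_getD_eq, List.getD_eq_getElem _ _ (by simpa using hr)]
      exact List.getElem_mem _
    · rw [array_getD_eq, List.getD_eq_default _ _ (by simpa using Nat.le_of_not_lt hr)] at he
      simp at he

/-- The sum of two roots. -/
def cAdd (D : ChevalleyDatum) (r s : ℕ) : Option ℕ := D.chainRoot r s 1

section Inst

variable {D : ChevalleyDatum} {T : Tabs} (hc : Checked D T) (F : Type*) [Field F]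

/-- A root element in the Chevalley group, one out of range. -/
noncomputable def chevX (r : ℕ) : AddChar F ↥(D.group F) where
  toFun t := if h : r < D.nroots then ⟨elX D F r t, elX_mem_group hc h t⟩ else 1
  map_zero_eq_one' := by
    split_ifs with h
    · exact Subtype.ext (elX_zero hc F h)
    · rfl
  map_add_eq_mul' a b := by
    split_ifs with h
    · exact Subtype.ext (elX_add hc F h a b).symm
    · rw [one_mul]

theorem chevX_coe {r : ℕ} (h : r < D.nroots) (t : F) :
    (chevX hc F r t : GL D.Idx F) = elX D F r t := by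
  simp [chevX, h]

/-- A fundamental reflection in the Chevalley group. -/
noncomputable def chevN (i : ℕ) : ↥(D.group F) :=
  if h : i < D.rank then ⟨elN D F (D.simple i) 1, elN_mem_group hc (simple_lt hc h) 1⟩ else 1

theorem commTerms_short {r s : ℕ} (hshort : shortB D = true) :
    D.commTerms r s =
      ((cAdd D r s).map fun k => (k, D.chainM r s 1, 1, 1)).toList := by
  have high : ∀ a b i, 2 ≤ i → D.chainRoot a b i = none := by
    intro a b i hi
    have := (short_spec hshort a b).1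
    simp [ChevalleyDatum.chainRoot, List.getElem?_eq_none (show (D.chainEntry a b).length ≤ i - 1 by omega)]
  unfold ChevalleyDatum.commTerms cAdd
  simp only [high r s 2 le_rfl, high s r 2 le_rfl, high r s 3 (by omega), high s r 3 (by omega)]
  cases D.chainRoot r s 1 <;> simp

theorem cAdd_eq_some {r s k : ℕ} (h : cAdd D r s = some k) :
    ∃ e : ℤ, (k, e) ∈ D.chainEntry r s ∧ D.chainM r s 1 = e := by
  unfold cAdd ChevalleyDatum.chainRoot at h
  obtain ⟨q, hq, rfl⟩ := Option.map_eq_some_iff.1 h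
  exact ⟨q.2, List.mem_of_getElem? hq, by rw [ChevalleyDatum.chainM, hq]; rfl⟩

/-- The root data of a simply laced Chevalley group. -/
noncomputable def slChev (hcomm : CommOne D T) (hshort : shortB D = true) :
    SLRoots F ↥(D.group F) where
  num := D.nroots
  rk := D.rank
  op := D.neg
  simple := D.simple
  sg := D.reflectRoot
  add := cAdd D
  coef r s := (D.chainM r s 1 : F)
  nc i r := (eta D T i r : F)
  x := chevX hc F
  n := chevN hc F
  sg_lt i r hi hr := by
    rw [show D.reflectRoot i r = _ from reflectRoot_eq hc ⟨i, hi⟩ hr]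
    exact sig_lt hc ⟨i, hi⟩ hr
  sg_sg i r hi hr := by
    have e : D.reflectRoot i r = sig D T i r := reflectRoot_eq hc ⟨i, hi⟩ hr
    rw [e, show D.reflectRoot i (sig D T i r) = _ from
      reflectRoot_eq hc ⟨i, hi⟩ (sig_lt hc ⟨i, hi⟩ hr)]
    exact sig_sig hc ⟨i, hi⟩ hr
  n_conj i r hi hr t := by
    have e : D.reflectRoot i r = sig D T i r := reflectRoot_eq hc ⟨i, hi⟩ hr
    apply Subtype.ext
    have hlt : D.reflectRoot i r < D.nroots := e ▸ sig_lt hc ⟨i, hi⟩ hr
    rw [Subgroup.coe_mul, Subgroup.coe_mul, Subgroup.coe_inv, chevX_coe hc F hr,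
      chevX_coe hc F hlt, e]
    simpa [chevN, hi] using nOne_conj_elX hc ⟨i, hi⟩ hr t
  nc_ne i r hi hr := by
    rcases eta_cast hc (F := F) ⟨i, hi⟩ hr with h | h <;> simp at h <;> simp [h]
  comm_none r s hr hs hneg hk a b := by
    apply Subtype.ext
    simp only [Subgroup.coe_mul, chevX_coe hc F hr, chevX_coe hc F hs]
    by_cases hrs : s = r
    · subst hrs; rw [elX_add hc F hs, elX_add hc F hs, add_comm]
    · have h := elX_comm hc hcomm (F := F) hr hs hrs hneg a b
      rw [ChevalleyDatum.commWord, commTerms_short hshort, hk] at h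
      simpa [wordGL] using h.symm
  comm_some r s k hr hs hneg hk := by
    obtain ⟨e, he, heM⟩ := cAdd_eq_some hk
    have hrs : s ≠ r := by
      rintro rfl
      rw [chainEntry_self hc hs] at he
      simp at he
    have hkn : k < D.nroots := (commTerms_weight hc hr hs _ (by
      rw [commTerms_short hshort, hk]; exact List.mem_singleton_self _)).1
    refine ⟨hkn, ?_, fun a b => Subtype.ext ?_⟩
    · rw [heM]
      rcases (short_spec hshort r s).2 _ he with h | h <;> simp at h <;> simp [h]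
    · simp only [Subgroup.coe_mul, Subgroup.coe_inv, chevX_coe hc F hr, chevX_coe hc F hs,
        chevX_coe hc F hkn]
      rw [elX_conj_elX hc hcomm hr hs hrs hneg, ChevalleyDatum.commWord, commTerms_short hshort, hk]
      simp [wordGL]

/-- Torus scaling at a root adjacent to a fundamental node. -/
theorem chev_scale (hcomm : CommOne D T) (hshort : shortB D = true) {a j : ℕ} (hj : j < D.rank)
    (hja : D.cartan j a = -1) (P : List ℕ) (hP : ∀ r ∈ P, r < D.nroots)
    (c : Fˣ) : ∃ (g : ↥(D.group F)) (f : ℕ → F), f a = c ∧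
      ∀ r ∈ P, ∀ t, g * (slChev hc F hcomm hshort).x r t * g⁻¹ =
        (slChev hc F hcomm hshort).x r (f r * t) := by
  refine ⟨⟨torus D T F (corChar D T (D.simple j) c⁻¹),
    diagonal_le_group hc (torus_corChar_mem hc _)⟩, fun r => ((c⁻¹ ^ D.cartan j r : Fˣ) : F),
    by simp [hja], fun r hr t => Subtype.ext ?_⟩
  show _ * (chevX hc F r t : GL D.Idx F) * _ = (chevX hc F r _ : GL D.Idx F)
  rw [chevX_coe hc F (hP r hr), chevX_coe hc F (hP r hr), Subgroup.coe_inv,
    torus_conj_elX hc _ (hP r hr), chi_corChar_simple hc ⟨j, hj⟩ (hP r hr)]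

end Inst

/-! ### Checkers -/

/-- Membership in a list of numbers. -/
noncomputable def memB (k : ℕ) (L : List ℕ) : Bool :=
  List.rec (motive := fun _ => Bool) false (fun a _ ih => cond (Nat.beq a k) true ih) L

theorem memB_iff {k : ℕ} {L : List ℕ} : memB k L = true ↔ k ∈ L := by
  induction L with
  | nil => simp [memB]
  | cons a L ih =>
    show cond (Nat.beq a k) true (memB k L) = true ↔ _
    rw [cond_true_iff, nat_beq_iff, ih, List.mem_cons, eq_comm]

theorem memB_not {k : ℕ} {L : List ℕ} : memB k L = false ↔ k ∉ L := by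
  rw [← memB_iff, Bool.not_eq_true]

/-- The negative of a root, from its index. -/
noncomputable def tNeg (D : ChevalleyDatum) (r : ℕ) : ℕ :=
  cond (Nat.blt r D.nroots) (Nat.sub D.nroots (Nat.add r 1)) (D.neg r)

/-- The sum of two roots, from the tables. -/
noncomputable def tAdd (D : ChevalleyDatum) (T : Tabs) (r s : ℕ) : Option ℕ :=
  cond (Nat.blt r D.nroots)
    (cond (Nat.blt s D.nroots)
      (cond (Nat.beq s (tNeg D r)) none
        (cond (Nat.beq (field (T.t1.get r) s) 0) none (some (codeIdx (field (T.t1.get r) s)))))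
      none)
    (cAdd D r s)

/-- The fundamental reflections, from the tables. -/
noncomputable def tSg (D : ChevalleyDatum) (T : Tabs) (i s : ℕ) : ℕ :=
  cond (Nat.blt i D.rank) (cond (Nat.blt s D.nroots) (sig D T i s) (D.reflectRoot i s))
    (D.reflectRoot i s)

section Agree

variable {D : ChevalleyDatum} {T : Tabs} (hc : Checked D T)
include hc

theorem tNeg_eq : tNeg D = D.neg := by
  funext r
  rw [tNeg, cond_blt]
  split
  · rename_i h; exact (neg_eq hc h).symm
  · rfl

theorem tSg_eq : tSg D T = D.reflectRoot := by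
  funext i s
  rw [tSg, cond_blt, cond_blt]
  split
  · rename_i hi
    split
    · rename_i hs; exact (reflectRoot_eq hc ⟨i, hi⟩ hs).symm
    · rfl
  · rfl

theorem tAdd_eq : tAdd D T = cAdd D := by
  funext r s
  rw [tAdd, cond_blt, cond_blt, cond_beq, cond_beq, tNeg_eq hc]
  split
  · rename_i hr
    split
    · rename_i hs
      split
      · rename_i h; subst h
        simp [cAdd, ChevalleyDatum.chainRoot, chainEntry_neg hc hr]
      · rename_i h
        rw [field_t1 hc hr hs, if_neg h]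
        unfold cAdd ChevalleyDatum.chainRoot
        cases hq : (D.chainEntry r s)[0]? with
        | none => simp [optCode, hq]
        | some q =>
          obtain ⟨-, -, h1, h2, -⟩ := chainEntry_get hc hr hq
          have hne : encNZ q.1 q.2 ≠ 0 := by
            have e : encNZ q.1 q.2 = q.1 * 16 + (q.2 + 8).toNat := rfl
            omega
          simp [optCode, hq, hne, codeIdx_encNZ h1 h2]
    · rename_i hs
      simp [cAdd, ChevalleyDatum.chainRoot, chainEntry_ge hc hr (Nat.le_of_not_lt hs)]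
  · rfl

end Agree

section Checkers

variable (D : ChevalleyDatum) (T : Tabs)

/-- Checker of `SLRoots.Stable`. -/
noncomputable def stableB (r : ℕ) (R U : List ℕ) : Bool :=
  U.all fun s => decide (s < D.nroots) && decide (s ≠ tNeg D r) &&
    (tAdd D T r s).all fun k => memB (k) (U) || memB (k) (R)

/-- Checker of `SLRoots.PairOK`. -/
noncomputable def pairB (R : List ℕ) (a b c : ℕ) : Bool :=
  decide (a < D.nroots) && decide (b < D.nroots) && decide (c < D.nroots) && decide (b ≠ tNeg D a) &&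
    decide (c ≠ tNeg D a) && decide (c ≠ tNeg D b) && decide (tAdd D T a b = some c) &&
    decide (tAdd D T a c = none) && decide (tAdd D T b c = none) && stableB D T a [] R &&
    stableB D T b [] R && stableB D T c [] R

/-- Checker of `SLRoots.PropOK`. -/
noncomputable def propB (P R : List ℕ) (a b c i j : ℕ) : Bool :=
  pairB D T R a b c && pairB D T R b a c && decide (i < D.rank) && decide (j < D.rank) &&
    (R.all fun r => decide (r < D.nroots) && memB ((tSg D T) i r) (R) &&
      memB ((tSg D T) j r) (R)) &&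
    decide ((tSg D T) j ((tSg D T) i b) = a) &&
    decide ((tSg D T) i ((tSg D T) j a) = b) && memB (a) (P) && memB (b) (P) &&
    memB (c) (P) && decide (b ≠ a) && decide (c ≠ a) && decide (c ≠ b) && !memB (a) (R) &&
    (R.all fun r => memB (r) (P)) &&
    P.all fun r => decide (r = a) || decide (r = b) || decide (r = c) || memB (r) (R)

/-- Checker of `SLRoots.SpreadOK`. -/
noncomputable def spreadB (R U keep : List ℕ) (p : ℕ) (L : List (ℕ × ℕ)) : Bool :=
  memB (p) (U) && !memB (p) (R) && L.all fun x =>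
    decide (x.1 < D.nroots) && stableB D T x.1 [] R && stableB D T x.1 R U && memB (x.2) (U) &&
    decide (tAdd D T x.1 x.2 = some p) && decide (tAdd D T x.1 p = none) &&
    (keep.all fun k => decide (tAdd D T x.1 k = none)) &&
    L.all fun y => decide (y.2 = x.2) || decide (tAdd D T x.1 y.2 = none)

/-- Checker of `SLRoots.CellOK`. -/
noncomputable def cellB (R U nodes : List ℕ) (rk : ℕ → ℕ) (a : ℕ) : Bool :=
  memB (a) (U) &&
  (nodes.all fun i => decide (i < D.rank) && decide (D.simple i < D.nroots) &&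
    stableB D T (D.simple i) [] R && stableB D T (D.simple i) R U &&
    (R.all fun s => decide (s < D.nroots) && memB ((tSg D T) i s) (R)) &&
    (U.all fun s => decide (s < D.nroots) && memB ((tSg D T) i s) (U))) &&
  (U.all fun k => !memB (k) (R)) &&
  U.all fun β => decide (β = a) || nodes.any fun i =>
    let β' := (tSg D T) i β
    decide (rk β' + 1 = rk β) && decide (tAdd D T (D.simple i) β' = some β) &&
    decide (tAdd D T (D.simple i) β = none) &&
    U.all fun δ => decide (δ = β) || decide (rk δ + 1 < rk β) ||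
      ((decide (δ = β') || (tAdd D T (D.simple i) δ).all fun k =>
          !memB (k) (U) || (decide (rk β ≤ rk k) && decide (k ≠ β))) &&
       (decide (rk δ < rk β) || (decide ((tSg D T) i δ ≠ β') &&
          decide (rk β ≤ rk ((tSg D T) i δ) + 1))))

/-- Checker of `SLRoots.AbelOK`. -/
noncomputable def abelB (R U : List ℕ) : Bool :=
  U.all fun r => decide (r < D.nroots) && stableB D T r [] R &&
    U.all fun s => decide (s = r) || (decide (s ≠ tNeg D r) && (tAdd D T r s).all fun k => memB (k) (R))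

/-- Checker of `SLRoots.NodesOK`. -/
noncomputable def nodesB (R U w : List ℕ) : Bool :=
  w.all fun i => decide (i < D.rank) &&
    (R.all fun s => decide (s < D.nroots) && memB ((tSg D T) i s) (R)) &&
    (U.all fun s => decide (s < D.nroots) && memB ((tSg D T) i s) (U))

/-- Checker of `SLRoots.TopOK`. -/
noncomputable def topB (R U : List ℕ) (p δ₀ : ℕ) (L₁ Sh : List (ℕ × ℕ)) (W₂ : List (ℕ × List ℕ))
    (W₃ : List (ℕ × ℕ × ℕ)) : Bool :=
  (U.all fun s => decide (s = p) || memB (s) (L₁.map Prod.snd) || memB (s) (W₂.map Prod.fst) ||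
    memB (s) (W₃.map Prod.fst)) &&
  spreadB D T R U [] p L₁ && decide (L₁.map Prod.snd).Nodup &&
  spreadB D T R U [] δ₀ Sh && decide (Sh.map Prod.snd).Nodup &&
  (Sh.all fun x => decide (tAdd D T x.1 p = none) && (L₁.map Prod.snd).all fun δ =>
    (tAdd D T x.1 δ).all fun k => memB (k) (L₁.map Prod.snd) || memB (k) (R)) &&
  (W₂.all fun x => memB (x.1) (U) && nodesB D T R U x.2 &&
    decide (x.2.foldr (tSg D T) δ₀ = x.1) && decide (x.2.foldr (tSg D T) p = p) &&
    (L₁.map Prod.snd).all fun δ => memB (x.2.foldr (tSg D T) δ) (L₁.map Prod.snd)) &&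
  W₃.all fun y => memB (y.1) (U) && decide (y.2.1 < D.nroots) && stableB D T y.2.1 [] R &&
    stableB D T y.2.1 R U && memB (y.2.2) (W₂.map Prod.fst) &&
    decide (tAdd D T y.2.1 y.2.2 = some y.1) && !memB (y.1) (R) &&
    ((tAdd D T y.2.1 p).all fun k => memB (k) (L₁.map Prod.snd) || memB (k) (R)) &&
    (L₁.map Prod.snd).all fun δ =>
      (tAdd D T y.2.1 δ).all fun k => memB (k) (W₂.map Prod.fst) || memB (k) (R)

/-- One witness of `SLRoots.StabOK`: `(γ, node, g₁, g₂)`. -/
noncomputable def stabWitB (R U : List ℕ) (a γ : ℕ) (i : Option ℕ) (g₁ g₂ : ℕ) : Bool :=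
  decide (γ < D.nroots) &&
  (i.all fun j => decide (j < D.rank) && decide ((tSg D T) j a = a) && nodesB D T R U [j]) &&
  decide (g₁ < D.nroots) && decide (g₂ < D.nroots) && decide (g₂ ≠ tNeg D g₁) &&
  stableB D T g₁ [] R && stableB D T g₁ R U && stableB D T g₂ [] R && stableB D T g₂ R U &&
  (U.all fun δ => (tAdd D T g₁ δ).all fun k => decide (k ≠ a)) &&
  (U.all fun δ => (tAdd D T g₂ δ).all fun k => decide (k ≠ a)) &&
  decide (tAdd D T g₁ g₂ = some (match i with | none => γ | some j => (tSg D T) j γ))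

/-- Checker of `SLRoots.StabOK`. -/
noncomputable def stabB (R U P : List ℕ) (a : ℕ) (W : List (ℕ × Option ℕ × ℕ × ℕ)) : Bool :=
  memB (a) (U) && P.all fun γ => memB (γ) (U) || memB (γ) (R) ||
    W.any fun w => decide (w.1 = γ) && stabWitB D T R U a γ w.2.1 w.2.2.1 w.2.2.2

variable {D} {T} {hc : Checked D T} {F : Type*} [Field F] {hcomm : CommOne D T}
  {hshort : shortB D = true}

theorem stableB_spec {r : ℕ} {R U : List ℕ} (h : stableB D T r R U = true) :
    (slChev hc F hcomm hshort).Stable r R U := by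
  simp only [stableB, tAdd_eq hc, tNeg_eq hc, tSg_eq hc, memB_iff, memB_not, Bool.not_eq_true', List.all_eq_true, Bool.and_eq_true, Bool.or_eq_true, decide_eq_true_eq,
    Option.all_eq_true_iff_get] at h
  intro s hs
  refine ⟨(h s hs).1.1, (h s hs).1.2, fun k hk => ?_⟩
  change cAdd D r s = some k at hk
  have := (h s hs).2 (by rw [hk]; rfl)
  simpa [hk] using this

theorem pairB_spec {R : List ℕ} {a b c : ℕ} (h : pairB D T R a b c = true) :
    (slChev hc F hcomm hshort).PairOK R a b c := by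
  simp only [pairB, tAdd_eq hc, tNeg_eq hc, tSg_eq hc, memB_iff, memB_not, Bool.not_eq_true', Bool.and_eq_true, decide_eq_true_eq] at h
  obtain ⟨⟨⟨⟨⟨⟨⟨⟨⟨⟨⟨a1, a2⟩, a3⟩, a4⟩, a5⟩, a6⟩, a7⟩, a8⟩, a9⟩, a10⟩, a11⟩, a12⟩ := h
  exact ⟨a1, a2, a3, a4, a5, a6, a7, a8, a9, stableB_spec a10, stableB_spec a11, stableB_spec a12⟩

theorem propB_spec {P R : List ℕ} {a b c i j : ℕ} (h : propB D T P R a b c i j = true) :
    (slChev hc F hcomm hshort).PropOK P R a b c i j := by
  simp only [propB, tAdd_eq hc, tNeg_eq hc, tSg_eq hc, memB_iff, memB_not, Bool.not_eq_true', Bool.and_eq_true, decide_eq_true_eq, List.all_eq_true, Bool.or_eq_true] at h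
  obtain ⟨⟨⟨⟨⟨⟨⟨⟨⟨⟨⟨⟨⟨⟨⟨a1, a2⟩, a3⟩, a4⟩, a5⟩, a6⟩, a7⟩, a8⟩, a9⟩, a10⟩, a11⟩, a12⟩, a13⟩, a14⟩, a15⟩, a16⟩ := h
  exact ⟨pairB_spec a1, pairB_spec a2, a3, a4, fun r hr => ⟨(a5 r hr).1.1, (a5 r hr).1.2, (a5 r hr).2⟩,
    a6, a7, a8, a9, a10, a11, a12, a13, a14, a15, fun r hr => by
      rcases a16 r hr with ((h | h) | h) | h <;> simp [h]⟩

theorem spreadB_spec {R U keep : List ℕ} {p : ℕ} {L : List (ℕ × ℕ)}
    (h : spreadB D T R U keep p L = true) : (slChev hc F hcomm hshort).SpreadOK R U keep p L := by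
  simp only [spreadB, tAdd_eq hc, tNeg_eq hc, tSg_eq hc, memB_iff, memB_not, Bool.not_eq_true', Bool.and_eq_true, decide_eq_true_eq, List.all_eq_true, Bool.or_eq_true] at h
  refine ⟨h.1.1, h.1.2, fun x hx => ?_⟩
  obtain ⟨⟨⟨⟨⟨⟨⟨a1, a2⟩, a3⟩, a4⟩, a5⟩, a6⟩, a7⟩, a8⟩ := h.2 x hx
  exact ⟨a1, stableB_spec a2, stableB_spec a3, a4, a5, a6, a7,
    fun y hy hne => (a8 y hy).resolve_left hne⟩

theorem cellB_spec {R U nodes : List ℕ} {rk : ℕ → ℕ} {a : ℕ}
    (h : cellB D T R U nodes rk a = true) : (slChev hc F hcomm hshort).CellOK R U nodes rk a := by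
  simp only [cellB, tAdd_eq hc, tNeg_eq hc, tSg_eq hc, memB_iff, memB_not, Bool.not_eq_true', Bool.and_eq_true, decide_eq_true_eq, List.all_eq_true, Bool.or_eq_true,
    List.any_eq_true, Option.all_eq_true_iff_get] at h
  obtain ⟨⟨⟨h1, h2⟩, h3⟩, h4⟩ := h
  refine ⟨h1, fun i hi => ?_, h3, fun β hβ hne => ?_⟩
  · obtain ⟨⟨⟨⟨⟨b1, b2⟩, b3⟩, b4⟩, b5⟩, b6⟩ := h2 i hi
    exact ⟨b1, b2, stableB_spec b3, stableB_spec b4, b5, b6⟩
  · obtain ⟨i, hi, ⟨⟨c1, c2⟩, c3⟩, c4⟩ := (h4 β hβ).resolve_left hne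
    refine ⟨i, hi, c1, c2, c3, fun δ hδ hδne hle => ?_⟩
    obtain ⟨e1, e2⟩ := (c4 δ hδ).resolve_left (by
      rintro (h | h)
      · exact hδne h
      · exact absurd hle (Nat.not_le.2 h))
    refine ⟨fun hδ' k hk hkU => ?_, fun hle' => e2.resolve_left (Nat.not_lt.2 hle')⟩
    change cAdd D (D.simple i) δ = some k at hk
    have := e1.resolve_left hδ' (by rw [hk]; rfl)
    simp only [hk, Option.get_some] at this
    exact this.resolve_left (fun h => h hkU)

theorem abelB_spec {R U : List ℕ} (h : abelB D T R U = true) :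
    (slChev hc F hcomm hshort).AbelOK R U := by
  simp only [abelB, tAdd_eq hc, tNeg_eq hc, tSg_eq hc, memB_iff, memB_not, Bool.not_eq_true', Bool.and_eq_true, decide_eq_true_eq, List.all_eq_true, Bool.or_eq_true,
    Option.all_eq_true_iff_get] at h
  intro r hr
  obtain ⟨⟨a1, a2⟩, a3⟩ := h r hr
  refine ⟨a1, stableB_spec a2, fun s hs hne => ?_⟩
  obtain ⟨b1, b2⟩ := (a3 s hs).resolve_left hne
  refine ⟨b1, fun k hk => ?_⟩
  change cAdd D r s = some k at hk
  simpa [hk] using b2 (by rw [hk]; rfl)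

theorem nodesB_spec {R U w : List ℕ} (h : nodesB D T R U w = true) :
    (slChev hc F hcomm hshort).NodesOK R U w := by
  simp only [nodesB, tAdd_eq hc, tNeg_eq hc, tSg_eq hc, memB_iff, memB_not, Bool.not_eq_true', Bool.and_eq_true, decide_eq_true_eq, List.all_eq_true] at h
  exact fun i hi => ⟨(h i hi).1.1, (h i hi).1.2, (h i hi).2⟩

theorem topB_spec {R U : List ℕ} {p δ₀ : ℕ} {L₁ Sh : List (ℕ × ℕ)} {W₂ : List (ℕ × List ℕ)}
    {W₃ : List (ℕ × ℕ × ℕ)} (h : topB D T R U p δ₀ L₁ Sh W₂ W₃ = true) :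
    (slChev hc F hcomm hshort).TopOK R U p δ₀ L₁ Sh (W₂.map Prod.fst) (W₃.map Prod.fst) := by
  simp only [topB, tAdd_eq hc, tNeg_eq hc, tSg_eq hc, memB_iff, memB_not, Bool.not_eq_true', Bool.and_eq_true, decide_eq_true_eq, List.all_eq_true, Bool.or_eq_true,
    Option.all_eq_true_iff_get] at h
  obtain ⟨⟨⟨⟨⟨⟨⟨h1, h2⟩, h3⟩, h4⟩, h5⟩, hk⟩, h6⟩, h7⟩ := h
  refine ⟨fun s hs => ?_, spreadB_spec h2, h3, spreadB_spec h4, fun x hx => ⟨(hk x hx).1,
    fun δ hδ k hk' => ?_⟩, h5, ?_, ?_, ?_⟩
  · rcases h1 s hs with ((h | h) | h) | h <;> tauto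
  · change cAdd D x.1 δ = some k at hk'
    simpa [hk'] using (hk x hx).2 δ hδ (by rw [hk']; rfl)
  · intro s hs
    obtain ⟨x, hx, rfl⟩ := List.mem_map.1 hs
    exact (h6 x hx).1.1.1.1
  · intro s hs
    obtain ⟨x, hx, rfl⟩ := List.mem_map.1 hs
    obtain ⟨⟨⟨⟨-, a2⟩, a3⟩, a4⟩, a5⟩ := h6 x hx
    exact ⟨x.2, nodesB_spec a2, a3, a4, a5⟩
  · intro x hx
    obtain ⟨y, hy, rfl⟩ := List.mem_map.1 hx
    obtain ⟨⟨⟨⟨⟨⟨⟨⟨a1, a2⟩, a3⟩, a4⟩, a5⟩, a6⟩, a7⟩, a8⟩, a9⟩ := h7 y hy
    refine ⟨a1, y.2.1, y.2.2, a2, stableB_spec a3, stableB_spec a4, a5, a6, a7,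
      fun k hk => ?_, fun δ hδ k hk => ?_⟩
    · change cAdd D y.2.1 p = some k at hk
      simpa [hk] using a8 (by rw [hk]; rfl)
    · change cAdd D y.2.1 δ = some k at hk
      simpa [hk] using a9 δ hδ (by rw [hk]; rfl)

theorem stabB_spec {R U P : List ℕ} {a : ℕ} {W : List (ℕ × Option ℕ × ℕ × ℕ)}
    (h : stabB D T R U P a W = true) : (slChev hc F hcomm hshort).StabOK R U P a := by
  simp only [stabB, tAdd_eq hc, tNeg_eq hc, tSg_eq hc, memB_iff, memB_not, Bool.not_eq_true', stabWitB, Bool.and_eq_true, decide_eq_true_eq, List.all_eq_true,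
    List.any_eq_true, Bool.or_eq_true, Option.all_eq_true_iff_get] at h
  obtain ⟨ha, hP⟩ := h
  refine ⟨ha, fun γ hγ => ?_⟩
  rcases hP γ hγ with (h | h) | ⟨w, -, -, hw⟩
  · exact Or.inl h
  · exact Or.inr (Or.inl h)
  obtain ⟨⟨⟨⟨⟨⟨⟨⟨⟨⟨⟨b1, b2⟩, b3⟩, b4⟩, b5⟩, b6⟩, b7⟩, b8⟩, b9⟩, b10⟩, b11⟩, b12⟩ := hw
  refine Or.inr (Or.inr ⟨b1, w.2.1, ?_, w.2.2.1, w.2.2.2, b3, b4, b5, stableB_spec b6,
    stableB_spec b7, stableB_spec b8, stableB_spec b9, fun δ hδ k hk => ?_, fun δ hδ k hk => ?_, b12⟩)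
  · cases hi : w.2.1 with
    | none => exact Or.inl rfl
    | some j =>
      have := b2 (by rw [hi]; rfl)
      simp only [hi, Option.get_some] at this
      exact Or.inr ⟨j, rfl, this.1.1, this.1.2, nodesB_spec this.2⟩
  · change cAdd D w.2.2.1 δ = some k at hk
    simpa [hk] using b10 δ hδ (by rw [hk]; rfl)
  · change cAdd D w.2.2.2 δ = some k at hk
    simpa [hk] using b11 δ hδ (by rw [hk]; rfl)

end Checkers

end CfsgLib.MinDeg
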