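import Cfsg.Agent.Lib.MinDeg.SlEigen

/-!
# Families of weights: spreading by root elements, and the cells of an orbit
-/

set_option autoImplicit false
set_option linter.unusedSectionVars false

namespace CfsgLib.MinDeg.SLRoots

open Module

variable {F : Type*} [Field F] [Fintype F] {G : Type*} [Group G] (S : SLRoots F G)
variable {V : Type*} [AddCommGroup V] [Module ℂ V] [FiniteDimensional ℂ V]
  (ρ : Representation ℂ G V)

/-- A family of distinct weights, each of multiplicity at least `m`. -/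
structure Fam (R U : List ℕ) (m : ℕ) (T : Finset (Slots F)) : Prop where
  sep : ∀ ψ ∈ T, ∀ ψ' ∈ T, AgreeOn U ψ ψ' → ψ = ψ'
  rank : ∀ ψ ∈ T, m ≤ finrank ℂ (S.eig ρ R U ψ)

theorem Fam.card_le {R U : List ℕ} {m : ℕ} {T : Finset (Slots F)} (h : S.Fam ρ R U m T) :
    T.card * m ≤ finrank ℂ (S.fix ρ R) :=
  calc T.card * m = ∑ _ψ ∈ T, m := by simp
    _ ≤ ∑ ψ ∈ T, finrank ℂ (S.eig ρ R U ψ) := Finset.sum_le_sum h.rank
    _ ≤ _ := S.sum_eig_le ρ R U T h.sep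

theorem Fam.card_add_fix_le {R U : List ℕ} {m : ℕ} {T : Finset (Slots F)} (h : S.Fam ρ R U m T)
    (hT : ∀ ψ ∈ T, ¬ AgreeOn U ψ (fun _ _ => 1)) :
    finrank ℂ (S.fix ρ (R ++ U)) + T.card * m ≤ finrank ℂ (S.fix ρ R) := by
  classical
  let one : Slots F := fun _ _ => 1
  have hone : one ∉ T := fun h1 => hT one h1 fun _ _ _ => rfl
  have hle : S.fix ρ (R ++ U) ≤ S.eig ρ R U one := fun v hv =>
    ⟨fun r hr => hv r (List.mem_append.2 (Or.inl hr)), fun r hr t => by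
      rw [hv r (List.mem_append.2 (Or.inr hr)) t, one_smul]⟩
  have hsum := S.sum_eig_le ρ R U (insert one T) (by
    intro ψ hψ ψ' hψ' e
    rcases Finset.mem_insert.1 hψ with rfl | hψ <;> rcases Finset.mem_insert.1 hψ' with rfl | hψ'
    · rfl
    · exact absurd (fun r hr t => (e r hr t).symm) (hT ψ' hψ')
    · exact absurd e (hT ψ hψ)
    · exact h.sep ψ hψ ψ' hψ' e)
  rw [Finset.sum_insert hone] at hsum
  calc finrank ℂ (S.fix ρ (R ++ U)) + T.card * m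
      = finrank ℂ (S.fix ρ (R ++ U)) + ∑ _ψ ∈ T, m := by simp
    _ ≤ finrank ℂ (S.eig ρ R U one) + ∑ ψ ∈ T, finrank ℂ (S.eig ρ R U ψ) :=
        Nat.add_le_add (Submodule.finrank_mono hle) (Finset.sum_le_sum h.rank)
    _ ≤ _ := hsum

/-- The restriction of a weight that occurs to one root is an additive character. -/
theorem slot_char {R U : List ℕ} {ψ : Slots F} (h : 0 < finrank ℂ (S.eig ρ R U ψ)) {r : ℕ}
    (hr : r ∈ U) : ∃ χ : AddChar F ℂ, ∀ t, ψ r t = χ t := by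
  obtain ⟨v, hv, hv0⟩ := Submodule.exists_mem_ne_zero_of_ne_bot (p := S.eig ρ R U ψ)
    (fun hb => by rw [hb, finrank_bot] at h; exact lt_irrefl _ h)
  refine ⟨⟨ψ r, S.wt_one ρ hv0 hv hr, fun a b => smul_left_injective ℂ hv0 ?_⟩, fun t => rfl⟩
  show ψ r (a + b) • v = (ψ r a * ψ r b) • v
  rw [← hv.2 r hr, AddChar.map_add_eq_mul, map_mul, Module.End.mul_apply, hv.2 r hr b, map_smul,
    hv.2 r hr a, smul_smul, mul_comm]

/-- A non-trivial character separates the scalars. -/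
theorem scalar_eq {χ : AddChar F ℂ} (hχ : χ ≠ 0) {c a a' : F} (hc : c ≠ 0)
    (h : ∀ t, χ (c * a * t) = χ (c * a' * t)) : a = a' := by
  by_contra hne
  obtain ⟨r, hr⟩ := AddChar.ne_zero_iff.1 hχ
  have hd : c * a - c * a' ≠ 0 := by
    rw [← mul_sub]; exact mul_ne_zero hc (sub_ne_zero.2 hne)
  apply hr
  have e := h ((c * a - c * a')⁻¹ * r)
  have e2 : c * a * ((c * a - c * a')⁻¹ * r) = r + c * a' * ((c * a - c * a')⁻¹ * r) := by
    rw [← sub_eq_iff_eq_add, ← sub_mul, mul_inv_cancel_left₀ hd]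
  rw [e2, AddChar.map_add_eq_mul] at e
  exact (mul_eq_right₀ (χ.val_isUnit _).ne_zero).1 e

/-- One spreading step: the `q` translates of each member by the root `γ` carrying slot `δ` to `p`. -/
theorem spread_step {R U : List ℕ} {m : ℕ} (hm : 0 < m) {T : Finset (Slots F)}
    (h : S.Fam ρ R U m T) {γ δ p : ℕ} (hγ : γ < S.num) (hR : S.Stable γ [] R)
    (hU : S.Stable γ R U) (hδ : δ ∈ U) (hp : p ∈ U) (hpR : p ∉ R) (hadd : S.add γ δ = some p)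
    {χ : AddChar F ℂ} (hχ : χ ≠ 0) (hχp : ∀ ψ ∈ T, ∀ t, ψ p t = χ t)
    (hδT : ∀ ψ ∈ T, ∀ ψ' ∈ T, ∀ t, ψ δ t = ψ' δ t) :
    ∃ T' : Finset (Slots F), S.Fam ρ R U m T' ∧ T'.card = T.card * Fintype.card F ∧
      ∀ ψ' ∈ T', ∃ ψ ∈ T, (∀ k, S.add γ k = none → ∀ t, ψ' k t = ψ k t) ∧
        ∃ a, ψ' = S.shift R ψ γ a := by
  classical
  have pos : ∀ ψ ∈ T, 0 < finrank ℂ (S.eig ρ R U ψ) := fun ψ hψ => hm.trans_le (h.rank ψ hψ)
  have hc := (S.comm_some γ δ p hγ (hU δ hδ).1 (hU δ hδ).2.1 hadd).2.1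
  let f : Slots F × F → Slots F := fun x => S.shift R x.1 γ x.2
  have hinj : ∀ x ∈ T ×ˢ (Finset.univ : Finset F), ∀ y ∈ T ×ˢ (Finset.univ : Finset F),
      AgreeOn U (f x) (f y) → x = y := by
    rintro ⟨ψ, a⟩ hx ⟨ψ', a'⟩ hy e
    obtain ⟨hψ, -⟩ := Finset.mem_product.1 hx
    obtain ⟨hψ', -⟩ := Finset.mem_product.1 hy
    obtain rfl : a = a' := by
      refine scalar_eq hχ hc fun t => ?_
      have e1 := e δ hδ t
      simp only [f, shift, shiftVal, hadd, if_neg hpR] at e1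
      obtain ⟨χ', hχ'⟩ := S.slot_char ρ (pos ψ hψ) hδ
      rw [hχp ψ hψ, hχp ψ' hψ', hδT ψ' hψ' ψ hψ, hχ'] at e1
      exact mul_left_cancel₀ (χ'.val_isUnit t).ne_zero e1
    rw [h.sep ψ hψ ψ' hψ' (S.shift_inj ρ hγ hR hU a (pos ψ hψ) (pos ψ' hψ') e)]
  refine ⟨(T ×ˢ Finset.univ).image f, ⟨fun ψ hψ ψ' hψ' e => ?_, fun ψ hψ => ?_⟩, ?_, fun ψ hψ => ?_⟩
  · obtain ⟨x, hx, rfl⟩ := Finset.mem_image.1 hψ
    obtain ⟨y, hy, rfl⟩ := Finset.mem_image.1 hψ'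
    rw [hinj x hx y hy e]
  · obtain ⟨x, hx, rfl⟩ := Finset.mem_image.1 hψ
    exact (h.rank x.1 (Finset.mem_product.1 hx).1).trans (S.shift_rank ρ hγ hR hU _ _)
  · rw [Finset.card_image_of_injOn (fun x hx y hy e => hinj x hx y hy fun r _ t => by rw [e]),
      Finset.card_product, Finset.card_univ]
  · obtain ⟨x, hx, rfl⟩ := Finset.mem_image.1 hψ
    exact ⟨x.1, (Finset.mem_product.1 hx).1, fun k hk t => by simp [f, shift, shiftVal, hk], x.2, rfl⟩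

/-- The conditions for spreading along a list of pairs (mover, slot). -/
def SpreadOK (R U keep : List ℕ) (p : ℕ) (L : List (ℕ × ℕ)) : Prop :=
  p ∈ U ∧ p ∉ R ∧ ∀ x ∈ L, x.1 < S.num ∧ S.Stable x.1 [] R ∧ S.Stable x.1 R U ∧ x.2 ∈ U ∧
    S.add x.1 x.2 = some p ∧ S.add x.1 p = none ∧ (∀ k ∈ keep, S.add x.1 k = none) ∧
    ∀ y ∈ L, y.2 ≠ x.2 → S.add x.1 y.2 = none

/-- Spreading along a list. -/
theorem spread {R U keep : List ℕ} {m : ℕ} (hm : 0 < m) {χ : AddChar F ℂ} (hχ : χ ≠ 0) {p : ℕ}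
    (L : List (ℕ × ℕ)) (hL : S.SpreadOK R U keep p L) (hnd : (L.map Prod.snd).Nodup)
    {T : Finset (Slots F)} (h : S.Fam ρ R U m T) (hχp : ∀ ψ ∈ T, ∀ t, ψ p t = χ t)
    (hδT : ∀ x ∈ L, ∀ ψ ∈ T, ∀ ψ' ∈ T, ∀ t, ψ x.2 t = ψ' x.2 t) :
    ∃ T' : Finset (Slots F), S.Fam ρ R U m T' ∧ T'.card = T.card * Fintype.card F ^ L.length ∧
      (∀ ψ' ∈ T', ∀ t, ψ' p t = χ t) ∧
      ∀ ψ' ∈ T', ∃ ψ ∈ T, ∀ k ∈ keep, ∀ t, ψ' k t = ψ k t := by
  induction L generalizing T with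
  | nil => exact ⟨T, h, by simp, hχp, fun ψ hψ => ⟨ψ, hψ, fun _ _ _ => rfl⟩⟩
  | cons x L ih =>
    obtain ⟨hp, hpR, hx⟩ := hL
    obtain ⟨hγ, hR, hU, hδ, hadd, hγp, hkeep, hoth⟩ := hx x List.mem_cons_self
    rw [List.map_cons, List.nodup_cons] at hnd
    obtain ⟨T₁, h₁, hc₁, hval⟩ :=
      S.spread_step ρ hm h hγ hR hU hδ hp hpR hadd hχ hχp (hδT x List.mem_cons_self)
    have hp₁ : ∀ ψ ∈ T₁, ∀ t, ψ p t = χ t := fun ψ hψ t => by
      obtain ⟨ψ₀, h0, e, -⟩ := hval ψ hψ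
      rw [e p hγp, hχp ψ₀ h0]
    have hδ₁ : ∀ y ∈ L, ∀ ψ ∈ T₁, ∀ ψ' ∈ T₁, ∀ t, ψ y.2 t = ψ' y.2 t := by
      intro y hy ψ hψ ψ' hψ' t
      have hne : y.2 ≠ x.2 := fun e => hnd.1 (List.mem_map.2 ⟨y, hy, e⟩)
      have hn := hoth y (List.mem_cons_of_mem _ hy) hne
      obtain ⟨ψ₀, h0, e, -⟩ := hval ψ hψ
      obtain ⟨ψ₀', h0', e', -⟩ := hval ψ' hψ'
      rw [e _ hn, e' _ hn, hδT y (List.mem_cons_of_mem _ hy) ψ₀ h0 ψ₀' h0']
    have hL' : S.SpreadOK R U keep p L := ⟨hp, hpR, fun y hy => by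
      obtain ⟨a, b, c, d, e, f, g, i⟩ := hx y (List.mem_cons_of_mem _ hy)
      exact ⟨a, b, c, d, e, f, g, fun w hw => i w (List.mem_cons_of_mem _ hw)⟩⟩
    obtain ⟨T', h', hc', hp', hk'⟩ := ih hL' hnd.2 h₁ hp₁ hδ₁
    refine ⟨T', h', ?_, hp', fun ψ hψ => ?_⟩
    · rw [hc', hc₁, List.length_cons, pow_succ]; ring
    · obtain ⟨ψ₁, h1, e1⟩ := hk' ψ hψ
      obtain ⟨ψ₀, h0, e0, -⟩ := hval ψ₁ h1
      exact ⟨ψ₀, h0, fun k hk t => by rw [e1 k hk t, e0 k (hkeep k hk) t]⟩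

/-- The conditions on a layer: nodes of its Levi part and a rank function on its roots. -/
def CellOK (R U nodes : List ℕ) (rk : ℕ → ℕ) (a : ℕ) : Prop :=
  a ∈ U ∧ (∀ i ∈ nodes, i < S.rk ∧ S.simple i < S.num ∧ S.Stable (S.simple i) [] R ∧
    S.Stable (S.simple i) R U ∧ (∀ s ∈ R, s < S.num ∧ S.sg i s ∈ R) ∧
    (∀ s ∈ U, s < S.num ∧ S.sg i s ∈ U)) ∧
  (∀ k ∈ U, k ∉ R) ∧
  ∀ β ∈ U, β ≠ a → ∃ i ∈ nodes, rk (S.sg i β) + 1 = rk β ∧
    S.add (S.simple i) (S.sg i β) = some β ∧ S.add (S.simple i) β = none ∧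
    ∀ δ ∈ U, δ ≠ β → rk β ≤ rk δ + 1 →
      (δ ≠ S.sg i β → ∀ k, S.add (S.simple i) δ = some k → k ∈ U → rk β ≤ rk k ∧ k ≠ β) ∧
      (rk β ≤ rk δ → S.sg i δ ≠ S.sg i β ∧ rk β ≤ rk (S.sg i δ) + 1)

/-- `β` is the highest root of the support. -/
def TopAt (U : List ℕ) (rk : ℕ → ℕ) (β : ℕ) (ψ : Slots F) : Prop :=
  (∃ t, ψ β t ≠ 1) ∧ ∀ δ ∈ U, δ ≠ β → rk β ≤ rk δ → ∀ t, ψ δ t = 1

theorem cell {R U nodes : List ℕ} {rk : ℕ → ℕ} {a m : ℕ} (hm : 0 < m)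
    (hok : S.CellOK R U nodes rk a) {T : Finset (Slots F)} (hT : S.Fam ρ R U m T)
    (hTa : ∀ ψ ∈ T, TopAt U rk a ψ) : ∀ β ∈ U, ∃ T' : Finset (Slots F), S.Fam ρ R U m T' ∧
      T.card * Fintype.card F ^ (rk β - rk a) ≤ T'.card ∧ ∀ ψ ∈ T', TopAt U rk β ψ := by
  classical
  obtain ⟨haU, hnodes, hUR, hstep⟩ := hok
  suffices ∀ n, ∀ β ∈ U, rk β = n → ∃ T' : Finset (Slots F), S.Fam ρ R U m T' ∧
      T.card * Fintype.card F ^ (rk β - rk a) ≤ T'.card ∧ ∀ ψ ∈ T', TopAt U rk β ψ from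
    fun β hβ => this _ β hβ rfl
  intro n
  induction n using Nat.strong_induction_on with
  | _ n ih =>
    intro β hβ hn
    by_cases hβa : β = a
    · subst hβa; exact ⟨T, hT, by simp, hTa⟩
    obtain ⟨i, hi, hrk, hadd, hnone, hcond⟩ := hstep β hβ hβa
    obtain ⟨hir, his, hRs, hUs, hRr, hUr⟩ := hnodes i hi
    set β' := S.sg i β with hβ'
    have hβ'U : β' ∈ U := (hUr β hβ).2
    obtain ⟨T₀, h₀, hc₀, htop⟩ := ih (rk β') (by omega) β' hβ'U rfl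
    have hsg : S.sg i β' = β := S.sg_sg i β hir (hUr β hβ).1
    have hne : β ≠ β' := fun e => by rw [← e] at hrk; omega
    -- after the reflection
    have top1 : ∀ ψ ∈ T₀, (∀ t, S.refl ψ i β' t = 1) ∧
        (∀ δ ∈ U, δ ≠ β → rk β ≤ rk δ → ∀ t, S.refl ψ i δ t = 1) ∧
        ∃ t, S.refl ψ i β t ≠ 1 := by
      intro ψ hψ
      obtain ⟨⟨t, ht⟩, hrest⟩ := htop ψ hψ
      refine ⟨fun t => ?_, fun δ hδ hδne hδrk t => ?_, ?_⟩
      · show ψ (S.sg i β') _ = 1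
        rw [hsg]
        exact hrest β hβ hne (by omega) _
      · obtain ⟨h1, h2⟩ := (hcond δ hδ hδne (by omega)).2 hδrk
        exact hrest _ (hUr δ hδ).2 h1 (by omega) _
      · refine ⟨(S.nc i β)⁻¹ * t, ?_⟩
        show ψ β' _ ≠ 1
        rwa [mul_inv_cancel_left₀ (S.nc_ne i β hir (hUr β hβ).1)]
    have hc := (S.comm_some _ _ _ his (hUr β' hβ'U).1 (hUs β' hβ'U).2.1 hadd).2.1
    have pos : ∀ ψ ∈ T₀, 0 < finrank ℂ (S.eig ρ R U (S.refl ψ i)) := fun ψ hψ =>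
      hm.trans_le ((h₀.rank ψ hψ).trans (S.refl_rank ρ hir hRr hUr ψ))
    have sval : ∀ ψ ∈ T₀, ∀ c t, S.shift R (S.refl ψ i) (S.simple i) c β' t =
        S.refl ψ i β (S.coef (S.simple i) β' * c * t) := by
      intro ψ hψ c t
      simp only [shift, shiftVal, hadd, if_neg (hUR β hβ), (top1 ψ hψ).1, one_mul]
    let f : Slots F × F → Slots F := fun x => S.shift R (S.refl x.1 i) (S.simple i) x.2
    have fval : ∀ ψ ∈ T₀, ∀ c, ∀ δ ∈ U, δ ≠ β' → rk β ≤ rk δ + 1 → δ ≠ β → ∀ t,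
        f (ψ, c) δ t = S.refl ψ i δ t := by
      intro ψ hψ c δ hδ hδ' hδrk hδne t
      show _ * _ = _
      have hone : S.shiftVal R (S.refl ψ i) (S.simple i) c δ t = 1 := by
        unfold shiftVal
        cases hk : S.add (S.simple i) δ with
        | none => rfl
        | some k =>
          by_cases hkR : k ∈ R
          · simp [hkR]
          · simp only [hkR, if_false]
            have hkU := ((hUs δ hδ).2.2 k hk).resolve_right hkR
            obtain ⟨h1, h2⟩ := (hcond δ hδ hδne hδrk).1 hδ' k hk hkU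
            exact (top1 ψ hψ).2.1 k hkU h2 h1 _
      rw [hone, mul_one]
    have hinj : ∀ x ∈ T₀ ×ˢ (Finset.univ : Finset F), ∀ y ∈ T₀ ×ˢ (Finset.univ : Finset F),
        AgreeOn U (f x) (f y) → x = y := by
      rintro ⟨ψ, c⟩ hx ⟨ψ', c'⟩ hy e
      obtain ⟨hψ, -⟩ := Finset.mem_product.1 hx
      obtain ⟨hψ', -⟩ := Finset.mem_product.1 hy
      obtain ⟨χ, hχ⟩ := S.slot_char ρ (pos ψ hψ) hβ
      obtain ⟨χ', hχ'⟩ := S.slot_char ρ (pos ψ' hψ') hβ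
      have eβ : ∀ t, χ t = χ' t := by
        intro t
        have e1 := e β hβ t
        have hb : ∀ φ ∈ T₀, ∀ c, f (φ, c) β t = S.refl φ i β t := by
          intro φ hφ c
          show _ * _ = _
          have hone : S.shiftVal R (S.refl φ i) (S.simple i) c β t = 1 := by
            unfold shiftVal; rw [hnone]
          rw [hone, mul_one]
        rwa [hb ψ hψ, hb ψ' hψ', hχ, hχ'] at e1
      have hχne : χ ≠ 0 := fun h0 => by
        obtain ⟨t, ht⟩ := (top1 ψ hψ).2.2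
        exact ht (by rw [hχ, h0, AddChar.zero_apply])
      obtain rfl : c = c' := scalar_eq hχne hc fun t => by
        have e1 := e β' hβ'U t
        simp only [f] at e1
        rwa [sval ψ hψ, sval ψ' hψ', hχ, hχ', ← eβ] at e1
      rw [h₀.sep ψ hψ ψ' hψ'
        (S.refl_inj hir hUr (S.shift_inj ρ his hRs hUs c (pos ψ hψ) (pos ψ' hψ') e))]
    refine ⟨(T₀ ×ˢ Finset.univ).image f, ⟨fun ψ hψ ψ' hψ' e => ?_, fun ψ hψ => ?_⟩, ?_, fun ψ hψ => ?_⟩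
    · obtain ⟨x, hx, rfl⟩ := Finset.mem_image.1 hψ
      obtain ⟨y, hy, rfl⟩ := Finset.mem_image.1 hψ'
      rw [hinj x hx y hy e]
    · obtain ⟨x, hx, rfl⟩ := Finset.mem_image.1 hψ
      exact (h₀.rank x.1 (Finset.mem_product.1 hx).1).trans
        ((S.refl_rank ρ hir hRr hUr _).trans (S.shift_rank ρ his hRs hUs _ _))
    · rw [Finset.card_image_of_injOn (fun x hx y hy e => hinj x hx y hy fun r _ t => by rw [e]),
        Finset.card_product, Finset.card_univ]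
      refine le_trans ?_ (Nat.mul_le_mul_right _ hc₀)
      rw [mul_assoc, ← pow_succ]
      exact Nat.mul_le_mul_left _ (Nat.pow_le_pow_right Fintype.card_pos (by omega))
    · obtain ⟨⟨φ, c⟩, hx, rfl⟩ := Finset.mem_image.1 hψ
      have hφ := (Finset.mem_product.1 hx).1
      refine ⟨?_, fun δ hδ hδne hδrk t => ?_⟩
      · obtain ⟨t, ht⟩ := (top1 φ hφ).2.2
        refine ⟨t, ?_⟩
        show _ * _ ≠ _
        have hone : S.shiftVal R (S.refl φ i) (S.simple i) c β t = 1 := by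
          unfold shiftVal; rw [hnone]
        rwa [hone, mul_one]
      · rw [fval φ hφ c δ hδ (fun e => by rw [e] at hδrk; omega) (by omega) hδne]
        exact (top1 φ hφ).2.1 δ hδ hδne hδrk t

end CfsgLib.MinDeg.SLRoots
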