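import Mathlib

/-!
# No character degree lies just below the bounds for E6 and E8
-/

set_option autoImplicit false
set_option maxHeartbeats 2000000
set_option exponentiation.threshold 1000

namespace CfsgLib.MinDeg.SlNum

theorem strip {d A B c : ℤ} {m : ℕ} (hb : ∃ u v, u * d + v * B = c) (h : d ∣ A * B ^ m) :
    d ∣ A * c ^ m := by
  obtain ⟨u, v, e⟩ := hb
  induction m generalizing A with
  | zero => simpa using h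
  | succ m ih =>
    have h1 : d ∣ A * B ^ m * c := by
      rw [← e, mul_add]
      refine dvd_add ⟨A * B ^ m * u, by ring⟩ ?_
      exact (dvd_mul_of_dvd_left h v).trans (dvd_of_eq (by ring))
    have h2 := ih (A := A * c) (h1.trans (dvd_of_eq (by ring)))
    exact h2.trans (dvd_of_eq (by ring))

theorem strip_head {d K B X c : ℤ} {m : ℕ} (hb : ∃ u v, u * d + v * B = c)
    (h : d ∣ K * (B ^ m * X)) : d ∣ K * c ^ m * X :=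
  (strip hb (h.trans (dvd_of_eq (show K * (B ^ m * X) = K * X * B ^ m by ring)))).trans
    (dvd_of_eq (by ring))

theorem dvd_small {q d j N X : ℕ} (hq : IsPrimePow q) (hjq : j < q) (hj : 1 ≤ j) (hdj : q ∣ d + j)
    (h : d ∣ q ^ N * X) : d ∣ j * X := by
  obtain ⟨a, b, ha, hb, rfl⟩ := Nat.dvd_mul.1 h
  refine Nat.mul_dvd_mul ?_ hb
  obtain ⟨p, n, hp, -, rfl⟩ := hq
  have hp : p.Prime := hp.nat_prime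
  have ha' : a ∣ p ^ (n * N) := by rw [pow_mul]; exact ha
  obtain ⟨i, -, rfl⟩ := (Nat.dvd_prime_pow hp).1 ha'
  rcases le_or_gt n i with hni | hin
  · exact absurd (Nat.le_of_dvd hj ((Nat.dvd_add_right (Dvd.dvd.mul_right (pow_dvd_pow p hni) b)).1
      hdj)) (by omega)
  · exact (Nat.dvd_add_right (Dvd.intro b rfl)).1 ((pow_dvd_pow p hin.le).trans hdj)

theorem facE6_2 (q : ℤ) : q ^ 2 - 1 = ((-1) + (1) * q) * ((1) + (1) * q) := by ring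

theorem facE6_5 (q : ℤ) : q ^ 5 - 1 = ((-1) + (1) * q) * ((1) + (1) * q + (1) * q ^ 2 + (1) * q ^ 3 + (1) * q ^ 4) := by ring

theorem facE6_6 (q : ℤ) : q ^ 6 - 1 = ((-1) + (1) * q) * ((1) + (1) * q) * ((1) + (1) * q + (1) * q ^ 2) * ((1) + (-1) * q + (1) * q ^ 2) := by ring

theorem facE6_8 (q : ℤ) : q ^ 8 - 1 = ((-1) + (1) * q) * ((1) + (1) * q) * ((1) + (1) * q ^ 2) * ((1) + (1) * q ^ 4) := by ring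

theorem facE6_9 (q : ℤ) : q ^ 9 - 1 = ((-1) + (1) * q) * ((1) + (1) * q + (1) * q ^ 2) * ((1) + (1) * q ^ 3 + (1) * q ^ 6) := by ring

theorem facE6_12 (q : ℤ) : q ^ 12 - 1 = ((-1) + (1) * q) * ((1) + (1) * q) * ((1) + (1) * q + (1) * q ^ 2) * ((1) + (1) * q ^ 2) * ((1) + (-1) * q + (1) * q ^ 2) * ((1) + (-1) * q ^ 2 + (1) * q ^ 4) := by ring

/-- The order polynomial of `E6` without its power of `q`. -/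
theorem cycloE6 (q : ℤ) : (q ^ 2 - 1) * (q ^ 5 - 1) * (q ^ 6 - 1) * (q ^ 8 - 1) * (q ^ 9 - 1) * (q ^ 12 - 1) =
    (((-1) + (1) * q) * ((1) + (1) * q)) * (((-1) + (1) * q) * ((1) + (1) * q + (1) * q ^ 2 + (1) * q ^ 3 + (1) * q ^ 4)) * (((-1) + (1) * q) * ((1) + (1) * q) * ((1) + (1) * q + (1) * q ^ 2) * ((1) + (-1) * q + (1) * q ^ 2)) * (((-1) + (1) * q) * ((1) + (1) * q) * ((1) + (1) * q ^ 2) * ((1) + (1) * q ^ 4)) * (((-1) + (1) * q) * ((1) + (1) * q + (1) * q ^ 2) * ((1) + (1) * q ^ 3 + (1) * q ^ 6)) * (((-1) + (1) * q) * ((1) + (1) * q) * ((1) + (1) * q + (1) * q ^ 2) * ((1) + (1) * q ^ 2) * ((1) + (-1) * q + (1) * q ^ 2) * ((1) + (-1) * q ^ 2 + (1) * q ^ 4)) := by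
  rw [facE6_12 q, facE6_9 q, facE6_8 q, facE6_6 q, facE6_5 q, facE6_2 q]

theorem smallE6 : ∀ q ∈ List.range 235, 2 ≤ q → ∀ j ∈ List.range 7, 1 ≤ j → ¬ (q = 2 ∧ j = 2) → ¬ (q = 4 ∧ j = 4) →
    ¬ (q * (q ^ 6 + q ^ 3 + 1) * (q ^ 4 + 1) - j) ∣ q ^ 36 * ((q ^ 2 - 1) * (q ^ 5 - 1) * (q ^ 6 - 1) * (q ^ 8 - 1) * (q ^ 9 - 1) * (q ^ 12 - 1)) := by
  decide +kernel

theorem permE6_1 (p1 p2 p3 p4 p5 p6 p8 p9 p12 : ℤ) :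
    1 * ((p1 * p2) * (p1 * p5) * (p1 * p2 * p3 * p6) * (p1 * p2 * p4 * p8) * (p1 * p3 * p9) * (p1 * p2 * p3 * p4 * p6 * p12)) = p6 * (1 * (p1 ^ 6 * (p2 ^ 4 * (p3 ^ 3 * (p4 ^ 2 * (p5 ^ 1 * (p6 ^ 1 * (p8 ^ 1 * (p9 ^ 1 * (p12 ^ 1 * (1))))))))))) := by
  ring

theorem noE6_1 (q d : ℤ) (hq : 235 ≤ q) (hd : d + 1 = q * (q ^ 6 + q ^ 3 + 1) * (q ^ 4 + 1))
    (h : d ∣ 1 * ((q ^ 2 - 1) * (q ^ 5 - 1) * (q ^ 6 - 1) * (q ^ 8 - 1) * (q ^ 9 - 1) * (q ^ 12 - 1))) : False := by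
  rw [cycloE6] at h
  have h0 := h.trans (dvd_of_eq (permE6_1 ((-1) + (1) * q) ((1) + (1) * q) ((1) + (1) * q + (1) * q ^ 2) ((1) + (1) * q ^ 2) ((1) + (1) * q + (1) * q ^ 2 + (1) * q ^ 3 + (1) * q ^ 4) ((1) + (-1) * q + (1) * q ^ 2) ((1) + (1) * q ^ 4) ((1) + (1) * q ^ 3 + (1) * q ^ 6) ((1) + (-1) * q ^ 2 + (1) * q ^ 4)))
  obtain ⟨d', rfl⟩ : ∃ d', d = ((1) + (-1) * q + (1) * q ^ 2) * d' :=
    ⟨(-1) + (1) * q ^ 2 + (1) * q ^ 3 + (1) * q ^ 4 + (1) * q ^ 5 + (1) * q ^ 8 + (1) * q ^ 9, by linear_combination hd⟩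
  have hgpos : (0 : ℤ) < (1) + (-1) * q + (1) * q ^ 2 := by
    obtain ⟨t, ht, rfl⟩ : ∃ t, 0 ≤ t ∧ q = t + 235 := ⟨q - 235, by linarith, by ring⟩
    ring_nf; positivity
  have hgub : (0 : ℤ) < q ^ 3 - ((1) + (-1) * q + (1) * q ^ 2) := by
    obtain ⟨t, ht, rfl⟩ : ∃ t, 0 ≤ t ∧ q = t + 235 := ⟨q - 235, by linarith, by ring⟩
    ring_nf; positivity
  have hg0 : ((1) + (-1) * q + (1) * q ^ 2) ≠ (0 : ℤ) := hgpos.ne'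
  have hd' : d' = (-1) + (1) * q ^ 2 + (1) * q ^ 3 + (1) * q ^ 4 + (1) * q ^ 5 + (1) * q ^ 8 + (1) * q ^ 9 := mul_left_cancel₀ hg0 (by linear_combination hd)
  have h1 := (mul_dvd_mul_iff_left hg0).1 h0
  have h2 := strip_head (c := 5) ⟨(1), (-6) + (-6) * q + (-5) * q ^ 2 + (-4) * q ^ 3 + (-3) * q ^ 4 + (-2) * q ^ 5 + (-2) * q ^ 6 + (-2) * q ^ 7 + (-1) * q ^ 8, by rw [hd']; ring⟩ h1
  have h3 := strip_head (c := 1) ⟨(-1), (1) * q ^ 2 + (1) * q ^ 4 + (1) * q ^ 8, by rw [hd']; ring⟩ h2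
  have h4 := strip_head (c := 2) ⟨(1) * q, (2) + (-1) * q + (-1) * q ^ 2 + (1) * q ^ 3 + (-1) * q ^ 4 + (-1) * q ^ 5 + (1) * q ^ 6 + (-1) * q ^ 8, by rw [hd']; ring⟩ h3
  have h5 := strip_head (c := 1) ⟨(-1) * q, (1) + (-1) * q + (-1) * q ^ 2 + (2) * q ^ 3 + (2) * q ^ 4 + (-1) * q ^ 5 + (-1) * q ^ 6 + (1) * q ^ 7 + (1) * q ^ 8, by rw [hd']; ring⟩ h4
  have h6 := strip_head (c := 5) ⟨(-4) + (2) * q + (-2) * q ^ 2 + (-1) * q ^ 3, (1) + (1) * q + (-1) * q ^ 3 + (3) * q ^ 4 + (2) * q ^ 5 + (-3) * q ^ 6 + (2) * q ^ 7 + (1) * q ^ 8, by rw [hd']; ring⟩ h5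
  have h7 := strip_head (c := 4) ⟨(-1), (3) + (3) * q + (1) * q ^ 2 + (-1) * q ^ 3 + (-1) * q ^ 4 + (1) * q ^ 5 + (2) * q ^ 6 + (1) * q ^ 7, by rw [hd']; ring⟩ h6
  have h8 := strip_head (c := 1) ⟨(-1) + (1) * q + (-1) * q ^ 2, (1) * q + (1) * q ^ 4 + (1) * q ^ 7, by rw [hd']; ring⟩ h7
  have h9 := strip_head (c := 1) ⟨(-1) + (1) * q + (-1) * q ^ 2, (1) * q + (1) * q ^ 5, by rw [hd']; ring⟩ h8
  have h10 := strip_head (c := 2) ⟨(-1) + (1) * q + (-1) * q ^ 2, (1) + (1) * q + (1) * q ^ 2 + (1) * q ^ 3 + (1) * q ^ 4 + (1) * q ^ 5 + (1) * q ^ 7, by rw [hd']; ring⟩ h9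
  have hle : d' ≤ 5000000 :=
    Int.le_of_dvd (by norm_num) (h10.trans (dvd_of_eq (by norm_num)))
  have hpow : ((235 : ℤ)) ^ 8 ≤ q ^ 8 := pow_le_pow_left₀ (by norm_num) hq _
  have hbig : (5000000 : ℤ) + 1 ≤ q ^ 8 := le_trans (by norm_num) hpow
  have htop : q ^ 11 ≤ q * (q ^ 6 + q ^ 3 + 1) * (q ^ 4 + 1) := by
    ring_nf; nlinarith [pow_nonneg (show (0 : ℤ) ≤ q by linarith) 1, pow_nonneg (show (0 : ℤ) ≤ q by linarith) 4, pow_nonneg (show (0 : ℤ) ≤ q by linarith) 5, pow_nonneg (show (0 : ℤ) ≤ q by linarith) 7, pow_nonneg (show (0 : ℤ) ≤ q by linarith) 8]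
  have hgle : ((1) + (-1) * q + (1) * q ^ 2) * 5000000 + 1 < q ^ 11 := by
    have e : q ^ 11 = q ^ 3 * q ^ 8 := by rw [← pow_add]
    have hm := mul_le_mul_of_nonneg_left hbig (show (0 : ℤ) ≤ q ^ 3 by positivity)
    have h1 := pow_le_pow_right₀ (show (1 : ℤ) ≤ q by linarith) (show 1 ≤ 3 by norm_num)
    have h2 := mul_le_mul_of_nonneg_right (sub_nonneg.1 hgub.le) (show (0 : ℤ) ≤ 5000000 by norm_num)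
    rw [pow_one] at *
    rw [e]; linarith
  have hpos : (0 : ℤ) ≤ (1) + (-1) * q + (1) * q ^ 2 := hgpos.le
  have := mul_le_mul_of_nonneg_left hle hpos
  linarith

theorem permE6_2 (p1 p2 p3 p4 p5 p6 p8 p9 p12 : ℤ) :
    2 * ((p1 * p2) * (p1 * p5) * (p1 * p2 * p3 * p6) * (p1 * p2 * p4 * p8) * (p1 * p3 * p9) * (p1 * p2 * p3 * p4 * p6 * p12)) = p4 * (2 * (p1 ^ 6 * (p2 ^ 4 * (p3 ^ 3 * (p4 ^ 1 * (p5 ^ 1 * (p6 ^ 2 * (p8 ^ 1 * (p9 ^ 1 * (p12 ^ 1 * (1))))))))))) := by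
  ring

theorem noE6_2 (q d : ℤ) (hq : 235 ≤ q) (hd : d + 2 = q * (q ^ 6 + q ^ 3 + 1) * (q ^ 4 + 1))
    (h : d ∣ 2 * ((q ^ 2 - 1) * (q ^ 5 - 1) * (q ^ 6 - 1) * (q ^ 8 - 1) * (q ^ 9 - 1) * (q ^ 12 - 1))) : False := by
  rw [cycloE6] at h
  have h0 := h.trans (dvd_of_eq (permE6_2 ((-1) + (1) * q) ((1) + (1) * q) ((1) + (1) * q + (1) * q ^ 2) ((1) + (1) * q ^ 2) ((1) + (1) * q + (1) * q ^ 2 + (1) * q ^ 3 + (1) * q ^ 4) ((1) + (-1) * q + (1) * q ^ 2) ((1) + (1) * q ^ 4) ((1) + (1) * q ^ 3 + (1) * q ^ 6) ((1) + (-1) * q ^ 2 + (1) * q ^ 4)))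
  obtain ⟨d', rfl⟩ : ∃ d', d = ((1) + (1) * q ^ 2) * d' :=
    ⟨(-2) + (1) * q + (2) * q ^ 2 + (-1) * q ^ 3 + (-1) * q ^ 4 + (2) * q ^ 5 + (1) * q ^ 6 + (-1) * q ^ 7 + (1) * q ^ 9, by linear_combination hd⟩
  have hgpos : (0 : ℤ) < (1) + (1) * q ^ 2 := by
    obtain ⟨t, ht, rfl⟩ : ∃ t, 0 ≤ t ∧ q = t + 235 := ⟨q - 235, by linarith, by ring⟩
    ring_nf; positivity
  have hgub : (0 : ℤ) < q ^ 3 - ((1) + (1) * q ^ 2) := by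
    obtain ⟨t, ht, rfl⟩ : ∃ t, 0 ≤ t ∧ q = t + 235 := ⟨q - 235, by linarith, by ring⟩
    ring_nf; positivity
  have hg0 : ((1) + (1) * q ^ 2) ≠ (0 : ℤ) := hgpos.ne'
  have hd' : d' = (-2) + (1) * q + (2) * q ^ 2 + (-1) * q ^ 3 + (-1) * q ^ 4 + (2) * q ^ 5 + (1) * q ^ 6 + (-1) * q ^ 7 + (1) * q ^ 9 := mul_left_cancel₀ hg0 (by linear_combination hd)
  have h1 := (mul_dvd_mul_iff_left hg0).1 h0
  have h2 := strip_head (c := 2) ⟨(1), (-4) + (-3) * q + (-1) * q ^ 2 + (-2) * q ^ 3 + (-3) * q ^ 4 + (-1) * q ^ 5 + (-1) * q ^ 7 + (-1) * q ^ 8, by rw [hd']; ring⟩ h1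
  have h3 := strip_head (c := 2) ⟨(-1), (1) * q + (1) * q ^ 2 + (-2) * q ^ 3 + (1) * q ^ 4 + (1) * q ^ 5 + (-1) * q ^ 7 + (1) * q ^ 8, by rw [hd']; ring⟩ h2
  have h4 := strip_head (c := 5) ⟨(1) * q, (5) + (-3) * q + (-3) * q ^ 2 + (4) * q ^ 3 + (-3) * q ^ 5 + (1) * q ^ 6 + (1) * q ^ 7 + (-1) * q ^ 8, by rw [hd']; ring⟩ h3
  have h5 := strip_head (c := 12) ⟨(-1) + (-1) * q, (10) + (-1) * q + (-7) * q ^ 2 + (2) * q ^ 3 + (5) * q ^ 4 + (-1) * q ^ 5 + (-2) * q ^ 6 + (1) * q ^ 7 + (1) * q ^ 8, by rw [hd']; ring⟩ h4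
  have h6 := strip_head (c := 31) ⟨(-13) + (-4) * q + (-15) * q ^ 2 + (-5) * q ^ 3, (5) + (-5) * q ^ 2 + (18) * q ^ 4 + (4) * q ^ 5 + (-16) * q ^ 6 + (10) * q ^ 7 + (5) * q ^ 8, by rw [hd']; ring⟩ h5
  have h7 := strip_head (c := 1) ⟨(-1) * q, (1) + (-1) * q + (-1) * q ^ 2 + (2) * q ^ 3 + (2) * q ^ 4 + (-1) * q ^ 5 + (-1) * q ^ 6 + (1) * q ^ 7 + (1) * q ^ 8, by rw [hd']; ring⟩ h6
  have h8 := strip_head (c := 2) ⟨(-1) + (-1) * q ^ 2, (1) * q + (1) * q ^ 4 + (1) * q ^ 7, by rw [hd']; ring⟩ h7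
  have h9 := strip_head (c := 2) ⟨(-1) + (-1) * q ^ 2, (1) * q + (1) * q ^ 5, by rw [hd']; ring⟩ h8
  have h10 := strip_head (c := 3) ⟨(-1) + (-1) * q ^ 2, (1) + (1) * q + (1) * q ^ 2 + (1) * q ^ 3 + (1) * q ^ 4 + (1) * q ^ 5 + (1) * q ^ 7, by rw [hd']; ring⟩ h9
  have hle : d' ≤ 1142784000 :=
    Int.le_of_dvd (by norm_num) (h10.trans (dvd_of_eq (by norm_num)))
  have hpow : ((235 : ℤ)) ^ 8 ≤ q ^ 8 := pow_le_pow_left₀ (by norm_num) hq _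
  have hbig : (1142784000 : ℤ) + 1 ≤ q ^ 8 := le_trans (by norm_num) hpow
  have htop : q ^ 11 ≤ q * (q ^ 6 + q ^ 3 + 1) * (q ^ 4 + 1) := by
    ring_nf; nlinarith [pow_nonneg (show (0 : ℤ) ≤ q by linarith) 1, pow_nonneg (show (0 : ℤ) ≤ q by linarith) 4, pow_nonneg (show (0 : ℤ) ≤ q by linarith) 5, pow_nonneg (show (0 : ℤ) ≤ q by linarith) 7, pow_nonneg (show (0 : ℤ) ≤ q by linarith) 8]
  have hgle : ((1) + (1) * q ^ 2) * 1142784000 + 2 < q ^ 11 := by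
    have e : q ^ 11 = q ^ 3 * q ^ 8 := by rw [← pow_add]
    have hm := mul_le_mul_of_nonneg_left hbig (show (0 : ℤ) ≤ q ^ 3 by positivity)
    have h1 := pow_le_pow_right₀ (show (1 : ℤ) ≤ q by linarith) (show 1 ≤ 3 by norm_num)
    have h2 := mul_le_mul_of_nonneg_right (sub_nonneg.1 hgub.le) (show (0 : ℤ) ≤ 1142784000 by norm_num)
    rw [pow_one] at *
    rw [e]; linarith
  have hpos : (0 : ℤ) ≤ (1) + (1) * q ^ 2 := hgpos.le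
  have := mul_le_mul_of_nonneg_left hle hpos
  linarith

theorem permE6_3 (p1 p2 p3 p4 p5 p6 p8 p9 p12 : ℤ) :
    3 * ((p1 * p2) * (p1 * p5) * (p1 * p2 * p3 * p6) * (p1 * p2 * p4 * p8) * (p1 * p3 * p9) * (p1 * p2 * p3 * p4 * p6 * p12)) = 3 * (p1 ^ 6 * (p2 ^ 4 * (p3 ^ 3 * (p4 ^ 2 * (p5 ^ 1 * (p6 ^ 2 * (p8 ^ 1 * (p9 ^ 1 * (p12 ^ 1 * (1)))))))))) := by
  ring

theorem noE6_3 (q d : ℤ) (hq : 235 ≤ q) (hd : d + 3 = q * (q ^ 6 + q ^ 3 + 1) * (q ^ 4 + 1))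
    (h : d ∣ 3 * ((q ^ 2 - 1) * (q ^ 5 - 1) * (q ^ 6 - 1) * (q ^ 8 - 1) * (q ^ 9 - 1) * (q ^ 12 - 1))) : False := by
  rw [cycloE6] at h
  have h0 := h.trans (dvd_of_eq (permE6_3 ((-1) + (1) * q) ((1) + (1) * q) ((1) + (1) * q + (1) * q ^ 2) ((1) + (1) * q ^ 2) ((1) + (1) * q + (1) * q ^ 2 + (1) * q ^ 3 + (1) * q ^ 4) ((1) + (-1) * q + (1) * q ^ 2) ((1) + (1) * q ^ 4) ((1) + (1) * q ^ 3 + (1) * q ^ 6) ((1) + (-1) * q ^ 2 + (1) * q ^ 4)))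
  have hd' : d = (-3) + (1) * q + (1) * q ^ 4 + (1) * q ^ 5 + (1) * q ^ 7 + (1) * q ^ 8 + (1) * q ^ 11 := by linear_combination hd
  have h1 := h0
  have h2 := strip_head (c := 3) ⟨(1), (-6) + (-5) * q + (-5) * q ^ 2 + (-5) * q ^ 3 + (-4) * q ^ 4 + (-3) * q ^ 5 + (-3) * q ^ 6 + (-2) * q ^ 7 + (-1) * q ^ 8 + (-1) * q ^ 9 + (-1) * q ^ 10, by rw [hd']; ring⟩ h1
  have h3 := strip_head (c := 5) ⟨(-1), (2) + (-1) * q + (1) * q ^ 2 + (-1) * q ^ 3 + (2) * q ^ 4 + (-1) * q ^ 5 + (1) * q ^ 6 + (1) * q ^ 8 + (-1) * q ^ 9 + (1) * q ^ 10, by rw [hd']; ring⟩ h2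
  have h4 := strip_head (c := 6) ⟨(-1), (3) + (-2) * q + (-1) * q ^ 2 + (3) * q ^ 3 + (-1) * q ^ 4 + (-1) * q ^ 5 + (2) * q ^ 6 + (-1) * q ^ 8 + (1) * q ^ 9, by rw [hd']; ring⟩ h3
  have h5 := strip_head (c := 1) ⟨(-1), (-2) + (1) * q + (2) * q ^ 2 + (-1) * q ^ 3 + (-1) * q ^ 4 + (2) * q ^ 5 + (1) * q ^ 6 + (-1) * q ^ 7 + (1) * q ^ 9, by rw [hd']; ring⟩ h4
  have h6 := strip_head (c := 121) ⟨(-40) + (-13) * q + (-4) * q ^ 2 + (-1) * q ^ 3, (1) + (40) * q ^ 4 + (13) * q ^ 5 + (-36) * q ^ 6 + (28) * q ^ 7 + (9) * q ^ 8 + (3) * q ^ 9 + (1) * q ^ 10, by rw [hd']; ring⟩ h5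
  have h7 := strip_head (c := 2) ⟨(-1), (-1) + (1) * q ^ 2 + (1) * q ^ 3 + (1) * q ^ 4 + (1) * q ^ 5 + (1) * q ^ 8 + (1) * q ^ 9, by rw [hd']; ring⟩ h6
  have h8 := strip_head (c := 3) ⟨(-1), (1) * q + (1) * q ^ 4 + (1) * q ^ 7, by rw [hd']; ring⟩ h7
  have h9 := strip_head (c := 3) ⟨(-1), (1) * q + (1) * q ^ 5, by rw [hd']; ring⟩ h8
  have h10 := strip_head (c := 4) ⟨(-1), (1) + (1) * q + (1) * q ^ 2 + (1) * q ^ 3 + (1) * q ^ 4 + (1) * q ^ 5 + (1) * q ^ 7, by rw [hd']; ring⟩ h9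
  have hle : d ≤ 5144348880000 :=
    Int.le_of_dvd (by norm_num) (h10.trans (dvd_of_eq (by norm_num)))
  have hpow : ((235 : ℤ)) ^ 10 ≤ q ^ 10 := pow_le_pow_left₀ (by norm_num) hq _
  have hbig : (5144348880000 : ℤ) + 1 ≤ q ^ 10 := le_trans (by norm_num) hpow
  have htop : q ^ 11 ≤ q * (q ^ 6 + q ^ 3 + 1) * (q ^ 4 + 1) := by
    ring_nf; nlinarith [pow_nonneg (show (0 : ℤ) ≤ q by linarith) 1, pow_nonneg (show (0 : ℤ) ≤ q by linarith) 4, pow_nonneg (show (0 : ℤ) ≤ q by linarith) 5, pow_nonneg (show (0 : ℤ) ≤ q by linarith) 7, pow_nonneg (show (0 : ℤ) ≤ q by linarith) 8]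
  have hgle : 5144348880000 + 3 < q ^ 11 := by
    have e : q ^ 11 = q ^ 1 * q ^ 10 := by rw [← pow_add]
    have hm := mul_le_mul_of_nonneg_left hbig (show (0 : ℤ) ≤ q ^ 1 by positivity)
    have h1 := pow_le_pow_right₀ (show (1 : ℤ) ≤ q by linarith) (show 1 ≤ 1 by norm_num)
    have h2 := mul_le_mul_of_nonneg_right (show (1 : ℤ) ≤ q by linarith) (show (0 : ℤ) ≤ 5144348880000 by norm_num)
    rw [pow_one] at *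
    rw [e]; linarith
  linarith

theorem permE6_4 (p1 p2 p3 p4 p5 p6 p8 p9 p12 : ℤ) :
    4 * ((p1 * p2) * (p1 * p5) * (p1 * p2 * p3 * p6) * (p1 * p2 * p4 * p8) * (p1 * p3 * p9) * (p1 * p2 * p3 * p4 * p6 * p12)) = 4 * (p1 ^ 6 * (p2 ^ 4 * (p3 ^ 3 * (p4 ^ 2 * (p5 ^ 1 * (p6 ^ 2 * (p8 ^ 1 * (p9 ^ 1 * (p12 ^ 1 * (1)))))))))) := by
  ring

theorem noE6_4 (q d : ℤ) (hq : 235 ≤ q) (hd : d + 4 = q * (q ^ 6 + q ^ 3 + 1) * (q ^ 4 + 1))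
    (h : d ∣ 4 * ((q ^ 2 - 1) * (q ^ 5 - 1) * (q ^ 6 - 1) * (q ^ 8 - 1) * (q ^ 9 - 1) * (q ^ 12 - 1))) : False := by
  rw [cycloE6] at h
  have h0 := h.trans (dvd_of_eq (permE6_4 ((-1) + (1) * q) ((1) + (1) * q) ((1) + (1) * q + (1) * q ^ 2) ((1) + (1) * q ^ 2) ((1) + (1) * q + (1) * q ^ 2 + (1) * q ^ 3 + (1) * q ^ 4) ((1) + (-1) * q + (1) * q ^ 2) ((1) + (1) * q ^ 4) ((1) + (1) * q ^ 3 + (1) * q ^ 6) ((1) + (-1) * q ^ 2 + (1) * q ^ 4)))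
  have hd' : d = (-4) + (1) * q + (1) * q ^ 4 + (1) * q ^ 5 + (1) * q ^ 7 + (1) * q ^ 8 + (1) * q ^ 11 := by linear_combination hd
  have h1 := h0
  have h2 := strip_head (c := 2) ⟨(1), (-6) + (-5) * q + (-5) * q ^ 2 + (-5) * q ^ 3 + (-4) * q ^ 4 + (-3) * q ^ 5 + (-3) * q ^ 6 + (-2) * q ^ 7 + (-1) * q ^ 8 + (-1) * q ^ 9 + (-1) * q ^ 10, by rw [hd']; ring⟩ h1
  have h3 := strip_head (c := 6) ⟨(-1), (2) + (-1) * q + (1) * q ^ 2 + (-1) * q ^ 3 + (2) * q ^ 4 + (-1) * q ^ 5 + (1) * q ^ 6 + (1) * q ^ 8 + (-1) * q ^ 9 + (1) * q ^ 10, by rw [hd']; ring⟩ h2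
  have h4 := strip_head (c := 7) ⟨(-1), (3) + (-2) * q + (-1) * q ^ 2 + (3) * q ^ 3 + (-1) * q ^ 4 + (-1) * q ^ 5 + (2) * q ^ 6 + (-1) * q ^ 8 + (1) * q ^ 9, by rw [hd']; ring⟩ h3
  have h5 := strip_head (c := 2) ⟨(-1), (-2) + (1) * q + (2) * q ^ 2 + (-1) * q ^ 3 + (-1) * q ^ 4 + (2) * q ^ 5 + (1) * q ^ 6 + (-1) * q ^ 7 + (1) * q ^ 9, by rw [hd']; ring⟩ h4
  have h6 := strip_head (c := 341) ⟨(-85) + (-21) * q + (-5) * q ^ 2 + (-1) * q ^ 3, (1) + (85) * q ^ 4 + (21) * q ^ 5 + (-80) * q ^ 6 + (65) * q ^ 7 + (16) * q ^ 8 + (4) * q ^ 9 + (1) * q ^ 10, by rw [hd']; ring⟩ h5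
  have h7 := strip_head (c := 3) ⟨(-1), (-1) + (1) * q ^ 2 + (1) * q ^ 3 + (1) * q ^ 4 + (1) * q ^ 5 + (1) * q ^ 8 + (1) * q ^ 9, by rw [hd']; ring⟩ h6
  have h8 := strip_head (c := 4) ⟨(-1), (1) * q + (1) * q ^ 4 + (1) * q ^ 7, by rw [hd']; ring⟩ h7
  have h9 := strip_head (c := 4) ⟨(-1), (1) * q + (1) * q ^ 5, by rw [hd']; ring⟩ h8
  have h10 := strip_head (c := 5) ⟨(-1), (1) + (1) * q + (1) * q ^ 2 + (1) * q ^ 3 + (1) * q ^ 4 + (1) * q ^ 5 + (1) * q ^ 7, by rw [hd']; ring⟩ h9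
  have hle : d ≤ 111759886909440 :=
    Int.le_of_dvd (by norm_num) (h10.trans (dvd_of_eq (by norm_num)))
  have hpow : ((235 : ℤ)) ^ 10 ≤ q ^ 10 := pow_le_pow_left₀ (by norm_num) hq _
  have hbig : (111759886909440 : ℤ) + 1 ≤ q ^ 10 := le_trans (by norm_num) hpow
  have htop : q ^ 11 ≤ q * (q ^ 6 + q ^ 3 + 1) * (q ^ 4 + 1) := by
    ring_nf; nlinarith [pow_nonneg (show (0 : ℤ) ≤ q by linarith) 1, pow_nonneg (show (0 : ℤ) ≤ q by linarith) 4, pow_nonneg (show (0 : ℤ) ≤ q by linarith) 5, pow_nonneg (show (0 : ℤ) ≤ q by linarith) 7, pow_nonneg (show (0 : ℤ) ≤ q by linarith) 8]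
  have hgle : 111759886909440 + 4 < q ^ 11 := by
    have e : q ^ 11 = q ^ 1 * q ^ 10 := by rw [← pow_add]
    have hm := mul_le_mul_of_nonneg_left hbig (show (0 : ℤ) ≤ q ^ 1 by positivity)
    have h1 := pow_le_pow_right₀ (show (1 : ℤ) ≤ q by linarith) (show 1 ≤ 1 by norm_num)
    have h2 := mul_le_mul_of_nonneg_right (show (1 : ℤ) ≤ q by linarith) (show (0 : ℤ) ≤ 111759886909440 by norm_num)
    rw [pow_one] at *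
    rw [e]; linarith
  linarith

theorem permE6_5 (p1 p2 p3 p4 p5 p6 p8 p9 p12 : ℤ) :
    5 * ((p1 * p2) * (p1 * p5) * (p1 * p2 * p3 * p6) * (p1 * p2 * p4 * p8) * (p1 * p3 * p9) * (p1 * p2 * p3 * p4 * p6 * p12)) = 5 * (p1 ^ 6 * (p2 ^ 4 * (p3 ^ 3 * (p4 ^ 2 * (p5 ^ 1 * (p6 ^ 2 * (p8 ^ 1 * (p9 ^ 1 * (p12 ^ 1 * (1)))))))))) := by
  ring

theorem noE6_5 (q d : ℤ) (hq : 235 ≤ q) (hd : d + 5 = q * (q ^ 6 + q ^ 3 + 1) * (q ^ 4 + 1))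
    (h : d ∣ 5 * ((q ^ 2 - 1) * (q ^ 5 - 1) * (q ^ 6 - 1) * (q ^ 8 - 1) * (q ^ 9 - 1) * (q ^ 12 - 1))) : False := by
  rw [cycloE6] at h
  have h0 := h.trans (dvd_of_eq (permE6_5 ((-1) + (1) * q) ((1) + (1) * q) ((1) + (1) * q + (1) * q ^ 2) ((1) + (1) * q ^ 2) ((1) + (1) * q + (1) * q ^ 2 + (1) * q ^ 3 + (1) * q ^ 4) ((1) + (-1) * q + (1) * q ^ 2) ((1) + (1) * q ^ 4) ((1) + (1) * q ^ 3 + (1) * q ^ 6) ((1) + (-1) * q ^ 2 + (1) * q ^ 4)))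
  have hd' : d = (-5) + (1) * q + (1) * q ^ 4 + (1) * q ^ 5 + (1) * q ^ 7 + (1) * q ^ 8 + (1) * q ^ 11 := by linear_combination hd
  have h1 := h0
  have h2 := strip_head (c := 1) ⟨(1), (-6) + (-5) * q + (-5) * q ^ 2 + (-5) * q ^ 3 + (-4) * q ^ 4 + (-3) * q ^ 5 + (-3) * q ^ 6 + (-2) * q ^ 7 + (-1) * q ^ 8 + (-1) * q ^ 9 + (-1) * q ^ 10, by rw [hd']; ring⟩ h1
  have h3 := strip_head (c := 7) ⟨(-1), (2) + (-1) * q + (1) * q ^ 2 + (-1) * q ^ 3 + (2) * q ^ 4 + (-1) * q ^ 5 + (1) * q ^ 6 + (1) * q ^ 8 + (-1) * q ^ 9 + (1) * q ^ 10, by rw [hd']; ring⟩ h2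
  have h4 := strip_head (c := 8) ⟨(-1), (3) + (-2) * q + (-1) * q ^ 2 + (3) * q ^ 3 + (-1) * q ^ 4 + (-1) * q ^ 5 + (2) * q ^ 6 + (-1) * q ^ 8 + (1) * q ^ 9, by rw [hd']; ring⟩ h3
  have h5 := strip_head (c := 3) ⟨(-1), (-2) + (1) * q + (2) * q ^ 2 + (-1) * q ^ 3 + (-1) * q ^ 4 + (2) * q ^ 5 + (1) * q ^ 6 + (-1) * q ^ 7 + (1) * q ^ 9, by rw [hd']; ring⟩ h4
  have h6 := strip_head (c := 781) ⟨(-156) + (-31) * q + (-6) * q ^ 2 + (-1) * q ^ 3, (1) + (156) * q ^ 4 + (31) * q ^ 5 + (-150) * q ^ 6 + (126) * q ^ 7 + (25) * q ^ 8 + (5) * q ^ 9 + (1) * q ^ 10, by rw [hd']; ring⟩ h5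
  have h7 := strip_head (c := 4) ⟨(-1), (-1) + (1) * q ^ 2 + (1) * q ^ 3 + (1) * q ^ 4 + (1) * q ^ 5 + (1) * q ^ 8 + (1) * q ^ 9, by rw [hd']; ring⟩ h6
  have h8 := strip_head (c := 5) ⟨(-1), (1) * q + (1) * q ^ 4 + (1) * q ^ 7, by rw [hd']; ring⟩ h7
  have h9 := strip_head (c := 5) ⟨(-1), (1) * q + (1) * q ^ 5, by rw [hd']; ring⟩ h8
  have h10 := strip_head (c := 6) ⟨(-1), (1) + (1) * q + (1) * q ^ 2 + (1) * q ^ 3 + (1) * q ^ 4 + (1) * q ^ 5 + (1) * q ^ 7, by rw [hd']; ring⟩ h9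
  have hle : d ≤ 103690008576000 :=
    Int.le_of_dvd (by norm_num) (h10.trans (dvd_of_eq (by norm_num)))
  have hpow : ((235 : ℤ)) ^ 10 ≤ q ^ 10 := pow_le_pow_left₀ (by norm_num) hq _
  have hbig : (103690008576000 : ℤ) + 1 ≤ q ^ 10 := le_trans (by norm_num) hpow
  have htop : q ^ 11 ≤ q * (q ^ 6 + q ^ 3 + 1) * (q ^ 4 + 1) := by
    ring_nf; nlinarith [pow_nonneg (show (0 : ℤ) ≤ q by linarith) 1, pow_nonneg (show (0 : ℤ) ≤ q by linarith) 4, pow_nonneg (show (0 : ℤ) ≤ q by linarith) 5, pow_nonneg (show (0 : ℤ) ≤ q by linarith) 7, pow_nonneg (show (0 : ℤ) ≤ q by linarith) 8]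
  have hgle : 103690008576000 + 5 < q ^ 11 := by
    have e : q ^ 11 = q ^ 1 * q ^ 10 := by rw [← pow_add]
    have hm := mul_le_mul_of_nonneg_left hbig (show (0 : ℤ) ≤ q ^ 1 by positivity)
    have h1 := pow_le_pow_right₀ (show (1 : ℤ) ≤ q by linarith) (show 1 ≤ 1 by norm_num)
    have h2 := mul_le_mul_of_nonneg_right (show (1 : ℤ) ≤ q by linarith) (show (0 : ℤ) ≤ 103690008576000 by norm_num)
    rw [pow_one] at *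
    rw [e]; linarith
  linarith

theorem permE6_6 (p1 p2 p3 p4 p5 p6 p8 p9 p12 : ℤ) :
    6 * ((p1 * p2) * (p1 * p5) * (p1 * p2 * p3 * p6) * (p1 * p2 * p4 * p8) * (p1 * p3 * p9) * (p1 * p2 * p3 * p4 * p6 * p12)) = p1 * (6 * (p1 ^ 5 * (p2 ^ 4 * (p3 ^ 3 * (p4 ^ 2 * (p5 ^ 1 * (p6 ^ 2 * (p8 ^ 1 * (p9 ^ 1 * (p12 ^ 1 * (1))))))))))) := by
  ring

theorem noE6_6 (q d : ℤ) (hq : 235 ≤ q) (hd : d + 6 = q * (q ^ 6 + q ^ 3 + 1) * (q ^ 4 + 1))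
    (h : d ∣ 6 * ((q ^ 2 - 1) * (q ^ 5 - 1) * (q ^ 6 - 1) * (q ^ 8 - 1) * (q ^ 9 - 1) * (q ^ 12 - 1))) : False := by
  rw [cycloE6] at h
  have h0 := h.trans (dvd_of_eq (permE6_6 ((-1) + (1) * q) ((1) + (1) * q) ((1) + (1) * q + (1) * q ^ 2) ((1) + (1) * q ^ 2) ((1) + (1) * q + (1) * q ^ 2 + (1) * q ^ 3 + (1) * q ^ 4) ((1) + (-1) * q + (1) * q ^ 2) ((1) + (1) * q ^ 4) ((1) + (1) * q ^ 3 + (1) * q ^ 6) ((1) + (-1) * q ^ 2 + (1) * q ^ 4)))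
  obtain ⟨d', rfl⟩ : ∃ d', d = ((-1) + (1) * q) * d' :=
    ⟨(6) + (5) * q + (5) * q ^ 2 + (5) * q ^ 3 + (4) * q ^ 4 + (3) * q ^ 5 + (3) * q ^ 6 + (2) * q ^ 7 + (1) * q ^ 8 + (1) * q ^ 9 + (1) * q ^ 10, by linear_combination hd⟩
  have hgpos : (0 : ℤ) < (-1) + (1) * q := by
    obtain ⟨t, ht, rfl⟩ : ∃ t, 0 ≤ t ∧ q = t + 235 := ⟨q - 235, by linarith, by ring⟩
    ring_nf; positivity
  have hgub : (0 : ℤ) < q ^ 2 - ((-1) + (1) * q) := by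
    obtain ⟨t, ht, rfl⟩ : ∃ t, 0 ≤ t ∧ q = t + 235 := ⟨q - 235, by linarith, by ring⟩
    ring_nf; positivity
  have hg0 : ((-1) + (1) * q) ≠ (0 : ℤ) := hgpos.ne'
  have hd' : d' = (6) + (5) * q + (5) * q ^ 2 + (5) * q ^ 3 + (4) * q ^ 4 + (3) * q ^ 5 + (3) * q ^ 6 + (2) * q ^ 7 + (1) * q ^ 8 + (1) * q ^ 9 + (1) * q ^ 10 := mul_left_cancel₀ hg0 (by linear_combination hd)
  have h1 := (mul_dvd_mul_iff_left hg0).1 h0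
  have h2 := strip_head (c := 36) ⟨(1), (-30) + (-25) * q + (-20) * q ^ 2 + (-15) * q ^ 3 + (-11) * q ^ 4 + (-8) * q ^ 5 + (-5) * q ^ 6 + (-3) * q ^ 7 + (-2) * q ^ 8 + (-1) * q ^ 9, by rw [hd']; ring⟩ h1
  have h3 := strip_head (c := 4) ⟨(1), (-2) + (-3) * q + (-2) * q ^ 2 + (-3) * q ^ 3 + (-1) * q ^ 4 + (-2) * q ^ 5 + (-1) * q ^ 6 + (-1) * q ^ 7 + (-1) * q ^ 9, by rw [hd']; ring⟩ h2
  have h4 := strip_head (c := 9) ⟨(1) + (-1) * q, (3) + (-2) * q + (-1) * q ^ 2 + (3) * q ^ 3 + (-1) * q ^ 4 + (-1) * q ^ 5 + (2) * q ^ 6 + (-1) * q ^ 8 + (1) * q ^ 9, by rw [hd']; ring⟩ h3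
  have h5 := strip_head (c := 4) ⟨(1) + (-1) * q, (-2) + (1) * q + (2) * q ^ 2 + (-1) * q ^ 3 + (-1) * q ^ 4 + (2) * q ^ 5 + (1) * q ^ 6 + (-1) * q ^ 7 + (1) * q ^ 9, by rw [hd']; ring⟩ h4
  have h6 := strip_head (c := 311) ⟨(52) + (-43) * q + (-7) * q ^ 2 + (-1) * q ^ 3, (-1) + (-1) * q + (-1) * q ^ 2 + (-1) * q ^ 3 + (51) * q ^ 4 + (8) * q ^ 5 + (-51) * q ^ 6 + (43) * q ^ 7 + (7) * q ^ 8 + (1) * q ^ 9, by rw [hd']; ring⟩ h5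
  have h7 := strip_head (c := 5) ⟨(1) + (-1) * q, (-1) + (1) * q ^ 2 + (1) * q ^ 3 + (1) * q ^ 4 + (1) * q ^ 5 + (1) * q ^ 8 + (1) * q ^ 9, by rw [hd']; ring⟩ h6
  have h8 := strip_head (c := 6) ⟨(1) + (-1) * q, (1) * q + (1) * q ^ 4 + (1) * q ^ 7, by rw [hd']; ring⟩ h7
  have h9 := strip_head (c := 6) ⟨(1) + (-1) * q, (1) * q + (1) * q ^ 5, by rw [hd']; ring⟩ h8
  have h10 := strip_head (c := 7) ⟨(1) + (-1) * q, (1) + (1) * q + (1) * q ^ 2 + (1) * q ^ 3 + (1) * q ^ 4 + (1) * q ^ 5 + (1) * q ^ 7, by rw [hd']; ring⟩ h9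
  have hle : d' ≤ 2122521846404559667200 :=
    Int.le_of_dvd (by norm_num) (h10.trans (dvd_of_eq (by norm_num)))
  have hpow : ((235 : ℤ)) ^ 9 ≤ q ^ 9 := pow_le_pow_left₀ (by norm_num) hq _
  have hbig : (2122521846404559667200 : ℤ) + 1 ≤ q ^ 9 := le_trans (by norm_num) hpow
  have htop : q ^ 11 ≤ q * (q ^ 6 + q ^ 3 + 1) * (q ^ 4 + 1) := by
    ring_nf; nlinarith [pow_nonneg (show (0 : ℤ) ≤ q by linarith) 1, pow_nonneg (show (0 : ℤ) ≤ q by linarith) 4, pow_nonneg (show (0 : ℤ) ≤ q by linarith) 5, pow_nonneg (show (0 : ℤ) ≤ q by linarith) 7, pow_nonneg (show (0 : ℤ) ≤ q by linarith) 8]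
  have hgle : ((-1) + (1) * q) * 2122521846404559667200 + 6 < q ^ 11 := by
    have e : q ^ 11 = q ^ 2 * q ^ 9 := by rw [← pow_add]
    have hm := mul_le_mul_of_nonneg_left hbig (show (0 : ℤ) ≤ q ^ 2 by positivity)
    have h1 := pow_le_pow_right₀ (show (1 : ℤ) ≤ q by linarith) (show 1 ≤ 2 by norm_num)
    have h2 := mul_le_mul_of_nonneg_right (sub_nonneg.1 hgub.le) (show (0 : ℤ) ≤ 2122521846404559667200 by norm_num)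
    rw [pow_one] at *
    rw [e]; linarith
  have hpos : (0 : ℤ) ≤ (-1) + (1) * q := hgpos.le
  have := mul_le_mul_of_nonneg_left hle hpos
  linarith

/-- No degree lies just below the bound. -/
theorem gapE6 {q d j : ℕ} (hq : IsPrimePow q) (hj : 1 ≤ j) (hj' : j ≤ 6) (hd : d + j = q * (q ^ 6 + q ^ 3 + 1) * (q ^ 4 + 1))
    (h : d ∣ q ^ 36 * ((q ^ 2 - 1) * (q ^ 5 - 1) * (q ^ 6 - 1) * (q ^ 8 - 1) * (q ^ 9 - 1) * (q ^ 12 - 1))) : (q = 2 ∧ j = 2) ∨ q = 4 ∧ j = 4 := by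
  rcases lt_or_ge q 235 with hlt | hge
  · by_contra hne
    exact smallE6 q (List.mem_range.2 hlt) hq.two_le j (List.mem_range.2 (by omega)) hj
      (fun h => hne (Or.inl h)) (fun h => hne (Or.inr h))
      ((show q * (q ^ 6 + q ^ 3 + 1) * (q ^ 4 + 1) - j = d by omega) ▸ h)
  have h' := dvd_small hq (show j < q by omega) hj (show q ∣ d + j by
    rw [hd]; exact dvd_mul_of_dvd_left (dvd_mul_right q _) _) h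
  have hqB : (235 : ℤ) ≤ (q : ℤ) := by exact_mod_cast hge
  have hdvd : (d : ℤ) ∣ (j : ℤ) * (((q : ℤ) ^ 2 - 1) * ((q : ℤ) ^ 5 - 1) * ((q : ℤ) ^ 6 - 1) * ((q : ℤ) ^ 8 - 1) * ((q : ℤ) ^ 9 - 1) * ((q : ℤ) ^ 12 - 1)) := by
    have := Int.natCast_dvd_natCast.2 h'
    push_cast [Nat.one_le_pow _ q hq.pos] at this
    exact this
  have hd : (d : ℤ) + j = (q : ℤ) * ((q : ℤ) ^ 6 + (q : ℤ) ^ 3 + 1) * ((q : ℤ) ^ 4 + 1) := by exact_mod_cast hd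
  interval_cases j
  · exact (noE6_1 _ d hqB hd hdvd).elim
  · exact (noE6_2 _ d hqB hd hdvd).elim
  · exact (noE6_3 _ d hqB hd hdvd).elim
  · exact (noE6_4 _ d hqB hd hdvd).elim
  · exact (noE6_5 _ d hqB hd hdvd).elim
  · exact (noE6_6 _ d hqB hd hdvd).elim

theorem facE8_2 (q : ℤ) : q ^ 2 - 1 = ((-1) + (1) * q) * ((1) + (1) * q) := by ring

theorem facE8_8 (q : ℤ) : q ^ 8 - 1 = ((-1) + (1) * q) * ((1) + (1) * q) * ((1) + (1) * q ^ 2) * ((1) + (1) * q ^ 4) := by ring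

theorem facE8_12 (q : ℤ) : q ^ 12 - 1 = ((-1) + (1) * q) * ((1) + (1) * q) * ((1) + (1) * q + (1) * q ^ 2) * ((1) + (1) * q ^ 2) * ((1) + (-1) * q + (1) * q ^ 2) * ((1) + (-1) * q ^ 2 + (1) * q ^ 4) := by ring

theorem facE8_14 (q : ℤ) : q ^ 14 - 1 = ((-1) + (1) * q) * ((1) + (1) * q) * ((1) + (1) * q + (1) * q ^ 2 + (1) * q ^ 3 + (1) * q ^ 4 + (1) * q ^ 5 + (1) * q ^ 6) * ((1) + (-1) * q + (1) * q ^ 2 + (-1) * q ^ 3 + (1) * q ^ 4 + (-1) * q ^ 5 + (1) * q ^ 6) := by ring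

theorem facE8_18 (q : ℤ) : q ^ 18 - 1 = ((-1) + (1) * q) * ((1) + (1) * q) * ((1) + (1) * q + (1) * q ^ 2) * ((1) + (-1) * q + (1) * q ^ 2) * ((1) + (1) * q ^ 3 + (1) * q ^ 6) * ((1) + (-1) * q ^ 3 + (1) * q ^ 6) := by ring

theorem facE8_20 (q : ℤ) : q ^ 20 - 1 = ((-1) + (1) * q) * ((1) + (1) * q) * ((1) + (1) * q ^ 2) * ((1) + (1) * q + (1) * q ^ 2 + (1) * q ^ 3 + (1) * q ^ 4) * ((1) + (-1) * q + (1) * q ^ 2 + (-1) * q ^ 3 + (1) * q ^ 4) * ((1) + (-1) * q ^ 2 + (1) * q ^ 4 + (-1) * q ^ 6 + (1) * q ^ 8) := by ring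

theorem facE8_24 (q : ℤ) : q ^ 24 - 1 = ((-1) + (1) * q) * ((1) + (1) * q) * ((1) + (1) * q + (1) * q ^ 2) * ((1) + (1) * q ^ 2) * ((1) + (-1) * q + (1) * q ^ 2) * ((1) + (1) * q ^ 4) * ((1) + (-1) * q ^ 2 + (1) * q ^ 4) * ((1) + (-1) * q ^ 4 + (1) * q ^ 8) := by ring

theorem facE8_30 (q : ℤ) : q ^ 30 - 1 = ((-1) + (1) * q) * ((1) + (1) * q) * ((1) + (1) * q + (1) * q ^ 2) * ((1) + (1) * q + (1) * q ^ 2 + (1) * q ^ 3 + (1) * q ^ 4) * ((1) + (-1) * q + (1) * q ^ 2) * ((1) + (-1) * q + (1) * q ^ 2 + (-1) * q ^ 3 + (1) * q ^ 4) * ((1) + (-1) * q + (1) * q ^ 3 + (-1) * q ^ 4 + (1) * q ^ 5 + (-1) * q ^ 7 + (1) * q ^ 8) * ((1) + (1) * q + (-1) * q ^ 3 + (-1) * q ^ 4 + (-1) * q ^ 5 + (1) * q ^ 7 + (1) * q ^ 8) := by ring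

/-- The order polynomial of `E8` without its power of `q`. -/
theorem cycloE8 (q : ℤ) : (q ^ 2 - 1) * (q ^ 8 - 1) * (q ^ 12 - 1) * (q ^ 14 - 1) * (q ^ 18 - 1) * (q ^ 20 - 1) * (q ^ 24 - 1) * (q ^ 30 - 1) =
    (((-1) + (1) * q) * ((1) + (1) * q)) * (((-1) + (1) * q) * ((1) + (1) * q) * ((1) + (1) * q ^ 2) * ((1) + (1) * q ^ 4)) * (((-1) + (1) * q) * ((1) + (1) * q) * ((1) + (1) * q + (1) * q ^ 2) * ((1) + (1) * q ^ 2) * ((1) + (-1) * q + (1) * q ^ 2) * ((1) + (-1) * q ^ 2 + (1) * q ^ 4)) * (((-1) + (1) * q) * ((1) + (1) * q) * ((1) + (1) * q + (1) * q ^ 2 + (1) * q ^ 3 + (1) * q ^ 4 + (1) * q ^ 5 + (1) * q ^ 6) * ((1) + (-1) * q + (1) * q ^ 2 + (-1) * q ^ 3 + (1) * q ^ 4 + (-1) * q ^ 5 + (1) * q ^ 6)) * (((-1) + (1) * q) * ((1) + (1) * q) * ((1) + (1) * q + (1) * q ^ 2) * ((1) + (-1) * q + (1) *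 q ^ 2) * ((1) + (1) * q ^ 3 + (1) * q ^ 6) * ((1) + (-1) * q ^ 3 + (1) * q ^ 6)) * (((-1) + (1) * q) * ((1) + (1) * q) * ((1) + (1) * q ^ 2) * ((1) + (1) * q + (1) * q ^ 2 + (1) * q ^ 3 + (1) * q ^ 4) * ((1) + (-1) * q + (1) * q ^ 2 + (-1) * q ^ 3 + (1) * q ^ 4) * ((1) + (-1) * q ^ 2 + (1) * q ^ 4 + (-1) * q ^ 6 + (1) * q ^ 8)) * (((-1) + (1) * q) * ((1) + (1) * q) * ((1) + (1) * q + (1) * q ^ 2) * ((1) + (1) * q ^ 2) * ((1) + (-1) * q + (1) * q ^ 2) * ((1) + (1) * q ^ 4) * ((1) + (-1) * q ^ 2 + (1) * q ^ 4) * ((1) + (-1) * q ^ 4 + (1) * q ^ 8)) * (((-1) + (1) * q) * ((1) + (1) * q) * ((1) + (1) * q + (1) * q ^ 2) * ((1) + (1) * q + (1) * q ^ 2 + (1) * q ^ 3 + (1) * q ^ 4) * ((1) + (-1) * q + (1) * q ^ 2) * ((1) + (-1) * q + (1) * q ^ 2 + (-1) * q ^ 3 + (1) * q ^ 4) * ((1) + (-1) * q + (1) * q ^ 3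 + (-1) * q ^ 4 + (1) * q ^ 5 + (-1) * q ^ 7 + (1) * q ^ 8) * ((1) + (1) * q + (-1) * q ^ 3 + (-1) * q ^ 4 + (-1) * q ^ 5 + (1) * q ^ 7 + (1) * q ^ 8)) := by
  rw [facE8_30 q, facE8_24 q, facE8_20 q, facE8_18 q, facE8_14 q, facE8_12 q, facE8_8 q, facE8_2 q]

theorem smallE8 : ∀ q ∈ List.range 239, 2 ≤ q → ∀ j ∈ List.range 9, 1 ≤ j →
    ¬ (q * (q ^ 12 + 1) * (q ^ 10 + 1) * (q ^ 6 + 1) - j) ∣ q ^ 120 * ((q ^ 2 - 1) * (q ^ 8 - 1) * (q ^ 12 - 1) * (q ^ 14 - 1) * (q ^ 18 - 1) * (q ^ 20 - 1) * (q ^ 24 - 1) * (q ^ 30 - 1)) := by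
  decide +kernel

theorem permE8_1 (p1 p2 p3 p4 p5 p6 p7 p8 p9 p10 p12 p14 p15 p18 p20 p24 p30 : ℤ) :
    1 * ((p1 * p2) * (p1 * p2 * p4 * p8) * (p1 * p2 * p3 * p4 * p6 * p12) * (p1 * p2 * p7 * p14) * (p1 * p2 * p3 * p6 * p9 * p18) * (p1 * p2 * p4 * p5 * p10 * p20) * (p1 * p2 * p3 * p4 * p6 * p8 * p12 * p24) * (p1 * p2 * p3 * p5 * p6 * p10 * p15 * p30)) = p15 * (1 * (p1 ^ 8 * (p2 ^ 8 * (p3 ^ 4 * (p4 ^ 4 * (p5 ^ 2 * (p6 ^ 4 * (p7 ^ 1 * (p8 ^ 2 * (p9 ^ 1 * (p10 ^ 2 * (p12 ^ 2 * (p14 ^ 1 * (p18 ^ 1 * (p20 ^ 1 * (p24 ^ 1 * (p30 ^ 1 * (1)))))))))))))))))) := by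
  ring

theorem noE8_1 (q d : ℤ) (hq : 239 ≤ q) (hd : d + 1 = q * (q ^ 12 + 1) * (q ^ 10 + 1) * (q ^ 6 + 1))
    (h : d ∣ 1 * ((q ^ 2 - 1) * (q ^ 8 - 1) * (q ^ 12 - 1) * (q ^ 14 - 1) * (q ^ 18 - 1) * (q ^ 20 - 1) * (q ^ 24 - 1) * (q ^ 30 - 1))) : False := by
  rw [cycloE8] at h
  have h0 := h.trans (dvd_of_eq (permE8_1 ((-1) + (1) * q) ((1) + (1) * q) ((1) + (1) * q + (1) * q ^ 2) ((1) + (1) * q ^ 2) ((1) + (1) * q + (1) * q ^ 2 + (1) * q ^ 3 + (1) * q ^ 4) ((1) + (-1) * q + (1) * q ^ 2) ((1) + (1) * q + (1) * q ^ 2 + (1) * q ^ 3 + (1) * q ^ 4 + (1) * q ^ 5 + (1) * q ^ 6) ((1) + (1) * q ^ 4) ((1) + (1) * q ^ 3 + (1) * q ^ 6) ((1) + (-1) * q + (1) * q ^ 2 + (-1) * q ^ 3 + (1) * q ^ 4) ((1) + (-1) * q ^ 2 + (1) * q ^ 4) ((1) + (-1) * q + (1) * q ^ 2 + (-1) * q ^ 3 + (1) * q ^ 4 + (-1) * q ^ 5 + (1)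 * q ^ 6) ((1) + (-1) * q + (1) * q ^ 3 + (-1) * q ^ 4 + (1) * q ^ 5 + (-1) * q ^ 7 + (1) * q ^ 8) ((1) + (-1) * q ^ 3 + (1) * q ^ 6) ((1) + (-1) * q ^ 2 + (1) * q ^ 4 + (-1) * q ^ 6 + (1) * q ^ 8) ((1) + (-1) * q ^ 4 + (1) * q ^ 8) ((1) + (1) * q + (-1) * q ^ 3 + (-1) * q ^ 4 + (-1) * q ^ 5 + (1) * q ^ 7 + (1) * q ^ 8)))
  obtain ⟨d', rfl⟩ : ∃ d', d = ((1) + (-1) * q + (1) * q ^ 3 + (-1) * q ^ 4 + (1) * q ^ 5 + (-1) * q ^ 7 + (1) * q ^ 8) * d' :=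
    ⟨(-1) + (1) * q ^ 3 + (1) * q ^ 5 + (1) * q ^ 7 + (1) * q ^ 9 + (1) * q ^ 11 + (1) * q ^ 13 + (-1) * q ^ 16 + (1) * q ^ 19 + (1) * q ^ 20 + (1) * q ^ 21, by linear_combination hd⟩
  have hgpos : (0 : ℤ) < (1) + (-1) * q + (1) * q ^ 3 + (-1) * q ^ 4 + (1) * q ^ 5 + (-1) * q ^ 7 + (1) * q ^ 8 := by
    obtain ⟨t, ht, rfl⟩ : ∃ t, 0 ≤ t ∧ q = t + 239 := ⟨q - 239, by linarith, by ring⟩
    ring_nf; positivity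
  have hgub : (0 : ℤ) < q ^ 9 - ((1) + (-1) * q + (1) * q ^ 3 + (-1) * q ^ 4 + (1) * q ^ 5 + (-1) * q ^ 7 + (1) * q ^ 8) := by
    obtain ⟨t, ht, rfl⟩ : ∃ t, 0 ≤ t ∧ q = t + 239 := ⟨q - 239, by linarith, by ring⟩
    ring_nf; positivity
  have hg0 : ((1) + (-1) * q + (1) * q ^ 3 + (-1) * q ^ 4 + (1) * q ^ 5 + (-1) * q ^ 7 + (1) * q ^ 8) ≠ (0 : ℤ) := hgpos.ne'
  have hd' : d' = (-1) + (1) * q ^ 3 + (1) * q ^ 5 + (1) * q ^ 7 + (1) * q ^ 9 + (1) * q ^ 11 + (1) * q ^ 13 + (-1) * q ^ 16 + (1) * q ^ 19 + (1) * q ^ 20 + (1) * q ^ 21 := mul_left_cancel₀ hg0 (by linear_combination hd)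
  have h1 := (mul_dvd_mul_iff_left hg0).1 h0
  have h2 := strip_head (c := 7) ⟨(1), (-8) + (-8) * q + (-8) * q ^ 2 + (-7) * q ^ 3 + (-7) * q ^ 4 + (-6) * q ^ 5 + (-6) * q ^ 6 + (-5) * q ^ 7 + (-5) * q ^ 8 + (-4) * q ^ 9 + (-4) * q ^ 10 + (-3) * q ^ 11 + (-3) * q ^ 12 + (-2) * q ^ 13 + (-2) * q ^ 14 + (-2) * q ^ 15 + (-3) * q ^ 16 + (-3) * q ^ 17 + (-3) * q ^ 18 + (-2) * q ^ 19 + (-1) * q ^ 20, by rw [hd']; ring⟩ h1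
  have h3 := strip_head (c := 9) ⟨(-1), (8) + (-8) * q + (8) * q ^ 2 + (-7) * q ^ 3 + (7) * q ^ 4 + (-6) * q ^ 5 + (6) * q ^ 6 + (-5) * q ^ 7 + (5) * q ^ 8 + (-4) * q ^ 9 + (4) * q ^ 10 + (-3) * q ^ 11 + (3) * q ^ 12 + (-2) * q ^ 13 + (2) * q ^ 14 + (-2) * q ^ 15 + (1) * q ^ 16 + (-1) * q ^ 17 + (1) * q ^ 18 + (1) * q ^ 20, by rw [hd']; ring⟩ h2
  have h4 := strip_head (c := 1) ⟨(1) * q, (1) + (-1) * q ^ 2 + (1) * q ^ 3 + (-1) * q ^ 4 + (-1) * q ^ 8 + (1) * q ^ 9 + (-1) * q ^ 10 + (-1) * q ^ 14 + (1) * q ^ 15 + (-1) * q ^ 20, by rw [hd']; ring⟩ h3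
  have h5 := strip_head (c := 1) ⟨(-1), (1) * q ^ 3 + (1) * q ^ 7 + (1) * q ^ 11 + (-1) * q ^ 16 + (1) * q ^ 18 + (1) * q ^ 19, by rw [hd']; ring⟩ h4
  have h6 := strip_head (c := 1) ⟨(-1) + (-1) * q ^ 3, (1) * q ^ 5 + (1) * q ^ 10 + (1) * q ^ 20, by rw [hd']; ring⟩ h5
  have h7 := strip_head (c := 3) ⟨(-1) * q, (3) + (2) * q + (-1) * q ^ 2 + (-3) * q ^ 3 + (-1) * q ^ 4 + (2) * q ^ 5 + (4) * q ^ 6 + (2) * q ^ 7 + (-1) * q ^ 8 + (-3) * q ^ 9 + (-1) * q ^ 10 + (2) * q ^ 11 + (4) * q ^ 12 + (2) * q ^ 13 + (-1) * q ^ 14 + (-3) * q ^ 15 + (-2) * q ^ 16 + (2) * q ^ 18 + (2) * q ^ 19 + (1) * q ^ 20, by rw [hd']; ring⟩ h6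
  have h8 := strip_head (c := 7) ⟨(1) + (2) * q + (3) * q ^ 2 + (-3) * q ^ 3 + (5) * q ^ 4 + (-1) * q ^ 5, (8) + (-6) * q + (1) * q ^ 2 + (-7) * q ^ 3 + (7) * q ^ 4 + (-8) * q ^ 5 + (6) * q ^ 6 + (-2) * q ^ 7 + (5) * q ^ 8 + (-10) * q ^ 9 + (4) * q ^ 10 + (-4) * q ^ 11 + (3) * q ^ 12 + (-5) * q ^ 13 + (9) * q ^ 14 + (-5) * q ^ 15 + (3) * q ^ 16 + (-4) * q ^ 17 + (3) * q ^ 18 + (-5) * q ^ 19 + (1) * q ^ 20, by rw [hd']; ring⟩ h7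
  have h9 := strip_head (c := 1) ⟨(-3) + (2) * q + (-2) * q ^ 3, (-2) + (2) * q + (1) * q ^ 3 + (1) * q ^ 5 + (2) * q ^ 7 + (2) * q ^ 9 + (1) * q ^ 11 + (1) * q ^ 13 + (-1) * q ^ 15 + (-1) * q ^ 16 + (1) * q ^ 17 + (2) * q ^ 19 + (2) * q ^ 20, by rw [hd']; ring⟩ h8
  have h10 := strip_head (c := 19) ⟨(-12) + (-3) * q + (4) * q ^ 2 + (-11) * q ^ 3 + (2) * q ^ 4 + (-9) * q ^ 5, (7) + (-3) * q + (4) * q ^ 2 + (-6) * q ^ 3 + (8) * q ^ 4 + (-5) * q ^ 5 + (13) * q ^ 6 + (1) * q ^ 7 + (24) * q ^ 8 + (-1) * q ^ 9 + (14) * q ^ 10 + (-13) * q ^ 11 + (11) * q ^ 12 + (-9) * q ^ 13 + (12) * q ^ 14 + (-16) * q ^ 15 + (3) * q ^ 16 + (-4) * q ^ 17 + (18) * q ^ 18 + (7) * q ^ 19 + (9) * q ^ 20, by rw [hd']; ring⟩ h9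
  have h11 := strip_head (c := 1) ⟨(1) + (-2) * q + (2) * q ^ 2 + (-1) * q ^ 3, (2) + (-3) * q ^ 5 + (3) * q ^ 10 + (-2) * q ^ 15 + (1) * q ^ 20, by rw [hd']; ring⟩ h10
  have h12 := strip_head (c := 1) ⟨(-2) + (1) * q + (2) * q ^ 2 + (-2) * q ^ 3, (-1) + (1) * q + (1) * q ^ 2 + (1) * q ^ 3 + (1) * q ^ 4 + (1) * q ^ 6 + (-1) * q ^ 7 + (1) * q ^ 8 + (-1) * q ^ 9 + (1) * q ^ 10 + (1) * q ^ 12 + (1) * q ^ 13 + (1) * q ^ 14 + (-1) * q ^ 15 + (-1) * q ^ 17 + (1) * q ^ 18 + (2) * q ^ 20, by rw [hd']; ring⟩ h11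
  have h13 := strip_head (c := 1) ⟨(-1) + (1) * q ^ 2 + (-1) * q ^ 3 + (1) * q ^ 4 + (-1) * q ^ 5, (1) * q ^ 2 + (1) * q ^ 3 + (1) * q ^ 4 + (1) * q ^ 8 + (1) * q ^ 12 + (1) * q ^ 13 + (1) * q ^ 14 + (-1) * q ^ 15 + (-1) * q ^ 16 + (1) * q ^ 18 + (1) * q ^ 19 + (1) * q ^ 20, by rw [hd']; ring⟩ h12
  have h14 := strip_head (c := 3) ⟨(-1) * q + (2) * q ^ 2 + (-3) * q ^ 3 + (2) * q ^ 4 + (-1) * q ^ 5, (3) + (-1) * q + (2) * q ^ 2 + (2) * q ^ 4 + (-1) * q ^ 5 + (1) * q ^ 6 + (-1) * q ^ 7 + (2) * q ^ 8 + (-3) * q ^ 9 + (2) * q ^ 10 + (-1) * q ^ 11 + (1) * q ^ 12 + (-1) * q ^ 13 + (2) * q ^ 14 + (1) * q ^ 16 + (2) * q ^ 18 + (-1) * q ^ 19 + (1) * q ^ 20, by rw [hd']; ring⟩ h13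
  have h15 := strip_head (c := 1) ⟨(1) * q + (-1) * q ^ 2 + (-1) * q ^ 3 + (2) * q ^ 4 + (-1) * q ^ 5 + (-1) * q ^ 6 + (1) * q ^ 7, (1) + (1) * q + (-1) * q ^ 5 + (-1) * q ^ 11 + (1) * q ^ 15 + (1) * q ^ 16 + (-1) * q ^ 20, by rw [hd']; ring⟩ h14
  have h16 := strip_head (c := 1) ⟨(1) * q + (-1) * q ^ 3 + (-1) * q ^ 5 + (1) * q ^ 7, (1) + (1) * q + (-1) * q ^ 3 + (-1) * q ^ 9 + (1) * q ^ 11 + (-1) * q ^ 13 + (1) * q ^ 15 + (1) * q ^ 16 + (1) * q ^ 17 + (-1) * q ^ 19 + (-1) * q ^ 20, by rw [hd']; ring⟩ h15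
  have h17 := strip_head (c := 1) ⟨(1) * q + (-1) * q ^ 3 + (-1) * q ^ 5 + (1) * q ^ 7, (1) + (1) * q ^ 16 + (-1) * q ^ 20, by rw [hd']; ring⟩ h16
  have hle : d' ≤ 8020146662466011199 :=
    Int.le_of_dvd (by norm_num) (h17.trans (dvd_of_eq (by norm_num)))
  have hpow : ((239 : ℤ)) ^ 20 ≤ q ^ 20 := pow_le_pow_left₀ (by norm_num) hq _
  have hbig : (8020146662466011199 : ℤ) + 1 ≤ q ^ 20 := le_trans (by norm_num) hpow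
  have htop : q ^ 29 ≤ q * (q ^ 12 + 1) * (q ^ 10 + 1) * (q ^ 6 + 1) := by
    ring_nf; nlinarith [pow_nonneg (show (0 : ℤ) ≤ q by linarith) 1, pow_nonneg (show (0 : ℤ) ≤ q by linarith) 7, pow_nonneg (show (0 : ℤ) ≤ q by linarith) 11, pow_nonneg (show (0 : ℤ) ≤ q by linarith) 13, pow_nonneg (show (0 : ℤ) ≤ q by linarith) 17, pow_nonneg (show (0 : ℤ) ≤ q by linarith) 19, pow_nonneg (show (0 : ℤ) ≤ q by linarith) 23]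
  have hgle : ((1) + (-1) * q + (1) * q ^ 3 + (-1) * q ^ 4 + (1) * q ^ 5 + (-1) * q ^ 7 + (1) * q ^ 8) * 8020146662466011199 + 1 < q ^ 29 := by
    have e : q ^ 29 = q ^ 9 * q ^ 20 := by rw [← pow_add]
    have hm := mul_le_mul_of_nonneg_left hbig (show (0 : ℤ) ≤ q ^ 9 by positivity)
    have h1 := pow_le_pow_right₀ (show (1 : ℤ) ≤ q by linarith) (show 1 ≤ 9 by norm_num)
    have h2 := mul_le_mul_of_nonneg_right (sub_nonneg.1 hgub.le) (show (0 : ℤ) ≤ 8020146662466011199 by norm_num)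
    rw [pow_one] at *
    rw [e]; linarith
  have hpos : (0 : ℤ) ≤ (1) + (-1) * q + (1) * q ^ 3 + (-1) * q ^ 4 + (1) * q ^ 5 + (-1) * q ^ 7 + (1) * q ^ 8 := hgpos.le
  have := mul_le_mul_of_nonneg_left hle hpos
  linarith

theorem permE8_2 (p1 p2 p3 p4 p5 p6 p7 p8 p9 p10 p12 p14 p15 p18 p20 p24 p30 : ℤ) :
    2 * ((p1 * p2) * (p1 * p2 * p4 * p8) * (p1 * p2 * p3 * p4 * p6 * p12) * (p1 * p2 * p7 * p14) * (p1 * p2 * p3 * p6 * p9 * p18) * (p1 * p2 * p4 * p5 * p10 * p20) * (p1 * p2 * p3 * p4 * p6 * p8 * p12 * p24) * (p1 * p2 * p3 * p5 * p6 * p10 * p15 * p30)) = p10 * (2 * (p1 ^ 8 * (p2 ^ 8 * (p3 ^ 4 * (p4 ^ 4 * (p5 ^ 2 * (p6 ^ 4 * (p7 ^ 1 * (p8 ^ 2 * (p9 ^ 1 * (p10 ^ 1 * (p12 ^ 2 * (p14 ^ 1 * (p15 ^ 1 * (p18 ^ 1 * (p20 ^ 1 * (p24 ^ 1 * (p30 ^ 1 * (1))))))))))))))))))) := by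
  ring

theorem noE8_2 (q d : ℤ) (hq : 239 ≤ q) (hd : d + 2 = q * (q ^ 12 + 1) * (q ^ 10 + 1) * (q ^ 6 + 1))
    (h : d ∣ 2 * ((q ^ 2 - 1) * (q ^ 8 - 1) * (q ^ 12 - 1) * (q ^ 14 - 1) * (q ^ 18 - 1) * (q ^ 20 - 1) * (q ^ 24 - 1) * (q ^ 30 - 1))) : False := by
  rw [cycloE8] at h
  have h0 := h.trans (dvd_of_eq (permE8_2 ((-1) + (1) * q) ((1) + (1) * q) ((1) + (1) * q + (1) * q ^ 2) ((1) + (1) * q ^ 2) ((1) + (1) * q + (1) * q ^ 2 + (1) * q ^ 3 + (1) * q ^ 4) ((1) + (-1) * q + (1) * q ^ 2) ((1) + (1) * q + (1) * q ^ 2 + (1) * q ^ 3 + (1) * q ^ 4 + (1) * q ^ 5 + (1) * q ^ 6) ((1) + (1) * q ^ 4) ((1) + (1) * q ^ 3 + (1) * q ^ 6) ((1) + (-1) * q + (1) * q ^ 2 + (-1) * q ^ 3 + (1) * q ^ 4) ((1) + (-1) * q ^ 2 + (1) * q ^ 4) ((1) + (-1) * q + (1) * q ^ 2 + (-1) * q ^ 3 + (1) * q ^ 4 + (-1) * q ^ 5 + (1)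 * q ^ 6) ((1) + (-1) * q + (1) * q ^ 3 + (-1) * q ^ 4 + (1) * q ^ 5 + (-1) * q ^ 7 + (1) * q ^ 8) ((1) + (-1) * q ^ 3 + (1) * q ^ 6) ((1) + (-1) * q ^ 2 + (1) * q ^ 4 + (-1) * q ^ 6 + (1) * q ^ 8) ((1) + (-1) * q ^ 4 + (1) * q ^ 8) ((1) + (1) * q + (-1) * q ^ 3 + (-1) * q ^ 4 + (-1) * q ^ 5 + (1) * q ^ 7 + (1) * q ^ 8)))
  obtain ⟨d', rfl⟩ : ∃ d', d = ((1) + (-1) * q + (1) * q ^ 2 + (-1) * q ^ 3 + (1) * q ^ 4) * d' :=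
    ⟨(-2) + (-1) * q + (1) * q ^ 2 + (2) * q ^ 5 + (1) * q ^ 6 + (1) * q ^ 8 + (-2) * q ^ 10 + (1) * q ^ 12 + (1) * q ^ 14 + (2) * q ^ 15 + (1) * q ^ 18 + (-1) * q ^ 20 + (1) * q ^ 24 + (1) * q ^ 25, by linear_combination hd⟩
  have hgpos : (0 : ℤ) < (1) + (-1) * q + (1) * q ^ 2 + (-1) * q ^ 3 + (1) * q ^ 4 := by
    obtain ⟨t, ht, rfl⟩ : ∃ t, 0 ≤ t ∧ q = t + 239 := ⟨q - 239, by linarith, by ring⟩
    ring_nf; positivity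
  have hgub : (0 : ℤ) < q ^ 5 - ((1) + (-1) * q + (1) * q ^ 2 + (-1) * q ^ 3 + (1) * q ^ 4) := by
    obtain ⟨t, ht, rfl⟩ : ∃ t, 0 ≤ t ∧ q = t + 239 := ⟨q - 239, by linarith, by ring⟩
    ring_nf; positivity
  have hg0 : ((1) + (-1) * q + (1) * q ^ 2 + (-1) * q ^ 3 + (1) * q ^ 4) ≠ (0 : ℤ) := hgpos.ne'
  have hd' : d' = (-2) + (-1) * q + (1) * q ^ 2 + (2) * q ^ 5 + (1) * q ^ 6 + (1) * q ^ 8 + (-2) * q ^ 10 + (1) * q ^ 12 + (1) * q ^ 14 + (2) * q ^ 15 + (1) * q ^ 18 + (-1) * q ^ 20 + (1) * q ^ 24 + (1) * q ^ 25 := mul_left_cancel₀ hg0 (by linear_combination hd)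
  have h1 := (mul_dvd_mul_iff_left hg0).1 h0
  have h2 := strip_head (c := 6) ⟨(1), (-8) + (-9) * q + (-8) * q ^ 2 + (-8) * q ^ 3 + (-8) * q ^ 4 + (-6) * q ^ 5 + (-5) * q ^ 6 + (-5) * q ^ 7 + (-4) * q ^ 8 + (-4) * q ^ 9 + (-6) * q ^ 10 + (-6) * q ^ 11 + (-5) * q ^ 12 + (-5) * q ^ 13 + (-4) * q ^ 14 + (-2) * q ^ 15 + (-2) * q ^ 16 + (-2) * q ^ 17 + (-1) * q ^ 18 + (-1) * q ^ 19 + (-2) * q ^ 20 + (-2) * q ^ 21 + (-2) * q ^ 22 + (-2) * q ^ 23 + (-1) * q ^ 24, by rw [hd']; ring⟩ h1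
  have h3 := strip_head (c := 2) ⟨(-1), (-1) * q + (2) * q ^ 2 + (-2) * q ^ 3 + (2) * q ^ 4 + (1) * q ^ 6 + (-1) * q ^ 7 + (2) * q ^ 8 + (-2) * q ^ 9 + (1) * q ^ 12 + (-1) * q ^ 13 + (2) * q ^ 14 + (1) * q ^ 18 + (-1) * q ^ 19 + (1) * q ^ 24, by rw [hd']; ring⟩ h2
  have h4 := strip_head (c := 6) ⟨(1) + (1) * q, (8) + (-5) * q + (-3) * q ^ 2 + (7) * q ^ 3 + (-4) * q ^ 4 + (-5) * q ^ 5 + (6) * q ^ 6 + (-2) * q ^ 7 + (-5) * q ^ 8 + (6) * q ^ 9 + (1) * q ^ 10 + (-5) * q ^ 11 + (3) * q ^ 12 + (1) * q ^ 13 + (-5) * q ^ 14 + (1) * q ^ 15 + (2) * q ^ 16 + (-3) * q ^ 17 + (2) * q ^ 19 + (-1) * q ^ 20 + (1) * q ^ 22 + (-1) * q ^ 23 + (-1) * q ^ 24, by rw [hd']; ring⟩ h3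
  have h5 := strip_head (c := 2) ⟨(-1), (-1) * q + (1) * q ^ 2 + (1) * q ^ 3 + (-1) * q ^ 4 + (1) * q ^ 5 + (2) * q ^ 6 + (-1) * q ^ 7 + (-1) * q ^ 8 + (1) * q ^ 9 + (-1) * q ^ 10 + (-1) * q ^ 11 + (2) * q ^ 12 + (1) * q ^ 13 + (-1) * q ^ 14 + (1) * q ^ 15 + (1) * q ^ 16 + (-1) * q ^ 17 + (1) * q ^ 19 + (-1) * q ^ 20 + (-1) * q ^ 21 + (1) * q ^ 22 + (1) * q ^ 23, by rw [hd']; ring⟩ h4
  have h6 := strip_head (c := 2) ⟨(1) * q + (1) * q ^ 3, (2) + (-1) * q ^ 2 + (-1) * q ^ 6 + (-1) * q ^ 8 + (2) * q ^ 10 + (-1) * q ^ 12 + (-1) * q ^ 14 + (-1) * q ^ 18 + (1) * q ^ 20 + (-1) * q ^ 24, by rw [hd']; ring⟩ h5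
  have h7 := strip_head (c := 2) ⟨(1) + (-1) * q, (4) + (3) * q + (-3) * q ^ 2 + (-5) * q ^ 3 + (-2) * q ^ 4 + (1) * q ^ 5 + (4) * q ^ 6 + (4) * q ^ 7 + (-1) * q ^ 8 + (-4) * q ^ 9 + (-1) * q ^ 10 + (1) * q ^ 11 + (1) * q ^ 12 + (1) * q ^ 13 + (-1) * q ^ 14 + (-3) * q ^ 15 + (3) * q ^ 17 + (2) * q ^ 18 + (-1) * q ^ 20 + (-2) * q ^ 21 + (-1) * q ^ 22 + (1) * q ^ 23 + (1) * q ^ 24, by rw [hd']; ring⟩ h6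
  have h8 := strip_head (c := 127) ⟨(-58) + (40) * q + (-38) * q ^ 2 + (50) * q ^ 3 + (-33) * q ^ 4 + (-11) * q ^ 5, (11) + (11) * q + (-11) * q ^ 5 + (-11) * q ^ 6 + (58) * q ^ 7 + (-40) * q ^ 8 + (-20) * q ^ 9 + (1) * q ^ 10 + (64) * q ^ 11 + (-37) * q ^ 12 + (45) * q ^ 13 + (17) * q ^ 14 + (-66) * q ^ 15 + (-33) * q ^ 16 + (47) * q ^ 17 + (18) * q ^ 18 + (9) * q ^ 19 + (10) * q ^ 20 + (5) * q ^ 21 + (-61) * q ^ 22 + (33) * q ^ 23 + (11) * q ^ 24, by rw [hd']; ring⟩ h7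
  have h9 := strip_head (c := 2) ⟨(1) * q + (-1) * q ^ 2 + (1) * q ^ 3, (2) + (2) * q + (-1) * q ^ 2 + (-3) * q ^ 5 + (-1) * q ^ 6 + (1) * q ^ 7 + (-1) * q ^ 8 + (1) * q ^ 9 + (2) * q ^ 10 + (-1) * q ^ 12 + (-1) * q ^ 14 + (-2) * q ^ 15 + (1) * q ^ 17 + (-1) * q ^ 18 + (1) * q ^ 19 + (1) * q ^ 20 + (-1) * q ^ 21 + (-1) * q ^ 24, by rw [hd']; ring⟩ h8
  have h10 := strip_head (c := 57) ⟨(-17) + (18) * q + (-28) * q ^ 2 + (35) * q ^ 3 + (-27) * q ^ 4 + (4) * q ^ 5, (23) + (19) * q + (-21) * q ^ 2 + (1) * q ^ 3 + (-10) * q ^ 4 + (1) * q ^ 5 + (-12) * q ^ 6 + (25) * q ^ 7 + (-5) * q ^ 8 + (12) * q ^ 9 + (-2) * q ^ 10 + (1) * q ^ 11 + (-12) * q ^ 12 + (25) * q ^ 13 + (-5) * q ^ 14 + (-11) * q ^ 15 + (-4) * q ^ 16 + (21) * q ^ 17 + (-3) * q ^ 18 + (11) * q ^ 19 + (-13) * q ^ 20 + (-3) * q ^ 21 + (-8) *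 q ^ 22 + (23) * q ^ 23 + (-4) * q ^ 24, by rw [hd']; ring⟩ h9
  have h11 := strip_head (c := 12) ⟨(-1), (10) + (9) * q + (1) * q ^ 3 + (-8) * q ^ 5 + (-6) * q ^ 6 + (1) * q ^ 7 + (1) * q ^ 9 + (6) * q ^ 10 + (4) * q ^ 11 + (1) * q ^ 13 + (-3) * q ^ 15 + (-2) * q ^ 16 + (1) * q ^ 19 + (2) * q ^ 20 + (1) * q ^ 21, by rw [hd']; ring⟩ h10
  have h12 := strip_head (c := 2) ⟨(1) * q + (-2) * q ^ 2 + (1) * q ^ 3, (2) + (2) * q + (-1) * q ^ 2 + (1) * q ^ 3 + (-2) * q ^ 5 + (-1) * q ^ 6 + (-1) * q ^ 8 + (2) * q ^ 10 + (1) * q ^ 11 + (-1) * q ^ 12 + (2) * q ^ 13 + (-1) * q ^ 14 + (-1) * q ^ 15 + (-1) * q ^ 18 + (1) * q ^ 20 + (1) * q ^ 23 + (-1) * q ^ 24, by rw [hd']; ring⟩ h11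
  have h13 := strip_head (c := 43) ⟨(-16) + (8) * q + (-12) * q ^ 2 + (10) * q ^ 3 + (-11) * q ^ 4 + (-11) * q ^ 5, (11) + (11) * q + (-11) * q ^ 5 + (-11) * q ^ 6 + (16) * q ^ 7 + (24) * q ^ 8 + (12) * q ^ 9 + (17) * q ^ 10 + (30) * q ^ 11 + (31) * q ^ 12 + (37) * q ^ 13 + (13) * q ^ 14 + (-26) * q ^ 15 + (-13) * q ^ 16 + (15) * q ^ 17 + (2) * q ^ 18 + (1) * q ^ 19 + (6) * q ^ 20 + (3) * q ^ 21 + (23) * q ^ 22 + (33) * q ^ 23 + (11) * q ^ 24, by rw [hd']; ring⟩ h12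
  have h14 := strip_head (c := 1) ⟨(-1) + (1) * q + (-1) * q ^ 2 + (1) * q ^ 3 + (-1) * q ^ 4, (-1) + (1) * q ^ 3 + (1) * q ^ 5 + (1) * q ^ 7 + (1) * q ^ 9 + (1) * q ^ 11 + (1) * q ^ 13 + (-1) * q ^ 16 + (1) * q ^ 19 + (1) * q ^ 20 + (1) * q ^ 21, by rw [hd']; ring⟩ h13
  have h15 := strip_head (c := 127) ⟨(-59) + (20) * q + (-24) * q ^ 2 + (37) * q ^ 3 + (-19) * q ^ 4 + (-28) * q ^ 5, (9) + (-19) * q + (31) * q ^ 2 + (39) * q ^ 3 + (4) * q ^ 4 + (37) * q ^ 5 + (40) * q ^ 6 + (79) * q ^ 7 + (15) * q ^ 8 + (-18) * q ^ 9 + (56) * q ^ 10 + (9) * q ^ 11 + (-28) * q ^ 12 + (59) * q ^ 13 + (39) * q ^ 14 + (-5) * q ^ 15 + (6) * q ^ 16 + (69) * q ^ 17 + (27) * q ^ 18 + (-7) * q ^ 19 + (51) * q ^ 20 + (15) * q ^ 21 + (-18) * q ^ 22 + (47) * q ^ 23 + (28) * q ^ 24, by rw [hd']; ring⟩ h14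
  have h16 := strip_head (c := 2) ⟨(-1) + (1) * q + (-1) * q ^ 2 + (1) * q ^ 3 + (-1) * q ^ 4, (1) * q + (1) * q ^ 3 + (1) * q ^ 7 + (1) * q ^ 9 + (1) * q ^ 13 + (1) * q ^ 15 + (1) * q ^ 19 + (1) * q ^ 21, by rw [hd']; ring⟩ h15
  have h17 := strip_head (c := 2) ⟨(-1) + (1) * q + (-1) * q ^ 2 + (1) * q ^ 3 + (-1) * q ^ 4, (1) * q + (1) * q ^ 5 + (1) * q ^ 7 + (2) * q ^ 11 + (1) * q ^ 15 + (1) * q ^ 17 + (1) * q ^ 21, by rw [hd']; ring⟩ h16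
  have h18 := strip_head (c := 3) ⟨(-1) + (1) * q + (-1) * q ^ 2 + (1) * q ^ 3 + (-1) * q ^ 4, (1) + (1) * q ^ 3 + (1) * q ^ 5 + (1) * q ^ 7 + (1) * q ^ 9 + (1) * q ^ 11 + (1) * q ^ 13 + (1) * q ^ 16 + (1) * q ^ 19 + (-1) * q ^ 20 + (1) * q ^ 21, by rw [hd']; ring⟩ h17
  have hle : d' ≤ 103948481662875332392255488 :=
    Int.le_of_dvd (by norm_num) (h18.trans (dvd_of_eq (by norm_num)))
  have hpow : ((239 : ℤ)) ^ 24 ≤ q ^ 24 := pow_le_pow_left₀ (by norm_num) hq _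
  have hbig : (103948481662875332392255488 : ℤ) + 1 ≤ q ^ 24 := le_trans (by norm_num) hpow
  have htop : q ^ 29 ≤ q * (q ^ 12 + 1) * (q ^ 10 + 1) * (q ^ 6 + 1) := by
    ring_nf; nlinarith [pow_nonneg (show (0 : ℤ) ≤ q by linarith) 1, pow_nonneg (show (0 : ℤ) ≤ q by linarith) 7, pow_nonneg (show (0 : ℤ) ≤ q by linarith) 11, pow_nonneg (show (0 : ℤ) ≤ q by linarith) 13, pow_nonneg (show (0 : ℤ) ≤ q by linarith) 17, pow_nonneg (show (0 : ℤ) ≤ q by linarith) 19, pow_nonneg (show (0 : ℤ) ≤ q by linarith) 23]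
  have hgle : ((1) + (-1) * q + (1) * q ^ 2 + (-1) * q ^ 3 + (1) * q ^ 4) * 103948481662875332392255488 + 2 < q ^ 29 := by
    have e : q ^ 29 = q ^ 5 * q ^ 24 := by rw [← pow_add]
    have hm := mul_le_mul_of_nonneg_left hbig (show (0 : ℤ) ≤ q ^ 5 by positivity)
    have h1 := pow_le_pow_right₀ (show (1 : ℤ) ≤ q by linarith) (show 1 ≤ 5 by norm_num)
    have h2 := mul_le_mul_of_nonneg_right (sub_nonneg.1 hgub.le) (show (0 : ℤ) ≤ 103948481662875332392255488 by norm_num)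
    rw [pow_one] at *
    rw [e]; linarith
  have hpos : (0 : ℤ) ≤ (1) + (-1) * q + (1) * q ^ 2 + (-1) * q ^ 3 + (1) * q ^ 4 := hgpos.le
  have := mul_le_mul_of_nonneg_left hle hpos
  linarith

theorem permE8_3 (p1 p2 p3 p4 p5 p6 p7 p8 p9 p10 p12 p14 p15 p18 p20 p24 p30 : ℤ) :
    3 * ((p1 * p2) * (p1 * p2 * p4 * p8) * (p1 * p2 * p3 * p4 * p6 * p12) * (p1 * p2 * p7 * p14) * (p1 * p2 * p3 * p6 * p9 * p18) * (p1 * p2 * p4 * p5 * p10 * p20) * (p1 * p2 * p3 * p4 * p6 * p8 * p12 * p24) * (p1 * p2 * p3 * p5 * p6 * p10 * p15 * p30)) = 3 * (p1 ^ 8 * (p2 ^ 8 * (p3 ^ 4 * (p4 ^ 4 * (p5 ^ 2 * (p6 ^ 4 * (p7 ^ 1 * (p8 ^ 2 * (p9 ^ 1 * (p10 ^ 2 * (p12 ^ 2 * (p14 ^ 1 * (p15 ^ 1 * (p18 ^ 1 * (p20 ^ 1 * (p24 ^ 1 * (p30 ^ 1 * (1)))))))))))))))))) := by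
  ring

theorem noE8_3 (q d : ℤ) (hq : 239 ≤ q) (hd : d + 3 = q * (q ^ 12 + 1) * (q ^ 10 + 1) * (q ^ 6 + 1))
    (h : d ∣ 3 * ((q ^ 2 - 1) * (q ^ 8 - 1) * (q ^ 12 - 1) * (q ^ 14 - 1) * (q ^ 18 - 1) * (q ^ 20 - 1) * (q ^ 24 - 1) * (q ^ 30 - 1))) : False := by
  rw [cycloE8] at h
  have h0 := h.trans (dvd_of_eq (permE8_3 ((-1) + (1) * q) ((1) + (1) * q) ((1) + (1) * q + (1) * q ^ 2) ((1) + (1) * q ^ 2) ((1) + (1) * q + (1) * q ^ 2 + (1) * q ^ 3 + (1) * q ^ 4) ((1) + (-1) * q + (1) * q ^ 2) ((1) + (1) * q + (1) * q ^ 2 + (1) * q ^ 3 + (1) * q ^ 4 + (1) * q ^ 5 + (1) * q ^ 6) ((1) + (1) * q ^ 4) ((1) + (1) * q ^ 3 + (1) * q ^ 6) ((1) + (-1) * q + (1) * q ^ 2 + (-1) * q ^ 3 + (1) * q ^ 4) ((1) + (-1) * q ^ 2 + (1) * q ^ 4) ((1) + (-1) * q + (1) * q ^ 2 + (-1) * q ^ 3 + (1) * q ^ 4 + (-1) * q ^ 5 + (1)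 * q ^ 6) ((1) + (-1) * q + (1) * q ^ 3 + (-1) * q ^ 4 + (1) * q ^ 5 + (-1) * q ^ 7 + (1) * q ^ 8) ((1) + (-1) * q ^ 3 + (1) * q ^ 6) ((1) + (-1) * q ^ 2 + (1) * q ^ 4 + (-1) * q ^ 6 + (1) * q ^ 8) ((1) + (-1) * q ^ 4 + (1) * q ^ 8) ((1) + (1) * q + (-1) * q ^ 3 + (-1) * q ^ 4 + (-1) * q ^ 5 + (1) * q ^ 7 + (1) * q ^ 8)))
  have hd' : d = (-3) + (1) * q + (1) * q ^ 7 + (1) * q ^ 11 + (1) * q ^ 13 + (1) * q ^ 17 + (1) * q ^ 19 + (1) * q ^ 23 + (1) * q ^ 29 := by linear_combination hd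
  have h1 := h0
  have h2 := strip_head (c := 5) ⟨(1), (-8) + (-7) * q + (-7) * q ^ 2 + (-7) * q ^ 3 + (-7) * q ^ 4 + (-7) * q ^ 5 + (-7) * q ^ 6 + (-6) * q ^ 7 + (-6) * q ^ 8 + (-6) * q ^ 9 + (-6) * q ^ 10 + (-5) * q ^ 11 + (-5) * q ^ 12 + (-4) * q ^ 13 + (-4) * q ^ 14 + (-4) * q ^ 15 + (-4) * q ^ 16 + (-3) * q ^ 17 + (-3) * q ^ 18 + (-2) * q ^ 19 + (-2) * q ^ 20 + (-2) * q ^ 21 + (-2) * q ^ 22 + (-1) * q ^ 23 + (-1) * q ^ 24 + (-1) * q ^ 25 + (-1) * q ^ 26 + (-1) * q ^ 27 + (-1) * q ^ 28, by rw [hd']; ring⟩ h1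
  have h3 := strip_head (c := 11) ⟨(-1), (8) + (-7) * q + (7) * q ^ 2 + (-7) * q ^ 3 + (7) * q ^ 4 + (-7) * q ^ 5 + (7) * q ^ 6 + (-6) * q ^ 7 + (6) * q ^ 8 + (-6) * q ^ 9 + (6) * q ^ 10 + (-5) * q ^ 11 + (5) * q ^ 12 + (-4) * q ^ 13 + (4) * q ^ 14 + (-4) * q ^ 15 + (4) * q ^ 16 + (-3) * q ^ 17 + (3) * q ^ 18 + (-2) * q ^ 19 + (2) * q ^ 20 + (-2) * q ^ 21 + (2) * q ^ 22 + (-1) * q ^ 23 + (1) * q ^ 24 + (-1) * q ^ 25 + (1) * q ^ 26 + (-1) * q ^ 27 + (1) * q ^ 28, by rw [hd']; ring⟩ h2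
  have h4 := strip_head (c := 7) ⟨(-1), (4) + (-3) * q + (-1) * q ^ 2 + (4) * q ^ 3 + (-3) * q ^ 4 + (-1) * q ^ 5 + (4) * q ^ 6 + (-2) * q ^ 7 + (-2) * q ^ 8 + (4) * q ^ 9 + (-2) * q ^ 10 + (-1) * q ^ 11 + (3) * q ^ 12 + (-1) * q ^ 13 + (-2) * q ^ 14 + (3) * q ^ 15 + (-1) * q ^ 16 + (-1) * q ^ 17 + (2) * q ^ 18 + (-2) * q ^ 20 + (2) * q ^ 21 + (-1) * q ^ 23 + (1) * q ^ 24 + (-1) * q ^ 26 + (1) * q ^ 27, by rw [hd']; ring⟩ h3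
  have h5 := strip_head (c := 3) ⟨(-1), (1) * q + (-1) * q ^ 3 + (1) * q ^ 5 + (1) * q ^ 11 + (1) * q ^ 17 + (1) * q ^ 23 + (-1) * q ^ 25 + (1) * q ^ 27, by rw [hd']; ring⟩ h4
  have h6 := strip_head (c := 5) ⟨(-1), (2) + (-1) * q + (-1) * q ^ 2 + (2) * q ^ 5 + (-1) * q ^ 6 + (-1) * q ^ 8 + (2) * q ^ 10 + (-1) * q ^ 12 + (-1) * q ^ 14 + (2) * q ^ 15 + (-1) * q ^ 18 + (1) * q ^ 20 + (-1) * q ^ 24 + (1) * q ^ 25, by rw [hd']; ring⟩ h5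
  have h7 := strip_head (c := 1) ⟨(1), (4) + (3) * q + (-1) * q ^ 2 + (-4) * q ^ 3 + (-3) * q ^ 4 + (1) * q ^ 5 + (4) * q ^ 6 + (2) * q ^ 7 + (-2) * q ^ 8 + (-4) * q ^ 9 + (-2) * q ^ 10 + (1) * q ^ 11 + (3) * q ^ 12 + (1) * q ^ 13 + (-2) * q ^ 14 + (-3) * q ^ 15 + (-1) * q ^ 16 + (1) * q ^ 17 + (2) * q ^ 18 + (-2) * q ^ 20 + (-2) * q ^ 21 + (1) * q ^ 23 + (1) * q ^ 24 + (-1) * q ^ 26 + (-1) * q ^ 27, by rw [hd']; ring⟩ h6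
  have h8 := strip_head (c := 1093) ⟨(-364) + (-121) * q + (-40) * q ^ 2 + (-13) * q ^ 3 + (-4) * q ^ 4 + (-1) * q ^ 5, (1) + (364) * q ^ 7 + (-243) * q ^ 8 + (-81) * q ^ 9 + (-27) * q ^ 10 + (355) * q ^ 11 + (-246) * q ^ 12 + (282) * q ^ 13 + (94) * q ^ 14 + (-333) * q ^ 15 + (-111) * q ^ 16 + (327) * q ^ 17 + (109) * q ^ 18 + (36) * q ^ 19 + (12) * q ^ 20 + (4) * q ^ 21 + (-363) * q ^ 22 + (243) * q ^ 23 + (81) * q ^ 24 + (27) * q ^ 25 + (9) * q ^ 26 + (3) * q ^ 27 + (1) * q ^ 28, by rw [hd']; ring⟩ h7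
  have h9 := strip_head (c := 3) ⟨(-1), (1) * q + (-1) * q ^ 5 + (1) * q ^ 7 + (1) * q ^ 9 + (1) * q ^ 17 + (1) * q ^ 19 + (-1) * q ^ 21 + (1) * q ^ 25, by rw [hd']; ring⟩ h8
  have h10 := strip_head (c := 1117) ⟨(-342) + (-102) * q + (-148) * q ^ 2 + (-53) * q ^ 3 + (-55) * q ^ 4 + (-36) * q ^ 5, (91) + (36) * q + (-342) * q ^ 2 + (-102) * q ^ 3 + (-148) * q ^ 4 + (289) * q ^ 5 + (47) * q ^ 6 + (454) * q ^ 7 + (155) * q ^ 8 + (203) * q ^ 9 + (-253) * q ^ 10 + (-47) * q ^ 11 + (-112) * q ^ 12 + (289) * q ^ 13 + (47) * q ^ 14 + (112) * q ^ 15 + (53) * q ^ 16 + (397) * q ^ 17 + (138) * q ^ 18 + (148) * q ^ 19 + (-289) * q ^ 20 + (-47) * q ^ 21 + (-112) * q ^ 22 + (289) * q ^ 23 + (47) * q ^ 24 + (112) * q ^ 25 + (53) * q ^ 26 + (55) * q ^ 27 + (36) * q ^ 28, by rw [hd']; ring⟩ h9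
  have h11 := strip_head (c := 1) ⟨(-1), (-2) + (-1) * q + (1) * q ^ 2 + (2) * q ^ 5 + (1) * q ^ 6 + (1) * q ^ 8 + (-2) * q ^ 10 + (1) * q ^ 12 + (1) * q ^ 14 + (2) * q ^ 15 + (1) * q ^ 18 + (-1) * q ^ 20 + (1) * q ^ 24 + (1) * q ^ 25, by rw [hd']; ring⟩ h10
  have h12 := strip_head (c := 3) ⟨(-1), (1) * q + (1) * q ^ 3 + (1) * q ^ 11 + (2) * q ^ 13 + (1) * q ^ 15 + (1) * q ^ 23 + (1) * q ^ 25, by rw [hd']; ring⟩ h11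
  have h13 := strip_head (c := 547) ⟨(-182) + (-61) * q + (-20) * q ^ 2 + (-7) * q ^ 3 + (-2) * q ^ 4 + (-1) * q ^ 5, (1) + (182) * q ^ 7 + (243) * q ^ 8 + (81) * q ^ 9 + (27) * q ^ 10 + (191) * q ^ 11 + (246) * q ^ 12 + (264) * q ^ 13 + (88) * q ^ 14 + (-153) * q ^ 15 + (-51) * q ^ 16 + (165) * q ^ 17 + (55) * q ^ 18 + (18) * q ^ 19 + (6) * q ^ 20 + (2) * q ^ 21 + (183) * q ^ 22 + (243) * q ^ 23 + (81) * q ^ 24 + (27) * q ^ 25 + (9) * q ^ 26 + (3) * q ^ 27 + (1) * q ^ 28, by rw [hd']; ring⟩ h12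
  have h14 := strip_head (c := 2) ⟨(-1), (-1) + (1) * q ^ 3 + (1) * q ^ 5 + (1) * q ^ 7 + (1) * q ^ 9 + (1) * q ^ 11 + (1) * q ^ 13 + (-1) * q ^ 16 + (1) * q ^ 19 + (1) * q ^ 20 + (1) * q ^ 21, by rw [hd']; ring⟩ h13
  have h15 := strip_head (c := 991) ⟨(-324) + (-114) * q + (70) * q ^ 2 + (55) * q ^ 3 + (1) * q ^ 4 + (-18) * q ^ 5, (19) + (-18) * q + (324) * q ^ 2 + (114) * q ^ 3 + (-70) * q ^ 4 + (269) * q ^ 5 + (113) * q ^ 6 + (272) * q ^ 7 + (59) * q ^ 8 + (-71) * q ^ 9 + (287) * q ^ 10 + (113) * q ^ 11 + (-52) * q ^ 12 + (269) * q ^ 13 + (113) * q ^ 14 + (-52) * q ^ 15 + (-55) * q ^ 16 + (323) * q ^ 17 + (132) * q ^ 18 + (-70) * q ^ 19 + (269) * q ^ 20 + (113) * q ^ 21 + (-52) * q ^ 22 + (269) * q ^ 23 + (113) * q ^ 24 + (-52) * q ^ 25 + (-55) * q ^ 26 + (-1) * q ^ 27 + (18) * q ^ 28, by rw [hd'];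 ring⟩ h14
  have h16 := strip_head (c := 3) ⟨(-1), (1) * q + (1) * q ^ 3 + (1) * q ^ 7 + (1) * q ^ 9 + (1) * q ^ 13 + (1) * q ^ 15 + (1) * q ^ 19 + (1) * q ^ 21, by rw [hd']; ring⟩ h15
  have h17 := strip_head (c := 3) ⟨(-1), (1) * q + (1) * q ^ 5 + (1) * q ^ 7 + (2) * q ^ 11 + (1) * q ^ 15 + (1) * q ^ 17 + (1) * q ^ 21, by rw [hd']; ring⟩ h16
  have h18 := strip_head (c := 4) ⟨(-1), (1) + (1) * q ^ 3 + (1) * q ^ 5 + (1) * q ^ 7 + (1) * q ^ 9 + (1) * q ^ 11 + (1) * q ^ 13 + (1) * q ^ 16 + (1) * q ^ 19 + (-1) * q ^ 20 + (1) * q ^ 21, by rw [hd']; ring⟩ h17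
  have hle : d ≤ 4714024002223600272116090074921875000 :=
    Int.le_of_dvd (by norm_num) (h18.trans (dvd_of_eq (by norm_num)))
  have hpow : ((239 : ℤ)) ^ 28 ≤ q ^ 28 := pow_le_pow_left₀ (by norm_num) hq _
  have hbig : (4714024002223600272116090074921875000 : ℤ) + 1 ≤ q ^ 28 := le_trans (by norm_num) hpow
  have htop : q ^ 29 ≤ q * (q ^ 12 + 1) * (q ^ 10 + 1) * (q ^ 6 + 1) := by
    ring_nf; nlinarith [pow_nonneg (show (0 : ℤ) ≤ q by linarith) 1, pow_nonneg (show (0 : ℤ) ≤ q by linarith) 7, pow_nonneg (show (0 : ℤ) ≤ q by linarith) 11, pow_nonneg (show (0 : ℤ) ≤ q by linarith) 13, pow_nonneg (show (0 : ℤ) ≤ q by linarith) 17, pow_nonneg (show (0 : ℤ) ≤ q by linarith) 19, pow_nonneg (show (0 : ℤ) ≤ q by linarith) 23]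
  have hgle : 4714024002223600272116090074921875000 + 3 < q ^ 29 := by
    have e : q ^ 29 = q ^ 1 * q ^ 28 := by rw [← pow_add]
    have hm := mul_le_mul_of_nonneg_left hbig (show (0 : ℤ) ≤ q ^ 1 by positivity)
    have h1 := pow_le_pow_right₀ (show (1 : ℤ) ≤ q by linarith) (show 1 ≤ 1 by norm_num)
    have h2 := mul_le_mul_of_nonneg_right (show (1 : ℤ) ≤ q by linarith) (show (0 : ℤ) ≤ 4714024002223600272116090074921875000 by norm_num)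
    rw [pow_one] at *
    rw [e]; linarith
  linarith

theorem permE8_4 (p1 p2 p3 p4 p5 p6 p7 p8 p9 p10 p12 p14 p15 p18 p20 p24 p30 : ℤ) :
    4 * ((p1 * p2) * (p1 * p2 * p4 * p8) * (p1 * p2 * p3 * p4 * p6 * p12) * (p1 * p2 * p7 * p14) * (p1 * p2 * p3 * p6 * p9 * p18) * (p1 * p2 * p4 * p5 * p10 * p20) * (p1 * p2 * p3 * p4 * p6 * p8 * p12 * p24) * (p1 * p2 * p3 * p5 * p6 * p10 * p15 * p30)) = p6 * (4 * (p1 ^ 8 * (p2 ^ 8 * (p3 ^ 4 * (p4 ^ 4 * (p5 ^ 2 * (p6 ^ 3 * (p7 ^ 1 * (p8 ^ 2 * (p9 ^ 1 * (p10 ^ 2 * (p12 ^ 2 * (p14 ^ 1 * (p15 ^ 1 * (p18 ^ 1 * (p20 ^ 1 * (p24 ^ 1 * (p30 ^ 1 * (1))))))))))))))))))) := by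
  ring

theorem noE8_4 (q d : ℤ) (hq : 239 ≤ q) (hd : d + 4 = q * (q ^ 12 + 1) * (q ^ 10 + 1) * (q ^ 6 + 1))
    (h : d ∣ 4 * ((q ^ 2 - 1) * (q ^ 8 - 1) * (q ^ 12 - 1) * (q ^ 14 - 1) * (q ^ 18 - 1) * (q ^ 20 - 1) * (q ^ 24 - 1) * (q ^ 30 - 1))) : False := by
  rw [cycloE8] at h
  have h0 := h.trans (dvd_of_eq (permE8_4 ((-1) + (1) * q) ((1) + (1) * q) ((1) + (1) * q + (1) * q ^ 2) ((1) + (1) * q ^ 2) ((1) + (1) * q + (1) * q ^ 2 + (1) * q ^ 3 + (1) * q ^ 4) ((1) + (-1) * q + (1) * q ^ 2) ((1) + (1) * q + (1) * q ^ 2 + (1) * q ^ 3 + (1) * q ^ 4 + (1) * q ^ 5 + (1) * q ^ 6) ((1) + (1) * q ^ 4) ((1) + (1) * q ^ 3 + (1) * q ^ 6) ((1) + (-1) * q + (1) * q ^ 2 + (-1) * q ^ 3 + (1) * q ^ 4) ((1) + (-1) * q ^ 2 + (1) * q ^ 4) ((1) + (-1) * q + (1) * q ^ 2 + (-1) * q ^ 3 + (1) * q ^ 4 + (-1) * q ^ 5 + (1)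 * q ^ 6) ((1) + (-1) * q + (1) * q ^ 3 + (-1) * q ^ 4 + (1) * q ^ 5 + (-1) * q ^ 7 + (1) * q ^ 8) ((1) + (-1) * q ^ 3 + (1) * q ^ 6) ((1) + (-1) * q ^ 2 + (1) * q ^ 4 + (-1) * q ^ 6 + (1) * q ^ 8) ((1) + (-1) * q ^ 4 + (1) * q ^ 8) ((1) + (1) * q + (-1) * q ^ 3 + (-1) * q ^ 4 + (-1) * q ^ 5 + (1) * q ^ 7 + (1) * q ^ 8)))
  obtain ⟨d', rfl⟩ : ∃ d', d = ((1) + (-1) * q + (1) * q ^ 2) * d' :=
    ⟨(-4) + (-3) * q + (1) * q ^ 2 + (4) * q ^ 3 + (3) * q ^ 4 + (-1) * q ^ 5 + (-4) * q ^ 6 + (-2) * q ^ 7 + (2) * q ^ 8 + (4) * q ^ 9 + (2) * q ^ 10 + (-1) * q ^ 11 + (-3) * q ^ 12 + (-1) * q ^ 13 + (2) * q ^ 14 + (3) * q ^ 15 + (1) * q ^ 16 + (-1) * q ^ 17 + (-2) * q ^ 18 + (2) * q ^ 20 + (2) * q ^ 21 + (-1) * q ^ 23 + (-1) * q ^ 24 + (1) * q ^ 26 + (1) * q ^ 27, by linear_combination hd⟩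
  have hgpos : (0 : ℤ) < (1) + (-1) * q + (1) * q ^ 2 := by
    obtain ⟨t, ht, rfl⟩ : ∃ t, 0 ≤ t ∧ q = t + 239 := ⟨q - 239, by linarith, by ring⟩
    ring_nf; positivity
  have hgub : (0 : ℤ) < q ^ 3 - ((1) + (-1) * q + (1) * q ^ 2) := by
    obtain ⟨t, ht, rfl⟩ : ∃ t, 0 ≤ t ∧ q = t + 239 := ⟨q - 239, by linarith, by ring⟩
    ring_nf; positivity
  have hg0 : ((1) + (-1) * q + (1) * q ^ 2) ≠ (0 : ℤ) := hgpos.ne'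
  have hd' : d' = (-4) + (-3) * q + (1) * q ^ 2 + (4) * q ^ 3 + (3) * q ^ 4 + (-1) * q ^ 5 + (-4) * q ^ 6 + (-2) * q ^ 7 + (2) * q ^ 8 + (4) * q ^ 9 + (2) * q ^ 10 + (-1) * q ^ 11 + (-3) * q ^ 12 + (-1) * q ^ 13 + (2) * q ^ 14 + (3) * q ^ 15 + (1) * q ^ 16 + (-1) * q ^ 17 + (-2) * q ^ 18 + (2) * q ^ 20 + (2) * q ^ 21 + (-1) * q ^ 23 + (-1) * q ^ 24 + (1) * q ^ 26 + (1) * q ^ 27 := mul_left_cancel₀ hg0 (by linear_combination hd)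
  have h1 := (mul_dvd_mul_iff_left hg0).1 h0
  have h2 := strip_head (c := 4) ⟨(1), (-8) + (-11) * q + (-10) * q ^ 2 + (-6) * q ^ 3 + (-3) * q ^ 4 + (-4) * q ^ 5 + (-8) * q ^ 6 + (-10) * q ^ 7 + (-8) * q ^ 8 + (-4) * q ^ 9 + (-2) * q ^ 10 + (-3) * q ^ 11 + (-6) * q ^ 12 + (-7) * q ^ 13 + (-5) * q ^ 14 + (-2) * q ^ 15 + (-1) * q ^ 16 + (-2) * q ^ 17 + (-4) * q ^ 18 + (-4) * q ^ 19 + (-2) * q ^ 20 + (-1) * q ^ 23 + (-2) * q ^ 24 + (-2) * q ^ 25 + (-1) * q ^ 26, by rw [hd']; ring⟩ h1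
  have h3 := strip_head (c := 4) ⟨(-1), (-3) * q + (4) * q ^ 2 + (3) * q ^ 4 + (-4) * q ^ 5 + (-2) * q ^ 7 + (4) * q ^ 8 + (2) * q ^ 10 + (-3) * q ^ 11 + (-1) * q ^ 13 + (3) * q ^ 14 + (1) * q ^ 16 + (-2) * q ^ 17 + (2) * q ^ 20 + (-1) * q ^ 23 + (1) * q ^ 26, by rw [hd']; ring⟩ h2
  have h4 := strip_head (c := 4) ⟨(1) * q, (4) + (-1) * q ^ 2 + (-3) * q ^ 4 + (4) * q ^ 6 + (-2) * q ^ 8 + (-2) * q ^ 10 + (3) * q ^ 12 + (-2) * q ^ 14 + (-1) * q ^ 16 + (2) * q ^ 18 + (-2) * q ^ 20 + (1) * q ^ 24 + (-1) * q ^ 26, by rw [hd']; ring⟩ h3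
  have h5 := strip_head (c := 4) ⟨(1) * q, (4) + (4) * q + (-1) * q ^ 2 + (-5) * q ^ 3 + (-3) * q ^ 4 + (2) * q ^ 5 + (4) * q ^ 6 + (2) * q ^ 7 + (-2) * q ^ 8 + (-4) * q ^ 9 + (-2) * q ^ 10 + (2) * q ^ 11 + (3) * q ^ 12 + (1) * q ^ 13 + (-2) * q ^ 14 + (-3) * q ^ 15 + (-1) * q ^ 16 + (2) * q ^ 17 + (2) * q ^ 18 + (-2) * q ^ 20 + (-2) * q ^ 21 + (2) * q ^ 23 + (1) * q ^ 24 + (-1) * q ^ 25 + (-1) * q ^ 26, by rw [hd']; ring⟩ h4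
  have h6 := strip_head (c := 6) ⟨(-1) + (1) * q + (-1) * q ^ 2, (2) + (-1) * q + (-1) * q ^ 2 + (2) * q ^ 5 + (-1) * q ^ 6 + (-1) * q ^ 8 + (2) * q ^ 10 + (-1) * q ^ 12 + (-1) * q ^ 14 + (2) * q ^ 15 + (-1) * q ^ 18 + (1) * q ^ 20 + (-1) * q ^ 24 + (1) * q ^ 25, by rw [hd']; ring⟩ h5
  have h7 := strip_head (c := 40) ⟨(-1), (36) + (33) * q + (-2) * q ^ 2 + (-31) * q ^ 3 + (-26) * q ^ 4 + (4) * q ^ 5 + (26) * q ^ 6 + (20) * q ^ 7 + (-4) * q ^ 8 + (-20) * q ^ 9 + (-14) * q ^ 10 + (5) * q ^ 11 + (16) * q ^ 12 + (10) * q ^ 13 + (-4) * q ^ 14 + (-11) * q ^ 15 + (-6) * q ^ 16 + (4) * q ^ 17 + (8) * q ^ 18 + (4) * q ^ 19 + (-2) * q ^ 20 + (-4) * q ^ 21 + (-2) * q ^ 22 + (1) * q ^ 23 + (2) * q ^ 24 + (1) * q ^ 25, by rw [hd']; ring⟩ h6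
  have h8 := strip_head (c := 5461) ⟨(-1362) + (1028) * q + (-1105) * q ^ 2 + (-273) * q ^ 3 + (-65) * q ^ 4 + (-13) * q ^ 5, (13) + (13) * q + (-13) * q ^ 3 + (-13) * q ^ 4 + (13) * q ^ 6 + (1375) * q ^ 7 + (-1028) * q ^ 8 + (-270) * q ^ 9 + (-74) * q ^ 10 + (1350) * q ^ 11 + (-1018) * q ^ 12 + (1114) * q ^ 13 + (272) * q ^ 14 + (-1307) * q ^ 15 + (-330) * q ^ 16 + (1286) * q ^ 17 + (328) * q ^ 18 + (82) * q ^ 19 + (14) * q ^ 20 + (-3) * q ^ 21 + (-1366) * q ^ 22 + (1027) * q ^ 23 + (260) * q ^ 24 + (65) * q ^ 25 + (13) * q ^ 26, by rw [hd']; ring⟩ h7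
  have h9 := strip_head (c := 4) ⟨(-1) + (1) * q + (-1) * q ^ 2, (1) * q + (-1) * q ^ 5 + (1) * q ^ 7 + (1) * q ^ 9 + (1) * q ^ 17 + (1) * q ^ 19 + (-1) * q ^ 21 + (1) * q ^ 25, by rw [hd']; ring⟩ h8
  have h10 := strip_head (c := 5149) ⟨(-1191) + (1008) * q + (-1333) * q ^ 2 + (15) * q ^ 3 + (-311) * q ^ 4 + (-74) * q ^ 5, (385) + (459) * q + (-1117) * q ^ 2 + (-568) * q ^ 3 + (-784) * q ^ 4 + (990) * q ^ 5 + (455) * q ^ 6 + (1915) * q ^ 7 + (437) * q ^ 8 + (166) * q ^ 9 + (-1403) * q ^ 10 + (-250) * q ^ 11 + (-106) * q ^ 12 + (1350) * q ^ 13 + (137) * q ^ 14 + (46) * q ^ 15 + (-106) * q ^ 16 + (1350) * q ^ 17 + (522) * q ^ 18 + (505) * q ^ 19 + (-1223) * q ^ 20 + (-409) * q ^ 21 + (-445) * q ^ 22 + (1170) * q ^ 23 + (296) * q ^ 24 + (385) * q ^ 25 + (74) * q ^ 26, by rw [hd']; ring⟩ h9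
  have h11 := strip_head (c := 2) ⟨(-1) + (1) * q + (-1) * q ^ 2, (-2) + (-1) * q + (1) * q ^ 2 + (2) * q ^ 5 + (1) * q ^ 6 + (1) * q ^ 8 + (-2) * q ^ 10 + (1) * q ^ 12 + (1) * q ^ 14 + (2) * q ^ 15 + (1) * q ^ 18 + (-1) * q ^ 20 + (1) * q ^ 24 + (1) * q ^ 25, by rw [hd']; ring⟩ h10
  have h12 := strip_head (c := 4) ⟨(-1) + (1) * q + (-1) * q ^ 2, (1) * q + (1) * q ^ 3 + (1) * q ^ 11 + (2) * q ^ 13 + (1) * q ^ 15 + (1) * q ^ 23 + (1) * q ^ 25, by rw [hd']; ring⟩ h11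
  have h13 := strip_head (c := 3277) ⟨(-816) + (612) * q + (-663) * q ^ 2 + (-169) * q ^ 3 + (-39) * q ^ 4 + (-13) * q ^ 5, (13) + (13) * q + (-13) * q ^ 3 + (-13) * q ^ 4 + (13) * q ^ 6 + (829) * q ^ 7 + (1020) * q ^ 8 + (242) * q ^ 9 + (54) * q ^ 10 + (836) * q ^ 11 + (1038) * q ^ 12 + (1082) * q ^ 13 + (264) * q ^ 14 + (-763) * q ^ 15 + (-194) * q ^ 16 + (774) * q ^ 17 + (200) * q ^ 18 + (50) * q ^ 19 + (6) * q ^ 20 + (-5) * q ^ 21 + (818) * q ^ 22 + (1027) * q ^ 23 + (260) * q ^ 24 + (65) * q ^ 25 + (13) * q ^ 26, by rw [hd']; ring⟩ h12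
  have h14 := strip_head (c := 3) ⟨(-1) + (1) * q + (-1) * q ^ 2, (-1) + (1) * q ^ 3 + (1) * q ^ 5 + (1) * q ^ 7 + (1) * q ^ 9 + (1) * q ^ 11 + (1) * q ^ 13 + (-1) * q ^ 16 + (1) * q ^ 19 + (1) * q ^ 20 + (1) * q ^ 21, by rw [hd']; ring⟩ h13
  have h15 := strip_head (c := 541) ⟨(-137) + (104) * q + (-75) * q ^ 2 + (-43) * q ^ 3 + (5) * q ^ 4 + (12) * q ^ 5, (-7) + (5) * q + (149) * q ^ 2 + (40) * q ^ 3 + (-34) * q ^ 4 + (106) * q ^ 5 + (31) * q ^ 6 + (125) * q ^ 7 + (33) * q ^ 8 + (-22) * q ^ 9 + (113) * q ^ 10 + (26) * q ^ 11 + (-24) * q ^ 12 + (130) * q ^ 13 + (45) * q ^ 14 + (-22) * q ^ 15 + (-24) * q ^ 16 + (130) * q ^ 17 + (38) * q ^ 18 + (-17) * q ^ 19 + (125) * q ^ 20 + (33) * q ^ 21 + (-29) * q ^ 22 + (118) * q ^ 23 + (38) * q ^ 24 + (-17) * q ^ 25 + (-12) * q ^ 26, by rw [hd']; ring⟩ h14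
  have h16 := strip_head (c := 4) ⟨(-1) + (1) * q + (-1) * q ^ 2, (1) * q + (1) * q ^ 3 + (1) * q ^ 7 + (1) * q ^ 9 + (1) * q ^ 13 + (1) * q ^ 15 + (1) * q ^ 19 + (1) * q ^ 21, by rw [hd']; ring⟩ h15
  have h17 := strip_head (c := 4) ⟨(-1) + (1) * q + (-1) * q ^ 2, (1) * q + (1) * q ^ 5 + (1) * q ^ 7 + (2) * q ^ 11 + (1) * q ^ 15 + (1) * q ^ 17 + (1) * q ^ 21, by rw [hd']; ring⟩ h16
  have h18 := strip_head (c := 5) ⟨(-1) + (1) * q + (-1) * q ^ 2, (1) + (1) * q ^ 3 + (1) * q ^ 5 + (1) * q ^ 7 + (1) * q ^ 9 + (1) * q ^ 11 + (1) * q ^ 13 + (1) * q ^ 16 + (1) * q ^ 19 + (-1) * q ^ 20 + (1) * q ^ 21, by rw [hd']; ring⟩ h17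
  have hle : d' ≤ 31780610169268421690044203466311598080000 :=
    Int.le_of_dvd (by norm_num) (h18.trans (dvd_of_eq (by norm_num)))
  have hpow : ((239 : ℤ)) ^ 26 ≤ q ^ 26 := pow_le_pow_left₀ (by norm_num) hq _
  have hbig : (31780610169268421690044203466311598080000 : ℤ) + 1 ≤ q ^ 26 := le_trans (by norm_num) hpow
  have htop : q ^ 29 ≤ q * (q ^ 12 + 1) * (q ^ 10 + 1) * (q ^ 6 + 1) := by
    ring_nf; nlinarith [pow_nonneg (show (0 : ℤ) ≤ q by linarith) 1, pow_nonneg (show (0 : ℤ) ≤ q by linarith) 7, pow_nonneg (show (0 : ℤ) ≤ q by linarith) 11, pow_nonneg (show (0 : ℤ) ≤ q by linarith) 13, pow_nonneg (show (0 : ℤ) ≤ q by linarith) 17, pow_nonneg (show (0 : ℤ) ≤ q by linarith) 19, pow_nonneg (show (0 : ℤ) ≤ q by linarith) 23]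
  have hgle : ((1) + (-1) * q + (1) * q ^ 2) * 31780610169268421690044203466311598080000 + 4 < q ^ 29 := by
    have e : q ^ 29 = q ^ 3 * q ^ 26 := by rw [← pow_add]
    have hm := mul_le_mul_of_nonneg_left hbig (show (0 : ℤ) ≤ q ^ 3 by positivity)
    have h1 := pow_le_pow_right₀ (show (1 : ℤ) ≤ q by linarith) (show 1 ≤ 3 by norm_num)
    have h2 := mul_le_mul_of_nonneg_right (sub_nonneg.1 hgub.le) (show (0 : ℤ) ≤ 31780610169268421690044203466311598080000 by norm_num)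
    rw [pow_one] at *
    rw [e]; linarith
  have hpos : (0 : ℤ) ≤ (1) + (-1) * q + (1) * q ^ 2 := hgpos.le
  have := mul_le_mul_of_nonneg_left hle hpos
  linarith

theorem permE8_5 (p1 p2 p3 p4 p5 p6 p7 p8 p9 p10 p12 p14 p15 p18 p20 p24 p30 : ℤ) :
    5 * ((p1 * p2) * (p1 * p2 * p4 * p8) * (p1 * p2 * p3 * p4 * p6 * p12) * (p1 * p2 * p7 * p14) * (p1 * p2 * p3 * p6 * p9 * p18) * (p1 * p2 * p4 * p5 * p10 * p20) * (p1 * p2 * p3 * p4 * p6 * p8 * p12 * p24) * (p1 * p2 * p3 * p5 * p6 * p10 * p15 * p30)) = 5 * (p1 ^ 8 * (p2 ^ 8 * (p3 ^ 4 * (p4 ^ 4 * (p5 ^ 2 * (p6 ^ 4 * (p7 ^ 1 * (p8 ^ 2 * (p9 ^ 1 * (p10 ^ 2 * (p12 ^ 2 * (p14 ^ 1 * (p15 ^ 1 * (p18 ^ 1 * (p20 ^ 1 * (p24 ^ 1 * (p30 ^ 1 * (1)))))))))))))))))) := by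
  ring

theorem noE8_5 (q d : ℤ) (hq : 239 ≤ q) (hd : d + 5 = q * (q ^ 12 + 1) * (q ^ 10 + 1) * (q ^ 6 + 1))
    (h : d ∣ 5 * ((q ^ 2 - 1) * (q ^ 8 - 1) * (q ^ 12 - 1) * (q ^ 14 - 1) * (q ^ 18 - 1) * (q ^ 20 - 1) * (q ^ 24 - 1) * (q ^ 30 - 1))) : False := by
  rw [cycloE8] at h
  have h0 := h.trans (dvd_of_eq (permE8_5 ((-1) + (1) * q) ((1) + (1) * q) ((1) + (1) * q + (1) * q ^ 2) ((1) + (1) * q ^ 2) ((1) + (1) * q + (1) * q ^ 2 + (1) * q ^ 3 + (1) * q ^ 4) ((1) + (-1) * q + (1) * q ^ 2) ((1) + (1) * q + (1) * q ^ 2 + (1) * q ^ 3 + (1) * q ^ 4 + (1) * q ^ 5 + (1) * q ^ 6) ((1) + (1) * q ^ 4) ((1) + (1) * q ^ 3 + (1) * q ^ 6) ((1) + (-1) * q + (1) * q ^ 2 + (-1) * q ^ 3 + (1) * q ^ 4) ((1) + (-1) * q ^ 2 + (1) * q ^ 4) ((1) + (-1) * q + (1) * q ^ 2 + (-1) * q ^ 3 + (1) * q ^ 4 + (-1) * q ^ 5 + (1)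 * q ^ 6) ((1) + (-1) * q + (1) * q ^ 3 + (-1) * q ^ 4 + (1) * q ^ 5 + (-1) * q ^ 7 + (1) * q ^ 8) ((1) + (-1) * q ^ 3 + (1) * q ^ 6) ((1) + (-1) * q ^ 2 + (1) * q ^ 4 + (-1) * q ^ 6 + (1) * q ^ 8) ((1) + (-1) * q ^ 4 + (1) * q ^ 8) ((1) + (1) * q + (-1) * q ^ 3 + (-1) * q ^ 4 + (-1) * q ^ 5 + (1) * q ^ 7 + (1) * q ^ 8)))
  have hd' : d = (-5) + (1) * q + (1) * q ^ 7 + (1) * q ^ 11 + (1) * q ^ 13 + (1) * q ^ 17 + (1) * q ^ 19 + (1) * q ^ 23 + (1) * q ^ 29 := by linear_combination hd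
  have h1 := h0
  have h2 := strip_head (c := 3) ⟨(1), (-8) + (-7) * q + (-7) * q ^ 2 + (-7) * q ^ 3 + (-7) * q ^ 4 + (-7) * q ^ 5 + (-7) * q ^ 6 + (-6) * q ^ 7 + (-6) * q ^ 8 + (-6) * q ^ 9 + (-6) * q ^ 10 + (-5) * q ^ 11 + (-5) * q ^ 12 + (-4) * q ^ 13 + (-4) * q ^ 14 + (-4) * q ^ 15 + (-4) * q ^ 16 + (-3) * q ^ 17 + (-3) * q ^ 18 + (-2) * q ^ 19 + (-2) * q ^ 20 + (-2) * q ^ 21 + (-2) * q ^ 22 + (-1) * q ^ 23 + (-1) * q ^ 24 + (-1) * q ^ 25 + (-1) * q ^ 26 + (-1) * q ^ 27 + (-1) * q ^ 28, by rw [hd']; ring⟩ h1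
  have h3 := strip_head (c := 13) ⟨(-1), (8) + (-7) * q + (7) * q ^ 2 + (-7) * q ^ 3 + (7) * q ^ 4 + (-7) * q ^ 5 + (7) * q ^ 6 + (-6) * q ^ 7 + (6) * q ^ 8 + (-6) * q ^ 9 + (6) * q ^ 10 + (-5) * q ^ 11 + (5) * q ^ 12 + (-4) * q ^ 13 + (4) * q ^ 14 + (-4) * q ^ 15 + (4) * q ^ 16 + (-3) * q ^ 17 + (3) * q ^ 18 + (-2) * q ^ 19 + (2) * q ^ 20 + (-2) * q ^ 21 + (2) * q ^ 22 + (-1) * q ^ 23 + (1) * q ^ 24 + (-1) * q ^ 25 + (1) * q ^ 26 + (-1) * q ^ 27 + (1) * q ^ 28, by rw [hd']; ring⟩ h2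
  have h4 := strip_head (c := 9) ⟨(-1), (4) + (-3) * q + (-1) * q ^ 2 + (4) * q ^ 3 + (-3) * q ^ 4 + (-1) * q ^ 5 + (4) * q ^ 6 + (-2) * q ^ 7 + (-2) * q ^ 8 + (4) * q ^ 9 + (-2) * q ^ 10 + (-1) * q ^ 11 + (3) * q ^ 12 + (-1) * q ^ 13 + (-2) * q ^ 14 + (3) * q ^ 15 + (-1) * q ^ 16 + (-1) * q ^ 17 + (2) * q ^ 18 + (-2) * q ^ 20 + (2) * q ^ 21 + (-1) * q ^ 23 + (1) * q ^ 24 + (-1) * q ^ 26 + (1) * q ^ 27, by rw [hd']; ring⟩ h3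
  have h5 := strip_head (c := 5) ⟨(-1), (1) * q + (-1) * q ^ 3 + (1) * q ^ 5 + (1) * q ^ 11 + (1) * q ^ 17 + (1) * q ^ 23 + (-1) * q ^ 25 + (1) * q ^ 27, by rw [hd']; ring⟩ h4
  have h6 := strip_head (c := 7) ⟨(-1), (2) + (-1) * q + (-1) * q ^ 2 + (2) * q ^ 5 + (-1) * q ^ 6 + (-1) * q ^ 8 + (2) * q ^ 10 + (-1) * q ^ 12 + (-1) * q ^ 14 + (2) * q ^ 15 + (-1) * q ^ 18 + (1) * q ^ 20 + (-1) * q ^ 24 + (1) * q ^ 25, by rw [hd']; ring⟩ h5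
  have h7 := strip_head (c := 1) ⟨(-1), (-4) + (-3) * q + (1) * q ^ 2 + (4) * q ^ 3 + (3) * q ^ 4 + (-1) * q ^ 5 + (-4) * q ^ 6 + (-2) * q ^ 7 + (2) * q ^ 8 + (4) * q ^ 9 + (2) * q ^ 10 + (-1) * q ^ 11 + (-3) * q ^ 12 + (-1) * q ^ 13 + (2) * q ^ 14 + (3) * q ^ 15 + (1) * q ^ 16 + (-1) * q ^ 17 + (-2) * q ^ 18 + (2) * q ^ 20 + (2) * q ^ 21 + (-1) * q ^ 23 + (-1) * q ^ 24 + (1) * q ^ 26 + (1) * q ^ 27, by rw [hd']; ring⟩ h6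
  have h8 := strip_head (c := 19531) ⟨(-3906) + (-781) * q + (-156) * q ^ 2 + (-31) * q ^ 3 + (-6) * q ^ 4 + (-1) * q ^ 5, (1) + (3906) * q ^ 7 + (-3125) * q ^ 8 + (-625) * q ^ 9 + (-125) * q ^ 10 + (3881) * q ^ 11 + (-3130) * q ^ 12 + (3280) * q ^ 13 + (656) * q ^ 14 + (-3775) * q ^ 15 + (-755) * q ^ 16 + (3755) * q ^ 17 + (751) * q ^ 18 + (150) * q ^ 19 + (30) * q ^ 20 + (6) * q ^ 21 + (-3905) * q ^ 22 + (3125) * q ^ 23 + (625) * q ^ 24 + (125) * q ^ 25 + (25) * q ^ 26 + (5) * q ^ 27 + (1) * q ^ 28, by rw [hd']; ring⟩ h7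
  have h9 := strip_head (c := 5) ⟨(-1), (1) * q + (-1) * q ^ 5 + (1) * q ^ 7 + (1) * q ^ 9 + (1) * q ^ 17 + (1) * q ^ 19 + (-1) * q ^ 21 + (1) * q ^ 25, by rw [hd']; ring⟩ h8
  have h10 := strip_head (c := 5997) ⟨(-1180) + (-230) * q + (-282) * q ^ 2 + (-83) * q ^ 3 + (-67) * q ^ 4 + (-30) * q ^ 5, (97) + (30) * q + (-1180) * q ^ 2 + (-230) * q ^ 3 + (-282) * q ^ 4 + (1097) * q ^ 5 + (163) * q ^ 6 + (1432) * q ^ 7 + (313) * q ^ 8 + (349) * q ^ 9 + (-1067) * q ^ 10 + (-163) * q ^ 11 + (-252) * q ^ 12 + (1097) * q ^ 13 + (163) * q ^ 14 + (252) * q ^ 15 + (83) * q ^ 16 + (1247) * q ^ 17 + (260) * q ^ 18 + (282) * q ^ 19 + (-1097) * q ^ 20 + (-163) * q ^ 21 + (-252) * q ^ 22 + (1097) * q ^ 23 + (163) * q ^ 24 + (252) * q ^ 25 + (83) * q ^ 26 + (67) * q ^ 27 + (30) * q ^ 28, by rw [hd']; ring⟩ h9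
  have h11 := strip_head (c := 3) ⟨(-1), (-2) + (-1) * q + (1) * q ^ 2 + (2) * q ^ 5 + (1) * q ^ 6 + (1) * q ^ 8 + (-2) * q ^ 10 + (1) * q ^ 12 + (1) * q ^ 14 + (2) * q ^ 15 + (1) * q ^ 18 + (-1) * q ^ 20 + (1) * q ^ 24 + (1) * q ^ 25, by rw [hd']; ring⟩ h10
  have h12 := strip_head (c := 5) ⟨(-1), (1) * q + (1) * q ^ 3 + (1) * q ^ 11 + (2) * q ^ 13 + (1) * q ^ 15 + (1) * q ^ 23 + (1) * q ^ 25, by rw [hd']; ring⟩ h11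
  have h13 := strip_head (c := 13021) ⟨(-2604) + (-521) * q + (-104) * q ^ 2 + (-21) * q ^ 3 + (-4) * q ^ 4 + (-1) * q ^ 5, (1) + (2604) * q ^ 7 + (3125) * q ^ 8 + (625) * q ^ 9 + (125) * q ^ 10 + (2629) * q ^ 11 + (3130) * q ^ 12 + (3230) * q ^ 13 + (646) * q ^ 14 + (-2475) * q ^ 15 + (-495) * q ^ 16 + (2505) * q ^ 17 + (501) * q ^ 18 + (100) * q ^ 19 + (20) * q ^ 20 + (4) * q ^ 21 + (2605) * q ^ 22 + (3125) * q ^ 23 + (625) * q ^ 24 + (125) * q ^ 25 + (25) * q ^ 26 + (5) * q ^ 27 + (1) * q ^ 28, by rw [hd']; ring⟩ h12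
  have h14 := strip_head (c := 4) ⟨(-1), (-1) + (1) * q ^ 3 + (1) * q ^ 5 + (1) * q ^ 7 + (1) * q ^ 9 + (1) * q ^ 11 + (1) * q ^ 13 + (-1) * q ^ 16 + (1) * q ^ 19 + (1) * q ^ 20 + (1) * q ^ 21, by rw [hd']; ring⟩ h13
  have h15 := strip_head (c := 17461) ⟨(-3490) + (-710) * q + (556) * q ^ 2 + (251) * q ^ 3 + (-49) * q ^ 4 + (-60) * q ^ 5, (11) + (-60) * q + (3490) * q ^ 2 + (710) * q ^ 3 + (-556) * q ^ 4 + (3239) * q ^ 5 + (759) * q ^ 6 + (2994) * q ^ 7 + (459) * q ^ 8 + (-507) * q ^ 9 + (3299) * q ^ 10 + (759) * q ^ 11 + (-496) * q ^ 12 + (3239) * q ^ 13 + (759) * q ^ 14 + (-496) * q ^ 15 + (-251) * q ^ 16 + (3539) * q ^ 17 + (770) * q ^ 18 + (-556) * q ^ 19 + (3239) * q ^ 20 + (759) * q ^ 21 + (-496) * q ^ 22 + (3239) * q ^ 23 + (759) * q ^ 24 + (-496) * q ^ 25 + (-251) * q ^ 26 + (49) * q ^ 27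 + (60) * q ^ 28, by rw [hd']; ring⟩ h14
  have h16 := strip_head (c := 5) ⟨(-1), (1) * q + (1) * q ^ 3 + (1) * q ^ 7 + (1) * q ^ 9 + (1) * q ^ 13 + (1) * q ^ 15 + (1) * q ^ 19 + (1) * q ^ 21, by rw [hd']; ring⟩ h15
  have h17 := strip_head (c := 5) ⟨(-1), (1) * q + (1) * q ^ 5 + (1) * q ^ 7 + (2) * q ^ 11 + (1) * q ^ 15 + (1) * q ^ 17 + (1) * q ^ 21, by rw [hd']; ring⟩ h16
  have h18 := strip_head (c := 6) ⟨(-1), (1) + (1) * q ^ 3 + (1) * q ^ 5 + (1) * q ^ 7 + (1) * q ^ 9 + (1) * q ^ 11 + (1) * q ^ 13 + (1) * q ^ 16 + (1) * q ^ 19 + (-1) * q ^ 20 + (1) * q ^ 21, by rw [hd']; ring⟩ h17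
  have hle : d ≤ 483257667000796160790406114665561476953125000 :=
    Int.le_of_dvd (by norm_num) (h18.trans (dvd_of_eq (by norm_num)))
  have hpow : ((239 : ℤ)) ^ 28 ≤ q ^ 28 := pow_le_pow_left₀ (by norm_num) hq _
  have hbig : (483257667000796160790406114665561476953125000 : ℤ) + 1 ≤ q ^ 28 := le_trans (by norm_num) hpow
  have htop : q ^ 29 ≤ q * (q ^ 12 + 1) * (q ^ 10 + 1) * (q ^ 6 + 1) := by
    ring_nf; nlinarith [pow_nonneg (show (0 : ℤ) ≤ q by linarith) 1, pow_nonneg (show (0 : ℤ) ≤ q by linarith) 7, pow_nonneg (show (0 : ℤ) ≤ q by linarith) 11, pow_nonneg (show (0 : ℤ) ≤ q by linarith) 13, pow_nonneg (show (0 : ℤ) ≤ q by linarith) 17, pow_nonneg (show (0 : ℤ) ≤ q by linarith) 19, pow_nonneg (show (0 : ℤ) ≤ q by linarith) 23]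
  have hgle : 483257667000796160790406114665561476953125000 + 5 < q ^ 29 := by
    have e : q ^ 29 = q ^ 1 * q ^ 28 := by rw [← pow_add]
    have hm := mul_le_mul_of_nonneg_left hbig (show (0 : ℤ) ≤ q ^ 1 by positivity)
    have h1 := pow_le_pow_right₀ (show (1 : ℤ) ≤ q by linarith) (show 1 ≤ 1 by norm_num)
    have h2 := mul_le_mul_of_nonneg_right (show (1 : ℤ) ≤ q by linarith) (show (0 : ℤ) ≤ 483257667000796160790406114665561476953125000 by norm_num)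
    rw [pow_one] at *
    rw [e]; linarith
  linarith

theorem permE8_6 (p1 p2 p3 p4 p5 p6 p7 p8 p9 p10 p12 p14 p15 p18 p20 p24 p30 : ℤ) :
    6 * ((p1 * p2) * (p1 * p2 * p4 * p8) * (p1 * p2 * p3 * p4 * p6 * p12) * (p1 * p2 * p7 * p14) * (p1 * p2 * p3 * p6 * p9 * p18) * (p1 * p2 * p4 * p5 * p10 * p20) * (p1 * p2 * p3 * p4 * p6 * p8 * p12 * p24) * (p1 * p2 * p3 * p5 * p6 * p10 * p15 * p30)) = 6 * (p1 ^ 8 * (p2 ^ 8 * (p3 ^ 4 * (p4 ^ 4 * (p5 ^ 2 * (p6 ^ 4 * (p7 ^ 1 * (p8 ^ 2 * (p9 ^ 1 * (p10 ^ 2 * (p12 ^ 2 * (p14 ^ 1 * (p15 ^ 1 * (p18 ^ 1 * (p20 ^ 1 * (p24 ^ 1 * (p30 ^ 1 * (1)))))))))))))))))) := by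
  ring

theorem noE8_6 (q d : ℤ) (hq : 239 ≤ q) (hd : d + 6 = q * (q ^ 12 + 1) * (q ^ 10 + 1) * (q ^ 6 + 1))
    (h : d ∣ 6 * ((q ^ 2 - 1) * (q ^ 8 - 1) * (q ^ 12 - 1) * (q ^ 14 - 1) * (q ^ 18 - 1) * (q ^ 20 - 1) * (q ^ 24 - 1) * (q ^ 30 - 1))) : False := by
  rw [cycloE8] at h
  have h0 := h.trans (dvd_of_eq (permE8_6 ((-1) + (1) * q) ((1) + (1) * q) ((1) + (1) * q + (1) * q ^ 2) ((1) + (1) * q ^ 2) ((1) + (1) * q + (1) * q ^ 2 + (1) * q ^ 3 + (1) * q ^ 4) ((1) + (-1) * q + (1) * q ^ 2) ((1) + (1) * q + (1) * q ^ 2 + (1) * q ^ 3 + (1) * q ^ 4 + (1) * q ^ 5 + (1) * q ^ 6) ((1) + (1) * q ^ 4) ((1) + (1) * q ^ 3 + (1) * q ^ 6) ((1) + (-1) * q + (1) * q ^ 2 + (-1) * q ^ 3 + (1) * q ^ 4) ((1) + (-1) * q ^ 2 + (1) * q ^ 4) ((1) + (-1) * q + (1) * q ^ 2 + (-1) * q ^ 3 + (1) * q ^ 4 + (-1) * q ^ 5 + (1)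 * q ^ 6) ((1) + (-1) * q + (1) * q ^ 3 + (-1) * q ^ 4 + (1) * q ^ 5 + (-1) * q ^ 7 + (1) * q ^ 8) ((1) + (-1) * q ^ 3 + (1) * q ^ 6) ((1) + (-1) * q ^ 2 + (1) * q ^ 4 + (-1) * q ^ 6 + (1) * q ^ 8) ((1) + (-1) * q ^ 4 + (1) * q ^ 8) ((1) + (1) * q + (-1) * q ^ 3 + (-1) * q ^ 4 + (-1) * q ^ 5 + (1) * q ^ 7 + (1) * q ^ 8)))
  have hd' : d = (-6) + (1) * q + (1) * q ^ 7 + (1) * q ^ 11 + (1) * q ^ 13 + (1) * q ^ 17 + (1) * q ^ 19 + (1) * q ^ 23 + (1) * q ^ 29 := by linear_combination hd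
  have h1 := h0
  have h2 := strip_head (c := 2) ⟨(1), (-8) + (-7) * q + (-7) * q ^ 2 + (-7) * q ^ 3 + (-7) * q ^ 4 + (-7) * q ^ 5 + (-7) * q ^ 6 + (-6) * q ^ 7 + (-6) * q ^ 8 + (-6) * q ^ 9 + (-6) * q ^ 10 + (-5) * q ^ 11 + (-5) * q ^ 12 + (-4) * q ^ 13 + (-4) * q ^ 14 + (-4) * q ^ 15 + (-4) * q ^ 16 + (-3) * q ^ 17 + (-3) * q ^ 18 + (-2) * q ^ 19 + (-2) * q ^ 20 + (-2) * q ^ 21 + (-2) * q ^ 22 + (-1) * q ^ 23 + (-1) * q ^ 24 + (-1) * q ^ 25 + (-1) * q ^ 26 + (-1) * q ^ 27 + (-1) * q ^ 28, by rw [hd']; ring⟩ h1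
  have h3 := strip_head (c := 14) ⟨(-1), (8) + (-7) * q + (7) * q ^ 2 + (-7) * q ^ 3 + (7) * q ^ 4 + (-7) * q ^ 5 + (7) * q ^ 6 + (-6) * q ^ 7 + (6) * q ^ 8 + (-6) * q ^ 9 + (6) * q ^ 10 + (-5) * q ^ 11 + (5) * q ^ 12 + (-4) * q ^ 13 + (4) * q ^ 14 + (-4) * q ^ 15 + (4) * q ^ 16 + (-3) * q ^ 17 + (3) * q ^ 18 + (-2) * q ^ 19 + (2) * q ^ 20 + (-2) * q ^ 21 + (2) * q ^ 22 + (-1) * q ^ 23 + (1) * q ^ 24 + (-1) * q ^ 25 + (1) * q ^ 26 + (-1) * q ^ 27 + (1) * q ^ 28, by rw [hd']; ring⟩ h2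
  have h4 := strip_head (c := 10) ⟨(-1), (4) + (-3) * q + (-1) * q ^ 2 + (4) * q ^ 3 + (-3) * q ^ 4 + (-1) * q ^ 5 + (4) * q ^ 6 + (-2) * q ^ 7 + (-2) * q ^ 8 + (4) * q ^ 9 + (-2) * q ^ 10 + (-1) * q ^ 11 + (3) * q ^ 12 + (-1) * q ^ 13 + (-2) * q ^ 14 + (3) * q ^ 15 + (-1) * q ^ 16 + (-1) * q ^ 17 + (2) * q ^ 18 + (-2) * q ^ 20 + (2) * q ^ 21 + (-1) * q ^ 23 + (1) * q ^ 24 + (-1) * q ^ 26 + (1) * q ^ 27, by rw [hd']; ring⟩ h3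
  have h5 := strip_head (c := 6) ⟨(-1), (1) * q + (-1) * q ^ 3 + (1) * q ^ 5 + (1) * q ^ 11 + (1) * q ^ 17 + (1) * q ^ 23 + (-1) * q ^ 25 + (1) * q ^ 27, by rw [hd']; ring⟩ h4
  have h6 := strip_head (c := 8) ⟨(-1), (2) + (-1) * q + (-1) * q ^ 2 + (2) * q ^ 5 + (-1) * q ^ 6 + (-1) * q ^ 8 + (2) * q ^ 10 + (-1) * q ^ 12 + (-1) * q ^ 14 + (2) * q ^ 15 + (-1) * q ^ 18 + (1) * q ^ 20 + (-1) * q ^ 24 + (1) * q ^ 25, by rw [hd']; ring⟩ h5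
  have h7 := strip_head (c := 2) ⟨(-1), (-4) + (-3) * q + (1) * q ^ 2 + (4) * q ^ 3 + (3) * q ^ 4 + (-1) * q ^ 5 + (-4) * q ^ 6 + (-2) * q ^ 7 + (2) * q ^ 8 + (4) * q ^ 9 + (2) * q ^ 10 + (-1) * q ^ 11 + (-3) * q ^ 12 + (-1) * q ^ 13 + (2) * q ^ 14 + (3) * q ^ 15 + (1) * q ^ 16 + (-1) * q ^ 17 + (-2) * q ^ 18 + (2) * q ^ 20 + (2) * q ^ 21 + (-1) * q ^ 23 + (-1) * q ^ 24 + (1) * q ^ 26 + (1) * q ^ 27, by rw [hd']; ring⟩ h6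
  have h8 := strip_head (c := 55987) ⟨(-9331) + (-1555) * q + (-259) * q ^ 2 + (-43) * q ^ 3 + (-7) * q ^ 4 + (-1) * q ^ 5, (1) + (9331) * q ^ 7 + (-7776) * q ^ 8 + (-1296) * q ^ 9 + (-216) * q ^ 10 + (9295) * q ^ 11 + (-7782) * q ^ 12 + (8034) * q ^ 13 + (1339) * q ^ 14 + (-9108) * q ^ 15 + (-1518) * q ^ 16 + (9078) * q ^ 17 + (1513) * q ^ 18 + (252) * q ^ 19 + (42) * q ^ 20 + (7) * q ^ 21 + (-9330) * q ^ 22 + (7776) * q ^ 23 + (1296) * q ^ 24 + (216) * q ^ 25 + (36) * q ^ 26 + (6) * q ^ 27 + (1) * q ^ 28, by rw [hd']; ring⟩ h7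
  have h9 := strip_head (c := 6) ⟨(-1), (1) * q + (-1) * q ^ 5 + (1) * q ^ 7 + (1) * q ^ 9 + (1) * q ^ 17 + (1) * q ^ 19 + (-1) * q ^ 21 + (1) * q ^ 25, by rw [hd']; ring⟩ h8
  have h10 := strip_head (c := 51319) ⟨(-8478) + (-1392) * q + (-1645) * q ^ 2 + (-431) * q ^ 3 + (-325) * q ^ 4 + (-126) * q ^ 5, (451) + (126) * q + (-8478) * q ^ 2 + (-1392) * q ^ 3 + (-1645) * q ^ 4 + (8047) * q ^ 5 + (1067) * q ^ 6 + (9997) * q ^ 7 + (1823) * q ^ 8 + (1970) * q ^ 9 + (-7921) * q ^ 10 + (-1067) * q ^ 11 + (-1519) * q ^ 12 + (8047) * q ^ 13 + (1067) * q ^ 14 + (1519) * q ^ 15 + (431) * q ^ 16 + (8803) * q ^ 17 + (1518) * q ^ 18 + (1645) * q ^ 19 + (-8047) * q ^ 20 + (-1067) * q ^ 21 + (-1519) * q ^ 22 + (8047) * q ^ 23 + (1067) * q ^ 24 + (1519) * q ^ 25 + (431) * q ^ 26 + (325) * q ^ 27 + (126) * q ^ 28,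 by rw [hd']; ring⟩ h9
  have h11 := strip_head (c := 4) ⟨(-1), (-2) + (-1) * q + (1) * q ^ 2 + (2) * q ^ 5 + (1) * q ^ 6 + (1) * q ^ 8 + (-2) * q ^ 10 + (1) * q ^ 12 + (1) * q ^ 14 + (2) * q ^ 15 + (1) * q ^ 18 + (-1) * q ^ 20 + (1) * q ^ 24 + (1) * q ^ 25, by rw [hd']; ring⟩ h10
  have h12 := strip_head (c := 6) ⟨(-1), (1) * q + (1) * q ^ 3 + (1) * q ^ 11 + (2) * q ^ 13 + (1) * q ^ 15 + (1) * q ^ 23 + (1) * q ^ 25, by rw [hd']; ring⟩ h11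
  have h13 := strip_head (c := 39991) ⟨(-6665) + (-1111) * q + (-185) * q ^ 2 + (-31) * q ^ 3 + (-5) * q ^ 4 + (-1) * q ^ 5, (1) + (6665) * q ^ 7 + (7776) * q ^ 8 + (1296) * q ^ 9 + (216) * q ^ 10 + (6701) * q ^ 11 + (7782) * q ^ 12 + (7962) * q ^ 13 + (1327) * q ^ 14 + (-6444) * q ^ 15 + (-1074) * q ^ 16 + (6486) * q ^ 17 + (1081) * q ^ 18 + (180) * q ^ 19 + (30) * q ^ 20 + (5) * q ^ 21 + (6666) * q ^ 22 + (7776) * q ^ 23 + (1296) * q ^ 24 + (216) * q ^ 25 + (36) * q ^ 26 + (6) * q ^ 27 + (1) * q ^ 28, by rw [hd']; ring⟩ h12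
  have h14 := strip_head (c := 5) ⟨(-1), (-1) + (1) * q ^ 3 + (1) * q ^ 5 + (1) * q ^ 7 + (1) * q ^ 9 + (1) * q ^ 11 + (1) * q ^ 13 + (-1) * q ^ 16 + (1) * q ^ 19 + (1) * q ^ 20 + (1) * q ^ 21, by rw [hd']; ring⟩ h13
  have h15 := strip_head (c := 50419) ⟨(-8406) + (-1416) * q + (1165) * q ^ 2 + (433) * q ^ 3 + (-107) * q ^ 4 + (-90) * q ^ 5, (-17) + (-90) * q + (8406) * q ^ 2 + (1416) * q ^ 3 + (-1165) * q ^ 4 + (7973) * q ^ 5 + (1523) * q ^ 6 + (7331) * q ^ 7 + (983) * q ^ 8 + (-1058) * q ^ 9 + (8063) * q ^ 10 + (1523) * q ^ 11 + (-1075) * q ^ 12 + (7973) * q ^ 13 + (1523) * q ^ 14 + (-1075) * q ^ 15 + (-433) * q ^ 16 + (8513) * q ^ 17 + (1506) * q ^ 18 + (-1165) * q ^ 19 + (7973) * q ^ 20 + (1523) * q ^ 21 + (-1075) * q ^ 22 + (7973) * q ^ 23 + (1523) * q ^ 24 + (-1075) * q ^ 25 + (-433) * q ^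 26 + (107) * q ^ 27 + (90) * q ^ 28, by rw [hd']; ring⟩ h14
  have h16 := strip_head (c := 6) ⟨(-1), (1) * q + (1) * q ^ 3 + (1) * q ^ 7 + (1) * q ^ 9 + (1) * q ^ 13 + (1) * q ^ 15 + (1) * q ^ 19 + (1) * q ^ 21, by rw [hd']; ring⟩ h15
  have h17 := strip_head (c := 6) ⟨(-1), (1) * q + (1) * q ^ 5 + (1) * q ^ 7 + (2) * q ^ 11 + (1) * q ^ 15 + (1) * q ^ 17 + (1) * q ^ 21, by rw [hd']; ring⟩ h16
  have h18 := strip_head (c := 7) ⟨(-1), (1) + (1) * q ^ 3 + (1) * q ^ 5 + (1) * q ^ 7 + (1) * q ^ 9 + (1) * q ^ 11 + (1) * q ^ 13 + (1) * q ^ 16 + (1) * q ^ 19 + (-1) * q ^ 20 + (1) * q ^ 21, by rw [hd']; ring⟩ h17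
  have hle : d ≤ 4553421590637141963192527145382798598917324800000 :=
    Int.le_of_dvd (by norm_num) (h18.trans (dvd_of_eq (by norm_num)))
  have hpow : ((239 : ℤ)) ^ 28 ≤ q ^ 28 := pow_le_pow_left₀ (by norm_num) hq _
  have hbig : (4553421590637141963192527145382798598917324800000 : ℤ) + 1 ≤ q ^ 28 := le_trans (by norm_num) hpow
  have htop : q ^ 29 ≤ q * (q ^ 12 + 1) * (q ^ 10 + 1) * (q ^ 6 + 1) := by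
    ring_nf; nlinarith [pow_nonneg (show (0 : ℤ) ≤ q by linarith) 1, pow_nonneg (show (0 : ℤ) ≤ q by linarith) 7, pow_nonneg (show (0 : ℤ) ≤ q by linarith) 11, pow_nonneg (show (0 : ℤ) ≤ q by linarith) 13, pow_nonneg (show (0 : ℤ) ≤ q by linarith) 17, pow_nonneg (show (0 : ℤ) ≤ q by linarith) 19, pow_nonneg (show (0 : ℤ) ≤ q by linarith) 23]
  have hgle : 4553421590637141963192527145382798598917324800000 + 6 < q ^ 29 := by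
    have e : q ^ 29 = q ^ 1 * q ^ 28 := by rw [← pow_add]
    have hm := mul_le_mul_of_nonneg_left hbig (show (0 : ℤ) ≤ q ^ 1 by positivity)
    have h1 := pow_le_pow_right₀ (show (1 : ℤ) ≤ q by linarith) (show 1 ≤ 1 by norm_num)
    have h2 := mul_le_mul_of_nonneg_right (show (1 : ℤ) ≤ q by linarith) (show (0 : ℤ) ≤ 4553421590637141963192527145382798598917324800000 by norm_num)
    rw [pow_one] at *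
    rw [e]; linarith
  linarith

theorem permE8_7 (p1 p2 p3 p4 p5 p6 p7 p8 p9 p10 p12 p14 p15 p18 p20 p24 p30 : ℤ) :
    7 * ((p1 * p2) * (p1 * p2 * p4 * p8) * (p1 * p2 * p3 * p4 * p6 * p12) * (p1 * p2 * p7 * p14) * (p1 * p2 * p3 * p6 * p9 * p18) * (p1 * p2 * p4 * p5 * p10 * p20) * (p1 * p2 * p3 * p4 * p6 * p8 * p12 * p24) * (p1 * p2 * p3 * p5 * p6 * p10 * p15 * p30)) = 7 * (p1 ^ 8 * (p2 ^ 8 * (p3 ^ 4 * (p4 ^ 4 * (p5 ^ 2 * (p6 ^ 4 * (p7 ^ 1 * (p8 ^ 2 * (p9 ^ 1 * (p10 ^ 2 * (p12 ^ 2 * (p14 ^ 1 * (p15 ^ 1 * (p18 ^ 1 * (p20 ^ 1 * (p24 ^ 1 * (p30 ^ 1 * (1)))))))))))))))))) := by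
  ring

theorem noE8_7 (q d : ℤ) (hq : 239 ≤ q) (hd : d + 7 = q * (q ^ 12 + 1) * (q ^ 10 + 1) * (q ^ 6 + 1))
    (h : d ∣ 7 * ((q ^ 2 - 1) * (q ^ 8 - 1) * (q ^ 12 - 1) * (q ^ 14 - 1) * (q ^ 18 - 1) * (q ^ 20 - 1) * (q ^ 24 - 1) * (q ^ 30 - 1))) : False := by
  rw [cycloE8] at h
  have h0 := h.trans (dvd_of_eq (permE8_7 ((-1) + (1) * q) ((1) + (1) * q) ((1) + (1) * q + (1) * q ^ 2) ((1) + (1) * q ^ 2) ((1) + (1) * q + (1) * q ^ 2 + (1) * q ^ 3 + (1) * q ^ 4) ((1) + (-1) * q + (1) * q ^ 2) ((1) + (1) * q + (1) * q ^ 2 + (1) * q ^ 3 + (1) * q ^ 4 + (1) * q ^ 5 + (1) * q ^ 6) ((1) + (1) * q ^ 4) ((1) + (1) * q ^ 3 + (1) * q ^ 6) ((1) + (-1) * q + (1) * q ^ 2 + (-1) * q ^ 3 + (1) * q ^ 4) ((1) + (-1) * q ^ 2 + (1) * q ^ 4) ((1) + (-1) * q + (1) * q ^ 2 + (-1) * q ^ 3 + (1) * q ^ 4 + (-1) * q ^ 5 + (1)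 * q ^ 6) ((1) + (-1) * q + (1) * q ^ 3 + (-1) * q ^ 4 + (1) * q ^ 5 + (-1) * q ^ 7 + (1) * q ^ 8) ((1) + (-1) * q ^ 3 + (1) * q ^ 6) ((1) + (-1) * q ^ 2 + (1) * q ^ 4 + (-1) * q ^ 6 + (1) * q ^ 8) ((1) + (-1) * q ^ 4 + (1) * q ^ 8) ((1) + (1) * q + (-1) * q ^ 3 + (-1) * q ^ 4 + (-1) * q ^ 5 + (1) * q ^ 7 + (1) * q ^ 8)))
  have hd' : d = (-7) + (1) * q + (1) * q ^ 7 + (1) * q ^ 11 + (1) * q ^ 13 + (1) * q ^ 17 + (1) * q ^ 19 + (1) * q ^ 23 + (1) * q ^ 29 := by linear_combination hd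
  have h1 := h0
  have h2 := strip_head (c := 1) ⟨(1), (-8) + (-7) * q + (-7) * q ^ 2 + (-7) * q ^ 3 + (-7) * q ^ 4 + (-7) * q ^ 5 + (-7) * q ^ 6 + (-6) * q ^ 7 + (-6) * q ^ 8 + (-6) * q ^ 9 + (-6) * q ^ 10 + (-5) * q ^ 11 + (-5) * q ^ 12 + (-4) * q ^ 13 + (-4) * q ^ 14 + (-4) * q ^ 15 + (-4) * q ^ 16 + (-3) * q ^ 17 + (-3) * q ^ 18 + (-2) * q ^ 19 + (-2) * q ^ 20 + (-2) * q ^ 21 + (-2) * q ^ 22 + (-1) * q ^ 23 + (-1) * q ^ 24 + (-1) * q ^ 25 + (-1) * q ^ 26 + (-1) * q ^ 27 + (-1) * q ^ 28, by rw [hd']; ring⟩ h1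
  have h3 := strip_head (c := 15) ⟨(-1), (8) + (-7) * q + (7) * q ^ 2 + (-7) * q ^ 3 + (7) * q ^ 4 + (-7) * q ^ 5 + (7) * q ^ 6 + (-6) * q ^ 7 + (6) * q ^ 8 + (-6) * q ^ 9 + (6) * q ^ 10 + (-5) * q ^ 11 + (5) * q ^ 12 + (-4) * q ^ 13 + (4) * q ^ 14 + (-4) * q ^ 15 + (4) * q ^ 16 + (-3) * q ^ 17 + (3) * q ^ 18 + (-2) * q ^ 19 + (2) * q ^ 20 + (-2) * q ^ 21 + (2) * q ^ 22 + (-1) * q ^ 23 + (1) * q ^ 24 + (-1) * q ^ 25 + (1) * q ^ 26 + (-1) * q ^ 27 + (1) * q ^ 28, by rw [hd']; ring⟩ h2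
  have h4 := strip_head (c := 11) ⟨(-1), (4) + (-3) * q + (-1) * q ^ 2 + (4) * q ^ 3 + (-3) * q ^ 4 + (-1) * q ^ 5 + (4) * q ^ 6 + (-2) * q ^ 7 + (-2) * q ^ 8 + (4) * q ^ 9 + (-2) * q ^ 10 + (-1) * q ^ 11 + (3) * q ^ 12 + (-1) * q ^ 13 + (-2) * q ^ 14 + (3) * q ^ 15 + (-1) * q ^ 16 + (-1) * q ^ 17 + (2) * q ^ 18 + (-2) * q ^ 20 + (2) * q ^ 21 + (-1) * q ^ 23 + (1) * q ^ 24 + (-1) * q ^ 26 + (1) * q ^ 27, by rw [hd']; ring⟩ h3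
  have h5 := strip_head (c := 7) ⟨(-1), (1) * q + (-1) * q ^ 3 + (1) * q ^ 5 + (1) * q ^ 11 + (1) * q ^ 17 + (1) * q ^ 23 + (-1) * q ^ 25 + (1) * q ^ 27, by rw [hd']; ring⟩ h4
  have h6 := strip_head (c := 9) ⟨(-1), (2) + (-1) * q + (-1) * q ^ 2 + (2) * q ^ 5 + (-1) * q ^ 6 + (-1) * q ^ 8 + (2) * q ^ 10 + (-1) * q ^ 12 + (-1) * q ^ 14 + (2) * q ^ 15 + (-1) * q ^ 18 + (1) * q ^ 20 + (-1) * q ^ 24 + (1) * q ^ 25, by rw [hd']; ring⟩ h5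
  have h7 := strip_head (c := 3) ⟨(-1), (-4) + (-3) * q + (1) * q ^ 2 + (4) * q ^ 3 + (3) * q ^ 4 + (-1) * q ^ 5 + (-4) * q ^ 6 + (-2) * q ^ 7 + (2) * q ^ 8 + (4) * q ^ 9 + (2) * q ^ 10 + (-1) * q ^ 11 + (-3) * q ^ 12 + (-1) * q ^ 13 + (2) * q ^ 14 + (3) * q ^ 15 + (1) * q ^ 16 + (-1) * q ^ 17 + (-2) * q ^ 18 + (2) * q ^ 20 + (2) * q ^ 21 + (-1) * q ^ 23 + (-1) * q ^ 24 + (1) * q ^ 26 + (1) * q ^ 27, by rw [hd']; ring⟩ h6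
  have h8 := strip_head (c := 137257) ⟨(-19608) + (-2801) * q + (-400) * q ^ 2 + (-57) * q ^ 3 + (-8) * q ^ 4 + (-1) * q ^ 5, (1) + (19608) * q ^ 7 + (-16807) * q ^ 8 + (-2401) * q ^ 9 + (-343) * q ^ 10 + (19559) * q ^ 11 + (-16814) * q ^ 12 + (17206) * q ^ 13 + (2458) * q ^ 14 + (-19257) * q ^ 15 + (-2751) * q ^ 16 + (19215) * q ^ 17 + (2745) * q ^ 18 + (392) * q ^ 19 + (56) * q ^ 20 + (8) * q ^ 21 + (-19607) * q ^ 22 + (16807) * q ^ 23 + (2401) * q ^ 24 + (343) * q ^ 25 + (49) * q ^ 26 + (7) * q ^ 27 + (1) * q ^ 28, by rw [hd']; ring⟩ h7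
  have h9 := strip_head (c := 7) ⟨(-1), (1) * q + (-1) * q ^ 5 + (1) * q ^ 7 + (1) * q ^ 9 + (1) * q ^ 17 + (1) * q ^ 19 + (-1) * q ^ 21 + (1) * q ^ 25, by rw [hd']; ring⟩ h8
  have h10 := strip_head (c := 126001) ⟨(-17906) + (-2534) * q + (-2920) * q ^ 2 + (-685) * q ^ 3 + (-491) * q ^ 4 + (-168) * q ^ 5, (659) + (168) * q + (-17906) * q ^ 2 + (-2534) * q ^ 3 + (-2920) * q ^ 4 + (17221) * q ^ 5 + (2043) * q ^ 6 + (20658) * q ^ 7 + (3219) * q ^ 8 + (3411) * q ^ 9 + (-17053) * q ^ 10 + (-2043) * q ^ 11 + (-2752) * q ^ 12 + (17221) * q ^ 13 + (2043) * q ^ 14 + (2752) * q ^ 15 + (685) * q ^ 16 + (18397) * q ^ 17 + (2702) * q ^ 18 + (2920) * q ^ 19 + (-17221) * q ^ 20 + (-2043) * q ^ 21 + (-2752) * q ^ 22 + (17221) * q ^ 23 + (2043) * q ^ 24 + (2752) * q ^ 25 + (685) * q ^ 26 + (491) * q ^ 27 + (168)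 * q ^ 28, by rw [hd']; ring⟩ h9
  have h11 := strip_head (c := 5) ⟨(-1), (-2) + (-1) * q + (1) * q ^ 2 + (2) * q ^ 5 + (1) * q ^ 6 + (1) * q ^ 8 + (-2) * q ^ 10 + (1) * q ^ 12 + (1) * q ^ 14 + (2) * q ^ 15 + (1) * q ^ 18 + (-1) * q ^ 20 + (1) * q ^ 24 + (1) * q ^ 25, by rw [hd']; ring⟩ h10
  have h12 := strip_head (c := 7) ⟨(-1), (1) * q + (1) * q ^ 3 + (1) * q ^ 11 + (2) * q ^ 13 + (1) * q ^ 15 + (1) * q ^ 23 + (1) * q ^ 25, by rw [hd']; ring⟩ h11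
  have h13 := strip_head (c := 102943) ⟨(-14706) + (-2101) * q + (-300) * q ^ 2 + (-43) * q ^ 3 + (-6) * q ^ 4 + (-1) * q ^ 5, (1) + (14706) * q ^ 7 + (16807) * q ^ 8 + (2401) * q ^ 9 + (343) * q ^ 10 + (14755) * q ^ 11 + (16814) * q ^ 12 + (17108) * q ^ 13 + (2444) * q ^ 14 + (-14357) * q ^ 15 + (-2051) * q ^ 16 + (14413) * q ^ 17 + (2059) * q ^ 18 + (294) * q ^ 19 + (42) * q ^ 20 + (6) * q ^ 21 + (14707) * q ^ 22 + (16807) * q ^ 23 + (2401) * q ^ 24 + (343) * q ^ 25 + (49) * q ^ 26 + (7) * q ^ 27 + (1) * q ^ 28, by rw [hd']; ring⟩ h12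
  have h14 := strip_head (c := 6) ⟨(-1), (-1) + (1) * q ^ 3 + (1) * q ^ 5 + (1) * q ^ 7 + (1) * q ^ 9 + (1) * q ^ 11 + (1) * q ^ 13 + (-1) * q ^ 16 + (1) * q ^ 19 + (1) * q ^ 20 + (1) * q ^ 21, by rw [hd']; ring⟩ h13
  have h15 := strip_head (c := 41529) ⟨(-5936) + (-854) * q + (726) * q ^ 2 + (229) * q ^ 3 + (-65) * q ^ 4 + (-42) * q ^ 5, (-23) + (-42) * q + (5936) * q ^ 2 + (854) * q ^ 3 + (-726) * q ^ 4 + (5707) * q ^ 5 + (919) * q ^ 6 + (5252) * q ^ 7 + (625) * q ^ 8 + (-661) * q ^ 9 + (5749) * q ^ 10 + (919) * q ^ 11 + (-684) * q ^ 12 + (5707) * q ^ 13 + (919) * q ^ 14 + (-684) * q ^ 15 + (-229) * q ^ 16 + (6001) * q ^ 17 + (896) * q ^ 18 + (-726) * q ^ 19 + (5707) * q ^ 20 + (919) * q ^ 21 + (-684) * q ^ 22 + (5707) * q ^ 23 + (919) * q ^ 24 + (-684) * q ^ 25 + (-229) * q ^ 26 + (65) * q ^ 27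 + (42) * q ^ 28, by rw [hd']; ring⟩ h14
  have h16 := strip_head (c := 7) ⟨(-1), (1) * q + (1) * q ^ 3 + (1) * q ^ 7 + (1) * q ^ 9 + (1) * q ^ 13 + (1) * q ^ 15 + (1) * q ^ 19 + (1) * q ^ 21, by rw [hd']; ring⟩ h15
  have h17 := strip_head (c := 7) ⟨(-1), (1) * q + (1) * q ^ 5 + (1) * q ^ 7 + (2) * q ^ 11 + (1) * q ^ 15 + (1) * q ^ 17 + (1) * q ^ 21, by rw [hd']; ring⟩ h16
  have h18 := strip_head (c := 8) ⟨(-1), (1) + (1) * q ^ 3 + (1) * q ^ 5 + (1) * q ^ 7 + (1) * q ^ 9 + (1) * q ^ 11 + (1) * q ^ 13 + (1) * q ^ 16 + (1) * q ^ 19 + (-1) * q ^ 20 + (1) * q ^ 21, by rw [hd']; ring⟩ h17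
  have hle : d ≤ 43190409861426870132100671911890695905164218750000 :=
    Int.le_of_dvd (by norm_num) (h18.trans (dvd_of_eq (by norm_num)))
  have hpow : ((239 : ℤ)) ^ 28 ≤ q ^ 28 := pow_le_pow_left₀ (by norm_num) hq _
  have hbig : (43190409861426870132100671911890695905164218750000 : ℤ) + 1 ≤ q ^ 28 := le_trans (by norm_num) hpow
  have htop : q ^ 29 ≤ q * (q ^ 12 + 1) * (q ^ 10 + 1) * (q ^ 6 + 1) := by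
    ring_nf; nlinarith [pow_nonneg (show (0 : ℤ) ≤ q by linarith) 1, pow_nonneg (show (0 : ℤ) ≤ q by linarith) 7, pow_nonneg (show (0 : ℤ) ≤ q by linarith) 11, pow_nonneg (show (0 : ℤ) ≤ q by linarith) 13, pow_nonneg (show (0 : ℤ) ≤ q by linarith) 17, pow_nonneg (show (0 : ℤ) ≤ q by linarith) 19, pow_nonneg (show (0 : ℤ) ≤ q by linarith) 23]
  have hgle : 43190409861426870132100671911890695905164218750000 + 7 < q ^ 29 := by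
    have e : q ^ 29 = q ^ 1 * q ^ 28 := by rw [← pow_add]
    have hm := mul_le_mul_of_nonneg_left hbig (show (0 : ℤ) ≤ q ^ 1 by positivity)
    have h1 := pow_le_pow_right₀ (show (1 : ℤ) ≤ q by linarith) (show 1 ≤ 1 by norm_num)
    have h2 := mul_le_mul_of_nonneg_right (show (1 : ℤ) ≤ q by linarith) (show (0 : ℤ) ≤ 43190409861426870132100671911890695905164218750000 by norm_num)
    rw [pow_one] at *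
    rw [e]; linarith
  linarith

theorem permE8_8 (p1 p2 p3 p4 p5 p6 p7 p8 p9 p10 p12 p14 p15 p18 p20 p24 p30 : ℤ) :
    8 * ((p1 * p2) * (p1 * p2 * p4 * p8) * (p1 * p2 * p3 * p4 * p6 * p12) * (p1 * p2 * p7 * p14) * (p1 * p2 * p3 * p6 * p9 * p18) * (p1 * p2 * p4 * p5 * p10 * p20) * (p1 * p2 * p3 * p4 * p6 * p8 * p12 * p24) * (p1 * p2 * p3 * p5 * p6 * p10 * p15 * p30)) = p1 * (8 * (p1 ^ 7 * (p2 ^ 8 * (p3 ^ 4 * (p4 ^ 4 * (p5 ^ 2 * (p6 ^ 4 * (p7 ^ 1 * (p8 ^ 2 * (p9 ^ 1 * (p10 ^ 2 * (p12 ^ 2 * (p14 ^ 1 * (p15 ^ 1 * (p18 ^ 1 * (p20 ^ 1 * (p24 ^ 1 * (p30 ^ 1 * (1))))))))))))))))))) := by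
  ring

theorem noE8_8 (q d : ℤ) (hq : 239 ≤ q) (hd : d + 8 = q * (q ^ 12 + 1) * (q ^ 10 + 1) * (q ^ 6 + 1))
    (h : d ∣ 8 * ((q ^ 2 - 1) * (q ^ 8 - 1) * (q ^ 12 - 1) * (q ^ 14 - 1) * (q ^ 18 - 1) * (q ^ 20 - 1) * (q ^ 24 - 1) * (q ^ 30 - 1))) : False := by
  rw [cycloE8] at h
  have h0 := h.trans (dvd_of_eq (permE8_8 ((-1) + (1) * q) ((1) + (1) * q) ((1) + (1) * q + (1) * q ^ 2) ((1) + (1) * q ^ 2) ((1) + (1) * q + (1) * q ^ 2 + (1) * q ^ 3 + (1) * q ^ 4) ((1) + (-1) * q + (1) * q ^ 2) ((1) + (1) * q + (1) * q ^ 2 + (1) * q ^ 3 + (1) * q ^ 4 + (1) * q ^ 5 + (1) * q ^ 6) ((1) + (1) * q ^ 4) ((1) + (1) * q ^ 3 + (1) * q ^ 6) ((1) + (-1) * q + (1) * q ^ 2 + (-1) * q ^ 3 + (1) * q ^ 4) ((1) + (-1) * q ^ 2 + (1) * q ^ 4) ((1) + (-1) * q + (1) * q ^ 2 + (-1) * q ^ 3 + (1) * q ^ 4 + (-1) * q ^ 5 + (1)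 * q ^ 6) ((1) + (-1) * q + (1) * q ^ 3 + (-1) * q ^ 4 + (1) * q ^ 5 + (-1) * q ^ 7 + (1) * q ^ 8) ((1) + (-1) * q ^ 3 + (1) * q ^ 6) ((1) + (-1) * q ^ 2 + (1) * q ^ 4 + (-1) * q ^ 6 + (1) * q ^ 8) ((1) + (-1) * q ^ 4 + (1) * q ^ 8) ((1) + (1) * q + (-1) * q ^ 3 + (-1) * q ^ 4 + (-1) * q ^ 5 + (1) * q ^ 7 + (1) * q ^ 8)))
  obtain ⟨d', rfl⟩ : ∃ d', d = ((-1) + (1) * q) * d' :=
    ⟨(8) + (7) * q + (7) * q ^ 2 + (7) * q ^ 3 + (7) * q ^ 4 + (7) * q ^ 5 + (7) * q ^ 6 + (6) * q ^ 7 + (6) * q ^ 8 + (6) * q ^ 9 + (6) * q ^ 10 + (5) * q ^ 11 + (5) * q ^ 12 + (4) * q ^ 13 + (4) * q ^ 14 + (4) * q ^ 15 + (4) * q ^ 16 + (3) * q ^ 17 + (3) * q ^ 18 + (2) * q ^ 19 + (2) * q ^ 20 + (2) * q ^ 21 + (2) * q ^ 22 + (1) * q ^ 23 + (1) * q ^ 24 + (1) * q ^ 25 + (1) * q ^ 26 + (1) * q ^ 27 + (1) * q ^ 28, by linear_combination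 hd⟩
  have hgpos : (0 : ℤ) < (-1) + (1) * q := by
    obtain ⟨t, ht, rfl⟩ : ∃ t, 0 ≤ t ∧ q = t + 239 := ⟨q - 239, by linarith, by ring⟩
    ring_nf; positivity
  have hgub : (0 : ℤ) < q ^ 2 - ((-1) + (1) * q) := by
    obtain ⟨t, ht, rfl⟩ : ∃ t, 0 ≤ t ∧ q = t + 239 := ⟨q - 239, by linarith, by ring⟩
    ring_nf; positivity
  have hg0 : ((-1) + (1) * q) ≠ (0 : ℤ) := hgpos.ne'
  have hd' : d' = (8) + (7) * q + (7) * q ^ 2 + (7) * q ^ 3 + (7) * q ^ 4 + (7) * q ^ 5 + (7) * q ^ 6 + (6) * q ^ 7 + (6) * q ^ 8 + (6) * q ^ 9 + (6) * q ^ 10 + (5) * q ^ 11 + (5) * q ^ 12 + (4) * q ^ 13 + (4) * q ^ 14 + (4) * q ^ 15 + (4) * q ^ 16 + (3) * q ^ 17 + (3) * q ^ 18 + (2) * q ^ 19 + (2) * q ^ 20 + (2) * q ^ 21 + (2) * q ^ 22 + (1) * q ^ 23 + (1) * q ^ 24 + (1) * q ^ 25 + (1) * q ^ 26 + (1) * q ^ 27 + (1) * q ^ 28 :=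 mul_left_cancel₀ hg0 (by linear_combination hd)
  have h1 := (mul_dvd_mul_iff_left hg0).1 h0
  have h2 := strip_head (c := 120) ⟨(1), (-112) + (-105) * q + (-98) * q ^ 2 + (-91) * q ^ 3 + (-84) * q ^ 4 + (-77) * q ^ 5 + (-70) * q ^ 6 + (-64) * q ^ 7 + (-58) * q ^ 8 + (-52) * q ^ 9 + (-46) * q ^ 10 + (-41) * q ^ 11 + (-36) * q ^ 12 + (-32) * q ^ 13 + (-28) * q ^ 14 + (-24) * q ^ 15 + (-20) * q ^ 16 + (-17) * q ^ 17 + (-14) * q ^ 18 + (-12) * q ^ 19 + (-10) * q ^ 20 + (-8) * q ^ 21 + (-6) * q ^ 22 + (-5) * q ^ 23 + (-4) * q ^ 24 + (-3) * q ^ 25 + (-2) * q ^ 26 + (-1) * q ^ 27, by rw [hd']; ring⟩ h1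
  have h3 := strip_head (c := 8) ⟨(1), (-7) * q + (-7) * q ^ 3 + (-7) * q ^ 5 + (-6) * q ^ 7 + (-6) * q ^ 9 + (-5) * q ^ 11 + (-4) * q ^ 13 + (-4) * q ^ 15 + (-3) * q ^ 17 + (-2) * q ^ 19 + (-2) * q ^ 21 + (-1) * q ^ 23 + (-1) * q ^ 25 + (-1) * q ^ 27, by rw [hd']; ring⟩ h2
  have h4 := strip_head (c := 12) ⟨(1) + (-1) * q, (4) + (-3) * q + (-1) * q ^ 2 + (4) * q ^ 3 + (-3) * q ^ 4 + (-1) * q ^ 5 + (4) * q ^ 6 + (-2) * q ^ 7 + (-2) * q ^ 8 + (4) * q ^ 9 + (-2) * q ^ 10 + (-1) * q ^ 11 + (3) * q ^ 12 + (-1) * q ^ 13 + (-2) * q ^ 14 + (3) * q ^ 15 + (-1) * q ^ 16 + (-1) * q ^ 17 + (2) * q ^ 18 + (-2) * q ^ 20 + (2) * q ^ 21 + (-1) * q ^ 23 + (1) * q ^ 24 + (-1) * q ^ 26 + (1) * q ^ 27, by rw [hd']; ring⟩ h3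
  have h5 := strip_head (c := 8) ⟨(1) + (-1) * q, (1) * q + (-1) * q ^ 3 + (1) * q ^ 5 + (1) * q ^ 11 + (1) * q ^ 17 + (1) * q ^ 23 + (-1) * q ^ 25 + (1) * q ^ 27, by rw [hd']; ring⟩ h4
  have h6 := strip_head (c := 10) ⟨(1) + (-1) * q, (2) + (-1) * q + (-1) * q ^ 2 + (2) * q ^ 5 + (-1) * q ^ 6 + (-1) * q ^ 8 + (2) * q ^ 10 + (-1) * q ^ 12 + (-1) * q ^ 14 + (2) * q ^ 15 + (-1) * q ^ 18 + (1) * q ^ 20 + (-1) * q ^ 24 + (1) * q ^ 25, by rw [hd']; ring⟩ h5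
  have h7 := strip_head (c := 4) ⟨(1) + (-1) * q, (-4) + (-3) * q + (1) * q ^ 2 + (4) * q ^ 3 + (3) * q ^ 4 + (-1) * q ^ 5 + (-4) * q ^ 6 + (-2) * q ^ 7 + (2) * q ^ 8 + (4) * q ^ 9 + (2) * q ^ 10 + (-1) * q ^ 11 + (-3) * q ^ 12 + (-1) * q ^ 13 + (2) * q ^ 14 + (3) * q ^ 15 + (1) * q ^ 16 + (-1) * q ^ 17 + (-2) * q ^ 18 + (2) * q ^ 20 + (2) * q ^ 21 + (-1) * q ^ 23 + (-1) * q ^ 24 + (1) * q ^ 26 + (1) * q ^ 27, by rw [hd']; ring⟩ h6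
  have h8 := strip_head (c := 42799) ⟨(5350) + (-4681) * q + (-585) * q ^ 2 + (-73) * q ^ 3 + (-9) * q ^ 4 + (-1) * q ^ 5, (-1) + (-1) * q + (-1) * q ^ 2 + (-1) * q ^ 3 + (-1) * q ^ 4 + (-1) * q ^ 5 + (-1) * q ^ 6 + (5349) * q ^ 7 + (-4682) * q ^ 8 + (-586) * q ^ 9 + (-74) * q ^ 10 + (5340) * q ^ 11 + (-4683) * q ^ 12 + (4764) * q ^ 13 + (595) * q ^ 14 + (-5276) * q ^ 15 + (-660) * q ^ 16 + (5267) * q ^ 17 + (658) * q ^ 18 + (82) * q ^ 19 + (10) * q ^ 20 + (1) * q ^ 21 + (-5350) * q ^ 22 + (4681) * q ^ 23 + (585) * q ^ 24 + (73) * q ^ 25 + (9) * q ^ 26 + (1) * q ^ 27, by rw [hd']; ring⟩ h7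
  have h9 := strip_head (c := 8) ⟨(1) + (-1) * q, (1) * q + (-1) * q ^ 5 + (1) * q ^ 7 + (1) * q ^ 9 + (1) * q ^ 17 + (1) * q ^ 19 + (-1) * q ^ 21 + (1) * q ^ 25, by rw [hd']; ring⟩ h8
  have h10 := strip_head (c := 92019) ⟨(11536) + (-10040) * q + (187) * q ^ 2 + (-1198) * q ^ 3 + (-106) * q ^ 4 + (-163) * q ^ 5, (-269) + (-432) * q + (-11968) * q ^ 2 + (-1928) * q ^ 3 + (-2115) * q ^ 4 + (10619) * q ^ 5 + (685) * q ^ 6 + (12571) * q ^ 7 + (1333) * q ^ 8 + (1414) * q ^ 9 + (-11483) * q ^ 10 + (-1549) * q ^ 11 + (-1899) * q ^ 12 + (10835) * q ^ 13 + (901) * q ^ 14 + (1251) * q ^ 15 + (53) * q ^ 16 + (11483) * q ^ 17 + (1280) * q ^ 18 + (1467) * q ^ 19 + (-11267) * q ^ 20 + (-1333) * q ^ 21 + (-1683) * q ^ 22 + (11051) * q ^ 23 + (1117) * q ^ 24 + (1467) * q ^ 25 + (269) * q ^ 26 + (163) * q ^ 27,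 by rw [hd']; ring⟩ h9
  have h11 := strip_head (c := 6) ⟨(1) + (-1) * q, (-2) + (-1) * q + (1) * q ^ 2 + (2) * q ^ 5 + (1) * q ^ 6 + (1) * q ^ 8 + (-2) * q ^ 10 + (1) * q ^ 12 + (1) * q ^ 14 + (2) * q ^ 15 + (1) * q ^ 18 + (-1) * q ^ 20 + (1) * q ^ 24 + (1) * q ^ 25, by rw [hd']; ring⟩ h10
  have h12 := strip_head (c := 8) ⟨(1) + (-1) * q, (1) * q + (1) * q ^ 3 + (1) * q ^ 11 + (2) * q ^ 13 + (1) * q ^ 15 + (1) * q ^ 23 + (1) * q ^ 25, by rw [hd']; ring⟩ h11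
  have h13 := strip_head (c := 233017) ⟨(29128) + (-25487) * q + (-3185) * q ^ 2 + (-399) * q ^ 3 + (-49) * q ^ 4 + (-7) * q ^ 5, (-7) + (-7) * q + (-7) * q ^ 2 + (-7) * q ^ 3 + (-7) * q ^ 4 + (-7) * q ^ 5 + (-7) * q ^ 6 + (29121) * q ^ 7 + (32762) * q ^ 8 + (4090) * q ^ 9 + (506) * q ^ 10 + (29186) * q ^ 11 + (32771) * q ^ 12 + (33220) * q ^ 13 + (4149) * q ^ 14 + (-28612) * q ^ 15 + (-3580) * q ^ 16 + (28677) * q ^ 17 + (3582) * q ^ 18 + (446) * q ^ 19 + (54) * q ^ 20 + (5) * q ^ 21 + (29126) * q ^ 22 + (32767) * q ^ 23 + (4095) * q ^ 24 + (511) * q ^ 25 + (63) * q ^ 26 + (7) * q ^ 27, by rw [hd']; ring⟩ h12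
  have h14 := strip_head (c := 7) ⟨(1) + (-1) * q, (-1) + (1) * q ^ 3 + (1) * q ^ 5 + (1) * q ^ 7 + (1) * q ^ 9 + (1) * q ^ 11 + (1) * q ^ 13 + (-1) * q ^ 16 + (1) * q ^ 19 + (1) * q ^ 20 + (1) * q ^ 21, by rw [hd']; ring⟩ h13
  have h15 := strip_head (c := 273961) ⟨(34432) + (-29960) * q + (-8049) * q ^ 2 + (2552) * q ^ 3 + (1344) * q ^ 4 + (-151) * q ^ 5, (-1495) + (-1344) * q + (33088) * q ^ 2 + (3128) * q ^ 3 + (-4921) * q ^ 4 + (32063) * q ^ 5 + (3447) * q ^ 6 + (29679) * q ^ 7 + (2271) * q ^ 8 + (-4434) * q ^ 9 + (32399) * q ^ 10 + (3783) * q ^ 11 + (-4417) * q ^ 12 + (32567) * q ^ 13 + (3951) * q ^ 14 + (-4249) * q ^ 15 + (-1697) * q ^ 16 + (34079) * q ^ 17 + (3968) * q ^ 18 + (-4081) * q ^ 19 + (32903) * q ^ 20 + (4287) * q ^ 21 + (-3913) * q ^ 22 + (33071) * q ^ 23 + (4455) * q ^ 24 + (-3745)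 * q ^ 25 + (-1193) * q ^ 26 + (151) * q ^ 27, by rw [hd']; ring⟩ h14
  have h16 := strip_head (c := 8) ⟨(1) + (-1) * q, (1) * q + (1) * q ^ 3 + (1) * q ^ 7 + (1) * q ^ 9 + (1) * q ^ 13 + (1) * q ^ 15 + (1) * q ^ 19 + (1) * q ^ 21, by rw [hd']; ring⟩ h15
  have h17 := strip_head (c := 8) ⟨(1) + (-1) * q, (1) * q + (1) * q ^ 5 + (1) * q ^ 7 + (2) * q ^ 11 + (1) * q ^ 15 + (1) * q ^ 17 + (1) * q ^ 21, by rw [hd']; ring⟩ h16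
  have h18 := strip_head (c := 9) ⟨(1) + (-1) * q, (1) + (1) * q ^ 3 + (1) * q ^ 5 + (1) * q ^ 7 + (1) * q ^ 9 + (1) * q ^ 11 + (1) * q ^ 13 + (1) * q ^ 16 + (1) * q ^ 19 + (-1) * q ^ 20 + (1) * q ^ 21, by rw [hd']; ring⟩ h17
  have hle : d' ≤ 15630539037847265792876913207828586565285510276223860736000000000 :=
    Int.le_of_dvd (by norm_num) (h18.trans (dvd_of_eq (by norm_num)))
  have hpow : ((239 : ℤ)) ^ 27 ≤ q ^ 27 := pow_le_pow_left₀ (by norm_num) hq _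
  have hbig : (15630539037847265792876913207828586565285510276223860736000000000 : ℤ) + 1 ≤ q ^ 27 := le_trans (by norm_num) hpow
  have htop : q ^ 29 ≤ q * (q ^ 12 + 1) * (q ^ 10 + 1) * (q ^ 6 + 1) := by
    ring_nf; nlinarith [pow_nonneg (show (0 : ℤ) ≤ q by linarith) 1, pow_nonneg (show (0 : ℤ) ≤ q by linarith) 7, pow_nonneg (show (0 : ℤ) ≤ q by linarith) 11, pow_nonneg (show (0 : ℤ) ≤ q by linarith) 13, pow_nonneg (show (0 : ℤ) ≤ q by linarith) 17, pow_nonneg (show (0 : ℤ) ≤ q by linarith) 19, pow_nonneg (show (0 : ℤ) ≤ q by linarith) 23]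
  have hgle : ((-1) + (1) * q) * 15630539037847265792876913207828586565285510276223860736000000000 + 8 < q ^ 29 := by
    have e : q ^ 29 = q ^ 2 * q ^ 27 := by rw [← pow_add]
    have hm := mul_le_mul_of_nonneg_left hbig (show (0 : ℤ) ≤ q ^ 2 by positivity)
    have h1 := pow_le_pow_right₀ (show (1 : ℤ) ≤ q by linarith) (show 1 ≤ 2 by norm_num)
    have h2 := mul_le_mul_of_nonneg_right (sub_nonneg.1 hgub.le) (show (0 : ℤ) ≤ 15630539037847265792876913207828586565285510276223860736000000000 by norm_num)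
    rw [pow_one] at *
    rw [e]; linarith
  have hpos : (0 : ℤ) ≤ (-1) + (1) * q := hgpos.le
  have := mul_le_mul_of_nonneg_left hle hpos
  linarith

/-- No degree lies just below the bound. -/
theorem gapE8 {q d j : ℕ} (hq : IsPrimePow q) (hj : 1 ≤ j) (hj' : j ≤ 8) (hd : d + j = q * (q ^ 12 + 1) * (q ^ 10 + 1) * (q ^ 6 + 1))
    (h : d ∣ q ^ 120 * ((q ^ 2 - 1) * (q ^ 8 - 1) * (q ^ 12 - 1) * (q ^ 14 - 1) * (q ^ 18 - 1) * (q ^ 20 - 1) * (q ^ 24 - 1) * (q ^ 30 - 1))) : False := by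
  rcases lt_or_ge q 239 with hlt | hge
  · exact smallE8 q (List.mem_range.2 hlt) hq.two_le j (List.mem_range.2 (by omega)) hj
      ((show q * (q ^ 12 + 1) * (q ^ 10 + 1) * (q ^ 6 + 1) - j = d by omega) ▸ h)
  have h' := dvd_small hq (show j < q by omega) hj (show q ∣ d + j by
    rw [hd]; exact dvd_mul_of_dvd_left (dvd_mul_of_dvd_left (dvd_mul_right q _) _) _) h
  have hqB : (239 : ℤ) ≤ (q : ℤ) := by exact_mod_cast hge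
  have hdvd : (d : ℤ) ∣ (j : ℤ) * (((q : ℤ) ^ 2 - 1) * ((q : ℤ) ^ 8 - 1) * ((q : ℤ) ^ 12 - 1) * ((q : ℤ) ^ 14 - 1) * ((q : ℤ) ^ 18 - 1) * ((q : ℤ) ^ 20 - 1) * ((q : ℤ) ^ 24 - 1) * ((q : ℤ) ^ 30 - 1)) := by
    have := Int.natCast_dvd_natCast.2 h'
    push_cast [Nat.one_le_pow _ q hq.pos] at this
    exact this
  have hd : (d : ℤ) + j = (q : ℤ) * ((q : ℤ) ^ 12 + 1) * ((q : ℤ) ^ 10 + 1) * ((q : ℤ) ^ 6 + 1) := by exact_mod_cast hd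
  interval_cases j
  · exact (noE8_1 _ d hqB hd hdvd).elim
  · exact (noE8_2 _ d hqB hd hdvd).elim
  · exact (noE8_3 _ d hqB hd hdvd).elim
  · exact (noE8_4 _ d hqB hd hdvd).elim
  · exact (noE8_5 _ d hqB hd hdvd).elim
  · exact (noE8_6 _ d hqB hd hdvd).elim
  · exact (noE8_7 _ d hqB hd hdvd).elim
  · exact (noE8_8 _ d hqB hd hdvd).elim

end CfsgLib.MinDeg.SlNum
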