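import Cfsg.Agent.Lib.MinDeg.SlBound
import Cfsg.Agent.Lib.Char.Integral
import Cfsg.Agent.Lib.Chev.ParabolicCard
import Cfsg.Agent.Lib.Chev.OrderCases
import Mathlib.GroupTheory.GroupAction.Quotient

/-!
# A prime obstruction from the central character of root elements, and the case needed for E6
-/

set_option autoImplicit false
set_option linter.unusedSectionVars false

namespace CfsgLib.MinDeg

open Module

theorem dvd_char {G : Type*} [Group G] [Finite G] {V : Type*} [AddCommGroup V] [Module ℂ V]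
    [FiniteDimensional ℂ V] (ρ : Representation ℂ G V) [ρ.IsIrreducible] {r : ℕ} (hr : r.Prime)
    (hd : r ∣ finrank ℂ V) {g : G} (hK : ¬ r ∣ (Subgroup.centralizer ({g} : Set G)).index) :
    IsIntegral ℤ (ρ.character g / (r : ℂ)) := by
  set K := (Subgroup.centralizer ({g} : Set G)).index
  have h := Char.isIntegral_index_mul_char_div ρ g
  obtain ⟨d', hd'⟩ := hd
  have hd0 := (Char.finrank_pos_of_irreducible ρ).ne'
  rw [hd'] at hd0 h
  have hr0 : (r : ℂ) ≠ 0 := Nat.cast_ne_zero.2 hr.ne_zero
  have hd'0 : (d' : ℂ) ≠ 0 := Nat.cast_ne_zero.2 (right_ne_zero_of_mul hd0)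
  have h2 := (isIntegral_algebraMap (R := ℤ) (A := ℂ) (x := (d' : ℤ))).mul h
  have e : (K : ℂ) * ρ.character g / (r : ℂ) =
      algebraMap ℤ ℂ (d' : ℤ) * ((K : ℂ) * ρ.character g / ((r * d' : ℕ) : ℂ)) := by
    simp only [algebraMap_int_eq, eq_intCast]
    push_cast
    field_simp
  rw [← e] at h2
  obtain ⟨u, v, huv⟩ := Int.isCoprime_iff_gcd_eq_one.2
    (show Int.gcd (K : ℤ) (r : ℤ) = 1 from (hr.coprime_iff_not_dvd.2 hK).symm)
  have e2 : ρ.character g / (r : ℂ) =
      (u : ℂ) * ((K : ℂ) * ρ.character g / (r : ℂ)) + (v : ℂ) * ρ.character g := by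
    have hc : (u : ℂ) * K + (v : ℂ) * r = 1 := by exact_mod_cast congrArg (fun z : ℤ => (z : ℂ)) huv
    field_simp
    linear_combination -(ρ.character g) * hc
  rw [e2]
  exact ((by simpa using isIntegral_algebraMap (R := ℤ) (A := ℂ) (x := u) : IsIntegral ℤ (u : ℂ)).mul h2).add
    ((by simpa using isIntegral_algebraMap (R := ℤ) (A := ℂ) (x := v) : IsIntegral ℤ (v : ℂ)).mul
      (Char.isIntegral_character ρ g))

/-- A prime dividing the degree and prime to the classes of a root group divides the fixed space. -/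
theorem SLRoots.prime_dvd_fix {F : Type*} [Field F] [Fintype F] {G : Type*} [Group G] [Finite G]
    (S : SLRoots F G) {V : Type*} [AddCommGroup V] [Module ℂ V] [FiniteDimensional ℂ V]
    (ρ : Representation ℂ G V) [ρ.IsIrreducible] {r a : ℕ} (hr : r.Prime) (hd : r ∣ finrank ℂ V)
    (hK : ∀ t, ¬ r ∣ (Subgroup.centralizer ({S.x a t} : Set G)).index) :
    r ∣ Fintype.card F * finrank ℂ (S.fix ρ [a]) := by
  have hproj : LinearMap.IsProj (S.fix ρ [a]) ((Fintype.card F : ℂ)⁻¹ • S.avg ρ a) := by
    refine ⟨fun v => Submodule.smul_mem _ _ fun s hs t => ?_, fun v hv => ?_⟩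
    · rw [List.mem_singleton.1 hs]; exact S.avg_fixed ρ a t v
    · rw [LinearMap.smul_apply, S.avg_of_fixed ρ a fun t => hv a List.mem_cons_self t, smul_smul,
        inv_mul_cancel₀ (Nat.cast_ne_zero.2 Fintype.card_ne_zero), one_smul]
  have htr := hproj.trace
  rw [map_smul, SLRoots.avg, map_sum, smul_eq_mul,
    inv_mul_eq_iff_eq_mul₀ (Nat.cast_ne_zero.2 Fintype.card_ne_zero)] at htr
  refine Char.dvd_of_isIntegral_natCast_div hr.ne_zero ?_
  rw [Nat.cast_mul, ← htr, Finset.sum_div]
  exact IsIntegral.sum _ fun t _ => dvd_char ρ hr hd (hK t)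

/-- A prime larger than the number of conjugates of `g` under a subgroup divides its centraliser. -/
theorem not_dvd_index {G : Type*} [Group G] [Finite G] (H : Subgroup G) {r : ℕ} (hr : r.Prime)
    (hH : r ∣ Nat.card H) (hG : ¬ r * r ∣ Nat.card G) {g : G} {s : Finset G} (hs : s.card < r)
    (horb : ∀ h ∈ H, h * g * h⁻¹ ∈ s) :
    ¬ r ∣ (Subgroup.centralizer ({g} : Set G)).index := by
  classical
  let φ : H →* ConjAct G := ConjAct.toConjAct.toMonoidHom.comp H.subtype
  letI : MulAction H G := MulAction.compHom G φ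
  have hcard := Nat.card_prod (MulAction.orbit H g) (MulAction.stabilizer H g)
  rw [Nat.card_congr (MulAction.orbitProdStabilizerEquivGroup H g)] at hcard
  have hle : Nat.card (MulAction.orbit H g) < r := by
    refine lt_of_le_of_lt ?_ hs
    rw [← Nat.card_eq_finsetCard s]
    refine Nat.card_le_card_of_injective (fun x => (⟨x.1, ?_⟩ : s)) fun x y e => Subtype.ext
      (show x.1 = y.1 from congrArg (fun z : s => (z : G)) e)
    obtain ⟨h, hh⟩ := x.2
    rw [← hh]
    show ConjAct.toConjAct (h : G) • g ∈ s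
    rw [ConjAct.toConjAct_smul]
    exact horb h h.2
  have : Nonempty (MulAction.orbit H g) := ⟨⟨g, MulAction.mem_orbit_self g⟩⟩
  have hpos : 0 < Nat.card (MulAction.orbit H g) := Nat.card_pos
  have hst : r ∣ Nat.card (MulAction.stabilizer H g) :=
    (hr.dvd_mul.1 (hcard ▸ hH)).resolve_left fun h => by
      have := Nat.le_of_dvd hpos h; omega
  have hC : r ∣ Nat.card (Subgroup.centralizer ({g} : Set G)) := by
    refine hst.trans ?_
    have hle' : (MulAction.stabilizer H g).map H.subtype ≤ Subgroup.centralizer ({g} : Set G) := by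
      rintro _ ⟨h, hh, rfl⟩
      rw [Subgroup.mem_centralizer_singleton_iff]
      have e : ConjAct.toConjAct (h : G) • g = g := hh
      rw [ConjAct.toConjAct_smul, mul_inv_eq_iff_eq_mul] at e
      exact e
    refine dvd_trans (dvd_of_eq ?_) (Subgroup.card_dvd_of_le hle')
    exact (Subgroup.card_map_of_injective H.subtype_injective).symm
  intro hi
  exact hG (by
    rw [← Subgroup.card_mul_index (Subgroup.centralizer ({g} : Set G))]
    exact Nat.mul_dvd_mul hC hi)

end CfsgLib.MinDeg
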