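import Cfsg.Agent.Lib.MinDeg.SlE6Data
import Cfsg.Agent.Lib.MinDeg.SlPrime
import Cfsg.Agent.Lib.MinDeg.SlNum
import Cfsg.Agent.Lib.Chev.PerfectCover

/-!
# The minimal degree of a non-trivial character of `E6(q)`
-/

set_option autoImplicit false
set_option linter.unusedSectionVars false
set_option maxRecDepth 100000

namespace CfsgLib.MinDeg.E6

open Module Cfsg.Lie CfsgLib.Chev

section Stab

variable {T : Tabs} (hc : Checked chevE6 T) (hcomm : CommOne chevE6 T) (F : Type*) [Field F]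

/-- The nodes of a Levi part of type A4 centralising the highest root. -/
def leviNodes : Set ℕ := {i | i = 0 ∨ i = 2 ∨ i = 3 ∨ i = 4}

theorem par_ok : ∀ r < 72, (36 ≤ r ∨ ((chevE6.coroot.getD r #[]).getD 1 0 = 0 ∧
    (chevE6.coroot.getD r #[]).getD 5 0 = 0)) → cAdd chevE6 r 71 = none ∧ 71 ≠ chevE6.neg r := by
  decide +kernel

include hc hcomm in
theorem orbit_root {g : GL chevE6.Idx F} (hg : g ∈ chevE6.parabolicSubgroup F leviNodes) (t : F) :
    ∃ s, g * elX chevE6 F 71 t * g⁻¹ = elX chevE6 F 71 s := by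
  let K : Subgroup (GL chevE6.Idx F) :=
    { carrier := {g | (∀ t, ∃ s, g * elX chevE6 F 71 t * g⁻¹ = elX chevE6 F 71 s) ∧
        ∀ t, ∃ s, g⁻¹ * elX chevE6 F 71 t * g = elX chevE6 F 71 s}
      one_mem' := ⟨fun t => ⟨t, by simp⟩, fun t => ⟨t, by simp⟩⟩
      mul_mem' := by
        rintro a b ⟨a1, a2⟩ ⟨b1, b2⟩
        refine ⟨fun t => ?_, fun t => ?_⟩
        · obtain ⟨s, hs⟩ := b1 t
          obtain ⟨u, hu⟩ := a1 s
          exact ⟨u, by rw [← hu, ← hs]; group⟩
        · obtain ⟨s, hs⟩ := a2 t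
          obtain ⟨u, hu⟩ := b2 s
          exact ⟨u, by rw [← hu, ← hs]; group⟩
      inv_mem' := by
        rintro a ⟨a1, a2⟩
        exact ⟨fun t => by rw [inv_inv]; exact a2 t, fun t => by rw [inv_inv]; exact a1 t⟩ }
  have hle : chevE6.parabolicSubgroup F leviNodes ≤ K := by
    rw [parabolic_gen hc]
    refine sup_le (fun g hg => ?_) (uGen_le_iff.2 fun r hr hP a => ?_)
    · obtain ⟨c, hcg⟩ := diagonal_conj_elX hc hg (r := 71) (by decide)
      obtain ⟨c', hcg'⟩ := diagonal_conj_elX hc (inv_mem hg) (r := 71) (by decide)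
      exact ⟨fun t => ⟨_, hcg t⟩, fun t => ⟨_, by rw [← hcg' t, inv_inv]⟩⟩
    · have hz := par_ok r hr (by
        rcases hP with h | ⟨-, h⟩
        · exact Or.inl h
        · exact Or.inr ⟨h 1 (by decide) (by simp [leviNodes]), h 5 (by decide) (by simp [leviNodes])⟩)
      have hcom : ∀ a t, Commute (elX chevE6 F r a) (elX chevE6 F 71 t) := fun a t => by
        have := congrArg Subtype.val
          ((slChev hc F hcomm short_ok).comm_none r 71 hr (show 71 < 72 by decide) hz.2 hz.1 a t).eq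
        show _ = _
        simpa [slChev, chevX_coe hc F hr, chevX_coe hc F (show 71 < chevE6.nroots by decide)] using this
      exact ⟨fun t => ⟨t, by rw [(hcom a t).eq, mul_inv_cancel_right]⟩,
        fun t => ⟨t, by rw [mul_assoc, ← (hcom a t).eq, inv_mul_cancel_left]⟩⟩
  exact (hle hg).1 t

include hc in
theorem parabolic_le : chevE6.parabolicSubgroup F leviNodes ≤ chevE6.group F := by
  rw [parabolic_gen hc]
  exact sup_le (diagonal_le_group hc) (uGen_le_iff.2 fun r hr _ t => elX_mem_group hc hr t)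

include hc hcomm in
theorem dvd_parabolic [Fintype F] {q : ℕ} (hq : Fintype.card F = q) :
    (q ^ 4 + q ^ 3 + q ^ 2 + q + 1) ∣ Nat.card ↥(chevE6.parabolicSubgroup F leviNodes) := by
  rw [card_parabolic hc hcomm (JL := [(⟨0, by decide⟩ : Fin chevE6.rank), (⟨2, by decide⟩ : Fin chevE6.rank),
    (⟨3, by decide⟩ : Fin chevE6.rank), (⟨4, by decide⟩ : Fin chevE6.rank)])
    (fun i => by simp [leviNodes, Fin.ext_iff])]
  have s3 := wsum_step' hc cartE6 cartE6_eq [(⟨0, by decide⟩ : Fin chevE6.rank), (⟨2, by decide⟩ : Fin chevE6.rank), (⟨3, by decide⟩ : Fin chevE6.rank)] ⟨4, by decide⟩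
    (by decide) (m := 5) (by norm_num) [1, 1, 1, 1, 1] (by decide +kernel) (Fintype.card F)
  simp only [List.cons_append, List.nil_append] at s3
  rw [s3, hq]
  refine dvd_mul_of_dvd_right (dvd_mul_of_dvd_left (dvd_of_eq ?_) _) _
  simp only [polyEval]; ring

end Stab

theorem chain_val (q : ℕ) (hq : 1 ≤ q) :
    SLRoots.chainSum q ht layers + 6 = q * (q ^ 6 + q ^ 3 + 1) * (q ^ 4 + 1) := by
  rw [chainSum_eq, exps_eq]
  obtain ⟨m, rfl⟩ : ∃ m, q = m + 1 := ⟨q - 1, by omega⟩
  simp only [List.map_cons, List.map_nil, List.sum_cons, List.sum_nil, Nat.add_sub_cancel]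
  ring

theorem target_le (q : ℕ) (hq : 2 ≤ q) :
    q * (q ^ 6 + q ^ 3 + 1) * (q ^ 4 + 1) ≤ q ^ 12 ∧
    q * (q ^ 6 + q ^ 3 + 1) * (q ^ 4 + 1) ≤
      2 * ((q - 1) * SLRoots.layerSum q ht 56 top) := by
  constructor
  · obtain ⟨m, rfl⟩ : ∃ m, q = m + 2 := ⟨q - 2, by omega⟩
    ring_nf
    linarith [Nat.zero_le m, Nat.zero_le (m ^ 2), Nat.zero_le (m ^ 3), Nat.zero_le (m ^ 4), Nat.zero_le (m ^ 5), Nat.zero_le (m ^ 6), Nat.zero_le (m ^ 7), Nat.zero_le (m ^ 8), Nat.zero_le (m ^ 9), Nat.zero_le (m ^ 10), Nat.zero_le (m ^ 11), Nat.zero_le (m ^ 12)]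
  · rw [show SLRoots.layerSum q ht 56 top =
      (([0, 1, 2, 3, 4, 3, 4, 5, 5, 6, 7, 6, 7, 8, 9, 10] : List ℕ).map (q ^ ·)).sum by
        rw [SLRoots.layerSum, ← exps_top, List.map_map]; rfl]
    obtain ⟨m, rfl⟩ : ∃ m, q = m + 2 := ⟨q - 2, by omega⟩
    simp only [List.map_cons, List.map_nil, List.sum_cons, List.sum_nil,
      show m + 2 - 1 = m + 1 by omega]
    ring_nf
    linarith [Nat.zero_le m, Nat.zero_le (m ^ 2), Nat.zero_le (m ^ 3), Nat.zero_le (m ^ 4), Nat.zero_le (m ^ 5), Nat.zero_le (m ^ 6), Nat.zero_le (m ^ 7), Nat.zero_le (m ^ 8), Nat.zero_le (m ^ 9), Nat.zero_le (m ^ 10), Nat.zero_le (m ^ 11), Nat.zero_le (m ^ 12)]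

/-- The bound for `E6(q)`. -/
theorem degree_ge {F : Type*} [Field F] [Fintype F] {V : Type*} [AddCommGroup V] [Module ℂ V]
    [FiniteDimensional ℂ V] (ρ : Representation ℂ ↥(chevE6.group F) V) [ρ.IsIrreducible]
    (hd : 2 ≤ finrank ℂ V) :
    Fintype.card F * (Fintype.card F ^ 6 + Fintype.card F ^ 3 + 1) * (Fintype.card F ^ 4 + 1) ≤
      finrank ℂ V := by
  classical
  have hc := CfsgLib.Chev.E6.checked
  have hcomm := commOne_of_commCheck CfsgLib.Chev.E6.checked CfsgLib.Chev.E6.comm_ok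
    CfsgLib.Chev.E6.short_ok
  let T := CfsgLib.Chev.E6.tabs
  have hsimp : IsSimpleGroup ↥(chevE6.group F) :=
    (isSimple_group_of_cover chevE6 (by simp) (fun h => by
      simp only [List.mem_cons, List.not_mem_nil, or_false] at h
      rcases h with h | h <;> exact absurd (congrArg ChevalleyDatum.rank h) (by decide))).1
  set q := Fintype.card F with hq
  have hq2 : 2 ≤ q := Fintype.one_lt_card
  let S := slChev hc F hcomm short_ok
  have hfull : finrank ℂ (S.fix ρ []) ≤ finrank ℂ V := Submodule.finrank_le _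
  have hscale : ∀ x ∈ ([56, 46, 42, 39, 37, 36] : List ℕ), S.ScaleOK pos x := fun x hx c => by
    obtain ⟨j, hj, hjx⟩ := scale_ok x hx
    exact chev_scale hc F hcomm short_ok (List.mem_range.1 hj) hjx pos (fun r hr => by
      obtain ⟨k, hk, rfl⟩ := List.mem_map.1 hr
      have := List.mem_range.1 hk
      show k + 36 < 72
      omega) c
  have h71 : 71 < chevE6.nroots := by decide
  have hmove : ∃ t, ∃ v ∈ S.fix ρ [], ρ (S.x 71 t) v ≠ v := by
    obtain ⟨v, hv⟩ := exists_moved hsimp ρ hd (g := S.x 71 1) (fun h => one_ne_zero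
      ((elX_eq_one_iff hc h71 (1 : F)).1 (by
        rw [← chevX_coe hc F h71]; exact congrArg Subtype.val h)))
    exact S.moved_nil ρ hv
  have hsub : ∀ r ∈ top, r ∈ pos := by decide +kernel
  have hinj : ∀ s ∈ top, s ≠ 56 → S.path word s ≠ 71 := fun s hs hne => by
    have := List.all_eq_true.1 word_ok.2.2 s hs
    have h' : word.foldr (chevE6.reflectRoot) s ≠ 71 := by simpa [hne, tSg_eq hc] using this
    exact h'
  have hchain := chainB_spec (hc := hc) (F := F) (hcomm := hcomm) (hshort := short_ok) layers []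
    chain_ok
  have hcell : S.CellOK [] top [5, 2, 3, 1, 4] ht 56 := hchain.1
  rcases S.first_layer ρ (topB_spec top_ok) (abelB_spec abel_ok) (by decide +kernel) hcell
    (stabB_spec stab_ok) List.not_mem_nil (hscale 56 (by simp))
    (fun r hr => (List.not_mem_nil hr).elim) hsub (nodesB_spec word_ok.1) (by have := word_ok.2.1; rw [tSg_eq hc] at this; exact this) hinj hmove
    with h | h | hW
  · exact (target_le q hq2).1.trans (h.trans hfull)
  · exact (target_le q hq2).2.trans (h.trans hfull)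
  have hall : ∀ a ∈ [56] ++ (edges.map fun e => (e.1, e.2.1)).map Prod.snd,
      ∀ χ : AddChar F ℂ, χ ≠ 0 → S.Whit ρ pos a χ := by
    refine S.whit_edges ρ _ (fun e he => ?_) (fun e he => hscale _ ?_) [56]
      (fun a ha => by rw [List.mem_singleton.1 ha]; exact hW) (fun k hk => ?_)
    · obtain ⟨x, hx, rfl⟩ := List.mem_map.1 he
      exact ⟨_, _, _, _, propB_spec (List.all_eq_true.1 edges_ok x hx)⟩
    · obtain ⟨x, hx, rfl⟩ := List.mem_map.1 he
      revert x; decide +kernel
    · have hk' : k < edges.length := by simpa using hk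
      simpa [List.map_take, Function.comp_def] using edges_from ⟨k, hk'⟩
  have hlay : ∀ x ∈ layers, ∀ χ : AddChar F ℂ, χ ≠ 0 → S.Whit ρ pos x.2.2 χ := fun x hx =>
    hall _ (by revert x; decide +kernel)
  have hlow : SLRoots.chainSum q ht layers ≤ finrank ℂ (S.fix ρ []) :=
    S.chain_le ρ layers [] hchain hlay
  have hval := chain_val q (by omega)
  by_contra hlt
  push Not at hlt
  obtain ⟨j, hj⟩ : ∃ j, finrank ℂ V + j = q * (q ^ 6 + q ^ 3 + 1) * (q ^ 4 + 1) :=
    ⟨q * (q ^ 6 + q ^ 3 + 1) * (q ^ 4 + 1) - finrank ℂ V, by omega⟩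
  have hdvd : finrank ℂ V ∣ q ^ 36 * ((q ^ 2 - 1) * (q ^ 5 - 1) * (q ^ 6 - 1) * (q ^ 8 - 1) *
      (q ^ 9 - 1) * (q ^ 12 - 1)) := by
    refine (Char.finrank_dvd_card ρ).trans (Dvd.intro_left (Nat.gcd 3 (q - 1)) ?_)
    rw [card_group_E6 hq.symm]
    ring
  have hexc := SlNum.gapE6 (hq ▸ FiniteField.isPrimePow_card F) (by omega) (by omega) hj hdvd
  -- the fixed space of the highest root lies in a short interval
  obtain ⟨T₁, hT₁, hT₁c, hT₁a⟩ := S.whit_fam ρ (R := []) (U := top) (rk := ht)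
    (fun r hr => (List.not_mem_nil hr).elim) hsub hcell.1 hW
  obtain ⟨A, hA, hAc, hAt⟩ := S.cell ρ one_pos hcell hT₁ hT₁a 71 (by decide +kernel) 
  have hup : finrank ℂ (S.fix ρ [71]) + (q - 1) * q ^ 10 ≤ finrank ℂ V := by
    have h1 := S.fix_add_le ρ (p := 71) (by decide +kernel) one_pos hA fun ψ hψ => (hAt ψ hψ).1
    rw [hT₁c, ← hq] at hAc
    rw [mul_one] at h1
    rw [show ht 71 - ht 56 = 10 by decide +kernel] at hAc
    omega
  obtain ⟨B, hB, hBc, hBt⟩ := S.cells_fam ρ one_pos hcell (U' := top.dropLast)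
    (by decide +kernel) (fun β hβ => List.dropLast_subset _ hβ) hT₁ hT₁a
  have hdown : finrank ℂ (S.fix ρ ([] ++ top)) + B.card * 1 ≤ finrank ℂ (S.fix ρ [71]) := by
    refine S.fix_ge ρ (p := 71) (by decide +kernel) hB (fun ψ hψ t => ?_) (fun ψ hψ e => ?_)
    · obtain ⟨β, hβ, -, hrest⟩ := hBt ψ hψ
      have := (show ∀ β ∈ top.dropLast, 71 ≠ β ∧ ht β ≤ ht 71 by decide +kernel) β hβ
      exact hrest 71 (by decide +kernel) this.1 this.2 t
    · obtain ⟨β, hβ, ⟨t, ht⟩, -⟩ := hBt ψ hψ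
      exact ht (e β (List.dropLast_subset _ hβ) t)
  have hrest := S.chain_le ρ layers.tail ([] ++ top) hchain.2.2.2.2
    (fun x hx => hlay x (List.mem_of_mem_tail hx))
  have hsum : SLRoots.chainSum q ht layers =
      (q - 1) * SLRoots.layerSum q ht 56 top +
        SLRoots.chainSum q ht layers.tail := rfl
  have hsplit : SLRoots.layerSum q ht 56 top =
      SLRoots.layerSum q ht 56 top.dropLast + q ^ 10 := by
    have e : top = top.dropLast ++ [71] := by decide +kernel
    conv_lhs => rw [e]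
    simp only [SLRoots.layerSum, List.map_append, List.sum_append, List.map_cons, List.map_nil,
      List.sum_cons, List.sum_nil, add_zero]
    rw [show ht 71 - ht 56 = 10 by decide +kernel]
  rw [hT₁c, ← hq] at hBc
  rw [← hq] at hrest
  rw [mul_one] at hdown
  rw [hsplit, mul_add] at hsum
  have hBc' : (q - 1) * SLRoots.layerSum q ht 56 top.dropLast ≤ B.card := hBc
  -- the prime 31
  have hK : ∀ t, (31 : ℕ) ∣ Nat.card ↥(chevE6.parabolicSubgroup F leviNodes) →
      ¬ 31 * 31 ∣ Nat.card ↥(chevE6.group F) → q < 31 →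
      ¬ 31 ∣ (Subgroup.centralizer ({S.x 71 t} : Set ↥(chevE6.group F))).index := by
    intro t h1 h2 h3
    refine not_dvd_index ((chevE6.parabolicSubgroup F leviNodes).subgroupOf (chevE6.group F))
      (by norm_num) ?_ h2 (s := Finset.univ.image fun s => S.x 71 s)
      (lt_of_le_of_lt Finset.card_image_le (by rwa [Finset.card_univ, ← hq])) fun h hh => ?_
    · rwa [Nat.card_congr (Subgroup.subgroupOfEquivOfLe (parabolic_le hc F)).toEquiv]
    · obtain ⟨s, hs⟩ := orbit_root hc hcomm F (Subgroup.mem_subgroupOf.1 hh) t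
      refine Finset.mem_image.2 ⟨s, Finset.mem_univ _, Subtype.ext ?_⟩
      simp only [S, slChev, Subgroup.coe_mul, Subgroup.coe_inv, chevX_coe hc F h71]
      exact hs.symm
  have hP := dvd_parabolic hc hcomm F hq.symm
  have hG := card_group_E6 (F := F) hq.symm
  rcases hexc with ⟨h2, h2j⟩ | ⟨h4, h4j⟩
  · rw [h2] at hP hG hj hval hsum hup hBc' hrest
    have h31 := S.prime_dvd_fix ρ (r := 31) (a := 71) (by norm_num)
      (by norm_num at hj; omega) (fun t => hK t (dvd_trans (by norm_num) hP) (by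
        rw [show Nat.gcd 3 (2 - 1) = 1 by norm_num, one_mul] at hG
        rw [hG]; norm_num) (by omega))
    rw [← hq, h2] at h31
    norm_num at hj hval hsum hup h31 ⊢
    omega
  · rw [h4] at hP hG hj hval hsum hup hBc' hrest
    have h31 := S.prime_dvd_fix ρ (r := 31) (a := 71) (by norm_num)
      (by norm_num at hj; omega) (fun t => hK t (dvd_trans (by norm_num) hP) (by
        intro hd'
        have := (hd'.mul_left (Nat.gcd 3 (4 - 1))).trans (dvd_of_eq hG)
        norm_num at this) (by omega))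
    rw [← hq, h4] at h31
    norm_num at hj hval hsum hup h31 ⊢
    omega

end CfsgLib.MinDeg.E6
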