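import Cfsg.Agent.Lib.MinDeg.SlMain
import Cfsg.Agent.Lib.Chev.Gen.CommE6

/-!
# Certificates for the layers of `E6`
-/

set_option autoImplicit false
set_option maxRecDepth 100000

namespace CfsgLib.MinDeg.E6

open Cfsg.Lie

/-- The heights of the positive roots, packed. -/
def hts : ℕ := 830909971365946883549960882085932597227849981816984833021313818654044703686469984744189293072592717542850560

/-- The height of a positive root. -/
def ht (r : ℕ) : ℕ := Nat.land (Nat.shiftRight hts (Nat.mul 5 r)) 31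

/-- The positive roots. -/
def pos : List ℕ := (List.range 36).map (· + 36)

/-- The layers. -/
def layers : List (List ℕ × List ℕ × ℕ) := [
  ([56, 57, 58, 59, 60, 61, 62, 63, 64, 65, 66, 67, 68, 69, 70, 71], [5, 2, 3, 1, 4], 56),
  ([36, 38, 41, 45, 49, 52, 54, 55], [2, 3, 1, 4], 36),
  ([42, 43, 44, 50, 51, 53], [3, 1, 4], 42),
  ([39, 40, 47, 48], [1, 4], 39),
  ([46], [4], 46),
  ([37], [], 37)]

/-- The first layer. -/
def top : List ℕ := [56, 57, 58, 59, 60, 61, 62, 63, 64, 65, 66, 67, 68, 69, 70, 71]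

/-- The slots below the highest root of the first layer, with their movers. -/
def slots : List (ℕ × ℕ) := [(55, 61), (54, 62), (53, 63), (52, 64), (51, 65), (50, 66), (49, 67), (48, 68), (47, 69), (46, 70)]

/-- The second level of the first layer. -/
def lev₂ : List (ℕ × List ℕ) := [
  (56, [2, 3, 4, 5]),
  (57, [3, 4, 5]),
  (58, [4, 5]),
  (59, [5]),
  (60, [])]

/-- Witnesses for the stabiliser of the lowest root of the first layer. -/
def wit : List (ℕ × Option ℕ × ℕ × ℕ) := [
  (36, none, 23, 49),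
  (37, none, 24, 48),
  (38, none, 24, 49),
  (39, none, 25, 47),
  (40, none, 25, 48),
  (41, none, 25, 49),
  (42, none, 22, 52),
  (43, none, 22, 54),
  (44, none, 22, 55),
  (45, none, 23, 55),
  (46, none, 30, 49),
  (47, none, 33, 49),
  (48, none, 35, 49),
  (49, none, 36, 48),
  (50, none, 30, 54),
  (51, none, 30, 55),
  (52, none, 31, 55),
  (53, none, 33, 55),
  (54, none, 34, 55),
  (55, none, 37, 54)]

/-- A word carrying the lowest root of the first layer to the highest. -/
def word : List ℕ := [1, 3, 4, 2, 3, 5, 4, 1, 3, 2]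

/-- The edges of the diagram, as pairs of simple roots with their nodes. -/
def edges : List (ℕ × ℕ × ℕ × ℕ × ℕ) := [(56, 42, 57, 0, 2), (42, 39, 43, 2, 3), (39, 46, 47, 3, 1), (39, 37, 40, 3, 4), (37, 36, 38, 4, 5)]

theorem short_ok : shortB chevE6 = true := by decide +kernel

theorem chain_ok : chainB chevE6 CfsgLib.Chev.E6.tabs pos ht [] layers = true := by decide +kernel

theorem abel_ok : abelB chevE6 CfsgLib.Chev.E6.tabs [] top = true := by decide +kernel

theorem top_ok : topB chevE6 CfsgLib.Chev.E6.tabs [] top 71 60 slots [(36, 59), (38, 58)] lev₂ [] = true := by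
  decide +kernel

theorem stab_ok : stabB chevE6 CfsgLib.Chev.E6.tabs [] top pos 56 wit = true := by decide +kernel

theorem word_ok : nodesB chevE6 CfsgLib.Chev.E6.tabs [] top word = true ∧ word.foldr (tSg chevE6 CfsgLib.Chev.E6.tabs) 56 = 71 ∧
    (top.all fun s => decide (s = 56) || decide (word.foldr (tSg chevE6 CfsgLib.Chev.E6.tabs) s ≠ 71)) = true := by
  decide +kernel

theorem edges_ok : (edges.all fun e => propB chevE6 CfsgLib.Chev.E6.tabs pos
    (pos.filter fun r => decide (r ≠ e.1) && decide (r ≠ e.2.1) && decide (r ≠ e.2.2.1))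
    e.1 e.2.1 e.2.2.1 e.2.2.2.1 e.2.2.2.2) = true := by
  decide +kernel

theorem edges_from : ∀ k : Fin edges.length,
    edges[k.val].1 ∈ [56] ++ (edges.take k.val).map (·.2.1) := by
  decide +kernel

theorem scale_ok : ∀ x ∈ ([56, 46, 42, 39, 37, 36] : List ℕ), ∃ j ∈ List.range 6, chevE6.cartan j x = -1 := by
  decide +kernel

theorem exps_eq : chainExps ht layers =
    [0, 1, 2, 3, 4, 3, 4, 5, 5, 6, 7, 6, 7, 8, 9, 10, 0, 1, 2, 3, 3, 4, 5, 6, 0, 1, 2, 2, 3, 4, 0, 1, 1, 2, 0, 0] := by
  decide +kernel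

theorem exps_top : (top.map fun β => ht β - ht 56) =
    [0, 1, 2, 3, 4, 3, 4, 5, 5, 6, 7, 6, 7, 8, 9, 10] := by
  decide +kernel

end CfsgLib.MinDeg.E6
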