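import Cfsg.Agent.Lib.MinDeg.SlE8Data
import Cfsg.Agent.Lib.MinDeg.SlNum
import Cfsg.Agent.Lib.Chev.PerfectCover
import Cfsg.Agent.Lib.Chev.OrderCases
import Cfsg.Agent.Lib.Char.Integral

/-!
# The minimal degree of a non-trivial character of `E8(q)`
-/

set_option autoImplicit false
set_option linter.unusedSectionVars false
set_option maxRecDepth 100000

namespace CfsgLib.MinDeg

open Module

namespace SLRoots

variable {F : Type*} [Field F] [Fintype F] {G : Type*} [Group G] (S : SLRoots F G)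
variable {V : Type*} [AddCommGroup V] [Module ℂ V] [FiniteDimensional ℂ V]
  (ρ : Representation ℂ G V)

/-- Every character of `z` spreads over an abelian half. -/
theorem half_fam {z : ℕ} {H : List ℕ} {L : List (ℕ × ℕ)}
    (hspread : S.SpreadOK [] (z :: H) [] z L) (hnd : (L.map Prod.snd).Nodup)
    (hab : S.AbelOK [] (z :: H)) (hnodup : (z :: H).Nodup) {χ : AddChar F ℂ} (hχ : χ ≠ 0)
    (hpos : 0 < finrank ℂ (S.eig ρ [] [z] (single z χ))) :
    ∃ T : Finset (Slots F), S.Fam ρ [] (z :: H) 1 T ∧ T.card = Fintype.card F ^ L.length ∧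
      ∀ ψ ∈ T, ∀ t, ψ z t = χ t := by
  classical
  obtain ⟨u, hu, hu0⟩ := Submodule.exists_mem_ne_zero_of_ne_bot (p := S.eig ρ [] [z] (single z χ))
    (fun hb => by rw [hb, finrank_bot] at hpos; exact lt_irrefl _ hpos)
  obtain ⟨ψ, v, hvW, hv0, hv⟩ := S.exists_eig ρ hab hnodup hu0 hu (fun w hw => hw.1) (by
    intro r hr t w hw
    refine ⟨fun s hs => (List.not_mem_nil hs).elim, fun s hs a => ?_⟩
    rw [List.mem_singleton.1 hs]
    by_cases hrz : r = z
    · rw [hrz, hw.2 z List.mem_cons_self t, map_smul, hw.2 z List.mem_cons_self a, smul_comm]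
    · obtain ⟨hop, hadd⟩ := (hab r hr).2.2 z List.mem_cons_self (Ne.symm hrz)
      cases hk : S.add r z with
      | none =>
        rw [← Module.End.mul_apply, ← map_mul, ← (S.comm_none r z (hab r hr).1
          (hab z List.mem_cons_self).1 hop hk t a).eq, map_mul, Module.End.mul_apply,
          hw.2 z List.mem_cons_self a, map_smul]
      | some k => exact absurd (hadd k hk) List.not_mem_nil)
  have hz : ∀ t, ψ z t = χ t := fun t => smul_left_injective ℂ hv0 (by
    show ψ z t • v = χ t • v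
    rw [← hv.2 z List.mem_cons_self t, hvW.2 z List.mem_cons_self t]
    simp [single])
  have hfam : S.Fam ρ [] (z :: H) 1 {ψ} := ⟨fun a ha b hb _ => by
    rw [Finset.mem_singleton.1 ha, Finset.mem_singleton.1 hb],
    fun a ha => by
      rw [Finset.mem_singleton.1 ha]
      exact one_le_finrank_of_ne_bot fun hb => hv0 ((Submodule.mem_bot ℂ).1 (hb ▸ hv))⟩
  obtain ⟨T, hT, hTc, hTp, -⟩ := S.spread ρ one_pos hχ L hspread hnd hfam
    (fun a ha t => by rw [Finset.mem_singleton.1 ha, hz])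
    (fun x _ a ha b hb t => by rw [Finset.mem_singleton.1 ha, Finset.mem_singleton.1 hb])
  exact ⟨T, hT, by rw [hTc, Finset.card_singleton, one_mul], hTp⟩

/-- The weights non-trivial at `z` on an abelian half. -/
theorem half_le {z : ℕ} {H : List ℕ} {L : List (ℕ × ℕ)}
    (hspread : S.SpreadOK [] (z :: H) [] z L) (hnd : (L.map Prod.snd).Nodup)
    (hab : S.AbelOK [] (z :: H)) (hnodup : (z :: H).Nodup)
    (hpos : ∀ χ : AddChar F ℂ, χ ≠ 0 → 0 < finrank ℂ (S.eig ρ [] [z] (single z χ))) :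
    finrank ℂ (S.fix ρ [z]) + (Fintype.card F - 1) * Fintype.card F ^ L.length ≤
      finrank ℂ (S.fix ρ []) := by
  classical
  choose T hT hTc hTz using fun χ : {χ : AddChar F ℂ // χ ≠ 0} =>
    S.half_fam ρ hspread hnd hab hnodup χ.2 (hpos χ.1 χ.2)
  let all : Finset (Slots F) := Finset.univ.biUnion T
  have uniq : ∀ χ χ', ∀ ψ ∈ T χ, ∀ ψ' ∈ T χ', AgreeOn (z :: H) ψ ψ' → χ = χ' :=
    fun χ χ' ψ hψ ψ' hψ' e => Subtype.ext (AddChar.ext _ _ fun t => by
      rw [← hTz χ ψ hψ, ← hTz χ' ψ' hψ', e z List.mem_cons_self])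
  have hall : S.Fam ρ [] (z :: H) 1 all := by
    refine ⟨fun ψ hψ ψ' hψ' e => ?_, fun ψ hψ => ?_⟩
    · obtain ⟨χ, -, hψ⟩ := Finset.mem_biUnion.1 hψ
      obtain ⟨χ', -, hψ'⟩ := Finset.mem_biUnion.1 hψ'
      obtain rfl := uniq χ χ' ψ hψ ψ' hψ' e
      exact (hT χ).sep ψ hψ ψ' hψ' e
    · obtain ⟨χ, -, hψ⟩ := Finset.mem_biUnion.1 hψ
      exact (hT χ).rank ψ hψ
  have h := S.fix_add_le ρ (p := z) List.mem_cons_self one_pos hall (fun ψ hψ => by
    obtain ⟨χ, -, hψ⟩ := Finset.mem_biUnion.1 hψ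
    obtain ⟨t, ht⟩ := AddChar.ne_zero_iff.1 χ.2
    exact ⟨t, by rwa [hTz χ ψ hψ]⟩)
  have hc : all.card = (Fintype.card F - 1) * Fintype.card F ^ L.length := by
    rw [Finset.card_biUnion (fun χ _ χ' _ hne => Finset.disjoint_left.2 fun ψ h1 h2 =>
      hne (uniq χ χ' ψ h1 ψ h2 fun _ _ _ => rfl)), Finset.sum_congr rfl (fun χ _ => hTc χ),
      Finset.sum_const, smul_eq_mul, Finset.card_univ, Fintype.card_subtype_compl,
      Fintype.card_subtype_eq, AddChar.card_eq]
  rwa [hc, mul_one] at h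

/-- The root `p = s_i z` moves the fixed space of `z`. -/
theorem moves_fix {i z p g : ℕ} (hi : i < S.rk) (hz : z < S.num) (hiz : S.sg i z = p)
    (hspread : S.SpreadOK [] [z, p] [] z [(g, p)]) (hab : S.AbelOK [] [z, p]) (hzp : z ≠ p)
    {χ : AddChar F ℂ} (hχ : χ ≠ 0) {u : V} (hu0 : u ≠ 0) (hu : u ∈ S.eig ρ [] [z] (single z χ)) :
    ∃ t, ∃ v ∈ S.fix ρ [z], ρ (S.x p t) v ≠ v := by
  classical
  by_contra hall
  push Not at hall
  have hle : S.fix ρ [z] ≤ S.fix ρ [p] := fun v hv r hr t => by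
    rw [List.mem_singleton.1 hr]; exact hall t v hv
  have hge : finrank ℂ (S.fix ρ [p]) ≤ finrank ℂ (S.fix ρ [z]) := by
    have hmap : ∀ v ∈ S.fix ρ [p], ρ (S.n i)⁻¹ v ∈ S.fix ρ [z] := by
      intro v hv r hr t
      rw [List.mem_singleton.1 hr]
      have e : S.x z t * (S.n i)⁻¹ = (S.n i)⁻¹ * S.x p (S.nc i z * t) := by
        rw [← hiz, ← S.n_conj i z hi hz]; group
      rw [← Module.End.mul_apply, ← map_mul, e, map_mul, Module.End.mul_apply,
        hv p List.mem_cons_self]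
    exact LinearMap.finrank_le_finrank_of_injective (f := (ρ (S.n i)⁻¹).restrict hmap)
      fun _ _ e => Subtype.ext (rep_injective ρ _ (congrArg Subtype.val e))
  have heq := Submodule.eq_of_le_of_finrank_le hle hge
  obtain ⟨ψ, v, hvW, hv0, hv⟩ := S.exists_eig ρ hab (by simp [hzp]) hu0 hu (fun w hw => hw.1) (by
    intro r hr t w hw
    refine ⟨fun s hs => (List.not_mem_nil hs).elim, fun s hs a => ?_⟩
    rw [List.mem_singleton.1 hs]
    by_cases hrz : r = z
    · rw [hrz, hw.2 z List.mem_cons_self t, map_smul, hw.2 z List.mem_cons_self a, smul_comm]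
    · obtain ⟨hop, hadd⟩ := (hab r hr).2.2 z List.mem_cons_self (Ne.symm hrz)
      cases hk : S.add r z with
      | none =>
        rw [← Module.End.mul_apply, ← map_mul, ← (S.comm_none r z (hab r hr).1
          (hab z List.mem_cons_self).1 hop hk t a).eq, map_mul, Module.End.mul_apply,
          hw.2 z List.mem_cons_self a, map_smul]
      | some k => exact absurd (hadd k hk) List.not_mem_nil)
  have hzv : ∀ t, ψ z t = χ t := fun t => smul_left_injective ℂ hv0 (by
    show ψ z t • v = χ t • v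
    rw [← hv.2 z List.mem_cons_self t, hvW.2 z List.mem_cons_self t]
    simp [single])
  obtain ⟨ψ', hr', hz', hone, -⟩ := S.clear_list ρ hχ [(g, p)] hspread (by simp)
    (one_le_finrank_of_ne_bot fun hb => hv0 ((Submodule.mem_bot ℂ).1 (hb ▸ hv))) hzv
  obtain ⟨w, hw, hw0⟩ := Submodule.exists_mem_ne_zero_of_ne_bot (p := S.eig ρ [] [z, p] ψ')
    (fun hb => by rw [hb, finrank_bot] at hr'; exact lt_irrefl _ hr')
  have hwp : w ∈ S.fix ρ [p] := fun r hr t => by
    rw [List.mem_singleton.1 hr, hw.2 p (by simp) t, hone p (by simp) t, one_smul]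
  rw [← heq] at hwp
  obtain ⟨t, ht⟩ := AddChar.ne_zero_iff.1 hχ
  apply ht
  refine smul_left_injective ℂ hw0 ?_
  show χ t • w = (1 : ℂ) • w
  rw [one_smul, ← hz', ← hw.2 z List.mem_cons_self t, hwp z List.mem_cons_self t]

end SLRoots

namespace E8

open Cfsg.Lie CfsgLib.Chev

theorem chain_val (q : ℕ) (hq : 1 ≤ q) :
    SLRoots.chainSum q ht layers + (q - 1) * q ^ 28 + 8 =
      q * (q ^ 12 + 1) * (q ^ 10 + 1) * (q ^ 6 + 1) := by
  rw [chainSum_eq, exps_eq]
  obtain ⟨m, rfl⟩ : ∃ m, q = m + 1 := ⟨q - 1, by omega⟩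
  simp only [List.map_cons, List.map_nil, List.sum_cons, List.sum_nil, Nat.add_sub_cancel]
  ring

theorem target_le (q : ℕ) (hq : 2 ≤ q) :
    q * (q ^ 12 + 1) * (q ^ 10 + 1) * (q ^ 6 + 1) ≤ q ^ 29 + (q - 1) * q ^ 28 ∧
    q * (q ^ 12 + 1) * (q ^ 10 + 1) * (q ^ 6 + 1) ≤
      2 * ((q - 1) * SLRoots.layerSum q ht 120 top) + (q - 1) * q ^ 28 := by
  rw [show SLRoots.layerSum q ht 120 top =
      ((top.map fun β => ht β - ht 120).map (q ^ ·)).sum by
        rw [SLRoots.layerSum, List.map_map]; rfl, exps_top]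
  obtain ⟨m, rfl⟩ : ∃ m, q = m + 2 := ⟨q - 2, by omega⟩
  simp only [List.map_cons, List.map_nil, List.sum_cons, List.sum_nil,
    show m + 2 - 1 = m + 1 by omega]
  constructor
  · ring_nf
    linarith [Nat.zero_le m, Nat.zero_le (m ^ 2), Nat.zero_le (m ^ 3), Nat.zero_le (m ^ 4), Nat.zero_le (m ^ 5), Nat.zero_le (m ^ 6), Nat.zero_le (m ^ 7), Nat.zero_le (m ^ 8), Nat.zero_le (m ^ 9), Nat.zero_le (m ^ 10), Nat.zero_le (m ^ 11), Nat.zero_le (m ^ 12), Nat.zero_le (m ^ 13), Nat.zero_le (m ^ 14), Nat.zero_le (m ^ 15), Nat.zero_le (m ^ 16), Nat.zero_le (m ^ 17), Nat.zero_le (m ^ 18), Nat.zero_le (m ^ 19), Nat.zero_le (m ^ 20), Nat.zero_le (m ^ 21), Nat.zero_le (m ^ 22), Nat.zero_le (m ^ 23), Nat.zero_le (m ^ 24), Nat.zero_le (m ^ 25), Nat.zero_le (m ^ 26), Nat.zero_le (m ^ 27), Nat.zero_le (m ^ 28), Nat.zero_le (m ^ 29), Nat.zero_le (m ^ 30)]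
  · ring_nf
    linarith [Nat.zero_le m, Nat.zero_le (m ^ 2), Nat.zero_le (m ^ 3), Nat.zero_le (m ^ 4), Nat.zero_le (m ^ 5), Nat.zero_le (m ^ 6), Nat.zero_le (m ^ 7), Nat.zero_le (m ^ 8), Nat.zero_le (m ^ 9), Nat.zero_le (m ^ 10), Nat.zero_le (m ^ 11), Nat.zero_le (m ^ 12), Nat.zero_le (m ^ 13), Nat.zero_le (m ^ 14), Nat.zero_le (m ^ 15), Nat.zero_le (m ^ 16), Nat.zero_le (m ^ 17), Nat.zero_le (m ^ 18), Nat.zero_le (m ^ 19), Nat.zero_le (m ^ 20), Nat.zero_le (m ^ 21), Nat.zero_le (m ^ 22), Nat.zero_le (m ^ 23), Nat.zero_le (m ^ 24), Nat.zero_le (m ^ 25), Nat.zero_le (m ^ 26), Nat.zero_le (m ^ 27), Nat.zero_le (m ^ 28), Nat.zero_le (m ^ 29), Nat.zero_le (m ^ 30)]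

/-- The bound for `E8(q)`. -/
theorem degree_ge {F : Type*} [Field F] [Fintype F] {V : Type*} [AddCommGroup V] [Module ℂ V]
    [FiniteDimensional ℂ V] (ρ : Representation ℂ ↥(chevE8.group F) V) [ρ.IsIrreducible]
    (hd : 2 ≤ finrank ℂ V) :
    Fintype.card F * (Fintype.card F ^ 12 + 1) * (Fintype.card F ^ 10 + 1) *
      (Fintype.card F ^ 6 + 1) ≤ finrank ℂ V := by
  classical
  have hc := CfsgLib.Chev.E8.checked
  have hcomm := commOne_of_commCheck CfsgLib.Chev.E8.checked CfsgLib.Chev.E8.comm_ok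
    CfsgLib.Chev.E8.short_ok
  let T := CfsgLib.Chev.E8.tabs
  have hsimp : IsSimpleGroup ↥(chevE8.group F) :=
    (isSimple_group_of_cover chevE8 (by simp) (fun h => by
      simp only [List.mem_cons, List.not_mem_nil, or_false] at h
      rcases h with h | h <;> exact absurd (congrArg ChevalleyDatum.rank h) (by decide))).1
  set q := Fintype.card F with hq
  have hq2 : 2 ≤ q := Fintype.one_lt_card
  let S := slChev hc F hcomm short_ok
  have hfull : finrank ℂ (S.fix ρ []) ≤ finrank ℂ V := Submodule.finrank_le _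
  have hposlt : ∀ r ∈ pos, r < chevE8.nroots := fun r hr => by
    obtain ⟨k, hk, rfl⟩ := List.mem_map.1 hr
    have := List.mem_range.1 hk
    show k + 120 < 240
    omega
  have hscale : ∀ x ∈ ([162, 141, 135, 130, 126, 123, 121, 120] : List ℕ), S.ScaleOK pos x :=
    fun x hx c => by
      obtain ⟨j, hj, hjx⟩ := scale_ok x hx
      exact chev_scale hc F hcomm short_ok (List.mem_range.1 hj) hjx pos hposlt c
  -- the centre of the Heisenberg radical
  have h239 : 239 < chevE8.nroots := by decide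
  have hzscale : S.ScaleOK pos 239 := fun c => by
    obtain ⟨g, f, hf, hg⟩ : ∃ (g : ↥(chevE8.group F)) (f : ℕ → F), f 239 = c ∧
        ∀ r ∈ pos, ∀ t, g * S.x r t * g⁻¹ = S.x r (f r * t) := by
      refine ⟨⟨torus chevE8 T F (corChar chevE8 T (chevE8.simple 7) c),
        diagonal_le_group hc (torus_corChar_mem hc _)⟩, fun r => ((c ^ chevE8.cartan 7 r : Fˣ) : F),
        by simp [zp_ok.2.2.2.2], fun r hr t => Subtype.ext ?_⟩
      show _ * (chevX hc F r t : GL chevE8.Idx F) * _ = (chevX hc F r _ : GL chevE8.Idx F)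
      rw [chevX_coe hc F (hposlt r hr), chevX_coe hc F (hposlt r hr), Subgroup.coe_inv,
        torus_conj_elX hc _ (hposlt r hr), chi_corChar_simple hc ⟨7, by decide⟩ (hposlt r hr)]
    exact ⟨g, f, hf, hg⟩
  obtain ⟨t₀, v₀, hv₀⟩ : ∃ t, ∃ v, ρ (S.x 239 t) v ≠ v := by
    obtain ⟨v, hv⟩ := exists_moved hsimp ρ hd (g := S.x 239 1) (fun h => one_ne_zero
      ((elX_eq_one_iff hc h239 (1 : F)).1 (by
        rw [← chevX_coe hc F h239]; exact congrArg Subtype.val h)))
    exact ⟨1, v, hv⟩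
  obtain ⟨χ₀, hχ₀, u, -, hu0, hue⟩ := S.exists_char ρ (r := 239) (W := (⊤ : Submodule ℂ V))
    (fun t v _ => Submodule.mem_top) ⟨t₀, v₀, Submodule.mem_top, hv₀⟩
  have hu : u ∈ S.eig ρ [] [239] (SLRoots.single 239 χ₀) :=
    ⟨fun r hr => (List.not_mem_nil hr).elim, fun r hr t => by
      rw [List.mem_singleton.1 hr, hue]; simp [SLRoots.single]⟩
  have hpos : ∀ χ : AddChar F ℂ, χ ≠ 0 →
      0 < finrank ℂ (S.eig ρ [] [239] (SLRoots.single 239 χ)) := by
    intro χ hχ
    refine lt_of_lt_of_le (one_le_finrank_of_ne_bot fun hb => hu0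
      ((Submodule.mem_bot ℂ).1 (hb ▸ hu))) (S.single_scale ρ hzscale
        (fun r hr => (List.not_mem_nil hr).elim) (fun r hr => ?_) List.mem_cons_self
        (fun s hs hne => absurd (List.mem_singleton.1 hs) hne) hχ₀ (fun t => ?_) hχ)
    · rw [List.mem_singleton.1 hr]; decide +kernel
    · simp [SLRoots.single]
  have hT0 : finrank ℂ (S.fix ρ [239]) + (q - 1) * q ^ 28 ≤ finrank ℂ V := by
    have h := S.half_le ρ (spreadB_spec half_ok.1) half_ok.2.1 (abelB_spec half_ok.2.2.2.1)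
      half_ok.2.2.2.2.1 hpos
    rw [half_ok.2.2.1] at h
    exact h.trans hfull
  have hmove : ∃ t, ∃ v ∈ S.fix ρ [239], ρ (S.x 238 t) v ≠ v :=
    S.moves_fix ρ (i := 7) (show 7 < 8 by decide) h239 zp_ok.2.2.1 (spreadB_spec zp_ok.1)
      (abelB_spec zp_ok.2.1) (by decide) hχ₀ hu0 hu
  have hRP : ∀ r ∈ [239], r ∈ pos := by decide +kernel
  have hsub : ∀ r ∈ top, r ∈ pos := by decide +kernel
  have hinj : ∀ s ∈ top, s ≠ 120 → S.path word s ≠ 238 := fun s hs hne => by
    have := List.all_eq_true.1 word_ok.2.2 s hs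
    have h' : word.foldr (chevE8.reflectRoot) s ≠ 238 := by simpa [hne, tSg_eq hc] using this
    exact h'
  have hchain := chainB_spec (hc := hc) (F := F) (hcomm := hcomm) (hshort := short_ok) layers [239]
    chain_ok
  have hcell : S.CellOK [239] top [6, 0, 5, 2, 3, 1, 4] ht 120 := hchain.1
  rcases S.first_layer ρ (topB_spec top_ok) (abelB_spec abel_ok) (by decide +kernel) hcell
    (stabB_spec stab_ok) (by decide) (hscale 120 (by simp))
    hRP hsub (nodesB_spec word_ok.1) (by have := word_ok.2.1; rw [tSg_eq hc] at this; exact this) hinj hmove with h | h | hW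
  · have h29 : q ^ 29 ≤ finrank ℂ (S.fix ρ [239]) := h
    exact (target_le q hq2).1.trans ((Nat.add_le_add_right h29 _).trans hT0)
  · exact (target_le q hq2).2.trans ((Nat.add_le_add_right h _).trans hT0)
  have hall : ∀ a ∈ [120] ++ (edges.map fun e => (e.1, e.2.1)).map Prod.snd,
      ∀ χ : AddChar F ℂ, χ ≠ 0 → S.Whit ρ pos a χ := by
    refine S.whit_edges ρ _ (fun e he => ?_) (fun e he => hscale _ ?_) [120]
      (fun a ha => by rw [List.mem_singleton.1 ha]; exact hW) (fun k hk => ?_)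
    · obtain ⟨x, hx, rfl⟩ := List.mem_map.1 he
      exact ⟨_, _, _, _, propB_spec (List.all_eq_true.1 edges_ok x hx)⟩
    · obtain ⟨x, hx, rfl⟩ := List.mem_map.1 he
      revert x; decide +kernel
    · have hk' : k < edges.length := by simpa using hk
      simpa [List.map_take, Function.comp_def] using edges_from ⟨k, hk'⟩
  have hlay : ∀ x ∈ layers, ∀ χ : AddChar F ℂ, χ ≠ 0 → S.Whit ρ pos x.2.2 χ := fun x hx =>
    hall _ (by revert x; decide +kernel)
  have hlow : SLRoots.chainSum q ht layers ≤ finrank ℂ (S.fix ρ [239]) :=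
    S.chain_le ρ layers [239] hchain hlay
  have hval := chain_val q (by omega)
  by_contra hlt
  push Not at hlt
  obtain ⟨j, hj⟩ : ∃ j, finrank ℂ V + j = q * (q ^ 12 + 1) * (q ^ 10 + 1) * (q ^ 6 + 1) :=
    ⟨q * (q ^ 12 + 1) * (q ^ 10 + 1) * (q ^ 6 + 1) - finrank ℂ V, by omega⟩
  have hdvd : finrank ℂ V ∣ q ^ 120 * ((q ^ 2 - 1) * (q ^ 8 - 1) * (q ^ 12 - 1) * (q ^ 14 - 1) *
      (q ^ 18 - 1) * (q ^ 20 - 1) * (q ^ 24 - 1) * (q ^ 30 - 1)) := by
    refine (Char.finrank_dvd_card ρ).trans (dvd_of_eq ?_)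
    rw [card_group_E8 hq.symm]
    simp only [mul_assoc]
  exact SlNum.gapE8 (hq ▸ FiniteField.isPrimePow_card F) (by omega) (by omega) hj hdvd

end E8

end CfsgLib.MinDeg
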