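import Cfsg.Agent.Lib.MinDeg.SlMain
import Cfsg.Agent.Lib.Chev.Gen.CommE8

/-!
# Certificates for the layers of `E8`
-/

set_option autoImplicit false
set_option maxRecDepth 100000

namespace CfsgLib.MinDeg.E8

open Cfsg.Lie

/-- The heights of the positive roots, packed. -/
def hts : ℕ := 16089692561758521217417982735952653857682405189559898395412809726357365241414780836407290502563253434167405078999554877236679649032301784359357370824644304815766332214883660080504860227489155399308218614054192706392719633652655791309313931555343556727977028404281700640846073009757830232443416940053445330699503308895148560569109013470724678013357671409006936064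

/-- The height of a positive root. -/
def ht (r : ℕ) : ℕ := Nat.land (Nat.shiftRight hts (Nat.mul 5 r)) 31

/-- The positive roots. -/
def pos : List ℕ := (List.range 120).map (· + 120)

/-- The layers. -/
def layers : List (List ℕ × List ℕ × ℕ) := [
  ([120, 122, 125, 129, 134, 140, 146, 151, 155, 158, 160, 161, 168, 173, 177, 180, 182, 183, 187, 190, 192, 193, 196, 198, 199, 201, 202, 203, 206, 208, 209, 211, 212, 213, 215, 216, 217, 218, 220, 221, 222, 223, 224, 225, 227, 228, 229, 230, 231, 232, 233, 234, 235, 236, 237, 238], [6, 0, 5, 2, 3, 1, 4], 120),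
  ([121, 124, 128, 133, 139, 145, 150, 154, 157, 159, 167, 172, 176, 179, 181, 186, 189, 191, 195, 197, 200, 205, 207, 210, 214, 219, 226], [0, 5, 2, 3, 1, 4], 121),
  ([162, 163, 164, 165, 166, 169, 170, 171, 174, 175, 178, 184, 185, 188, 194, 204], [5, 2, 3, 1, 4], 162),
  ([123, 127, 132, 138, 144, 149, 153, 156], [2, 3, 1, 4], 123),
  ([135, 136, 137, 147, 148, 152], [3, 1, 4], 135),
  ([130, 131, 142, 143], [1, 4], 130),
  ([141], [4], 141),
  ([126], [], 126)]

/-- The first layer. -/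
def top : List ℕ := [120, 122, 125, 129, 134, 140, 146, 151, 155, 158, 160, 161, 168, 173, 177, 180, 182, 183, 187, 190, 192, 193, 196, 198, 199, 201, 202, 203, 206, 208, 209, 211, 212, 213, 215, 216, 217, 218, 220, 221, 222, 223, 224, 225, 227, 228, 229, 230, 231, 232, 233, 234, 235, 236, 237, 238]

/-- The slots below the highest root of the first layer, with their movers. -/
def slots : List (ℕ × ℕ) := [(226, 161), (219, 183), (214, 193), (210, 199), (207, 202), (205, 203), (200, 209), (197, 212), (195, 213), (191, 216), (189, 217), (186, 218), (181, 221), (179, 222), (176, 223), (172, 224), (167, 225), (159, 228), (157, 229), (154, 230), (150, 231), (145, 232), (139, 233), (133, 234), (128, 235), (124, 236), (121, 237)]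

/-- The second level of the first layer. -/
def lev₂ : List (ℕ × List ℕ) := [
  (122, [5, 4, 3, 1, 2, 3, 4, 0, 2, 3, 5, 4, 1, 3, 2, 0]),
  (125, [4, 3, 1, 2, 3, 4, 0, 2, 3, 5, 4, 1, 3, 2, 0]),
  (129, [3, 1, 2, 3, 4, 0, 2, 3, 5, 4, 1, 3, 2, 0]),
  (134, [1, 2, 3, 4, 0, 2, 3, 5, 4, 1, 3, 2, 0]),
  (140, [1, 3, 4, 0, 2, 3, 5, 4, 1, 3, 2, 0]),
  (146, [2, 3, 4, 0, 2, 3, 5, 4, 1, 3, 2, 0]),
  (151, [3, 4, 0, 2, 3, 5, 4, 1, 3, 2, 0]),
  (155, [4, 0, 2, 3, 5, 4, 1, 3, 2, 0]),
  (158, [0, 2, 3, 5, 4, 1, 3, 2, 0]),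
  (160, [0, 2, 3, 4, 1, 3, 2, 0]),
  (168, [1, 3, 4, 2, 3, 5, 4, 1, 3, 2, 0]),
  (173, [3, 4, 2, 3, 5, 4, 1, 3, 2, 0]),
  (177, [4, 2, 3, 5, 4, 1, 3, 2, 0]),
  (180, [2, 3, 5, 4, 1, 3, 2, 0]),
  (182, [2, 3, 4, 1, 3, 2, 0]),
  (187, [4, 3, 5, 4, 1, 3, 2, 0]),
  (190, [3, 5, 4, 1, 3, 2, 0]),
  (192, [3, 4, 1, 3, 2, 0]),
  (196, [5, 4, 1, 3, 2, 0]),
  (198, [4, 1, 3, 2, 0]),
  (201, [1, 3, 2, 0]),
  (206, [5, 4, 3, 2, 0]),
  (208, [4, 3, 2, 0]),
  (211, [3, 2, 0]),
  (215, [2, 0]),
  (220, [0]),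
  (227, [])]

/-- Witnesses for the stabiliser of the lowest root of the first layer. -/
def wit : List (ℕ × Option ℕ × ℕ × ℕ) := [
  (121, none, 35, 205),
  (123, none, 55, 185),
  (124, none, 35, 207),
  (126, none, 54, 188),
  (127, none, 55, 188),
  (128, none, 35, 210),
  (130, none, 51, 194),
  (131, none, 54, 194),
  (132, none, 55, 194),
  (133, none, 35, 214),
  (135, none, 61, 188),
  (136, none, 61, 194),
  (137, none, 64, 194),
  (138, none, 65, 194),
  (139, none, 35, 219),
  (141, none, 45, 204),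
  (142, none, 51, 204),
  (143, none, 54, 204),
  (144, none, 55, 204),
  (145, none, 45, 214),
  (147, none, 61, 204),
  (148, none, 64, 204),
  (149, none, 65, 204),
  (150, none, 45, 219),
  (152, none, 68, 204),
  (153, none, 69, 204),
  (154, none, 51, 219),
  (156, none, 70, 204),
  (157, none, 54, 219),
  (159, none, 55, 219),
  (162, none, 83, 178),
  (163, none, 83, 188),
  (164, none, 83, 194),
  (165, none, 86, 194),
  (166, none, 87, 194),
  (167, none, 35, 226),
  (169, none, 83, 204),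
  (170, none, 86, 204),
  (171, none, 87, 204),
  (172, none, 45, 226),
  (174, none, 90, 204),
  (175, none, 91, 204),
  (176, none, 51, 226),
  (178, none, 92, 204),
  (179, none, 54, 226),
  (181, none, 55, 226),
  (184, none, 95, 204),
  (185, none, 96, 204),
  (186, none, 61, 226),
  (188, none, 97, 204),
  (189, none, 64, 226),
  (191, none, 65, 226),
  (194, none, 98, 204),
  (195, none, 68, 226),
  (197, none, 69, 226),
  (200, none, 70, 226),
  (204, none, 141, 194),
  (205, none, 73, 226),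
  (207, none, 74, 226),
  (210, none, 75, 226),
  (214, none, 76, 226),
  (219, none, 77, 226),
  (226, none, 162, 219)]

/-- A word carrying the lowest root of the first layer to the highest. -/
def word : List ℕ := [6, 5, 4, 3, 1, 2, 3, 4, 0, 2, 3, 5, 4, 1, 3, 6, 5, 4, 2, 3, 1, 0, 2, 3, 4, 5, 6]

/-- The edges of the diagram, as pairs of simple roots with their nodes. -/
def edges : List (ℕ × ℕ × ℕ × ℕ × ℕ) := [(120, 121, 122, 7, 6), (121, 123, 124, 6, 5), (123, 126, 127, 5, 4), (126, 130, 131, 4, 3), (130, 141, 142, 3, 1), (130, 135, 136, 3, 2), (135, 162, 163, 2, 0)]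

theorem short_ok : shortB chevE8 = true := by decide +kernel

theorem chain_ok : chainB chevE8 CfsgLib.Chev.E8.tabs pos ht [239] layers = true := by decide +kernel

theorem abel_ok : abelB chevE8 CfsgLib.Chev.E8.tabs [239] top = true := by decide +kernel

theorem top_ok : topB chevE8 CfsgLib.Chev.E8.tabs [239] top 238 227 slots [(162, 220), (163, 215)] lev₂ [(120, 13, 227)] = true := by
  decide +kernel

theorem stab_ok : stabB chevE8 CfsgLib.Chev.E8.tabs [239] top pos 120 wit = true := by decide +kernel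

theorem word_ok : nodesB chevE8 CfsgLib.Chev.E8.tabs [239] top word = true ∧ word.foldr (tSg chevE8 CfsgLib.Chev.E8.tabs) 120 = 238 ∧
    (top.all fun s => decide (s = 120) || decide (word.foldr (tSg chevE8 CfsgLib.Chev.E8.tabs) s ≠ 238)) = true := by
  decide +kernel

theorem edges_ok : (edges.all fun e => propB chevE8 CfsgLib.Chev.E8.tabs pos
    (pos.filter fun r => decide (r ≠ e.1) && decide (r ≠ e.2.1) && decide (r ≠ e.2.2.1))
    e.1 e.2.1 e.2.2.1 e.2.2.2.1 e.2.2.2.2) = true := by
  decide +kernel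

theorem edges_from : ∀ k : Fin edges.length,
    edges[k.val].1 ∈ [120] ++ (edges.take k.val).map (·.2.1) := by
  decide +kernel

theorem scale_ok : ∀ x ∈ ([162, 141, 135, 130, 126, 123, 121, 120] : List ℕ), ∃ j ∈ List.range 8, chevE8.cartan j x = -1 := by
  decide +kernel

theorem exps_eq : chainExps ht layers =
    [0, 1, 2, 3, 4, 5, 5, 6, 7, 8, 9, 10, 6, 7, 8, 9, 10, 11, 9, 10, 11, 12, 11, 12, 13, 13, 14, 15, 12, 13, 14, 14, 15, 16, 15, 16, 17, 18, 16, 17, 18, 19, 20, 21, 17, 18, 19, 20, 21, 22, 22, 23, 24, 25, 26, 27, 0, 1, 2, 3, 4, 4, 5, 6, 7, 8, 5, 6, 7, 8, 9, 8, 9, 10, 10, 11, 12, 11, 12, 13, 14, 15, 16, 0, 1, 2, 3, 4, 3, 4, 5, 5, 6, 7, 6, 7, 8, 9, 10, 0, 1, 2, 3, 3, 4, 5, 6, 0, 1, 2, 2, 3, 4, 0, 1, 1, 2, 0, 0] := by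
  decide +kernel

theorem exps_top : (top.map fun β => ht β - ht 120) =
    [0, 1, 2, 3, 4, 5, 5, 6, 7, 8, 9, 10, 6, 7, 8, 9, 10, 11, 9, 10, 11, 12, 11, 12, 13, 13, 14, 15, 12, 13, 14, 14, 15, 16, 15, 16, 17, 18, 16, 17, 18, 19, 20, 21, 17, 18, 19, 20, 21, 22, 22, 23, 24, 25, 26, 27] := by
  decide +kernel

/-- An abelian half of the Heisenberg radical. -/
def half : List ℕ := [120, 122, 125, 129, 134, 140, 146, 151, 155, 158, 160, 168, 173, 177, 180, 182, 187, 190, 192, 196, 198, 201, 206, 208, 211, 215, 220, 227]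

/-- The half with its movers. -/
def halfSlots : List (ℕ × ℕ) := [(238, 120), (237, 122), (236, 125), (235, 129), (234, 134), (233, 140), (232, 146), (231, 151), (230, 155), (229, 158), (228, 160), (225, 168), (224, 173), (223, 177), (222, 180), (221, 182), (218, 187), (217, 190), (216, 192), (213, 196), (212, 198), (209, 201), (203, 206), (202, 208), (199, 211), (193, 215), (183, 220), (161, 227)]

theorem half_ok : spreadB chevE8 CfsgLib.Chev.E8.tabs [] (239 :: half) [] 239 halfSlots = true ∧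
    (halfSlots.map Prod.snd).Nodup ∧ halfSlots.length = 28 ∧
    abelB chevE8 CfsgLib.Chev.E8.tabs [] (239 :: half) = true ∧ (239 :: half).Nodup ∧ 238 ∉ half := by
  decide +kernel

theorem zp_ok : spreadB chevE8 CfsgLib.Chev.E8.tabs [] [239, 238] [] 239 [(120, 238)] = true ∧
    abelB chevE8 CfsgLib.Chev.E8.tabs [] [239, 238] = true ∧ chevE8.reflectRoot 7 239 = 238 ∧
    chevE8.reflectRoot 7 238 = 239 ∧ chevE8.cartan 7 239 = 1 := by
  decide +kernel

end CfsgLib.MinDeg.E8
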