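import Cfsg.Agent.Lib.MinDeg.Basic
import Mathlib.Algebra.Group.AddChar
import Mathlib.FieldTheory.Finite.Basic

/-!
# Weights of sets of root subgroups in a group with simply laced root data

An abstract group with root elements `x r t`, reflections `n i` and commutator formula
`[x r a, x s b] = x (r + s) (± a b)`; joint eigencharacters of sets of root subgroups.
-/

set_option autoImplicit false
set_option linter.unusedSectionVars false

namespace CfsgLib.MinDeg

open Module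

variable (F : Type*) [Field F]

/-- Root elements of a simply laced root system in a group. -/
structure SLRoots (G : Type*) [Group G] where
  /-- the number of roots -/
  num : ℕ
  /-- the rank -/
  rk : ℕ
  /-- the negative of a root -/
  op : ℕ → ℕ
  /-- the fundamental roots -/
  simple : ℕ → ℕ
  /-- the fundamental reflections -/
  sg : ℕ → ℕ → ℕ
  /-- the sum of two roots when it is a root -/
  add : ℕ → ℕ → Option ℕ
  /-- the structure constant -/
  coef : ℕ → ℕ → F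
  /-- the sign of a reflection at a root -/
  nc : ℕ → ℕ → F
  x : ℕ → AddChar F G
  n : ℕ → G
  sg_lt : ∀ i r, i < rk → r < num → sg i r < num
  sg_sg : ∀ i r, i < rk → r < num → sg i (sg i r) = r
  n_conj : ∀ i r, i < rk → r < num → ∀ t, n i * x r t * (n i)⁻¹ = x (sg i r) (nc i r * t)
  nc_ne : ∀ i r, i < rk → r < num → nc i r ≠ 0
  comm_none : ∀ r s, r < num → s < num → s ≠ op r → add r s = none → ∀ a b, Commute (x r a) (x s b)
  comm_some : ∀ r s k, r < num → s < num → s ≠ op r → add r s = some k → k < num ∧ coef r s ≠ 0 ∧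
    ∀ a b, x r a * x s b * (x r a)⁻¹ = x s b * x k (coef r s * a * b)

namespace SLRoots

variable {F} {G : Type*} [Group G] (S : SLRoots F G)
variable {V : Type*} [AddCommGroup V] [Module ℂ V] (ρ : Representation ℂ G V)

theorem n_conj_inv {i r : ℕ} (hi : i < S.rk) (hr : r < S.num) (t : F) :
    (S.n i)⁻¹ * S.x r t * S.n i = S.x (S.sg i r) ((S.nc i (S.sg i r))⁻¹ * t) := by
  have h := S.n_conj i (S.sg i r) hi (S.sg_lt i r hi hr) ((S.nc i (S.sg i r))⁻¹ * t)
  rw [S.sg_sg i r hi hr, mul_inv_cancel_left₀ (S.nc_ne i _ hi (S.sg_lt i r hi hr))] at h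
  rw [← h]; group

/-- The vectors fixed by the root subgroups in a list. -/
def fix (R : List ℕ) : Submodule ℂ V where
  carrier := {v | ∀ r ∈ R, ∀ t, ρ (S.x r t) v = v}
  add_mem' := fun {a b} ha hb r hr t => by rw [map_add, ha r hr t, hb r hr t]
  zero_mem' := fun r hr t => map_zero _
  smul_mem' := fun c v hv r hr t => by rw [map_smul, hv r hr t]

theorem mem_fix {R : List ℕ} {v : V} :
    v ∈ S.fix ρ R ↔ ∀ r ∈ R, ∀ t, ρ (S.x r t) v = v := Iff.rfl

theorem fix_anti {R R' : List ℕ} (h : ∀ r ∈ R, r ∈ R') : S.fix ρ R' ≤ S.fix ρ R :=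
  fun _ hv r hr t => hv r (h r hr) t

/-- A slot function: values on the listed roots, one elsewhere. -/
abbrev Slots (F : Type*) := ℕ → F → ℂ

/-- The joint eigenspace of the root subgroups in `U` on the vectors fixed by those in `R`. -/
def eig (R U : List ℕ) (ψ : Slots F) : Submodule ℂ V where
  carrier := {v | v ∈ S.fix ρ R ∧ ∀ r ∈ U, ∀ t, ρ (S.x r t) v = ψ r t • v}
  add_mem' := fun {a b} ha hb => ⟨add_mem ha.1 hb.1, fun r hr t => by
    rw [map_add, ha.2 r hr t, hb.2 r hr t, smul_add]⟩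
  zero_mem' := ⟨zero_mem _, fun r hr t => by simp⟩
  smul_mem' := fun c v hv => ⟨Submodule.smul_mem _ c hv.1, fun r hr t => by
    rw [map_smul, hv.2 r hr t, smul_comm]⟩

theorem mem_eig {R U : List ℕ} {ψ : Slots F} {v : V} : v ∈ S.eig ρ R U ψ ↔
    v ∈ S.fix ρ R ∧ ∀ r ∈ U, ∀ t, ρ (S.x r t) v = ψ r t • v := Iff.rfl

/-- Two slot functions agree on a list. -/
def AgreeOn (U : List ℕ) (ψ ψ' : Slots F) : Prop := ∀ r ∈ U, ∀ t, ψ r t = ψ' r t

theorem eig_unique {R U : List ℕ} {ψ ψ' : Slots F} {v : V} (hv0 : v ≠ 0)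
    (h : v ∈ S.eig ρ R U ψ) (h' : v ∈ S.eig ρ R U ψ') : AgreeOn U ψ ψ' := fun r hr t =>
  smul_left_injective ℂ hv0 ((h.2 r hr t).symm.trans (h'.2 r hr t))

theorem wt_one {R U : List ℕ} {ψ : Slots F} {v : V} (hv0 : v ≠ 0) (h : v ∈ S.eig ρ R U ψ)
    {r : ℕ} (hr : r ∈ U) : ψ r 0 = 1 := by
  refine smul_left_injective ℂ hv0 ?_
  show ψ r 0 • v = (1 : ℂ) • v
  rw [← h.2 r hr 0, AddChar.map_zero_eq_one, map_one, Module.End.one_apply, one_smul]

variable [FiniteDimensional ℂ V]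

/-- Eigenspaces of distinct weights are independent. -/
theorem sum_eig_le_sup (R U : List ℕ) (T : Finset (Slots F))
    (hT : ∀ ψ ∈ T, ∀ ψ' ∈ T, AgreeOn U ψ ψ' → ψ = ψ') :
    ∑ ψ ∈ T, finrank ℂ (S.eig ρ R U ψ) ≤ finrank ℂ ↥(T.sup (S.eig ρ R U)) := by
  classical
  have key : ∀ T' : Finset (Slots F), T' ⊆ T →
      (∑ ψ ∈ T', finrank ℂ (S.eig ρ R U ψ) ≤ finrank ℂ ↥(T'.sup (S.eig ρ R U))) ∧
      ∀ φ ∈ T, φ ∉ T' → T'.sup (S.eig ρ R U) ⊓ S.eig ρ R U φ = ⊥ := by
    intro T'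
    induction T' using Finset.induction with
    | empty => exact fun _ => ⟨by simp, by simp⟩
    | insert ψ T' hψ ih =>
      intro hsub
      obtain ⟨hψT, hT'⟩ := Finset.insert_subset_iff.1 hsub
      obtain ⟨h1, h2⟩ := ih hT'
      refine ⟨?_, fun φ hφ hφn => ?_⟩
      · rw [Finset.sum_insert hψ, Finset.sup_insert]
        have h3 := Submodule.finrank_sup_add_finrank_inf_eq (S.eig ρ R U ψ) (T'.sup (S.eig ρ R U))
        rw [inf_comm, h2 ψ hψT hψ, finrank_bot, add_zero] at h3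
        omega
      · obtain ⟨hne, hφn'⟩ := not_or.1 (fun h => hφn (Finset.mem_insert.2 h))
        rw [Finset.sup_insert]
        refine (Submodule.eq_bot_iff _).2 fun v hv => ?_
        obtain ⟨hv1, hv2⟩ := Submodule.mem_inf.1 hv
        obtain ⟨y, hy, z, hz, rfl⟩ := Submodule.mem_sup.1 hv1
        have hdiff : ∃ r ∈ U, ∃ t, φ r t ≠ ψ r t := by
          by_contra hc
          push Not at hc
          exact hne (hT φ hφ ψ hψT hc)
        obtain ⟨r, hr, t, hrt⟩ := hdiff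
        have hzstab : ρ (S.x r t) z ∈ T'.sup (S.eig ρ R U) := by
          have : T'.sup (S.eig ρ R U) ≤ (T'.sup (S.eig ρ R U)).comap (ρ (S.x r t)) := by
            refine Finset.sup_le fun χ hχ => ?_
            intro w hw
            rw [Submodule.mem_comap, hw.2 r hr t]
            exact Submodule.smul_mem _ _ (Finset.le_sup (f := S.eig ρ R U) hχ hw)
          exact this hz
        have e : (φ r t - ψ r t) • (y + z) = ρ (S.x r t) z - ψ r t • z := by
          rw [sub_smul, ← hv2.2 r hr t, map_add, hy.2 r hr t, smul_add]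
          abel
        have hmem : (φ r t - ψ r t) • (y + z) ∈ T'.sup (S.eig ρ R U) ⊓ S.eig ρ R U φ :=
          Submodule.mem_inf.2 ⟨e ▸ sub_mem hzstab (Submodule.smul_mem _ _ hz),
            Submodule.smul_mem _ _ hv2⟩
        rw [h2 φ hφ hφn', Submodule.mem_bot, smul_eq_zero] at hmem
        exact hmem.resolve_left (sub_ne_zero.2 hrt)
  exact (key T subset_rfl).1

/-- The eigenspaces of distinct weights fit into the fixed space. -/
theorem sum_eig_le (R U : List ℕ) (T : Finset (Slots F))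
    (hT : ∀ ψ ∈ T, ∀ ψ' ∈ T, AgreeOn U ψ ψ' → ψ = ψ') :
    ∑ ψ ∈ T, finrank ℂ (S.eig ρ R U ψ) ≤ finrank ℂ (S.fix ρ R) :=
  (S.sum_eig_le_sup ρ R U T hT).trans
    (Submodule.finrank_mono (Finset.sup_le fun ψ _ v hv => hv.1))

/-- Conjugation carries eigenspaces to eigenspaces. -/
theorem eig_conj {R U : List ℕ} {ψ ψ' : Slots F} (g : G)
    (hR : ∀ r ∈ R, ∀ t, ∀ v ∈ S.fix ρ R, ρ (g * S.x r t * g⁻¹) v = v)
    (hU : ∀ r ∈ U, ∀ t, ∀ v ∈ S.eig ρ R U ψ, ρ (g * S.x r t * g⁻¹) v = ψ' r t • v) :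
    ∀ v ∈ S.eig ρ R U ψ, ρ g⁻¹ v ∈ S.eig ρ R U ψ' := by
  intro v hv
  have e : ∀ r t, ρ (S.x r t) (ρ g⁻¹ v) = ρ g⁻¹ (ρ (g * S.x r t * g⁻¹) v) := fun r t => by
    rw [← Module.End.mul_apply, ← Module.End.mul_apply, ← map_mul, ← map_mul]
    congr 2; group
  exact ⟨fun r hr t => by rw [e, hR r hr t v hv.1],
    fun r hr t => by rw [e, hU r hr t v hv, map_smul]⟩

theorem finrank_eig_le {R U : List ℕ} {ψ ψ' : Slots F} (g : G)
    (h : ∀ v ∈ S.eig ρ R U ψ, ρ g⁻¹ v ∈ S.eig ρ R U ψ') :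
    finrank ℂ (S.eig ρ R U ψ) ≤ finrank ℂ (S.eig ρ R U ψ') :=
  LinearMap.finrank_le_finrank_of_injective (f := (ρ g⁻¹).restrict h)
    fun _ _ e => Subtype.ext (rep_injective ρ g⁻¹ (congrArg Subtype.val e))

omit [FiniteDimensional ℂ V] in
/-- A list is carried into itself by addition of a root, up to the trivial part. -/
def Stable (r : ℕ) (R U : List ℕ) : Prop :=
  ∀ s ∈ U, s < S.num ∧ s ≠ S.op r ∧ ∀ k, S.add r s = some k → k ∈ U ∨ k ∈ R

/-- The factor added to a slot by a root element. -/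
def shiftVal (R : List ℕ) (ψ : Slots F) (r : ℕ) (a : F) (s : ℕ) (t : F) : ℂ :=
  match S.add r s with
  | none => 1
  | some k => if k ∈ R then 1 else ψ k (S.coef r s * a * t)

/-- The weight translated by a root element. -/
def shift (R : List ℕ) (ψ : Slots F) (r : ℕ) (a : F) : Slots F :=
  fun s t => ψ s t * S.shiftVal R ψ r a s t

theorem shift_mem {R U : List ℕ} {r : ℕ} (hr : r < S.num) (hR : S.Stable r [] R)
    (hU : S.Stable r R U) (ψ : Slots F) (a : F) :
    ∀ v ∈ S.eig ρ R U ψ, ρ (S.x r a)⁻¹ v ∈ S.eig ρ R U (S.shift R ψ r a) := by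
  refine S.eig_conj ρ (S.x r a) (fun s hs t v hv => ?_) (fun s hs t v hv => ?_)
  · obtain ⟨hsn, hsop, hadd⟩ := hR s hs
    cases hk : S.add r s with
    | none => rw [(S.comm_none r s hr hsn hsop hk a t).eq, mul_inv_cancel_right, hv s hs t]
    | some k =>
      obtain ⟨-, -, hc⟩ := S.comm_some r s k hr hsn hsop hk
      rw [hc, map_mul, Module.End.mul_apply,
        hv k ((hadd k hk).resolve_right (List.not_mem_nil)) _, hv s hs t]
  · obtain ⟨hsn, hsop, hadd⟩ := hU s hs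
    cases hk : S.add r s with
    | none =>
      rw [(S.comm_none r s hr hsn hsop hk a t).eq, mul_inv_cancel_right, hv.2 s hs t]
      simp [shift, shiftVal, hk]
    | some k =>
      obtain ⟨-, -, hc⟩ := S.comm_some r s k hr hsn hsop hk
      rw [hc, map_mul, Module.End.mul_apply]
      by_cases hkR : k ∈ R
      · rw [hv.1 k hkR, hv.2 s hs t]
        simp [shift, shiftVal, hk, hkR]
      · rw [hv.2 k ((hadd k hk).resolve_right hkR), map_smul, hv.2 s hs t, smul_smul]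
        simp [shift, shiftVal, hk, hkR, mul_comm]

theorem shift_rank {R U : List ℕ} {r : ℕ} (hr : r < S.num) (hR : S.Stable r [] R)
    (hU : S.Stable r R U) (ψ : Slots F) (a : F) :
    finrank ℂ (S.eig ρ R U ψ) ≤ finrank ℂ (S.eig ρ R U (S.shift R ψ r a)) :=
  S.finrank_eig_le ρ _ (S.shift_mem ρ hr hR hU ψ a)

/-- Translation is injective on weights that occur. -/
theorem shift_inj {R U : List ℕ} {r : ℕ} (hr : r < S.num) (hR : S.Stable r [] R)
    (hU : S.Stable r R U) {ψ ψ' : Slots F} (a : F) (h : 0 < finrank ℂ (S.eig ρ R U ψ))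
    (h' : 0 < finrank ℂ (S.eig ρ R U ψ'))
    (e : AgreeOn U (S.shift R ψ r a) (S.shift R ψ' r a)) : AgreeOn U ψ ψ' := by
  have back : ∀ χ : Slots F, 0 < finrank ℂ (S.eig ρ R U χ) →
      AgreeOn U (S.shift R (S.shift R χ r a) r (-a)) χ := by
    intro χ hχ
    obtain ⟨v, hv, hv0⟩ := Submodule.exists_mem_ne_zero_of_ne_bot (p := S.eig ρ R U χ)
      (fun hb => by rw [hb, finrank_bot] at hχ; exact lt_irrefl _ hχ)
    have h2 := S.shift_mem ρ hr hR hU _ (-a) _ (S.shift_mem ρ hr hR hU χ a v hv)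
    rw [AddChar.map_neg_eq_inv (S.x r) a, inv_inv, ← Module.End.mul_apply, ← map_mul,
      mul_inv_cancel, map_one, Module.End.one_apply] at h2
    exact S.eig_unique ρ hv0 h2 hv
  intro s hs t
  rw [← back ψ h s hs t, ← back ψ' h' s hs t]
  show S.shift R ψ r a s t * S.shiftVal R (S.shift R ψ r a) r (-a) s t =
    S.shift R ψ' r a s t * S.shiftVal R (S.shift R ψ' r a) r (-a) s t
  rw [show S.shift R ψ r a s t = S.shift R ψ' r a s t from e s hs t]
  congr 1
  unfold shiftVal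
  cases hk : S.add r s with
  | none => rfl
  | some k =>
    by_cases hkR : k ∈ R
    · simp [hkR]
    · simp only [hkR, if_false]
      rw [show S.shift R ψ r a k (S.coef r s * -a * t) = _ from
        e k (((hU s hs).2.2 k hk).resolve_right hkR) _]

/-- The weight moved by a reflection. -/
def refl (ψ : Slots F) (i : ℕ) : Slots F := fun s t => ψ (S.sg i s) (S.nc i s * t)

theorem refl_mem {R U : List ℕ} {i : ℕ} (hi : i < S.rk)
    (hR : ∀ s ∈ R, s < S.num ∧ S.sg i s ∈ R) (hU : ∀ s ∈ U, s < S.num ∧ S.sg i s ∈ U)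
    (ψ : Slots F) : ∀ v ∈ S.eig ρ R U ψ, ρ (S.n i)⁻¹ v ∈ S.eig ρ R U (S.refl ψ i) := by
  refine S.eig_conj ρ (S.n i) (fun s hs t v hv => ?_) (fun s hs t v hv => ?_)
  · rw [S.n_conj i s hi (hR s hs).1, hv _ (hR s hs).2]
  · rw [S.n_conj i s hi (hU s hs).1, hv.2 _ (hU s hs).2]
    rfl

theorem refl_rank {R U : List ℕ} {i : ℕ} (hi : i < S.rk)
    (hR : ∀ s ∈ R, s < S.num ∧ S.sg i s ∈ R) (hU : ∀ s ∈ U, s < S.num ∧ S.sg i s ∈ U)
    (ψ : Slots F) : finrank ℂ (S.eig ρ R U ψ) ≤ finrank ℂ (S.eig ρ R U (S.refl ψ i)) :=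
  S.finrank_eig_le ρ _ (S.refl_mem ρ hi hR hU ψ)

theorem refl_inj {U : List ℕ} {i : ℕ} (hi : i < S.rk) (hU : ∀ s ∈ U, s < S.num ∧ S.sg i s ∈ U)
    {ψ ψ' : Slots F} (e : AgreeOn U (S.refl ψ i) (S.refl ψ' i)) : AgreeOn U ψ ψ' := by
  intro s hs t
  obtain ⟨hsn, hs'⟩ := hU s hs
  have := e _ hs' ((S.nc i (S.sg i s))⁻¹ * t)
  rwa [refl, refl, S.sg_sg i s hi hsn,
    mul_inv_cancel_left₀ (S.nc_ne i _ hi (S.sg_lt i s hi hsn))] at this

end SLRoots

end CfsgLib.MinDeg
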