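import Cfsg.Agent.Lib.MinDeg.SlBound

/-!
# Tools for the proofs of the minimal degrees of the simply laced exceptional groups
-/

set_option autoImplicit false
set_option linter.unusedSectionVars false

namespace CfsgLib.MinDeg

open Module Cfsg.Lie CfsgLib.Chev

/-- The height of a positive root of a simply laced root system. -/
def htc (D : ChevalleyDatum) (r : ℕ) : ℕ := ((D.coroot.getD r #[]).toList.sum).toNat

/-- Checker of `SLRoots.ChainOK`. -/
noncomputable def chainB (D : ChevalleyDatum) (T : Tabs) (P : List ℕ) (rk : ℕ → ℕ) :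
    List ℕ → List (List ℕ × List ℕ × ℕ) → Bool
  | _, [] => true
  | R, (U, nodes, a) :: L => cellB D T R U nodes rk a && decide U.Nodup &&
      (R.all fun r => memB r P && decide (r ≠ a)) && (U.all fun r => memB r P) &&
      chainB D T P rk (R ++ U) L

theorem chainB_spec {D : ChevalleyDatum} {T : Tabs} {hc : Checked D T} {F : Type*} [Field F]
    {hcomm : CommOne D T} {hshort : shortB D = true} {P : List ℕ} {rk : ℕ → ℕ}
    (L : List (List ℕ × List ℕ × ℕ)) (R : List ℕ) (h : chainB D T P rk R L = true) :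
    (slChev hc F hcomm hshort).ChainOK P rk R L := by
  induction L generalizing R with
  | nil => trivial
  | cons x L ih =>
    obtain ⟨U, nodes, a⟩ := x
    simp only [chainB, memB_iff, Bool.and_eq_true, decide_eq_true_eq, List.all_eq_true] at h
    exact ⟨cellB_spec h.1.1.1.1, h.1.1.1.2, h.1.1.2, h.1.2, ih _ h.2⟩

/-- The exponents of a chain of layers. -/
def chainExps (rk : ℕ → ℕ) (L : List (List ℕ × List ℕ × ℕ)) : List ℕ :=
  L.flatMap fun x => x.1.map fun β => rk β - rk x.2.2

theorem chainSum_eq (q : ℕ) (rk : ℕ → ℕ) (L : List (List ℕ × List ℕ × ℕ)) :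
    SLRoots.chainSum q rk L = (q - 1) * ((chainExps rk L).map (q ^ ·)).sum := by
  induction L with
  | nil => simp [SLRoots.chainSum, chainExps]
  | cons x L ih =>
    obtain ⟨U, nodes, a⟩ := x
    simp only [SLRoots.chainSum, SLRoots.layerSum, chainExps, List.flatMap_cons, List.map_append,
      List.sum_append, List.map_map, mul_add]
    rw [ih]
    rfl

/-- A non-trivial element of a simple group moves some vector. -/
theorem exists_moved {G : Type*} [Group G] (hG : IsSimpleGroup G) {V : Type*} [AddCommGroup V]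
    [Module ℂ V] [FiniteDimensional ℂ V] (ρ : Representation ℂ G V) [ρ.IsIrreducible]
    (hd : 2 ≤ finrank ℂ V) {g : G} (hg : g ≠ 1) : ∃ v, ρ g v ≠ v := by
  rcases hG.eq_bot_or_eq_top_of_normal (MonoidHom.ker ρ) inferInstance with h | h
  · by_contra hall
    push Not at hall
    exact hg (Subgroup.mem_bot.1 (h ▸ MonoidHom.mem_ker.2 (LinearMap.ext hall)))
  · exfalso
    have htriv : ∀ g, ρ g = 1 := fun g => MonoidHom.mem_ker.1 (h ▸ Subgroup.mem_top g)
    obtain ⟨v, hv⟩ : ∃ v : V, v ≠ 0 := by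
      have : Nontrivial V := (Module.finrank_pos_iff (R := ℂ)).1 (by omega)
      exact exists_ne 0
    let W : Subrepresentation ρ :=
      { toSubmodule := Submodule.span ℂ {v}
        apply_mem_toSubmodule := fun g w hw => by rw [htriv g]; exact hw }
    rcases IsSimpleOrder.eq_bot_or_eq_top W with e | e
    · have : v ∈ (⊥ : Subrepresentation ρ).toSubmodule :=
        e ▸ (Submodule.mem_span_singleton_self v : v ∈ W.toSubmodule)
      exact hv ((Submodule.mem_bot ℂ).1 this)
    · have h1 : Submodule.span ℂ {v} = (⊤ : Submodule ℂ V) := congrArg Subrepresentation.toSubmodule e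
      have := finrank_span_singleton (K := ℂ) hv
      rw [h1, finrank_top] at this
      omega

namespace SLRoots

variable {F : Type*} [Field F] [Fintype F] {G : Type*} [Group G] (S : SLRoots F G)
variable {V : Type*} [AddCommGroup V] [Module ℂ V] [FiniteDimensional ℂ V]
  (ρ : Representation ℂ G V)

/-- The weights non-trivial at `p` do not meet the fixed space of `p`. -/
theorem fix_add_le {R U : List ℕ} {p m : ℕ} (hp : p ∈ U) (hm : 0 < m) {T : Finset (Slots F)}
    (hT : S.Fam ρ R U m T) (hne : ∀ ψ ∈ T, ∃ t, ψ p t ≠ 1) :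
    finrank ℂ (S.fix ρ (p :: R)) + T.card * m ≤ finrank ℂ (S.fix ρ R) := by
  classical
  let E := T.sup (S.eig ρ R U)
  have hker : E ≤ LinearMap.ker (S.avg ρ p) := by
    refine Finset.sup_le fun ψ hψ v hv => ?_
    obtain ⟨χ, hχ⟩ := S.slot_char ρ (hm.trans_le (hT.rank ψ hψ)) hp
    have hχ0 : χ ≠ 0 := fun h0 => by
      obtain ⟨t, ht⟩ := hne ψ hψ
      exact ht (by rw [hχ, h0, AddChar.zero_apply])
    rw [LinearMap.mem_ker, avg, LinearMap.sum_apply, Finset.sum_congr rfl (fun t _ => hv.2 p hp t),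
      ← Finset.sum_smul, Finset.sum_congr rfl (fun t _ => hχ t),
      AddChar.sum_eq_zero_iff_ne_zero.2 hχ0, zero_smul]
  have hdis : S.fix ρ (p :: R) ⊓ E = ⊥ := by
    refine (Submodule.eq_bot_iff _).2 fun v hv => ?_
    obtain ⟨h1, h2⟩ := Submodule.mem_inf.1 hv
    have h3 := LinearMap.mem_ker.1 (hker h2)
    rw [S.avg_of_fixed ρ p (fun t => h1 p List.mem_cons_self t), smul_eq_zero] at h3
    exact h3.resolve_left (Nat.cast_ne_zero.2 Fintype.card_ne_zero)
  have hsum : T.card * m ≤ finrank ℂ E :=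
    (le_of_eq (by simp)).trans ((Finset.sum_le_sum hT.rank).trans (S.sum_eig_le_sup ρ R U T hT.sep))
  have h := Submodule.finrank_sup_add_finrank_inf_eq (S.fix ρ (p :: R)) E
  rw [hdis, finrank_bot, add_zero] at h
  have hle : S.fix ρ (p :: R) ⊔ E ≤ S.fix ρ R :=
    sup_le (S.fix_anti ρ fun r hr => List.mem_cons_of_mem _ hr) (Finset.sup_le fun ψ _ v hv => hv.1)
  have := Submodule.finrank_mono hle
  omega

/-- The weights trivial at `p` lie in the fixed space of `p`. -/
theorem fix_ge {R U : List ℕ} {p m : ℕ} (hp : p ∈ U) {T : Finset (Slots F)}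
    (hT : S.Fam ρ R U m T) (htriv : ∀ ψ ∈ T, ∀ t, ψ p t = 1)
    (hnt : ∀ ψ ∈ T, ¬ AgreeOn U ψ fun _ _ => 1) :
    finrank ℂ (S.fix ρ (R ++ U)) + T.card * m ≤ finrank ℂ (S.fix ρ (p :: R)) := by
  classical
  let one : Slots F := fun _ _ => 1
  have hone : one ∉ T := fun h1 => hnt one h1 fun _ _ _ => rfl
  have hsep : ∀ ψ ∈ insert one T, ∀ ψ' ∈ insert one T, AgreeOn U ψ ψ' → ψ = ψ' := by
    intro ψ hψ ψ' hψ' e
    rcases Finset.mem_insert.1 hψ with rfl | hψ <;> rcases Finset.mem_insert.1 hψ' with rfl | hψ'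
    · rfl
    · exact absurd (fun r hr t => (e r hr t).symm) (hnt ψ' hψ')
    · exact absurd e (hnt ψ hψ)
    · exact hT.sep ψ hψ ψ' hψ' e
  have hsum := S.sum_eig_le_sup ρ R U (insert one T) hsep
  have hsup : (insert one T).sup (S.eig ρ R U) ≤ S.fix ρ (p :: R) := by
    refine Finset.sup_le fun ψ hψ v hv r hr t => ?_
    have h1 : ∀ t, ψ p t = 1 := by
      rcases Finset.mem_insert.1 hψ with rfl | h
      · exact fun _ => rfl
      · exact htriv ψ h
    rcases List.mem_cons.1 hr with rfl | hr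
    · rw [hv.2 r hp t, h1, one_smul]
    · exact hv.1 r hr t
  have hle : S.fix ρ (R ++ U) ≤ S.eig ρ R U one := fun v hv =>
    ⟨fun r hr => hv r (List.mem_append.2 (Or.inl hr)), fun r hr t => by
      rw [hv r (List.mem_append.2 (Or.inr hr)) t, one_smul]⟩
  rw [Finset.sum_insert hone] at hsum
  calc finrank ℂ (S.fix ρ (R ++ U)) + T.card * m
      = finrank ℂ (S.fix ρ (R ++ U)) + ∑ _ψ ∈ T, m := by simp
    _ ≤ finrank ℂ (S.eig ρ R U one) + ∑ ψ ∈ T, finrank ℂ (S.eig ρ R U ψ) :=
        Nat.add_le_add (Submodule.finrank_mono hle) (Finset.sum_le_sum hT.rank)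
    _ ≤ _ := hsum
    _ ≤ _ := Submodule.finrank_mono hsup

/-- A root group moving some vector is not trivial on the fixed space of the empty list. -/
theorem moved_nil {p : ℕ} {t : F} {v : V} (h : ρ (S.x p t) v ≠ v) :
    ∃ t, ∃ v ∈ S.fix ρ [], ρ (S.x p t) v ≠ v :=
  ⟨t, v, fun r hr => (List.not_mem_nil hr).elim, h⟩

end SLRoots

end CfsgLib.MinDeg
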