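import Cfsg.Agent.Lib.MinDeg.SlWhit

/-!
# The first layer: either many weights, or a degenerate Whittaker vector
-/

set_option autoImplicit false
set_option linter.unusedSectionVars false

namespace CfsgLib.MinDeg.SLRoots

open Module

variable {F : Type*} [Field F] [Fintype F] {G : Type*} [Group G] (S : SLRoots F G)
variable {V : Type*} [AddCommGroup V] [Module ℂ V] [FiniteDimensional ℂ V]
  (ρ : Representation ℂ G V)

/-- The image of a root under a word of reflections. -/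
def path (w : List ℕ) (s : ℕ) : ℕ := w.foldr S.sg s

/-- The reflections of a word preserve the two lists. -/
def NodesOK (R U w : List ℕ) : Prop :=
  ∀ i ∈ w, i < S.rk ∧ (∀ s ∈ R, s < S.num ∧ S.sg i s ∈ R) ∧ (∀ s ∈ U, s < S.num ∧ S.sg i s ∈ U)

theorem exists_path {R U : List ℕ} (w : List ℕ) (hw : S.NodesOK R U w) (ψ : Slots F) :
    ∃ ψ' : Slots F, finrank ℂ (S.eig ρ R U ψ) ≤ finrank ℂ (S.eig ρ R U ψ') ∧
      ∀ s ∈ U, S.path w s ∈ U ∧ ∃ c : F, c ≠ 0 ∧ ∀ t, ψ' s t = ψ (S.path w s) (c * t) := by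
  induction w generalizing ψ with
  | nil => exact ⟨ψ, le_rfl, fun s hs => ⟨hs, 1, one_ne_zero, fun t => by rw [one_mul]; rfl⟩⟩
  | cons i w ih =>
    obtain ⟨hi, hR, hU⟩ := hw i List.mem_cons_self
    obtain ⟨ψ', h1, h2⟩ := ih (fun j hj => hw j (List.mem_cons_of_mem _ hj)) (S.refl ψ i)
    refine ⟨ψ', (S.refl_rank ρ hi hR hU ψ).trans h1, fun s hs => ?_⟩
    obtain ⟨hmem, c, hc, e⟩ := h2 s hs
    refine ⟨(hU _ hmem).2, S.nc i (S.path w s) * c, mul_ne_zero (S.nc_ne i _ hi (hU _ hmem).1) hc,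
      fun t => ?_⟩
    rw [e t, mul_assoc]; rfl

/-- Roots of `U` commute on the fixed space of `R`. -/
def AbelOK (R U : List ℕ) : Prop :=
  ∀ r ∈ U, r < S.num ∧ S.Stable r [] R ∧
    ∀ s ∈ U, s ≠ r → s ≠ S.op r ∧ ∀ k, S.add r s = some k → k ∈ R

theorem exists_eig {R U : List ℕ} (hab : S.AbelOK R U) (hnd : U.Nodup) {W : Submodule ℂ V}
    {u : V} (hu0 : u ≠ 0) (hu : u ∈ W) (hW : W ≤ S.fix ρ R)
    (hstab : ∀ r ∈ U, ∀ t, ∀ v ∈ W, ρ (S.x r t) v ∈ W) :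
    ∃ ψ : Slots F, ∃ v ∈ W, v ≠ 0 ∧ v ∈ S.eig ρ R U ψ := by
  suffices ∀ L : List ℕ, (∀ r ∈ L, r ∈ U) → L.Nodup → ∃ ψ : Slots F, ∃ v ∈ W, v ≠ 0 ∧
      ∀ r ∈ L, ∀ t, ρ (S.x r t) v = ψ r t • v by
    obtain ⟨ψ, v, hv, hv0, h⟩ := this U (fun _ h => h) hnd
    exact ⟨ψ, v, hv, hv0, hW hv, h⟩
  intro L
  induction L with
  | nil => exact fun _ _ => ⟨fun _ _ => 1, u, hu, hu0, by simp⟩
  | cons r L ih =>
    intro hsub hnd'
    obtain ⟨hrL, hndL⟩ := List.nodup_cons.1 hnd'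
    obtain ⟨ψ, v, hv, hv0, hve⟩ := ih (fun s hs => hsub s (List.mem_cons_of_mem _ hs)) hndL
    let E : Submodule ℂ V := W ⊓ S.eig ρ [] L ψ
    have hvE : v ∈ E := Submodule.mem_inf.2 ⟨hv, fun s hs => (List.not_mem_nil hs).elim, hve⟩
    have hstabE : ∀ t, ∀ w ∈ E, ρ (S.x r t) w ∈ E := by
      intro t w hw
      obtain ⟨hwW, hwe⟩ := Submodule.mem_inf.1 hw
      refine Submodule.mem_inf.2 ⟨hstab r (hsub r List.mem_cons_self) t w hwW,
        fun s hs => (List.not_mem_nil hs).elim, fun s hs a => ?_⟩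
      have hrU := hsub r List.mem_cons_self
      have hsU := hsub s (List.mem_cons_of_mem _ hs)
      obtain ⟨hrn, -, hcom⟩ := hab r hrU
      obtain ⟨hop, hadd⟩ := hcom s hsU (fun e => hrL (e ▸ hs))
      have hsn := (hab s hsU).1
      have e1 : ρ (S.x s a) (ρ (S.x r t) w) = ρ (S.x r t) (ρ (S.x s a) w) := by
        cases hk : S.add r s with
        | none => rw [← Module.End.mul_apply, ← map_mul, ← (S.comm_none r s hrn hsn hop hk t a).eq,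
            map_mul, Module.End.mul_apply]
        | some k =>
          obtain ⟨-, -, hc⟩ := S.comm_some r s k hrn hsn hop hk
          have e2 : S.x r t * S.x s a = S.x s a * S.x k (S.coef r s * t * a) * S.x r t := by
            rw [← hc]; group
          have hfix : ρ (S.x k (S.coef r s * t * a)) (ρ (S.x r t) w) = ρ (S.x r t) w :=
            hW (hstab r hrU t w hwW) k (hadd k hk) _
          symm
          rw [← Module.End.mul_apply, ← map_mul, e2, map_mul, Module.End.mul_apply, map_mul,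
            Module.End.mul_apply, hfix]
      rw [e1, hwe.2 s hs a, map_smul]
    by_cases hmove : ∃ t, ∃ w ∈ E, ρ (S.x r t) w ≠ w
    · obtain ⟨χ, -, w, hwE, hw0, hwχ⟩ := S.exists_char ρ hstabE hmove
      refine ⟨Function.update ψ r χ, w, (Submodule.mem_inf.1 hwE).1, hw0, fun s hs t => ?_⟩
      rcases List.mem_cons.1 hs with rfl | hs
      · simp [hwχ]
      · rw [Function.update_of_ne (fun e : s = r => hrL (e ▸ hs)),
          (Submodule.mem_inf.1 hwE).2.2 s hs t]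
    · push Not at hmove
      refine ⟨Function.update ψ r (fun _ => 1), v, hv, hv0, fun s hs t => ?_⟩
      rcases List.mem_cons.1 hs with rfl | hs
      · simp [hmove t v hvE]
      · rw [Function.update_of_ne (fun e : s = r => hrL (e ▸ hs)), hve s hs t]

/-- The conditions on the slot structure of the first layer. -/
structure TopOK (R U : List ℕ) (p δ₀ : ℕ) (L₁ Sh : List (ℕ × ℕ)) (L₂ L₃ : List ℕ) : Prop where
  cover : ∀ s ∈ U, s = p ∨ s ∈ L₁.map Prod.snd ∨ s ∈ L₂ ∨ s ∈ L₃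
  spread₁ : S.SpreadOK R U [] p L₁
  nd₁ : (L₁.map Prod.snd).Nodup
  spread₂ : S.SpreadOK R U [] δ₀ Sh
  keep₂ : ∀ x ∈ Sh, S.add x.1 p = none ∧
    ∀ δ ∈ L₁.map Prod.snd, ∀ k, S.add x.1 δ = some k → k ∈ L₁.map Prod.snd ∨ k ∈ R
  nd₂ : (Sh.map Prod.snd).Nodup
  in₂ : ∀ s ∈ L₂, s ∈ U
  words : ∀ s ∈ L₂, ∃ w : List ℕ, S.NodesOK R U w ∧ S.path w δ₀ = s ∧ S.path w p = p ∧
    ∀ δ ∈ L₁.map Prod.snd, S.path w δ ∈ L₁.map Prod.snd
  raise : ∀ x ∈ L₃, x ∈ U ∧ ∃ g d, g < S.num ∧ S.Stable g [] R ∧ S.Stable g R U ∧ d ∈ L₂ ∧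
    S.add g d = some x ∧ x ∉ R ∧ (∀ k, S.add g p = some k → k ∈ L₁.map Prod.snd ∨ k ∈ R) ∧
    ∀ δ ∈ L₁.map Prod.snd, ∀ k, S.add g δ = some k → k ∈ L₂ ∨ k ∈ R

theorem clear_list {R U : List ℕ} {p : ℕ} {χ : AddChar F ℂ} (hχ : χ ≠ 0) (L : List (ℕ × ℕ))
    (hL : S.SpreadOK R U [] p L) (hnd : (L.map Prod.snd).Nodup) {ψ : Slots F}
    (hr : 0 < finrank ℂ (S.eig ρ R U ψ)) (hp : ∀ t, ψ p t = χ t) :
    ∃ ψ' : Slots F, 0 < finrank ℂ (S.eig ρ R U ψ') ∧ (∀ t, ψ' p t = χ t) ∧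
      (∀ δ ∈ L.map Prod.snd, ∀ t, ψ' δ t = 1) ∧
      ∀ k, (∀ y ∈ L, S.add y.1 k = none) → ∀ t, ψ' k t = ψ k t := by
  induction L generalizing ψ with
  | nil => exact ⟨ψ, hr, hp, by simp, fun _ _ _ => rfl⟩
  | cons x L ih =>
    obtain ⟨hpU, hpR, hx⟩ := hL
    obtain ⟨hγ, hR, hU, hδ, hadd, hγp, -, hoth⟩ := hx x List.mem_cons_self
    obtain ⟨hxL, hndL⟩ := List.nodup_cons.1 (List.map_cons ▸ hnd : (x.2 :: L.map Prod.snd).Nodup)
    obtain ⟨χd, hχd⟩ := S.slot_char ρ hr hδ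
    obtain ⟨r, hr'⟩ := char_scale hχ χd⁻¹
    have hc := (S.comm_some x.1 x.2 p hγ (hU x.2 hδ).1 (hU x.2 hδ).2.1 hadd).2.1
    set a := (S.coef x.1 x.2)⁻¹ * r
    set ψ₁ := S.shift R ψ x.1 a
    have hp₁ : ∀ t, ψ₁ p t = χ t := fun t => by simp [ψ₁, shift, shiftVal, hγp, hp]
    have hd₁ : ∀ t, ψ₁ x.2 t = 1 := fun t => by
      simp only [ψ₁, shift, shiftVal, hadd, if_neg hpR, hp, hχd, a, mul_inv_cancel_left₀ hc, ← hr',
        AddChar.inv_apply']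
      exact mul_inv_cancel₀ (χd.val_isUnit t).ne_zero
    obtain ⟨ψ', h', hp', hone, hkeep⟩ := ih
      ⟨hpU, hpR, fun y hy => by
        obtain ⟨a, b, c, d, e, f, g, i⟩ := hx y (List.mem_cons_of_mem _ hy)
        exact ⟨a, b, c, d, e, f, g, fun w hw => i w (List.mem_cons_of_mem _ hw)⟩⟩
      hndL (hr.trans_le (S.shift_rank ρ hγ hR hU ψ a)) hp₁
    refine ⟨ψ', h', hp', fun δ hδ' t => ?_, fun k hk t => ?_⟩
    · rw [List.map_cons, List.mem_cons] at hδ'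
      rcases hδ' with rfl | hδ'
      · rw [hkeep x.2 (fun y hy => ?_) t]
        · exact hd₁ t
        exact (hx y (List.mem_cons_of_mem _ hy)).2.2.2.2.2.2.2 x List.mem_cons_self
          (fun e => hxL (List.mem_map.2 ⟨y, hy, e.symm⟩))
      · exact hone δ hδ' t
    · rw [hkeep k (fun y hy => hk y (List.mem_cons_of_mem _ hy)) t]
      simp [shift, shiftVal, hk x List.mem_cons_self]

/-- Spreading that preserves a fixed slot and a set of trivial slots. -/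
theorem spread_keep {R U : List ℕ} {m : ℕ} (hm : 0 < m) {χ₀ : AddChar F ℂ} (hχ₀ : χ₀ ≠ 0)
    {p p₀ : ℕ} (K : List ℕ) {χ : F → ℂ} (L : List (ℕ × ℕ)) (hL : S.SpreadOK R U [] p₀ L)
    (hnd : (L.map Prod.snd).Nodup)
    (hK : ∀ x ∈ L, S.add x.1 p = none ∧ ∀ δ ∈ K, ∀ k, S.add x.1 δ = some k → k ∈ K ∨ k ∈ R)
    {T : Finset (Slots F)} (h : S.Fam ρ R U m T) (h₀ : ∀ ψ ∈ T, ∀ t, ψ p₀ t = χ₀ t)
    (hp : ∀ ψ ∈ T, ∀ t, ψ p t = χ t) (hone : ∀ ψ ∈ T, ∀ δ ∈ K, ∀ t, ψ δ t = 1)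
    (hδT : ∀ x ∈ L, ∀ ψ ∈ T, ∀ ψ' ∈ T, ∀ t, ψ x.2 t = ψ' x.2 t) :
    ∃ T' : Finset (Slots F), S.Fam ρ R U m T' ∧ T'.card = T.card * Fintype.card F ^ L.length ∧
      ∀ ψ ∈ T', (∀ t, ψ p t = χ t) ∧ ∀ δ ∈ K, ∀ t, ψ δ t = 1 := by
  induction L generalizing T with
  | nil => exact ⟨T, h, by simp, fun ψ hψ => ⟨hp ψ hψ, hone ψ hψ⟩⟩
  | cons x L ih =>
    obtain ⟨hp₀, hp₀R, hx⟩ := hL
    obtain ⟨hγ, hR, hU, hδ, hadd, hγp, -, -⟩ := hx x List.mem_cons_self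
    rw [List.map_cons, List.nodup_cons] at hnd
    obtain ⟨T₁, h₁, hc₁, hval⟩ :=
      S.spread_step ρ hm h hγ hR hU hδ hp₀ hp₀R hadd hχ₀ h₀ (hδT x List.mem_cons_self)
    obtain ⟨hxp, hxK⟩ := hK x List.mem_cons_self
    obtain ⟨T', h', hc', hT'⟩ := ih
      ⟨hp₀, hp₀R, fun y hy => by
        obtain ⟨a, b, c, d, e, f, g, i⟩ := hx y (List.mem_cons_of_mem _ hy)
        exact ⟨a, b, c, d, e, f, g, fun w hw => i w (List.mem_cons_of_mem _ hw)⟩⟩
      hnd.2 (fun y hy => hK y (List.mem_cons_of_mem _ hy)) h₁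
      (fun ψ hψ t => by
        obtain ⟨ψ₀, h0, e, -⟩ := hval ψ hψ
        rw [e p₀ hγp, h₀ ψ₀ h0])
      (fun ψ hψ t => by
        obtain ⟨ψ₀, h0, e, -⟩ := hval ψ hψ
        rw [e p hxp, hp ψ₀ h0])
      (fun ψ hψ δ hδK t => by
        obtain ⟨ψ₀, h0, e, a, rfl⟩ := hval ψ hψ
        simp only [shift, shiftVal, hone ψ₀ h0 δ hδK, one_mul]
        cases hk : S.add x.1 δ with
        | none => rfl
        | some k =>
          rcases hxK δ hδK k hk with h | h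
          · by_cases hkR : k ∈ R <;> simp [hkR, hone ψ₀ h0 k h]
          · simp [h])
      (fun y hy ψ hψ ψ' hψ' t => by
        have hne : y.2 ≠ x.2 := fun e => hnd.1 (List.mem_map.2 ⟨y, hy, e⟩)
        have hn := (hx x List.mem_cons_self).2.2.2.2.2.2.2 y (List.mem_cons_of_mem _ hy) hne
        obtain ⟨ψ₀, h0, e, -⟩ := hval ψ hψ
        obtain ⟨ψ₀', h0', e', -⟩ := hval ψ' hψ'
        rw [e _ hn, e' _ hn, hδT y (List.mem_cons_of_mem _ hy) ψ₀ h0 ψ₀' h0'])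
    refine ⟨T', h', ?_, hT'⟩
    rw [hc', hc₁, List.length_cons, pow_succ]; ring

/-- Either `q^(n₁+2)` weights, or a weight supported on the highest root alone. -/
theorem top_cases {R U : List ℕ} {p δ₀ : ℕ} {L₁ Sh : List (ℕ × ℕ)} {L₂ L₃ : List ℕ}
    (hok : S.TopOK R U p δ₀ L₁ Sh L₂ L₃) (hab : S.AbelOK R U) (hnd : U.Nodup)
    (hmove : ∃ t, ∃ v ∈ S.fix ρ R, ρ (S.x p t) v ≠ v) :
    Fintype.card F ^ (L₁.length + Sh.length) ≤ finrank ℂ (S.fix ρ R) ∨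
    ∃ ψ : Slots F, 0 < finrank ℂ (S.eig ρ R U ψ) ∧ (∃ t, ψ p t ≠ 1) ∧
      ∀ s ∈ U, s ≠ p → ∀ t, ψ s t = 1 := by
  classical
  have hpU := hok.spread₁.1
  obtain ⟨χ, hχ, u, hu, hu0, hue⟩ := S.exists_char ρ
    (fun t v hv => S.stable_fix ρ (hab p hpU).1 (hab p hpU).2.1 t v hv) hmove
  let W : Submodule ℂ V := S.fix ρ R ⊓ S.eig ρ [] [p] (single p χ)
  have huW : u ∈ W := Submodule.mem_inf.2 ⟨hu, fun s hs => (List.not_mem_nil hs).elim,
    fun s hs t => by rw [List.mem_singleton.1 hs, hue]; simp [single]⟩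
  obtain ⟨ψ₀, v, hvW, hv0, hv⟩ := S.exists_eig ρ hab hnd hu0 huW inf_le_left (by
    intro r hr t w hw
    obtain ⟨h1, h2⟩ := Submodule.mem_inf.1 hw
    refine Submodule.mem_inf.2 ⟨S.stable_fix ρ (hab r hr).1 (hab r hr).2.1 t w h1,
      fun s hs => (List.not_mem_nil hs).elim, fun s hs a => ?_⟩
    rw [List.mem_singleton.1 hs]
    have hwp := h2.2 p List.mem_cons_self
    by_cases hrp : r = p
    · subst hrp
      rw [hwp t, map_smul, hwp a, smul_comm]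
    · obtain ⟨hop, hadd⟩ := (hab r hr).2.2 p hpU (Ne.symm hrp)
      cases hk : S.add r p with
      | none =>
        rw [← Module.End.mul_apply, ← map_mul,
          ← (S.comm_none r p (hab r hr).1 (hab p hpU).1 hop hk t a).eq, map_mul,
          Module.End.mul_apply, hwp a, map_smul]
      | some k =>
        obtain ⟨-, -, hc⟩ := S.comm_some r p k (hab r hr).1 (hab p hpU).1 hop hk
        have e2 : S.x r t * S.x p a = S.x p a * S.x k (S.coef r p * t * a) * S.x r t := by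
          rw [← hc]; group
        have hfix := (S.stable_fix ρ (hab r hr).1 (hab r hr).2.1 t w h1) k (hadd k hk)
          (S.coef r p * t * a)
        have e3 : ρ (S.x r t) (ρ (S.x p a) w) = ρ (S.x p a) (ρ (S.x r t) w) := by
          rw [← Module.End.mul_apply, ← map_mul, e2, map_mul, Module.End.mul_apply, map_mul,
            Module.End.mul_apply, hfix]
        rw [← e3, hwp a, map_smul])
  have hp₀ : ∀ t, ψ₀ p t = χ t := fun t => smul_left_injective ℂ hv0 (by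
    show ψ₀ p t • v = χ t • v
    rw [← hv.2 p hpU t, (Submodule.mem_inf.1 hvW).2.2 p List.mem_cons_self t]
    simp [single])
  have hr₀ : 0 < finrank ℂ (S.eig ρ R U ψ₀) :=
    one_le_finrank_of_ne_bot fun hb => hv0 ((Submodule.mem_bot ℂ).1 (hb ▸ hv))
  obtain ⟨ψ₁, hr₁, hp₁, hone₁, -⟩ := S.clear_list ρ hχ L₁ hok.spread₁ hok.nd₁ hr₀ hp₀
  -- a weight with a non-trivial slot in the second level gives many weights
  have many : ∀ (χ : AddChar F ℂ) (ψ : Slots F), χ ≠ 0 → 0 < finrank ℂ (S.eig ρ R U ψ) →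
      (∀ t, ψ p t = χ t) → (∀ δ ∈ L₁.map Prod.snd, ∀ t, ψ δ t = 1) →
      (∃ s ∈ L₂, ∃ t, ψ s t ≠ 1) →
      Fintype.card F ^ (L₁.length + Sh.length) ≤ finrank ℂ (S.fix ρ R) := by
    intro χ ψ hχ hr hp h1 h2
    obtain ⟨s, hs, t, ht⟩ := h2
    obtain ⟨w, hw, hws, hwp, hwL⟩ := hok.words s hs
    obtain ⟨ψ', hr', hval⟩ := S.exists_path ρ w hw ψ
    have hrank : 0 < finrank ℂ (S.eig ρ R U ψ') := hr.trans_le hr'
    obtain ⟨-, c, hc, ec⟩ := hval p hpU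
    have hδ₀U : δ₀ ∈ U := hok.spread₂.1
    obtain ⟨χ₀, hχ₀⟩ := S.slot_char ρ hrank hδ₀U
    have hχ₀ne : χ₀ ≠ 0 := fun h0 => by
      obtain ⟨-, c', hc', ec'⟩ := hval δ₀ hδ₀U
      apply ht
      have := ec' (c'⁻¹ * t)
      rw [hws, mul_inv_cancel_left₀ hc', hχ₀, h0, AddChar.zero_apply] at this
      exact this.symm
    have h1' : ∀ δ ∈ L₁.map Prod.snd, ∀ t, ψ' δ t = 1 := by
      intro δ hδ t
      obtain ⟨x, hx, rfl⟩ := List.mem_map.1 hδ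
      obtain ⟨-, c', -, ec'⟩ := hval x.2 (hok.spread₁.2.2 x hx).2.2.2.1
      rw [ec', h1 _ (hwL _ hδ)]
    have hfam : S.Fam ρ R U 1 {ψ'} := ⟨fun a ha b hb _ => by
      rw [Finset.mem_singleton.1 ha, Finset.mem_singleton.1 hb],
      fun a ha => by rw [Finset.mem_singleton.1 ha]; exact hrank⟩
    let χ' : AddChar F ℂ := χ.compAddMonoidHom (AddMonoidHom.mulLeft c)
    have hχ' : χ' ≠ 0 := fun h0 => by
      obtain ⟨z, hz⟩ := AddChar.ne_zero_iff.1 hχ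
      have := DFunLike.congr_fun h0 (c⁻¹ * z)
      simp [χ', mul_inv_cancel_left₀ hc] at this
      exact hz this
    obtain ⟨T, hT, hTc, hTkeep⟩ := S.spread_keep ρ one_pos hχ₀ne (p := p) (χ := fun t => χ' t)
      (L₁.map Prod.snd) Sh hok.spread₂ hok.nd₂ hok.keep₂ hfam
      (fun a ha t => by rw [Finset.mem_singleton.1 ha]; exact hχ₀ t)
      (fun a ha t => by rw [Finset.mem_singleton.1 ha, ec, hwp, hp]; rfl)
      (fun a ha δ hδ t => by rw [Finset.mem_singleton.1 ha, h1' δ hδ t])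
      (fun x _ a ha b hb t => by rw [Finset.mem_singleton.1 ha, Finset.mem_singleton.1 hb])
    obtain ⟨T', hT', hTc', -⟩ := S.spread ρ one_pos hχ' L₁ hok.spread₁ hok.nd₁ hT
      (fun a ha t => (hTkeep a ha).1 t)
      (fun x hx a ha b hb t => by
        rw [(hTkeep a ha).2 x.2 (List.mem_map.2 ⟨x, hx, rfl⟩) t,
          (hTkeep b hb).2 x.2 (List.mem_map.2 ⟨x, hx, rfl⟩) t])
    calc Fintype.card F ^ (L₁.length + Sh.length) = T'.card * 1 := by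
          rw [hTc', hTc, Finset.card_singleton, pow_add]; ring
      _ ≤ _ := Fam.card_le S ρ hT'
  by_cases h2 : ∃ s ∈ L₂, ∃ t, ψ₁ s t ≠ 1
  · exact Or.inl (many χ ψ₁ hχ hr₁ hp₁ hone₁ h2)
  push Not at h2
  by_cases h3 : ∃ x ∈ L₃, ∃ t, ψ₁ x t ≠ 1
  · left
    obtain ⟨x, hx, t, ht⟩ := h3
    obtain ⟨hxU, g, d, hg, hgR, hgU, hd, hgd, hxR, hgp, hg1⟩ := hok.raise x hx
    have hc := (S.comm_some g d x hg (hgU d (hok.in₂ d hd)).1 (hgU d (hok.in₂ d hd)).2.1 hgd).2.1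
    refine many χ (S.shift R ψ₁ g 1) hχ (hr₁.trans_le (S.shift_rank ρ hg hgR hgU ψ₁ 1))
      (fun t => ?_) (fun δ hδ t => ?_) ⟨d, hd, (S.coef g d)⁻¹ * t, ?_⟩
    · simp only [shift, shiftVal, hp₁]
      cases hk : S.add g p with
      | none => simp
      | some k =>
        rcases hgp k hk with h | h
        · by_cases hkR : k ∈ R <;> simp [hkR, hone₁ k h]
        · simp [h]
    · simp only [shift, shiftVal, hone₁ δ hδ, one_mul]
      cases hk : S.add g δ with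
      | none => rfl
      | some k =>
        rcases hg1 δ hδ k hk with h | h
        · by_cases hkR : k ∈ R <;> simp [hkR, h2 k h]
        · simp [h]
    · simpa [shift, shiftVal, hgd, hxR, h2 d hd, mul_inv_cancel_left₀ hc] using ht
  push Not at h3
  refine Or.inr ⟨ψ₁, hr₁, ?_, fun s hs hsp t => ?_⟩
  · obtain ⟨t, ht⟩ := AddChar.ne_zero_iff.1 hχ
    exact ⟨t, by rwa [hp₁]⟩
  · rcases hok.cover s hs with h | h | h | h
    · exact absurd h hsp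
    · exact hone₁ s h t
    · exact h2 s h t
    · exact h3 s h t

/-- The conditions on the positive roots outside the first layer, relative to its lowest root. -/
def StabOK (R U P : List ℕ) (a : ℕ) : Prop :=
  a ∈ U ∧ (∀ γ ∈ P, γ ∈ U ∨ γ ∈ R ∨ (γ < S.num ∧
    ∃ i, (i = none ∨ ∃ j, i = some j ∧ j < S.rk ∧ S.sg j a = a ∧ S.NodesOK R U [j]) ∧
      ∃ g₁ g₂, g₁ < S.num ∧ g₂ < S.num ∧ g₂ ≠ S.op g₁ ∧
        S.Stable g₁ [] R ∧ S.Stable g₁ R U ∧ S.Stable g₂ [] R ∧ S.Stable g₂ R U ∧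
        (∀ δ ∈ U, ∀ k, S.add g₁ δ = some k → k ≠ a) ∧
        (∀ δ ∈ U, ∀ k, S.add g₂ δ = some k → k ≠ a) ∧
        S.add g₁ g₂ = some (match i with | none => γ | some j => S.sg j γ)))

theorem shift_single {R U : List ℕ} {a γ : ℕ} (hγa : ∀ δ ∈ U, ∀ k, S.add γ δ = some k → k ≠ a)
    {ψ : Slots F} (hψ : ∀ s ∈ U, s ≠ a → ∀ t, ψ s t = 1) (hU : S.Stable γ R U) (c : F) :
    AgreeOn U (S.shift R ψ γ c) ψ := by
  intro s hs t
  simp only [shift, shiftVal]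
  cases hk : S.add γ s with
  | none => simp
  | some k =>
    by_cases hkR : k ∈ R
    · simp [hkR]
    · simp [hkR, hψ k (((hU s hs).2.2 k hk).resolve_right hkR) (hγa s hs k hk)]

/-- Two root groups stabilising a line act by scalars on it, so their commutator fixes it. -/
theorem line_fix {R U : List ℕ} {a : ℕ} {ψ : Slots F}
    (hψa : ∀ s ∈ U, s ≠ a → ∀ t, ψ s t = 1) (h1 : finrank ℂ (S.eig ρ R U ψ) ≤ 1)
    {v : V} (hv : v ∈ S.eig ρ R U ψ) (hv0 : v ≠ 0) {g₁ g₂ k : ℕ}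
    (hg₁ : g₁ < S.num) (hg₂ : g₂ < S.num) (hop : g₂ ≠ S.op g₁)
    (r₁ : S.Stable g₁ [] R) (u₁ : S.Stable g₁ R U) (r₂ : S.Stable g₂ [] R) (u₂ : S.Stable g₂ R U)
    (a₁ : ∀ δ ∈ U, ∀ k, S.add g₁ δ = some k → k ≠ a)
    (a₂ : ∀ δ ∈ U, ∀ k, S.add g₂ δ = some k → k ≠ a) (hk : S.add g₁ g₂ = some k) (t : F) :
    ρ (S.x k t) v = v := by
  have h1' : finrank ℂ (S.eig ρ R U ψ) = 1 :=
    le_antisymm h1 (one_le_finrank_of_ne_bot fun hb => hv0 ((Submodule.mem_bot ℂ).1 (hb ▸ hv)))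
  have hspan := (finrank_eq_one_iff_of_nonzero' (⟨v, hv⟩ : S.eig ρ R U ψ)
    (fun h => hv0 (congrArg Subtype.val h))).1 h1'
  have scal : ∀ γ, γ < S.num → S.Stable γ [] R → S.Stable γ R U →
      (∀ δ ∈ U, ∀ k, S.add γ δ = some k → k ≠ a) → ∀ t, ∃ c : ℂ, ρ (S.x γ t) v = c • v := by
    intro γ hγ hR hU hγa t
    have h := S.shift_mem ρ hγ hR hU ψ (-t) v hv
    rw [AddChar.map_neg_eq_inv, inv_inv] at h
    have h' : ρ (S.x γ t) v ∈ S.eig ρ R U ψ := ⟨h.1, fun r hr b => by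
      rw [h.2 r hr b, S.shift_single hγa hψa hU (-t) r hr b]⟩
    obtain ⟨c, hc⟩ := hspan ⟨_, h'⟩
    exact ⟨c, by simpa using (congrArg Subtype.val hc).symm⟩
  obtain ⟨-, he, hc⟩ := S.comm_some g₁ g₂ k hg₁ hg₂ hop hk
  set b := (S.coef g₁ g₂)⁻¹ * t
  obtain ⟨c₁, e₁⟩ := scal g₁ hg₁ r₁ u₁ a₁ 1
  obtain ⟨c₂, e₂⟩ := scal g₂ hg₂ r₂ u₂ a₂ b
  have hc1 : c₁ ≠ 0 := fun h =>
    hv0 (rep_injective ρ (S.x g₁ 1) (by rw [e₁, h, zero_smul, map_zero]))
  have hc2 : c₂ ≠ 0 := fun h =>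
    hv0 (rep_injective ρ (S.x g₂ b) (by rw [e₂, h, zero_smul, map_zero]))
  have inv_smul : ∀ (g : G) (c : ℂ), c ≠ 0 → ρ g v = c • v → ρ g⁻¹ v = c⁻¹ • v := by
    intro g c hc0 e
    apply rep_injective ρ g
    rw [← Module.End.mul_apply, ← map_mul, mul_inv_cancel, map_one, Module.End.one_apply, map_smul,
      e, smul_smul, inv_mul_cancel₀ hc0, one_smul]
  have e : S.x k t = (S.x g₂ b)⁻¹ * (S.x g₁ 1 * S.x g₂ b * (S.x g₁ 1)⁻¹) := by
    rw [hc, inv_mul_cancel_left]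
    simp [b, mul_inv_cancel_left₀ he]
  rw [e]
  simp only [map_mul, Module.End.mul_apply, inv_smul _ _ hc1 e₁, map_smul, e₂, e₁, smul_smul,
    inv_smul _ _ hc2 e₂]
  rw [show c₁⁻¹ * (c₂ * c₁) * c₂⁻¹ = 1 by field_simp, one_smul]

theorem whit_of_line {R U P : List ℕ} {a : ℕ} (hok : S.StabOK R U P a)
    (hline : ∀ φ : Slots F, (∀ s ∈ U, s ≠ a → ∀ t, φ s t = 1) → (∃ t, φ a t ≠ 1) →
      finrank ℂ (S.eig ρ R U φ) ≤ 1)
    {ψ : Slots F} (hr : 0 < finrank ℂ (S.eig ρ R U ψ))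
    (hψa : ∀ s ∈ U, s ≠ a → ∀ t, ψ s t = 1) {χ : AddChar F ℂ} (hχ : χ ≠ 0)
    (hχa : ∀ t, ψ a t = χ t) : S.Whit ρ P a χ := by
  obtain ⟨haU, hP⟩ := hok
  obtain ⟨v, hv, hv0⟩ := Submodule.exists_mem_ne_zero_of_ne_bot (p := S.eig ρ R U ψ)
    (fun hb => by rw [hb, finrank_bot] at hr; exact lt_irrefl _ hr)
  obtain ⟨t₀, ht₀⟩ := AddChar.ne_zero_iff.1 hχ
  refine ⟨v, hv0, fun r hr => (List.not_mem_nil hr).elim, fun γ hγ t => ?_⟩
  by_cases hγa' : γ = a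
  · subst hγa'; rw [hv.2 γ haU t, hχa]; simp [single]
  simp only [single, hγa', if_false, one_smul]
  rcases hP γ hγ with h | h | ⟨hγn, i, hi, g₁, g₂, h1', h2', hop, r1, u1, r2, u2, a1, a2, hadd⟩
  · rw [hv.2 γ h t, hψa γ h hγa', one_smul]
  · exact hv.1 γ h t
  · rcases hi with rfl | ⟨j, rfl, hj, hja, hnodes⟩
    · exact S.line_fix ρ hψa (hline ψ hψa ⟨t₀, by rwa [hχa]⟩) hv hv0 h1' h2' hop r1 u1 r2 u2 a1 a2
        hadd t
    · obtain ⟨-, hjR, hjU⟩ := hnodes j List.mem_cons_self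
      have hw := S.refl_mem ρ hj hjR hjU ψ v hv
      set w := ρ (S.n j)⁻¹ v
      have han := (hjU a haU).1
      have hφa : ∀ s ∈ U, s ≠ a → ∀ t, S.refl ψ j s t = 1 := fun s hs hne t =>
        hψa _ (hjU s hs).2 (fun e => hne (by rw [← S.sg_sg j s hj (hjU s hs).1, e, hja])) _
      have hnt : ∃ t, S.refl ψ j a t ≠ 1 := ⟨(S.nc j a)⁻¹ * t₀, by
        show ψ (S.sg j a) _ ≠ 1
        rwa [hja, mul_inv_cancel_left₀ (S.nc_ne j a hj han), hχa]⟩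
      have hw0 : w ≠ 0 := fun h => hv0 (rep_injective ρ (S.n j)⁻¹ (h.trans (map_zero _).symm))
      have hγ' := S.sg_lt j γ hj hγn
      have hfix := S.line_fix ρ hφa (hline _ hφa hnt) hw hw0 h1' h2' hop r1 u1 r2 u2 a1 a2 hadd
        ((S.nc j (S.sg j γ))⁻¹ * t)
      have e : S.x γ t = S.n j * S.x (S.sg j γ) ((S.nc j (S.sg j γ))⁻¹ * t) * (S.n j)⁻¹ := by
        rw [S.n_conj j _ hj hγ', S.sg_sg j γ hj hγn, mul_inv_cancel_left₀ (S.nc_ne j _ hj hγ')]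
      rw [e, map_mul, map_mul, Module.End.mul_apply, Module.End.mul_apply]
      show ρ (S.n j) (ρ _ w) = v
      rw [hfix, show w = ρ (S.n j)⁻¹ v from rfl, ← Module.End.mul_apply, ← map_mul, mul_inv_cancel,
        map_one, Module.End.one_apply]

end CfsgLib.MinDeg.SLRoots
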