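import Cfsg.Agent.Lib.MinDeg.SlCount

/-!
# Degenerate Whittaker vectors and layers
-/

set_option autoImplicit false
set_option linter.unusedSectionVars false

namespace CfsgLib.MinDeg

open Module

/-- A nontrivial character reaches every character by scaling. -/
theorem char_scale {F : Type*} [Field F] [Fintype F] {χ₀ : AddChar F ℂ} (h₀ : χ₀ ≠ 0)
    (χ : AddChar F ℂ) : ∃ r, ∀ t, χ t = χ₀ (r * t) := by
  classical
  let f : F → AddChar F ℂ := fun r => χ₀.compAddMonoidHom (AddMonoidHom.mulLeft r)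
  have hf : Function.Injective f := fun r r' e =>
    SLRoots.scalar_eq h₀ one_ne_zero fun t => by
      simpa [f] using DFunLike.congr_fun e t
  obtain ⟨r, hr⟩ := ((Fintype.bijective_iff_injective_and_card f).2
    ⟨hf, (AddChar.card_eq).symm⟩).2 χ
  exact ⟨r, fun t => (DFunLike.congr_fun hr t).symm⟩

namespace SLRoots

variable {F : Type*} [Field F] [Fintype F] {G : Type*} [Group G] (S : SLRoots F G)
variable {V : Type*} [AddCommGroup V] [Module ℂ V] [FiniteDimensional ℂ V]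
  (ρ : Representation ℂ G V)

/-- The slot function supported on one root. -/
def single (a : ℕ) (χ : AddChar F ℂ) : Slots F := fun r t => if r = a then χ t else 1

/-- A non-zero vector fixed by all root groups in `P` but that of `a`, on which it acts by `χ`. -/
def Whit (P : List ℕ) (a : ℕ) (χ : AddChar F ℂ) : Prop :=
  ∃ v, v ≠ 0 ∧ v ∈ S.eig ρ [] P (single a χ)

theorem stable_fix {r : ℕ} (hr : r < S.num) {R : List ℕ} (hR : S.Stable r [] R) (a : F) :
    ∀ v ∈ S.fix ρ R, ρ (S.x r a) v ∈ S.fix ρ R := by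
  intro v hv s hs t
  obtain ⟨hsn, hsop, hadd⟩ := hR s hs
  have key : ρ (S.x r (-a) * S.x s t * (S.x r (-a))⁻¹) v = v := by
    cases hk : S.add r s with
    | none => rw [(S.comm_none r s hr hsn hsop hk _ t).eq, mul_inv_cancel_right, hv s hs t]
    | some k =>
      obtain ⟨-, -, hc⟩ := S.comm_some r s k hr hsn hsop hk
      rw [hc, map_mul, Module.End.mul_apply,
        hv k ((hadd k hk).resolve_right (List.not_mem_nil)) _, hv s hs t]
  have e2 : S.x s t * S.x r a = S.x r a * (S.x r (-a) * S.x s t * (S.x r (-a))⁻¹) := by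
    rw [AddChar.map_neg_eq_inv]; group
  rw [← Module.End.mul_apply, ← map_mul, e2, map_mul, Module.End.mul_apply, key]

/-- A root group moving a stable subspace has a non-trivial eigencharacter there. -/
theorem exists_char {r : ℕ} {W : Submodule ℂ V} (hW : ∀ t, ∀ v ∈ W, ρ (S.x r t) v ∈ W)
    (h : ∃ t, ∃ v ∈ W, ρ (S.x r t) v ≠ v) :
    ∃ χ : AddChar F ℂ, χ ≠ 0 ∧ ∃ u ∈ W, u ≠ 0 ∧ ∀ t, ρ (S.x r t) u = χ t • u := by
  let E : AddChar F (Module.End ℂ W) :=
    { toFun := fun t => (ρ (S.x r t)).restrict (hW t)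
      map_zero_eq_one' := by
        apply LinearMap.ext; intro w; apply Subtype.ext
        simp
      map_add_eq_mul' := fun a b => by
        apply LinearMap.ext; intro w; apply Subtype.ext
        show ρ (S.x r (a + b)) (w : V) = ρ (S.x r a) (ρ (S.x r b) (w : V))
        rw [← Module.End.mul_apply, ← map_mul, ← AddChar.map_add_eq_mul] }
  obtain ⟨t, v, hv, hne⟩ := h
  obtain ⟨χ, hχ, hbot⟩ := exists_weight_ne_zero E (a := t)
    (fun e => hne (congrArg Subtype.val (LinearMap.congr_fun e ⟨v, hv⟩)))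
  obtain ⟨u, hu, hu0⟩ := Submodule.exists_mem_ne_zero_of_ne_bot hbot
  exact ⟨χ, hχ, u, u.2, fun e => hu0 (Subtype.ext e),
    fun t => congrArg Subtype.val (mem_weightSpace.1 hu t)⟩

/-- The average over a root group. -/
def avg (r : ℕ) : Module.End ℂ V := ∑ t, ρ (S.x r t)

theorem avg_fixed (r : ℕ) (s : F) (v : V) : ρ (S.x r s) (S.avg ρ r v) = S.avg ρ r v := by
  simp only [avg, LinearMap.sum_apply, map_sum, ← Module.End.mul_apply, ← map_mul,
    ← AddChar.map_add_eq_mul]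
  exact Fintype.sum_equiv (Equiv.addLeft s) _ _ fun t => rfl

theorem avg_of_fixed (r : ℕ) {v : V} (h : ∀ t, ρ (S.x r t) v = v) :
    S.avg ρ r v = (Fintype.card F : ℂ) • v := by
  rw [avg, LinearMap.sum_apply, Finset.sum_congr rfl (fun t _ => h t), Finset.sum_const,
    Finset.card_univ, Nat.cast_smul_eq_nsmul ℂ]

theorem avg_comm (r : ℕ) {g : G} (h : ∀ t, Commute g (S.x r t)) (v : V) :
    ρ g (S.avg ρ r v) = S.avg ρ r (ρ g v) := by
  simp only [avg, LinearMap.sum_apply, map_sum, ← Module.End.mul_apply, ← map_mul]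
  exact Finset.sum_congr rfl fun t _ => by rw [(h t).eq]

/-- The conditions relating two roots `a`, `b` with sum `c`. -/
def PairOK (R : List ℕ) (a b c : ℕ) : Prop :=
  a < S.num ∧ b < S.num ∧ c < S.num ∧ b ≠ S.op a ∧ c ≠ S.op a ∧ c ≠ S.op b ∧
    S.add a b = some c ∧ S.add a c = none ∧ S.add b c = none ∧
    S.Stable a [] R ∧ S.Stable b [] R ∧ S.Stable c [] R

theorem split_finrank {R : List ℕ} {a c : ℕ} (ha : a < S.num) (hc : c < S.num) (hca : c ≠ S.op a)
    (hac : S.add a c = none) (hR : S.Stable c [] R) :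
    finrank ℂ (S.fix ρ (a :: R)) = finrank ℂ (S.fix ρ (c :: a :: R)) +
      finrank ℂ ↥(S.fix ρ (a :: R) ⊓ LinearMap.ker (S.avg ρ c)) := by
  have hcomm : ∀ s t, Commute (S.x a s) (S.x c t) := fun s t => S.comm_none a c ha hc hca hac s t
  set W := S.fix ρ (a :: R)
  let L : W →ₗ[ℂ] V := (S.avg ρ c).domRestrict W
  have hrange : LinearMap.range L = S.fix ρ (c :: a :: R) := by
    apply le_antisymm
    · rintro _ ⟨⟨v, hv⟩, rfl⟩
      intro r hr t
      rcases List.mem_cons.1 hr with rfl | hr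
      · exact S.avg_fixed ρ _ t v
      · show ρ (S.x r t) (S.avg ρ c v) = S.avg ρ c v
        rcases List.mem_cons.1 hr with rfl | hr'
        · rw [S.avg_comm ρ c (fun s => hcomm t s), hv r hr t]
        · have : S.avg ρ c v ∈ S.fix ρ R := by
            rw [avg, LinearMap.sum_apply]
            exact Submodule.sum_mem _ fun s _ =>
              S.stable_fix ρ hc hR s v fun r hr t => hv r (List.mem_cons_of_mem _ hr) t
          exact this r hr' t
    · intro v hv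
      refine ⟨(Fintype.card F : ℂ)⁻¹ • ⟨v, fun r hr => hv r (List.mem_cons_of_mem _ hr)⟩, ?_⟩
      rw [map_smul]
      show (Fintype.card F : ℂ)⁻¹ • S.avg ρ c v = v
      rw [S.avg_of_fixed ρ c (hv c List.mem_cons_self), smul_smul,
        inv_mul_cancel₀ (Nat.cast_ne_zero.2 Fintype.card_ne_zero), one_smul]
  have h := LinearMap.finrank_range_add_finrank_ker L
  rw [hrange] at h
  have e : (LinearMap.ker L).map W.subtype = W ⊓ LinearMap.ker (S.avg ρ c) := by
    ext v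
    simp [L, LinearMap.mem_ker, and_comm]
  rw [← e, Submodule.finrank_map_subtype_eq]
  exact h.symm

theorem moved_le {R : List ℕ} {a b c : ℕ} (h : S.PairOK R a b c) :
    finrank ℂ ↥(S.fix ρ (a :: R) ⊓ LinearMap.ker (S.avg ρ c)) ≤
      finrank ℂ ↥(S.fix ρ (b :: R) ⊓ LinearMap.ker (S.avg ρ c)) := by
  obtain ⟨ha, hb, hc, hab, hca, hcb, hadd, hac, hbc, hRa, hRb, hRc⟩ := h
  obtain ⟨-, he, hconj⟩ := S.comm_some a b c ha hb hab hadd
  have hbc' : ∀ s t, Commute (S.x b s) (S.x c t) := fun s t => S.comm_none b c hb hc hcb hbc s t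
  have hmaps : ∀ v ∈ S.fix ρ (a :: R) ⊓ LinearMap.ker (S.avg ρ c),
      S.avg ρ b v ∈ S.fix ρ (b :: R) ⊓ LinearMap.ker (S.avg ρ c) := by
    intro v hv
    obtain ⟨h1, h2⟩ := Submodule.mem_inf.1 hv
    refine Submodule.mem_inf.2 ⟨fun r hr t => ?_, ?_⟩
    · rcases List.mem_cons.1 hr with rfl | hr
      · exact S.avg_fixed ρ _ t v
      · have : S.avg ρ b v ∈ S.fix ρ R := by
          rw [avg, LinearMap.sum_apply]
          exact Submodule.sum_mem _ fun s _ =>
            S.stable_fix ρ hb hRb s v fun r hr t => h1 r (List.mem_cons_of_mem _ hr) t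
        exact this r hr t
    · rw [LinearMap.mem_ker] at h2 ⊢
      rw [show S.avg ρ b v = ∑ t, ρ (S.x b t) v by simp [avg], map_sum]
      refine Finset.sum_eq_zero fun s _ => ?_
      change S.avg ρ c (ρ (S.x b s) v) = 0
      rw [← S.avg_comm ρ c (fun t => hbc' s t), h2, map_zero]
  refine LinearMap.finrank_le_finrank_of_injective (f := (S.avg ρ b).restrict hmaps) ?_
  rw [injective_iff_map_eq_zero]
  rintro ⟨v, hv⟩ hz
  apply Subtype.ext
  have hz' : S.avg ρ b v = 0 := congrArg Subtype.val hz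
  obtain ⟨h1, h2⟩ := Submodule.mem_inf.1 hv
  rw [LinearMap.mem_ker] at h2
  classical
  have key : ∀ s, S.avg ρ a (ρ (S.x b s) v) = if s = 0 then (Fintype.card F : ℂ) • v else 0 := by
    intro s
    have e : ∀ t, ρ (S.x a t) (ρ (S.x b s) v) = ρ (S.x b s) (ρ (S.x c (S.coef a b * t * s)) v) := by
      intro t
      have e1 : S.x a t * S.x b s = S.x b s * S.x c (S.coef a b * t * s) * S.x a t := by
        rw [← hconj t s]; group
      rw [← Module.End.mul_apply, ← map_mul, e1, map_mul, map_mul, Module.End.mul_apply,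
        Module.End.mul_apply, h1 a List.mem_cons_self t]
    rw [avg, LinearMap.sum_apply, Finset.sum_congr rfl (fun t _ => e t), ← map_sum]
    split_ifs with hs
    · simp [hs, Nat.cast_smul_eq_nsmul ℂ]
    · have e3 : ∑ t, ρ (S.x c (S.coef a b * t * s)) v = S.avg ρ c v := by
        rw [avg, LinearMap.sum_apply]
        refine Fintype.sum_bijective (fun t => S.coef a b * t * s) ?_ _ _ fun t => rfl
        exact (mulRight_bijective₀ s hs).comp (mulLeft_bijective₀ _ he)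
      rw [e3, h2, map_zero]
  have h0 : S.avg ρ a (S.avg ρ b v) = 0 := by rw [hz', map_zero]
  rw [show S.avg ρ b v = ∑ t, ρ (S.x b t) v by simp [avg], map_sum] at h0
  rw [Finset.sum_congr rfl (fun s _ => key s), Finset.sum_ite_eq' Finset.univ (0 : F),
    if_pos (Finset.mem_univ _)] at h0
  exact (smul_eq_zero.1 h0).resolve_left (Nat.cast_ne_zero.2 Fintype.card_ne_zero)

theorem word_conj {i j : ℕ} (hi : i < S.rk) (hj : j < S.rk) {r : ℕ} (hr : r < S.num) (t : F) :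
    ∃ t', (S.n i * S.n j)⁻¹ * S.x r t * (S.n i * S.n j) = S.x (S.sg j (S.sg i r)) t' := by
  refine ⟨(S.nc j (S.sg j (S.sg i r)))⁻¹ * ((S.nc i (S.sg i r))⁻¹ * t), ?_⟩
  rw [← S.n_conj_inv hj (S.sg_lt i r hi hr), ← S.n_conj_inv hi hr]
  group

theorem fix_word_le {R : List ℕ} {a b i j : ℕ} (hi : i < S.rk) (hj : j < S.rk) (hb : b < S.num)
    (hR : ∀ r ∈ R, r < S.num ∧ S.sg i r ∈ R ∧ S.sg j r ∈ R) (hab : S.sg j (S.sg i b) = a) :
    finrank ℂ (S.fix ρ (a :: R)) ≤ finrank ℂ (S.fix ρ (b :: R)) := by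
  have h : ∀ v ∈ S.fix ρ (a :: R), ρ (S.n i * S.n j) v ∈ S.fix ρ (b :: R) := by
    intro v hv r hr t
    have hrn : r < S.num := by
      rcases List.mem_cons.1 hr with rfl | hr
      · exact hb
      · exact (hR r hr).1
    obtain ⟨t', ht'⟩ := S.word_conj hi hj hrn t
    have e : S.x r t * (S.n i * S.n j) = (S.n i * S.n j) * S.x (S.sg j (S.sg i r)) t' := by
      rw [← ht']; group
    have hmem : S.sg j (S.sg i r) ∈ a :: R := by
      rcases List.mem_cons.1 hr with rfl | hr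
      · rw [hab]; exact List.mem_cons_self
      · exact List.mem_cons_of_mem _ (hR _ (hR r hr).2.1).2.2
    rw [← Module.End.mul_apply, ← map_mul, e, map_mul, Module.End.mul_apply, hv _ hmem t']
  exact LinearMap.finrank_le_finrank_of_injective (f := (ρ (S.n i * S.n j)).restrict h)
    fun _ _ e => Subtype.ext (rep_injective ρ _ (congrArg Subtype.val e))

/-- The conditions for propagating a degenerate Whittaker vector from `a` to `b`. -/
def PropOK (P R : List ℕ) (a b c i j : ℕ) : Prop :=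
  S.PairOK R a b c ∧ S.PairOK R b a c ∧ i < S.rk ∧ j < S.rk ∧
    (∀ r ∈ R, r < S.num ∧ S.sg i r ∈ R ∧ S.sg j r ∈ R) ∧ S.sg j (S.sg i b) = a ∧
    S.sg i (S.sg j a) = b ∧ a ∈ P ∧ b ∈ P ∧ c ∈ P ∧ b ≠ a ∧ c ≠ a ∧ c ≠ b ∧ a ∉ R ∧
    (∀ r ∈ R, r ∈ P) ∧ ∀ r ∈ P, r = a ∨ r = b ∨ r = c ∨ r ∈ R

theorem propagate {P R : List ℕ} {a b c i j : ℕ} (h : S.PropOK P R a b c i j) {χ : AddChar F ℂ}
    (hχ : χ ≠ 0) (hW : S.Whit ρ P a χ) : ∃ χ' : AddChar F ℂ, χ' ≠ 0 ∧ S.Whit ρ P b χ' := by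
  obtain ⟨h1, h2, hi, hj, hR, hab, hba, haP, hbP, hcP, hne, hca, hcb, haR, hRP, hP⟩ := h
  have dimA : finrank ℂ (S.fix ρ (a :: R)) = finrank ℂ (S.fix ρ (b :: R)) :=
    le_antisymm (S.fix_word_le ρ hi hj h1.2.1 hR hab)
      (S.fix_word_le ρ hj hi h1.1 (fun r hr => ⟨(hR r hr).1, (hR r hr).2.2, (hR r hr).2.1⟩) hba)
  have sA := S.split_finrank ρ (R := R) h1.1 h1.2.2.1 h1.2.2.2.2.1 h1.2.2.2.2.2.2.2.1
    h1.2.2.2.2.2.2.2.2.2.2.2
  have sB := S.split_finrank ρ (R := R) h2.1 h2.2.2.1 h2.2.2.2.2.1 h2.2.2.2.2.2.2.2.1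
    h2.2.2.2.2.2.2.2.2.2.2.2
  have dim0 : finrank ℂ (S.fix ρ (c :: a :: R)) = finrank ℂ (S.fix ρ (c :: b :: R)) := by
    have := S.moved_le ρ h1
    have := S.moved_le ρ h2
    omega
  obtain ⟨v, hv0, -, hv⟩ := hW
  have hvR : ∀ r ∈ P, r ≠ a → ∀ t, ρ (S.x r t) v = v := fun r hr hra t => by
    rw [hv r hr t]; simp [single, hra]
  by_cases hmove : ∃ t, ∃ u ∈ S.fix ρ (c :: a :: R), ρ (S.x b t) u ≠ u
  · have hstab : S.Stable b [] (c :: a :: R) := by
      intro s hs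
      obtain ⟨hb, -, -, hab', -, hcb', hadd, -, -, -, hRb, -⟩ := h1
      rcases List.mem_cons.1 hs with rfl | hs
      · exact ⟨h1bound h2, hcb', fun k hk => by rw [h2.2.2.2.2.2.2.2.1] at hk; exact absurd hk (by simp)⟩
      rcases List.mem_cons.1 hs with rfl | hs
      · exact ⟨hb, h2.2.2.2.1, fun k hk => Or.inl (by
          rw [h2.2.2.2.2.2.2.1] at hk; cases hk; exact List.mem_cons_self)⟩
      · obtain ⟨x1, x2, x3⟩ := hRb s hs
        exact ⟨x1, x2, fun k hk => Or.inl (List.mem_cons_of_mem _ (List.mem_cons_of_mem _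
          ((x3 k hk).resolve_right List.not_mem_nil)))⟩
    obtain ⟨χ', hχ', u, hu, hu0, hue⟩ :=
      S.exists_char ρ (r := b) (fun t w hw => S.stable_fix ρ h1.2.1 hstab t w hw) hmove
    refine ⟨χ', hχ', u, hu0, fun r hr => (List.not_mem_nil hr).elim, fun r hr t => ?_⟩
    by_cases hrb : r = b
    · subst hrb; simp [single, hue]
    · have hm : r ∈ c :: a :: R := by
        rcases hP r hr with rfl | rfl | rfl | h'
        · simp
        · exact absurd rfl hrb
        · simp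
        · simp [h']
      rw [hu r hm t]; simp [single, hrb]
  · exfalso
    push Not at hmove
    have hle : S.fix ρ (c :: a :: R) ≤ S.fix ρ (c :: b :: R) := by
      intro u hu r hr t
      rcases List.mem_cons.1 hr with rfl | hr
      · exact hu _ List.mem_cons_self t
      rcases List.mem_cons.1 hr with rfl | hr
      · exact hmove t u hu
      · exact hu r (List.mem_cons_of_mem _ (List.mem_cons_of_mem _ hr)) t
    have heq := Submodule.eq_of_le_of_finrank_le hle dim0.ge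
    have hvmem : v ∈ S.fix ρ (c :: b :: R) := by
      intro r hr t
      rcases List.mem_cons.1 hr with rfl | hr
      · exact hvR _ hcP hca t
      rcases List.mem_cons.1 hr with rfl | hr
      · exact hvR _ hbP hne t
      · exact hvR r (hRP r hr) (fun e => haR (e ▸ hr)) t
    rw [← heq] at hvmem
    obtain ⟨t, ht⟩ := AddChar.ne_zero_iff.1 hχ
    apply ht
    refine smul_left_injective ℂ hv0 ?_
    show χ t • v = (1 : ℂ) • v
    rw [one_smul]
    conv_rhs => rw [← hvmem a (by simp) t]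
    rw [hv a haP t]; simp [single]
where
  h1bound {a b c : ℕ} {R : List ℕ} (h : S.PairOK R b a c) : c < S.num := h.2.2.1

/-- Every non-trivial character occurs at a root that can be scaled. -/
theorem whit_all {P : List ℕ} {a : ℕ}
    (hscale : ∀ c : Fˣ, ∃ (g : G) (f : ℕ → F), f a = c ∧
      ∀ r ∈ P, ∀ t, g * S.x r t * g⁻¹ = S.x r (f r * t))
    (haP : a ∈ P) {χ₀ : AddChar F ℂ} (h₀ : χ₀ ≠ 0) (hW : S.Whit ρ P a χ₀) {χ : AddChar F ℂ}
    (hχ : χ ≠ 0) : S.Whit ρ P a χ := by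
  obtain ⟨c, hc⟩ := char_scale h₀ χ
  have hc0 : c ≠ 0 := fun h => hχ (AddChar.ext _ _ fun t => by simp [hc t, h])
  obtain ⟨g, f, hfa, hg⟩ := hscale (Units.mk0 c hc0)
  obtain ⟨v, hv0, hv⟩ := hW
  refine ⟨ρ g⁻¹ v, fun h => hv0 (rep_injective ρ g⁻¹ (h.trans (map_zero _).symm)), ?_⟩
  refine S.eig_conj ρ g (fun r hr => (List.not_mem_nil hr).elim) (fun r hr t w hw => ?_) v hv
  rw [hg r hr, hw.2 r hr]
  congr 1
  unfold single
  split_ifs with h
  · subst h; rw [hfa, Units.val_mk0, hc]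
  · rfl

/-- The family of degenerate Whittaker weights at one root. -/
theorem whit_fam {P R U : List ℕ} {rk : ℕ → ℕ} {a : ℕ} (hRP : ∀ r ∈ R, r ∈ P ∧ r ≠ a)
    (hUP : ∀ r ∈ U, r ∈ P) (haU : a ∈ U)
    (hW : ∀ χ : AddChar F ℂ, χ ≠ 0 → S.Whit ρ P a χ) :
    ∃ T : Finset (Slots F), S.Fam ρ R U 1 T ∧ T.card = Fintype.card F - 1 ∧
      ∀ ψ ∈ T, TopAt U rk a ψ := by
  classical
  refine ⟨(Finset.univ.erase (0 : AddChar F ℂ)).image (single a), ⟨?_, ?_⟩, ?_, ?_⟩
  · intro ψ hψ ψ' hψ' e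
    obtain ⟨χ, -, rfl⟩ := Finset.mem_image.1 hψ
    obtain ⟨χ', -, rfl⟩ := Finset.mem_image.1 hψ'
    have : χ = χ' := AddChar.ext _ _ fun t => by simpa [single] using e a haU t
    rw [this]
  · intro ψ hψ
    obtain ⟨χ, hχ, rfl⟩ := Finset.mem_image.1 hψ
    obtain ⟨v, hv0, hv⟩ := hW χ (Finset.ne_of_mem_erase hχ)
    refine one_le_finrank_of_ne_bot fun hb => hv0 ((Submodule.mem_bot ℂ).1 (hb ▸ ?_))
    exact ⟨fun r hr t => by rw [hv.2 r (hRP r hr).1 t]; simp [single, (hRP r hr).2],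
      fun r hr t => hv.2 r (hUP r hr) t⟩
  · rw [Finset.card_image_of_injective _ (fun χ χ' e => AddChar.ext _ _ fun t => by
      simpa [single] using congrFun (congrFun e a) t),
      Finset.card_erase_of_mem (Finset.mem_univ _), Finset.card_univ, AddChar.card_eq]
  · intro ψ hψ
    obtain ⟨χ, hχ, rfl⟩ := Finset.mem_image.1 hψ
    obtain ⟨t, ht⟩ := AddChar.ne_zero_iff.1 (Finset.ne_of_mem_erase hχ)
    exact ⟨⟨t, by simpa [single] using ht⟩, fun δ _ hne _ t => by simp [single, hne]⟩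

/-- The weights of some of the cells of a layer. -/
theorem cells_fam {R U nodes : List ℕ} {rk : ℕ → ℕ} {a m : ℕ} (hm : 0 < m)
    (hok : S.CellOK R U nodes rk a) {U' : List ℕ} (hU : U'.Nodup) (hsub : ∀ β ∈ U', β ∈ U)
    {T : Finset (Slots F)} (hT : S.Fam ρ R U m T) (hTa : ∀ ψ ∈ T, TopAt U rk a ψ) :
    ∃ all : Finset (Slots F), S.Fam ρ R U m all ∧
      T.card * (U'.map fun β => Fintype.card F ^ (rk β - rk a)).sum ≤ all.card ∧
      ∀ ψ ∈ all, ∃ β ∈ U', TopAt U rk β ψ := by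
  classical
  choose T' hT' hcard htop using S.cell ρ hm hok hT hTa
  let all : Finset (Slots F) :=
    U'.toFinset.attach.biUnion fun β => T' β.1 (hsub _ (List.mem_toFinset.1 β.2))
  have uniq : ∀ (β : ℕ) (hβ : β ∈ U) (β' : ℕ) (hβ' : β' ∈ U), ∀ ψ ∈ T' β hβ, ∀ ψ' ∈ T' β' hβ',
      AgreeOn U ψ ψ' → β = β' := by
    intro β hβ β' hβ' ψ hψ ψ' hψ' e
    by_contra hne
    obtain ⟨⟨t, ht⟩, h1⟩ := htop β hβ ψ hψ
    obtain ⟨⟨t', ht'⟩, h1'⟩ := htop β' hβ' ψ' hψ'
    rcases le_total (rk β) (rk β') with hle | hle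
    · exact ht' ((e β' hβ' t').symm.trans (h1 β' hβ' (Ne.symm hne) hle t'))
    · exact ht ((e β hβ t).trans (h1' β hβ hne hle t))
  refine ⟨all, ⟨fun ψ hψ ψ' hψ' e => ?_, fun ψ hψ => ?_⟩, ?_, fun ψ hψ => ?_⟩
  · obtain ⟨⟨β, hβ⟩, -, hψ⟩ := Finset.mem_biUnion.1 hψ
    obtain ⟨⟨β', hβ'⟩, -, hψ'⟩ := Finset.mem_biUnion.1 hψ'
    obtain rfl := uniq β (hsub _ (List.mem_toFinset.1 hβ)) β' (hsub _ (List.mem_toFinset.1 hβ'))
      ψ hψ ψ' hψ' e
    exact (hT' β _).sep ψ hψ ψ' hψ' e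
  · obtain ⟨⟨β, hβ⟩, -, hψ⟩ := Finset.mem_biUnion.1 hψ
    exact (hT' β _).rank ψ hψ
  · rw [Finset.card_biUnion, ← List.sum_toFinset _ hU, Finset.mul_sum]
    · rw [← Finset.sum_attach U'.toFinset]
      exact Finset.sum_le_sum fun β _ => hcard β.1 _
    · rintro ⟨β, hβ⟩ - ⟨β', hβ'⟩ - hne
      rw [Function.onFun, Finset.disjoint_left]
      exact fun ψ hψ hψ' => hne (Subtype.ext (uniq β _ β' _ ψ hψ ψ hψ' fun _ _ _ => rfl))
  · obtain ⟨⟨β, hβ⟩, -, hψ⟩ := Finset.mem_biUnion.1 hψ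
    exact ⟨β, List.mem_toFinset.1 hβ, htop β _ ψ hψ⟩

/-- The lower bound from one layer. -/
theorem layer_le {R U nodes : List ℕ} {rk : ℕ → ℕ} {a m : ℕ} (hm : 0 < m)
    (hok : S.CellOK R U nodes rk a) (hU : U.Nodup) {T : Finset (Slots F)}
    (hT : S.Fam ρ R U m T) (hTa : ∀ ψ ∈ T, TopAt U rk a ψ) :
    finrank ℂ (S.fix ρ (R ++ U)) +
      T.card * m * (U.map fun β => Fintype.card F ^ (rk β - rk a)).sum ≤
      finrank ℂ (S.fix ρ R) := by
  obtain ⟨all, hall, hcard, htop⟩ := S.cells_fam ρ hm hok hU (fun _ h => h) hT hTa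
  refine le_trans (Nat.add_le_add_left ?_ _) (Fam.card_add_fix_le S ρ hall fun ψ hψ e => ?_)
  · rw [mul_right_comm]
    exact Nat.mul_le_mul_right _ hcard
  · obtain ⟨β, hβ, ⟨t, ht⟩, -⟩ := htop ψ hψ
    exact ht (e β hβ t)

end SLRoots

end CfsgLib.MinDeg
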