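import Cfsg.Agent.Lib.MinDeg.SpWWeights
import Cfsg.Agent.Lib.MinDeg.SymOrbit

/-!
# Orbits of symmetric matrices of rank at least two

An orbit of symmetric matrices of rank at least two under congruence has at least
`(q^m - 1)(q^m - q)/(2(q+1))` elements: the pairs `(Y, v)` with `vᵀYv ≠ 0` are counted twice.
-/

set_option autoImplicit false
set_option linter.unusedSectionVars false
set_option linter.unusedSimpArgs false

namespace CfsgLib.MinDeg.SpW

open Matrix Finset

variable {F : Type*} [Field F]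

section Forms

variable {m : ℕ}

/-- The matrix is a multiple of a square of a vector. -/
def RankLeOne (X : Matrix (Fin m) (Fin m) F) : Prop :=
  ∃ (c : F) (v : Fin m → F), X = c • vecMulVec v v

theorem rankLeOne_congr (B : Matrix (Fin m) (Fin m) F) (hB : IsUnit B.det)
    {X : Matrix (Fin m) (Fin m) F} (h : RankLeOne (B * X * Bᵀ)) : RankLeOne X := by
  obtain ⟨c, v, e⟩ := h
  refine ⟨c, B⁻¹ *ᵥ v, ?_⟩
  have h1 : B⁻¹ * (B * X * Bᵀ) * (B⁻¹)ᵀ = X := by
    rw [← mul_assoc, ← mul_assoc, nonsing_inv_mul B hB, one_mul, mul_assoc, ← transpose_mul,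
      nonsing_inv_mul B hB, transpose_one, mul_one]
  rw [← h1, e, Matrix.mul_smul, Matrix.smul_mul, mul_vecMulVec, vecMulVec_mul, vecMul_transpose]

theorem dot_symm {X : Matrix (Fin m) (Fin m) F} (hX : Xᵀ = X) (y z : Fin m → F) :
    y ⬝ᵥ X *ᵥ z = z ⬝ᵥ X *ᵥ y := by
  rw [dotProduct_mulVec, ← mulVec_transpose, hX, dotProduct_comm]

/-- A symmetric matrix of rank at least two has two orthogonal anisotropic vectors. -/
theorem exists_orth_pair (h2 : (2 : F) ≠ 0) {X : Matrix (Fin m) (Fin m) F} (hX : Xᵀ = X)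
    (hr : ¬ RankLeOne X) :
    ∃ v z, v ⬝ᵥ X *ᵥ v ≠ 0 ∧ v ⬝ᵥ X *ᵥ z = 0 ∧ z ⬝ᵥ X *ᵥ z ≠ 0 := by
  classical
  obtain ⟨v, hv⟩ : ∃ v, v ⬝ᵥ X *ᵥ v ≠ 0 := by
    by_contra hall
    push Not at hall
    refine hr ⟨0, 0, ?_⟩
    ext i j
    have := hall (Pi.single i 1 + Pi.single j 1)
    have hi := hall (Pi.single i 1)
    have hj := hall (Pi.single j 1)
    simp only [mulVec_add, add_dotProduct, dotProduct_add, mulVec_single_one,
      single_one_dotProduct, col_apply] at this hi hj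
    rw [hi, hj, show X j i = X i j by rw [← congrFun (congrFun hX i) j, transpose_apply]] at this
    simp only [zero_smul, Matrix.zero_apply]
    exact (mul_eq_zero.1 (show (2 : F) * X i j = 0 by linear_combination this)).resolve_left h2
  set a := v ⬝ᵥ X *ᵥ v with ha
  by_contra hcon
  push Not at hcon
  have hb : ∀ z, v ⬝ᵥ X *ᵥ z = 0 → z ⬝ᵥ X *ᵥ z = 0 := fun z hz => hcon v z hv hz
  have hker : ∀ z, v ⬝ᵥ X *ᵥ z = 0 → X *ᵥ z = 0 := by
    intro z hz
    refine dotProduct_eq_zero_iff.1 fun w => ?_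
    rw [dotProduct_comm]
    set w' := w - ((v ⬝ᵥ X *ᵥ w) / a) • v
    have hw' : v ⬝ᵥ X *ᵥ w' = 0 := by
      simp only [w', mulVec_sub, mulVec_smul, dotProduct_sub, dotProduct_smul, smul_eq_mul, ← ha]
      rw [div_mul_cancel₀ _ hv, sub_self]
    have e1 := hb (w' + z) (by simp [mulVec_add, hw', hz])
    simp only [mulVec_add, add_dotProduct, dotProduct_add, hb z hz, hb w' hw', dot_symm hX z w']
      at e1
    have e2 : w' ⬝ᵥ X *ᵥ z = 0 :=
      (mul_eq_zero.1 (show (2 : F) * (w' ⬝ᵥ X *ᵥ z) = 0 by linear_combination e1)).resolve_left h2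
    simp only [w', sub_dotProduct, smul_dotProduct, hz, smul_eq_mul, mul_zero, sub_zero] at e2
    exact e2
  refine hr ⟨a⁻¹, X *ᵥ v, Matrix.ext_of_mulVec_single fun i => ?_⟩
  set z := (Pi.single i 1 : Fin m → F)
  have h1 : X *ᵥ (z - ((v ⬝ᵥ X *ᵥ z) / a) • v) = 0 := hker _ (by
    rw [mulVec_sub, mulVec_smul, dotProduct_sub, dotProduct_smul, smul_eq_mul, ← ha,
      div_mul_cancel₀ _ hv, sub_self])
  rw [mulVec_sub, mulVec_smul, sub_eq_zero] at h1
  rw [h1, smul_mulVec, vecMulVec_mulVec, op_smul_eq_smul, smul_smul, dotProduct_comm (X *ᵥ v),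
    ← dot_symm hX]
  congr 1
  rw [div_eq_mul_inv, mul_comm]

variable [Fintype F]

/-- A quadratic form with two orthogonal anisotropic vectors has at least `q^(m-2)` zeros. -/
theorem card_zeros (h2 : (2 : F) ≠ 0) {X : Matrix (Fin m) (Fin m) F} (hX : Xᵀ = X)
    (hr : ¬ RankLeOne X) [DecidableEq F] :
    Fintype.card F ^ (m - 2) ≤ #{v : Fin m → F | v ⬝ᵥ X *ᵥ v = 0} := by
  classical
  obtain ⟨v, z, ha, hvz, hb⟩ := exists_orth_pair h2 hX hr
  let φ : (Fin m → F) →ₗ[F] F × F :=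
    { toFun := fun u => (v ⬝ᵥ X *ᵥ u, z ⬝ᵥ X *ᵥ u)
      map_add' := fun u u' => by simp [mulVec_add, dotProduct_add]
      map_smul' := fun r u => by simp [mulVec_smul, dotProduct_smul] }
  have hdim : m - 2 ≤ Module.finrank F (LinearMap.ker φ) := by
    have h := LinearMap.finrank_range_add_finrank_ker φ
    have h' := Submodule.finrank_le (LinearMap.range φ)
    simp only [Module.finrank_prod, Module.finrank_self, Module.finrank_fin_fun] at h h'
    omega
  have hrep : ∀ u : LinearMap.ker φ, ∃ x : F × F,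
      (v ⬝ᵥ X *ᵥ v) * x.1 ^ 2 + (z ⬝ᵥ X *ᵥ z) * x.2 ^ 2 = -((u : Fin m → F) ⬝ᵥ X *ᵥ u) := fun u => by
    obtain ⟨x, y, h⟩ := exists_sq_add h2 ha hb (-((u : Fin m → F) ⬝ᵥ X *ᵥ u))
    exact ⟨(x, y), h⟩
  choose x hx using hrep
  calc Fintype.card F ^ (m - 2) ≤ Fintype.card F ^ Module.finrank F (LinearMap.ker φ) :=
        Nat.pow_le_pow_right Fintype.card_pos hdim
    _ = #(univ : Finset (LinearMap.ker φ)) := by
        rw [card_univ]; exact (Module.card_eq_pow_finrank (K := F) (V := LinearMap.ker φ)).symm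
    _ ≤ _ := by
        refine card_le_card_of_injOn (fun u => (x u).1 • v + (x u).2 • z + u) (fun u _ => ?_) ?_
        · have hu := LinearMap.mem_ker.1 u.2
          simp only [φ, LinearMap.coe_mk, AddHom.coe_mk, Prod.mk_eq_zero] at hu
          simp only [coe_filter, mem_univ, true_and, Set.mem_setOf_eq, mulVec_add, mulVec_smul,
            add_dotProduct, dotProduct_add, smul_dotProduct, dotProduct_smul, smul_eq_mul, hvz,
            dot_symm hX z v, dot_symm hX (u : Fin m → F) v, dot_symm hX (u : Fin m → F) z, hu.1, hu.2]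
          linear_combination hx u
        · intro u _ u' _ h
          have hu := LinearMap.mem_ker.1 u.2
          have hu' := LinearMap.mem_ker.1 u'.2
          simp only [φ, LinearMap.coe_mk, AddHom.coe_mk, Prod.mk_eq_zero] at hu hu'
          have e1 := congrArg (fun w => v ⬝ᵥ X *ᵥ w) h
          have e2 := congrArg (fun w => z ⬝ᵥ X *ᵥ w) h
          simp only [mulVec_add, mulVec_smul, dotProduct_add, dotProduct_smul, smul_eq_mul, hvz,
            dot_symm hX z v, hu.1, hu.2, hu'.1, hu'.2, mul_zero, add_zero, zero_add] at e1 e2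
          have f1 := mul_right_cancel₀ ha e1
          have f2 := mul_right_cancel₀ hb e2
          simp only [f1, f2] at h
          exact Subtype.ext (add_left_cancel h)

/-- Every value off zero is represented. -/
theorem exists_represent (h2 : (2 : F) ≠ 0) {X : Matrix (Fin m) (Fin m) F} (hX : Xᵀ = X)
    (hr : ¬ RankLeOne X) {ν : F} (hν : ν ≠ 0) : ∃ w, w ≠ 0 ∧ w ⬝ᵥ X *ᵥ w = ν := by
  obtain ⟨v, z, ha, hvz, hb⟩ := exists_orth_pair h2 hX hr
  obtain ⟨x, y, hxy⟩ := exists_sq_add h2 ha hb ν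
  have e : (x • v + y • z) ⬝ᵥ X *ᵥ (x • v + y • z) = ν := by
    simp only [mulVec_add, mulVec_smul, add_dotProduct, dotProduct_add, smul_dotProduct,
      dotProduct_smul, smul_eq_mul, hvz, dot_symm hX z v]
    linear_combination hxy
  exact ⟨_, fun h => hν (by rw [← e, h]; simp), e⟩

theorem symOrbit_self {X : Matrix (Fin m) (Fin m) F} : X ∈ symOrbit X :=
  mem_symOrbit.2 ⟨1, by simp, by simp⟩

theorem symOrbit_congr {X Y : Matrix (Fin m) (Fin m) F} (hY : Y ∈ symOrbit X)
    {B : Matrix (Fin m) (Fin m) F} (hB : B.det ≠ 0) : B * Y * Bᵀ ∈ symOrbit X := by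
  obtain ⟨A, hA, rfl⟩ := mem_symOrbit.1 hY
  exact mem_symOrbit.2 ⟨B * A, by simp [hA, hB], by simp only [transpose_mul, mul_assoc]⟩

theorem symOrbit_rank {X Y : Matrix (Fin m) (Fin m) F} (hX : Xᵀ = X) (hr : ¬ RankLeOne X)
    (hY : Y ∈ symOrbit X) : Yᵀ = Y ∧ ¬ RankLeOne Y := by
  obtain ⟨B, hB, rfl⟩ := mem_symOrbit.1 hY
  refine ⟨?_, fun h => hr (rankLeOne_congr B (Ne.isUnit hB) h)⟩
  rw [transpose_mul, transpose_mul, transpose_transpose, hX, mul_assoc]

/-- The orbit contains a matrix with a prescribed first column of nonzero diagonal entry. -/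
theorem exists_col (h2 : (2 : F) ≠ 0) (hm : 2 ≤ m) {X : Matrix (Fin m) (Fin m) F} (hX : Xᵀ = X)
    (hr : ¬ RankLeOne X) {v u : Fin m → F} (hu : v ⬝ᵥ u ≠ 0) :
    ∃ Y ∈ symOrbit X, Y *ᵥ v = u := by
  classical
  have hv0 : v ≠ 0 := fun h => hu (by simp [h])
  obtain ⟨w, hw0, hw⟩ := exists_represent h2 hX hr hu
  obtain ⟨B, hB, hBv⟩ := exists_det_one_mulVec hm v w hv0 hw0
  set u₂ := Bᵀ *ᵥ (X *ᵥ w) with hu₂
  have hφ : v ⬝ᵥ u₂ = v ⬝ᵥ u := by
    rw [hu₂, dotProduct_mulVec, vecMul_transpose, hBv, hw]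
  set C := 1 + vecMulVec ((v ⬝ᵥ u)⁻¹ • (u - u₂)) v with hC
  have hdC : C.det = 1 := by
    rw [hC, det_one_add_vecMulVec, dotProduct_smul, dotProduct_sub, hφ]; simp
  have hCv : Cᵀ *ᵥ v = v := by
    rw [hC, transpose_add, transpose_one, transpose_vecMulVec, one_add_vecMulVec_mulVec,
      smul_dotProduct, sub_dotProduct, dotProduct_comm u v, dotProduct_comm u₂ v, hφ]
    simp
  refine ⟨_, mem_symOrbit.2 ⟨C * Bᵀ, by simp [hdC, hB], rfl⟩, ?_⟩
  rw [transpose_mul, transpose_transpose]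
  simp only [← mulVec_mulVec, hCv, hBv, ← hu₂]
  rw [hC, one_add_vecMulVec_mulVec, hφ, smul_smul, mul_inv_cancel₀ hu, one_smul, add_sub_cancel]

end Forms

section Split

variable {k : ℕ}

/-- The block diagonal matrix of a scalar and a matrix. -/
def blk (a : F) (Z : Matrix (Fin k) (Fin k) F) : Matrix (Fin (k + 1)) (Fin (k + 1)) F :=
  Matrix.of <| Fin.cons (Fin.cons a 0) fun i => Fin.cons 0 (Z i)

@[simp] theorem blk_zero_zero (a : F) (Z : Matrix (Fin k) (Fin k) F) : blk a Z 0 0 = a := rfl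

@[simp] theorem blk_zero_succ (a : F) (Z : Matrix (Fin k) (Fin k) F) (j : Fin k) :
    blk a Z 0 j.succ = 0 := by simp [blk]

@[simp] theorem blk_succ_zero (a : F) (Z : Matrix (Fin k) (Fin k) F) (i : Fin k) :
    blk a Z i.succ 0 = 0 := by simp [blk]

@[simp] theorem blk_succ_succ (a : F) (Z : Matrix (Fin k) (Fin k) F) (i j : Fin k) :
    blk a Z i.succ j.succ = Z i j := by simp [blk]

theorem blk_mul (a b : F) (A B : Matrix (Fin k) (Fin k) F) :
    blk a A * blk b B = blk (a * b) (A * B) := by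
  ext i j
  refine Fin.cases ?_ (fun i => ?_) i <;> refine Fin.cases ?_ (fun j => ?_) j <;>
    simp [mul_apply, Fin.sum_univ_succ]

theorem blk_one : blk (1 : F) (1 : Matrix (Fin k) (Fin k) F) = 1 := by
  ext i j
  refine Fin.cases ?_ (fun i => ?_) i <;> refine Fin.cases ?_ (fun j => ?_) j <;>
    simp [one_apply, (Fin.succ_ne_zero _).symm]

theorem blk_transpose (a : F) (Z : Matrix (Fin k) (Fin k) F) : (blk a Z)ᵀ = blk a Zᵀ := by
  ext i j
  refine Fin.cases ?_ (fun i => ?_) i <;> refine Fin.cases ?_ (fun j => ?_) j <;>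
    simp [transpose_apply]

theorem blk_det_ne_zero (B : Matrix (Fin k) (Fin k) F) (hB : B.det ≠ 0) :
    (blk 1 B).det ≠ 0 := by
  have h := congrArg Matrix.det (blk_mul (1 : F) 1 B B⁻¹)
  rw [mul_one, mul_nonsing_inv B (Ne.isUnit hB), blk_one, det_one, det_mul] at h
  exact left_ne_zero_of_mul_eq_one h

variable [Fintype F]

theorem card_symOrbit_of_pos (h2 : (2 : F) ≠ 0) (hk : 1 ≤ k) (Z : Matrix (Fin k) (Fin k) F)
    (hZ : Zᵀ = Z) (hZ0 : Z ≠ 0) : Fintype.card F ^ k - 1 ≤ 2 * (symOrbit Z).card := by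
  classical
  rcases Nat.lt_or_ge k 2 with h | h
  · obtain rfl : k = 1 := by omega
    have hz : Z 0 0 ≠ 0 := fun h0 => hZ0 (by ext i j; fin_cases i; fin_cases j; simpa using h0)
    have hsub : ({b : F | b ≠ 0} : Finset F).image
        (fun b => Matrix.of fun _ _ : Fin 1 => b ^ 2 * Z 0 0) ⊆ symOrbit Z := by
      intro Y hY
      obtain ⟨b, hb, rfl⟩ := mem_image.1 hY
      simp only [mem_filter, mem_univ, true_and] at hb
      refine mem_symOrbit.2 ⟨Matrix.of fun _ _ => b, by simpa [det_fin_one] using hb, ?_⟩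
      ext i j
      fin_cases i; fin_cases j
      simp [mul_apply]; ring
    calc Fintype.card F ^ 1 - 1 = #({b : F | b ≠ 0} : Finset F) := by
          rw [pow_one, filter_ne', card_erase_of_mem (mem_univ _), card_univ]
      _ ≤ 2 * #(({b : F | b ≠ 0} : Finset F).image
            (fun b => Matrix.of fun _ _ : Fin 1 => b ^ 2 * Z 0 0)) := by
          refine card_le_mul_card_image _ _ fun Y hY => ?_
          obtain ⟨b₀, -, rfl⟩ := mem_image.1 hY
          refine (card_le_card (t := {b₀, -b₀}) fun b hb => ?_).trans card_le_two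
          simp only [mem_filter] at hb
          have := congrFun (congrFun hb.2 0) 0
          simp only [of_apply] at this
          simpa using sq_eq_sq_iff_eq_or_eq_neg.1 (mul_right_cancel₀ hz this)
      _ ≤ _ := Nat.mul_le_mul_left _ (card_le_card hsub)
  · exact card_symOrbit h2 h Z hZ hZ0

/-- Many matrices in the orbit have nonzero first diagonal entry. -/
theorem card_first_ne_zero [DecidableEq F] (h2 : (2 : F) ≠ 0) (hk : 1 ≤ k)
    {X : Matrix (Fin (k + 1)) (Fin (k + 1)) F} (hX : Xᵀ = X) (hr : ¬ RankLeOne X) :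
    (Fintype.card F - 1) * Fintype.card F ^ k * (Fintype.card F ^ k - 1) ≤
      2 * #((symOrbit X).filter fun Y => Y 0 0 ≠ 0) := by
  classical
  set q := Fintype.card F
  let U : Finset (Fin (k + 1) → F) := {u | u 0 ≠ 0}
  have hU : #U = (q - 1) * q ^ k := by
    have : U = ((univ.erase (0 : F)) ×ˢ (univ : Finset (Fin k → F))).map
        (Fin.consEquiv fun _ => F).toEmbedding := by
      ext u
      simp only [U, mem_filter, mem_univ, true_and, mem_map, Equiv.coe_toEmbedding, mem_product,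
        mem_erase, and_true, Prod.exists]
      refine ⟨fun h => ⟨u 0, Fin.tail u, h, by simp [Fin.consEquiv]⟩, ?_⟩
      rintro ⟨a, t, ha, rfl⟩
      simpa [Fin.consEquiv] using ha
    rw [this, card_map, card_product, card_erase_of_mem (mem_univ _), card_univ, card_univ,
      Fintype.card_fun, Fintype.card_fin]
  let w : (Fin (k + 1) → F) → Fin (k + 1) → F := fun u =>
    Fin.cons 0 fun i => u i.succ / u 0
  let L : (Fin (k + 1) → F) → Matrix (Fin (k + 1)) (Fin (k + 1)) F := fun u =>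
    1 + vecMulVec (w u) (Pi.single 0 1)
  let L' : (Fin (k + 1) → F) → Matrix (Fin (k + 1)) (Fin (k + 1)) F := fun u =>
    1 + vecMulVec (-w u) (Pi.single 0 1)
  have hLd : ∀ u, (L u).det = 1 := fun u => by
    simp [L, w, det_one_add_vecMulVec]
  have hLL : ∀ u, L u * L' u = 1 := fun u => by
    have hz : vecMulVec (w u) (Pi.single (0 : Fin (k + 1)) (1 : F)) *
        vecMulVec (-w u) (Pi.single (0 : Fin (k + 1)) (1 : F)) = 0 := by
      ext a b
      rw [mul_apply, Finset.sum_eq_single 0 (fun x _ hx => by simp [vecMulVec_apply, hx])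
        (by simp)]
      simp [vecMulVec_apply, w]
    have key : ∀ A B : Matrix (Fin (k + 1)) (Fin (k + 1)) F,
        A * B = 0 → A + B = 0 → (1 + A) * (1 + B) = 1 := fun A B h h' => by
      rw [Matrix.mul_add, Matrix.mul_one, Matrix.add_mul, Matrix.one_mul, h, add_zero, add_assoc,
        h', add_zero]
    exact key _ _ hz (by rw [← add_vecMulVec]; simp)
  have hL'L : ∀ u, L' u * L u = 1 := fun u => mul_eq_one_comm.1 (hLL u)
  have hLe : ∀ u, u 0 ≠ 0 → u 0 • (L u *ᵥ Pi.single 0 1) = u := fun u hu => by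
    funext i
    refine Fin.cases ?_ (fun i => ?_) i <;>
      simp [L, w, vecMulVec_apply, one_apply, Fin.succ_ne_zero, mul_div_cancel₀ _ hu]
  have hLt : ∀ u, (L u)ᵀ *ᵥ Pi.single 0 1 = Pi.single 0 1 ∧
      (L' u)ᵀ *ᵥ Pi.single 0 1 = Pi.single 0 1 := fun u => by
    constructor <;> funext i <;> refine Fin.cases ?_ (fun i => ?_) i <;>
      simp [L, L', w, vecMulVec_apply, one_apply, transpose_apply, Fin.succ_ne_zero]
  have hR : ∀ u ∈ U, ∃ R : Matrix (Fin k) (Fin k) F, Rᵀ = R ∧ R ≠ 0 ∧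
      L u * blk (u 0) R * (L u)ᵀ ∈ symOrbit X := by
    intro u hu
    simp only [U, mem_filter, mem_univ, true_and] at hu
    obtain ⟨Y, hY, hYu⟩ := exists_col h2 (by omega) hX hr (v := Pi.single 0 1) (u := u)
      (by simpa using hu)
    obtain ⟨hYs, hYr⟩ := symOrbit_rank hX hr hY
    set D := L' u * Y * (L' u)ᵀ with hD
    have hDs : Dᵀ = D := by
      rw [hD, transpose_mul, transpose_mul, transpose_transpose, hYs, mul_assoc]
    have hDe : D *ᵥ Pi.single 0 1 = Pi.single 0 (u 0) := by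
      rw [hD, ← mulVec_mulVec, (hLt u).2, ← mulVec_mulVec, hYu]
      have := congrArg (fun x => L' u *ᵥ x) (hLe u hu)
      simp only [mulVec_smul, mulVec_mulVec, hL'L, one_mulVec] at this
      rw [← this]
      rw [← Pi.single_smul]; simp
    have hDb : D = blk (u 0) (D.submatrix Fin.succ Fin.succ) := by
      have h0 : ∀ i, D i 0 = (Pi.single 0 (u 0) : Fin (k + 1) → F) i := fun i => by
        rw [← hDe]; simp
      ext i j
      refine Fin.cases ?_ (fun i => ?_) i <;> refine Fin.cases ?_ (fun j => ?_) j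
      · simpa using h0 0
      · rw [blk_zero_succ, ← hDs, transpose_apply, h0]; simp [Fin.succ_ne_zero]
      · rw [blk_succ_zero, h0]; simp [Fin.succ_ne_zero]
      · simp
    have hLD : L u * D * (L u)ᵀ = Y := by
      rw [hD, ← mul_assoc, ← mul_assoc, hLL, one_mul, mul_assoc, ← transpose_mul, hLL,
        transpose_one, mul_one]
    refine ⟨D.submatrix Fin.succ Fin.succ, ?_, fun h0 => hYr ?_, ?_⟩
    · rw [transpose_submatrix, hDs]
    · rw [← hLD, hDb, h0]
      refine ⟨u 0, L u *ᵥ Pi.single 0 1, ?_⟩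
      rw [show blk (u 0) (0 : Matrix (Fin k) (Fin k) F) =
        u 0 • vecMulVec (Pi.single 0 1) (Pi.single 0 1) from ?_, Matrix.mul_smul, Matrix.smul_mul,
        mul_vecMulVec, vecMulVec_mul, vecMul_transpose]
      ext i j
      refine Fin.cases ?_ (fun i => ?_) i <;> refine Fin.cases ?_ (fun j => ?_) j <;>
        simp [vecMulVec_apply, Fin.succ_ne_zero]
    · rwa [← hDb, hLD]
  choose! R hRs hR0 hRm using hR
  have hsig : #(U.sigma fun u => symOrbit (R u)) ≤ #((symOrbit X).filter fun Y => Y 0 0 ≠ 0) := by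
    have hcol : ∀ u, u 0 ≠ 0 → ∀ Z : Matrix (Fin k) (Fin k) F,
        (L u * blk (u 0) Z * (L u)ᵀ) *ᵥ Pi.single 0 1 = u := fun u hu Z => by
      rw [← mulVec_mulVec, (hLt u).1, ← mulVec_mulVec,
        show blk (u 0) Z *ᵥ Pi.single 0 1 = u 0 • Pi.single 0 1 from ?_, mulVec_smul, hLe u hu]
      funext i
      refine Fin.cases ?_ (fun i => ?_) i <;> simp [Fin.succ_ne_zero]
    refine card_le_card_of_injOn (fun p => L p.1 * blk (p.1 0) p.2 * (L p.1)ᵀ) ?_ ?_
    · rintro ⟨u, Z⟩ hp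
      simp only [mem_coe, mem_sigma] at hp
      obtain ⟨hu, hZ⟩ := hp
      obtain ⟨B, hB, rfl⟩ := mem_symOrbit.1 hZ
      have hu' : u 0 ≠ 0 := by simpa [U] using hu
      simp only [mem_coe, mem_filter]
      refine ⟨?_, ?_⟩
      · have := symOrbit_congr (hRm u hu) (B := L u * blk 1 B * L' u) (by
          have hL' : (L' u).det ≠ 0 := fun h => by
            have := congrArg Matrix.det (hLL u)
            simp [h] at this
          simp [det_mul, hLd, blk_det_ne_zero B hB, hL'])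
        convert this using 1
        simp only [transpose_mul, mul_assoc]
        rw [← mul_assoc (L' u) (L u), hL'L, one_mul, ← mul_assoc ((L u)ᵀ) ((L' u)ᵀ),
          ← transpose_mul, hL'L, transpose_one, one_mul, blk_transpose,
          ← mul_assoc (blk (u 0) (R u)), blk_mul, ← mul_assoc (blk 1 B), blk_mul, one_mul, mul_one]
      · have := congrFun (hcol u hu' (B * R u * Bᵀ)) 0
        rw [mulVec_single_one] at this
        rwa [show (L u * blk (u 0) (B * R u * Bᵀ) * (L u)ᵀ) 0 0 = u 0 from this]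
    · rintro ⟨u, Z⟩ hp ⟨u', Z'⟩ hp' h
      simp only [mem_coe, mem_sigma] at hp hp'
      have hu : u 0 ≠ 0 := by simpa [U] using hp.1
      have hu' : u' 0 ≠ 0 := by simpa [U] using hp'.1
      simp only at h
      obtain rfl : u = u' := by rw [← hcol u hu Z, h, hcol u' hu']
      have h' := congrArg (fun M => L' u * M * (L' u)ᵀ) h
      simp only [← mul_assoc, hL'L, one_mul] at h'
      simp only [mul_assoc, ← transpose_mul, hL'L, transpose_one, mul_one] at h'
      obtain rfl : Z = Z' := by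
        ext i j
        simpa using congrFun (congrFun h' i.succ) j.succ
      rfl
  rw [card_sigma] at hsig
  calc (q - 1) * q ^ k * (q ^ k - 1) = ∑ _u ∈ U, (q ^ k - 1) := by
        rw [sum_const, hU, smul_eq_mul]
    _ ≤ ∑ u ∈ U, 2 * #(symOrbit (R u)) :=
        sum_le_sum fun u hu => card_symOrbit_of_pos h2 hk _ (hRs u hu) (hR0 u hu)
    _ ≤ _ := by rw [← mul_sum]; exact Nat.mul_le_mul_left _ hsig

end Split

variable [Fintype F] {m : ℕ}

/-- The orbit bound in rank at least two. -/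
theorem card_symOrbit_gap (h2 : (2 : F) ≠ 0) (hm : 2 ≤ m) {X : Matrix (Fin m) (Fin m) F}
    (hX : Xᵀ = X) (hr : ¬ RankLeOne X) :
    (Fintype.card F ^ m - 1) * (Fintype.card F ^ m - Fintype.card F) ≤
      2 * (Fintype.card F + 1) * #(symOrbit X) := by
  classical
  obtain ⟨k, rfl⟩ : ∃ k, m = k + 1 := ⟨m - 1, by omega⟩
  obtain ⟨j, rfl⟩ : ∃ j, k = j + 1 := ⟨k - 1, by omega⟩
  set q := Fintype.card F
  set O := symOrbit X with hO
  set A := (q - 1) * q ^ (j + 1) * (q ^ (j + 1) - 1)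
  have hA := card_first_ne_zero h2 (by omega) hX hr
  have hdouble : (q ^ (j + 1 + 1) - 1) * A ≤ 2 * (#O * (q ^ (j + 1 + 1) - q ^ j)) := by
    have hv : ∀ v : Fin (j + 1 + 1) → F, v ≠ 0 →
        A ≤ 2 * #(O.filter fun Y => v ⬝ᵥ Y *ᵥ v ≠ 0) := by
      intro v hv
      refine hA.trans (Nat.mul_le_mul_left _ ?_)
      obtain ⟨B, hB, hBv⟩ := exists_det_one_mulVec hm v (Pi.single 0 1) hv (by simp)
      refine card_le_card_of_injOn (fun Y => Bᵀ * Y * B) (fun Y hY => ?_) (fun Y _ Y' _ h => ?_)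
      · simp only [mem_coe, mem_filter] at hY ⊢
        refine ⟨by simpa using symOrbit_congr hY.1 (B := Bᵀ) (by simp [hB]), ?_⟩
        rw [← mulVec_mulVec, ← mulVec_mulVec, hBv, dotProduct_mulVec, vecMul_transpose, hBv]
        simpa using hY.2
      · have hu : IsUnit B.det := by simp [hB]
        have hu' : IsUnit (Bᵀ).det := by simp [hB]
        have h' := congrArg (fun M => Bᵀ⁻¹ * M * B⁻¹) h
        simp only [← mul_assoc, nonsing_inv_mul _ hu', one_mul] at h'
        simpa only [mul_assoc, mul_nonsing_inv _ hu, mul_one] using h'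
    have hY : ∀ Y ∈ O, #{v : Fin (j + 1 + 1) → F | v ⬝ᵥ Y *ᵥ v ≠ 0} ≤
        q ^ (j + 1 + 1) - q ^ j := by
      intro Y hY
      obtain ⟨hs, hr'⟩ := symOrbit_rank hX hr hY
      have h := card_zeros h2 hs hr'
      have hsum := Finset.card_filter_add_card_filter_not (s := (univ : Finset (Fin (j + 1 + 1) → F)))
        (fun v => v ⬝ᵥ Y *ᵥ v = 0)
      rw [card_univ, Fintype.card_fun, Fintype.card_fin] at hsum
      simp only [Nat.add_sub_cancel, show j + 1 + 1 - 2 = j by omega] at h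
      simp only [ne_eq]
      change q ^ j ≤ _ at h
      change _ + _ = q ^ _ at hsum
      omega
    have hswap : ∑ v : Fin (j + 1 + 1) → F, #(O.filter fun Y => v ⬝ᵥ Y *ᵥ v ≠ 0) =
        ∑ Y ∈ O, #{v : Fin (j + 1 + 1) → F | v ⬝ᵥ Y *ᵥ v ≠ 0} := by
      simp only [card_filter]
      exact sum_comm
    calc (q ^ (j + 1 + 1) - 1) * A
        = ∑ _v ∈ (univ : Finset (Fin (j + 1 + 1) → F)).erase 0, A := by
          rw [sum_const, card_erase_of_mem (mem_univ _), card_univ, Fintype.card_fun,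
            Fintype.card_fin, smul_eq_mul]
      _ ≤ ∑ v ∈ (univ : Finset (Fin (j + 1 + 1) → F)).erase 0,
            2 * #(O.filter fun Y => v ⬝ᵥ Y *ᵥ v ≠ 0) :=
          sum_le_sum fun v hv' => hv v (ne_of_mem_erase hv')
      _ ≤ ∑ v : Fin (j + 1 + 1) → F, 2 * #(O.filter fun Y => v ⬝ᵥ Y *ᵥ v ≠ 0) :=
          sum_le_sum_of_subset (subset_univ _)
      _ ≤ 2 * (#O * (q ^ (j + 1 + 1) - q ^ j)) := by
          rw [← mul_sum, hswap]
          exact Nat.mul_le_mul_left _ ((sum_le_sum hY).trans_eq (by rw [sum_const, smul_eq_mul]))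
  have hq : 2 ≤ q := Fintype.one_lt_card
  have e1 : q ^ (j + 1 + 1) - q ^ j = q ^ j * (q - 1) * (q + 1) := by
    refine Nat.sub_eq_of_eq_add ?_
    obtain ⟨r, hr'⟩ : ∃ r, q = r + 1 := ⟨q - 1, by omega⟩
    rw [hr', Nat.add_sub_cancel]; ring
  have e2 : q * (q ^ (j + 1) - 1) = q ^ (j + 1 + 1) - q := by
    rw [Nat.mul_sub, mul_one, ← pow_succ']
  rw [e1] at hdouble
  refine Nat.le_of_mul_le_mul_left ?_ (show 0 < q ^ j * (q - 1) by
    exact Nat.mul_pos (pow_pos (by omega) _) (by omega))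
  calc q ^ j * (q - 1) * ((q ^ (j + 1 + 1) - 1) * (q ^ (j + 1 + 1) - q))
      = (q ^ (j + 1 + 1) - 1) * A := by rw [← e2]; simp only [A]; ring
    _ ≤ 2 * (#O * (q ^ j * (q - 1) * (q + 1))) := hdouble
    _ = _ := by ring

end CfsgLib.MinDeg.SpW
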