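import Cfsg.Agent.Lib.MinDeg.SpWSpan
import Cfsg.Agent.Lib.MinDeg.SpWOrbit
import Cfsg.Agent.Lib.MinDeg.TraceWeight
import Cfsg.Agent.Lib.Char.Basic
import Mathlib.NumberTheory.LegendreSymbol.QuadraticChar.Basic

/-!
# Irreducible representations of small degree: the gap and the invariants

Below the gap all weights have rank one, so the degree is one of the two Weil degrees, and the
class of the weight together with the central sign determines the character.
-/

set_option autoImplicit false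
set_option linter.unusedSectionVars false
set_option linter.unusedSimpArgs false

namespace CfsgLib.MinDeg.SpW

open Matrix Module

variable {F : Type*} [Field F] [Fintype F] {m : ℕ} {e : AddChar F ℂ} (he : e ≠ 0)
  (h2 : (2 : F) ≠ 0) (hm : 2 ≤ m)

variable (e) in
/-- The weight of a symmetric matrix. -/
def chiX (X : Sm F m) : AddChar (Sm F m) ℂ where
  toFun H := e (H.1 * X.1).trace
  map_zero_eq_one' := by simp
  map_add_eq_mul' H K := by simp [Matrix.add_mul, e.map_add_eq_mul]

include he h2 in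
theorem chiX_bijective : Function.Bijective (chiX (m := m) e) := by
  classical
  refine (Fintype.bijective_iff_injective_and_card _).2 ⟨fun X X' h => ?_, AddChar.card_eq.symm⟩
  by_contra hne
  obtain ⟨i, j, hij⟩ : ∃ i j, X.1 i j ≠ X'.1 i j := by
    by_contra hall; push Not at hall; exact hne (Subtype.ext (Matrix.ext hall))
  refine hij (mul_left_cancel₀ h2 (sep he fun t => ?_))
  have hH : (single i j t + single j i t : Matrix (Fin m) (Fin m) F) ∈ Sm F m := by
    show _ᵀ = _
    rw [transpose_add, transpose_single, transpose_single, add_comm]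
  have := DFunLike.congr_fun h ⟨_, hH⟩
  change e _ = e _ at this
  simp only [Matrix.add_mul, trace_add, trace_single_mul, smul_eq_mul] at this
  rw [apply_symH X j i, apply_symH X' j i, ← two_mul, ← two_mul] at this
  rw [show t * (2 * X.1 i j) = 2 * (t * X.1 i j) by ring,
    show t * (2 * X'.1 i j) = 2 * (t * X'.1 i j) by ring]
  exact this

theorem qv_eq_trace (H : Sm F m) (v : Fin m → F) : qv H v = (H.1 * vecMulVec v v).trace := by
  rw [mul_vecMulVec, trace_vecMulVec, qv, dotProduct_comm]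

variable {V : Type*} [AddCommGroup V] [Module ℂ V] [FiniteDimensional ℂ V]
  (ρ : Representation ℂ (Spm F m) V)

include he h2 hm in
/-- Below the gap all weights have rank one. -/
theorem R1_of_finrank_lt (h : 2 * (Fintype.card F + 1) * finrank ℂ V <
    (Fintype.card F ^ m - 1) * (Fintype.card F ^ m - Fintype.card F)) : R1 e ρ := by
  classical
  intro ψ hψ
  obtain ⟨X, rfl⟩ := (chiX_bijective he h2).2 ψ
  by_contra hcon
  have hr : ¬ RankLeOne X.1 := by
    rintro ⟨c, v, hX⟩
    refine hcon ⟨c, v, AddChar.ext _ _ fun H => ?_⟩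
    show e _ = e (c * qv H v)
    rw [hX, Matrix.mul_smul, trace_smul, qv_eq_trace, smul_eq_mul]
  have horb : ∀ Y ∈ symOrbit X.1, Y ∈ Sm F m := fun Y hY => (symOrbit_rank (symH X) hr hY).1
  have hgap := card_symOrbit_gap h2 hm (symH X) hr
  have h1 := orbit_mul_le_finrank ρ upp (chiX e X) 1 (one_le_finrank_of_ne_bot hψ)
    ((symOrbit X.1).attach.image fun Y => chiX e ⟨Y.1, horb _ Y.2⟩) fun ψ' hψ' => by
      obtain ⟨⟨Y, hY⟩, -, rfl⟩ := Finset.mem_image.1 hψ'
      obtain ⟨B, hB, rfl⟩ := mem_symOrbit.1 hY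
      let G : GL (Fin m) F := ((isUnit_iff_isUnit_det B).2 (Ne.isUnit hB)).unit
      refine ⟨gl G, cong G, gl_mul_upp G, fun H => ?_⟩
      show e ((cong G H).1 * (B * X.1 * Bᵀ)).trace = e (H.1 * X.1).trace
      congr 1
      have hG : G.1 = B := rfl
      have i1 : (G⁻¹ : GL (Fin m) F).1 * B = 1 := by
        rw [← hG, ← Units.val_mul, inv_mul_cancel, Units.val_one]
      have i2 : Bᵀ * ((G⁻¹ : GL (Fin m) F).1)ᵀ = 1 := by
        rw [← transpose_mul, i1, transpose_one]
      calc ((cong G H).1 * (B * X.1 * Bᵀ)).trace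
          = (((G⁻¹ : GL (Fin m) F).1)ᵀ * (H.1 * X.1 * Bᵀ)).trace := by
            rw [cong_val]
            simp only [mul_assoc]
            rw [← mul_assoc (G⁻¹ : GL (Fin m) F).1 B, i1, one_mul]
        _ = (H.1 * X.1).trace := by
            rw [trace_mul_comm, mul_assoc, i2, mul_one]
  rw [mul_one, Finset.card_image_of_injective _ (fun Y Y' h => Subtype.ext
    (Subtype.mk.inj ((chiX_bijective he h2).1 h))), Finset.card_attach] at h1
  have := Nat.mul_le_mul_left (2 * (Fintype.card F + 1)) h1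
  omega

include he h2 hm in
/-- A representation below the gap has a normalised weight. -/
theorem exists_normal (hR : R1 e ρ) (hne : ∃ H, ρ (upp H) ≠ 1) {ν : F} (hν : ¬ IsSquare ν)
    (k : Fin m) : ∃ c, (c = 1 ∨ c = ν) ∧ ∃ x ∈ Wt e ρ c (Pi.single k 1), x ≠ 0 := by
  classical
  obtain ⟨H, hH⟩ := hne
  obtain ⟨ψ, hψ0, hψ⟩ := exists_weight_ne_zero (resChar ρ upp) (a := H) hH
  obtain ⟨c, v, rfl⟩ := hR ψ hψ
  have hc : c ≠ 0 := fun h => hψ0 (by rw [h, chiV_zero])
  have hv : v ≠ 0 := fun h => hψ0 (AddChar.ext _ _ fun H => by simp [chiV_apply, h, qv_zero'])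
  obtain ⟨x, hx, hx0⟩ := Submodule.exists_mem_ne_zero_of_ne_bot hψ
  have hν0 : ν ≠ 0 := fun h => hν (h ▸ IsSquare.zero)
  obtain ⟨a, r, hr, e1⟩ : ∃ a r, (r = 1 ∨ r = ν) ∧ c = r * a ^ 2 := by
    by_cases hs : IsSquare c
    · obtain ⟨a, ha⟩ := hs
      exact ⟨a, 1, Or.inl rfl, by rw [ha]; ring⟩
    · have hchar : ringChar F ≠ 2 := fun h => h2 (by
        haveI : CharP F 2 := h ▸ ringChar.charP F
        exact CharTwo.two_eq_zero)
      have h' : IsSquare (c * ν⁻¹) := by
        rw [← quadraticChar_one_iff_isSquare (mul_ne_zero hc (inv_ne_zero hν0)), map_mul,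
          quadraticChar_neg_one_iff_not_isSquare.2 hs,
          quadraticChar_neg_one_iff_not_isSquare.2 (fun h => hν (by simpa using h.inv))]
        norm_num
      obtain ⟨a, ha⟩ := h'
      refine ⟨a, ν, Or.inr rfl, ?_⟩
      rw [sq, ← ha]; field_simp
  have ha : a ≠ 0 := fun h => hc (by rw [e1, h]; ring)
  subst e1
  obtain ⟨B, hB⟩ := exists_gl_mulVec hm (a • v) (Pi.single k (1 : F)) (smul_ne_zero ha hv) (by simp)
  have hx' : x ∈ Wt e ρ r (a • v) := by rw [Wt, chiV_smul]; exact hx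
  refine ⟨r, hr, ρ (gl B) x, hB ▸ move e ρ B hx', fun h => hx0 (rep_injective ρ (gl B) (h.trans (map_zero _).symm))⟩

/-- The central sign. -/
theorem exists_sign [ρ.IsIrreducible] :
    ∃ ε : ℂ, (ε = 1 ∨ ε = -1) ∧ ∀ x, ρ (gl (-1 : GL (Fin m) F)) x = ε • x := by
  haveI : Nontrivial V := Module.finrank_pos_iff.1 (Char.finrank_pos_of_isIrreducible ρ)
  obtain ⟨ε, hε⟩ := Module.End.exists_eigenvalue (ρ (gl (-1 : GL (Fin m) F)))
  have hz : ∀ g : Spm F m, gl (-1 : GL (Fin m) F) * g = g * gl (-1 : GL (Fin m) F) := fun g => Subtype.ext <| by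
    have h1 : (gl (-1 : GL (Fin m) F)).1 = -1 := by
      rw [gl_val, inv_neg, inv_one, Units.val_neg, Units.val_one, transpose_neg, transpose_one,
        ← fromBlocks_one, fromBlocks_neg, neg_zero]
    show (gl (-1 : GL (Fin m) F)).1 * g.1 = g.1 * (gl (-1 : GL (Fin m) F)).1
    rw [h1, neg_one_mul, mul_neg_one]
  let S : Subrepresentation ρ := ⟨Module.End.eigenspace (ρ (gl (-1 : GL (Fin m) F))) ε,
    fun g x hx => by
      rw [Module.End.mem_eigenspace_iff] at hx ⊢
      rw [← Module.End.mul_apply, ← map_mul, hz, map_mul, Module.End.mul_apply, hx, map_smul]⟩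
  rcases IsSimpleOrder.eq_bot_or_eq_top S with hS | hS
  · exact absurd (congrArg Subrepresentation.toSubmodule hS) hε
  have hall : ∀ x, ρ (gl (-1 : GL (Fin m) F)) x = ε • x := fun x =>
    Module.End.mem_eigenspace_iff.1 (show x ∈ S.toSubmodule by rw [hS]; trivial)
  refine ⟨ε, sq_eq_one_iff.1 ?_, hall⟩
  obtain ⟨x, hx⟩ := exists_ne (0 : V)
  refine smul_left_injective ℂ hx (show (ε ^ 2) • x = (1 : ℂ) • x from ?_)
  rw [sq, mul_smul, ← hall, ← hall, ← Module.End.mul_apply, ← map_mul, ← map_mul, neg_mul_neg,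
    one_mul, map_one, map_one, one_smul, Module.End.one_apply]

include he h2 hm in
/-- An irreducible representation below the gap has one of the two Weil degrees. -/
theorem degree_eq [ρ.IsIrreducible] (hR : R1 e ρ) {k : Fin m} {c : F} (hc : c ≠ 0) {x : V}
    (hx : x ∈ Wt e ρ c (Pi.single k 1)) (hx0 : x ≠ 0) :
    2 * finrank ℂ V + 1 = Fintype.card F ^ m ∨ 2 * finrank ℂ V = Fintype.card F ^ m + 1 := by
  obtain ⟨ε, -, hε⟩ := exists_sign ρ
  obtain ⟨S, hxS, hS⟩ := exists_invariant ρ he h2 hR hm hc hx (hε x)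
  rcases IsSimpleOrder.eq_bot_or_eq_top S with h | h
  · rw [h] at hxS; exact absurd ((Submodule.mem_bot ℂ).1 hxS) hx0
  have h1 : finrank ℂ V ≤ (weightsR1 (m := m) e c).card + 1 := by
    refine le_trans (le_of_eq ?_) hS
    rw [h]; exact (finrank_top ℂ V).symm
  have h3 := card_weightsR1_le ρ he h2 hm hx hx0
  have h4 := card_weightsR1 (m := m) he h2 hc
  have h5 : 1 ≤ Fintype.card F ^ m := Nat.one_le_pow _ _ Fintype.card_pos
  omega

/-- The multiplicity of a weight, read off the character. -/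
noncomputable def classSum (e : AddChar F ℂ) (c : F) (k : Fin m) (χ : Spm F m → ℂ) : ℂ :=
  ∑ H : Sm F m, chiV e c (Pi.single k 1) (-H) * χ (upp H)

theorem classSum_eq (c : F) (k : Fin m) :
    classSum e c k ρ.character =
      finrank ℂ (Wt e ρ c (Pi.single k 1)) * Fintype.card (Sm F m) :=
  (finrank_weightSpace_mul_card (resChar ρ upp) _).symm

theorem classSum_ne_zero (c : F) (k : Fin m) :
    classSum e c k ρ.character ≠ 0 ↔ ∃ x ∈ Wt e ρ c (Pi.single k 1), x ≠ 0 := by
  rw [classSum_eq, mul_ne_zero_iff, and_iff_left card_cast_ne_zero, Nat.cast_ne_zero, Ne,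
    Submodule.finrank_eq_zero, ← Ne, Submodule.ne_bot_iff]

variable {W : Type*} [AddCommGroup W] [Module ℂ W] [FiniteDimensional ℂ W]
  (σ : Representation ℂ (Spm F m) W)

include he h2 hm in
/-- The class of the weight and the central sign determine a small irreducible character. -/
theorem character_eq [ρ.IsIrreducible] [σ.IsIrreducible] (hRV : R1 e ρ) (hRW : R1 e σ) {k : Fin m}
    {c : F} (hc : c ≠ 0) {x : V} (hx : x ∈ Wt e ρ c (Pi.single k 1)) (hx0 : x ≠ 0) {y : W}
    (hy : y ∈ Wt e σ c (Pi.single k 1)) (hy0 : y ≠ 0) {ε : ℂ} (hεV : ∀ x, ρ (gl (-1)) x = ε • x)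
    (hεW : ∀ y, σ (gl (-1)) y = ε • y) : ρ.character = σ.character := by
  classical
  let τ := ρ.prod σ
  have hτ : ∀ g v w, τ g (v, w) = (ρ g v, σ g w) := fun _ _ _ => rfl
  have hR : R1 e τ := fun ψ hψ => by
    obtain ⟨⟨v, w⟩, hvw, h0⟩ := Submodule.exists_mem_ne_zero_of_ne_bot hψ
    rw [mem_weightSpace] at hvw
    by_cases hv : v = 0
    · refine hRW ψ ((Submodule.ne_bot_iff _).2 ⟨w, mem_weightSpace.2 fun H => ?_, fun hw => h0 ?_⟩)
      · exact congrArg Prod.snd (hvw H)
      · rw [hv, hw]; rfl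
    · exact hRV ψ ((Submodule.ne_bot_iff _).2
        ⟨v, mem_weightSpace.2 fun H => congrArg Prod.fst (hvw H), hv⟩)
  obtain ⟨S, hxS, hS⟩ := exists_invariant τ he h2 hR hm (k := k) hc (x := (x, y))
    (mem_Wt e τ |>.2 fun H => Prod.ext (mem_Wt e ρ |>.1 hx H) (mem_Wt e σ |>.1 hy H)) (ε := ε)
    (Prod.ext (hεV x) (hεW y))
  let A : Subrepresentation ρ := ⟨S.toSubmodule.comap (LinearMap.inl ℂ V W), fun g v hv => by
    have := S.apply_mem_toSubmodule g (show (v, (0 : W)) ∈ S.toSubmodule from hv)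
    rw [hτ, map_zero] at this
    exact this⟩
  let B : Subrepresentation σ := ⟨S.toSubmodule.comap (LinearMap.inr ℂ V W), fun g w hw => by
    have := S.apply_mem_toSubmodule g (show ((0 : V), w) ∈ S.toSubmodule from hw)
    rw [hτ, map_zero] at this
    exact this⟩
  let P : Subrepresentation ρ := ⟨S.toSubmodule.map (LinearMap.fst ℂ V W), fun g v hv => by
    obtain ⟨⟨v, w⟩, hp, rfl⟩ := Submodule.mem_map.1 hv
    exact ⟨_, S.apply_mem_toSubmodule g hp, rfl⟩⟩
  let Q : Subrepresentation σ := ⟨S.toSubmodule.map (LinearMap.snd ℂ V W), fun g v hv => by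
    obtain ⟨⟨v, w⟩, hp, rfl⟩ := Submodule.mem_map.1 hv
    exact ⟨_, S.apply_mem_toSubmodule g hp, rfl⟩⟩
  have hbig : (weightsR1 (m := m) e c).card + 1 < finrank ℂ V + finrank ℂ W := by
    have a1 := card_weightsR1_le ρ he h2 hm hx hx0
    have a2 := card_weightsR1_le σ he h2 hm hy hy0
    have a3 := card_weightsR1 (m := m) he h2 hc
    have a4 : 4 ≤ Fintype.card F ^ m :=
      le_trans (Nat.pow_le_pow_left (Fintype.one_lt_card (α := F)) 2)
        (Nat.pow_le_pow_right Fintype.card_pos hm)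
    omega
  have hntop : ∀ v : V, (v, (0 : W)) ∈ S.toSubmodule → ∀ w : W, ((0 : V), w) ∈ S.toSubmodule →
      v = 0 ∨ w = 0 := by
    intro v hv w hw
    by_contra hcon
    push Not at hcon
    have hA : A = ⊤ := (IsSimpleOrder.eq_bot_or_eq_top A).resolve_left fun h =>
      hcon.1 ((Submodule.mem_bot ℂ).1 (by
        have : v ∈ A.toSubmodule := hv
        rwa [h] at this))
    have hB : B = ⊤ := (IsSimpleOrder.eq_bot_or_eq_top B).resolve_left fun h =>
      hcon.2 ((Submodule.mem_bot ℂ).1 (by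
        have : w ∈ B.toSubmodule := hw
        rwa [h] at this))
    have hT : S.toSubmodule = ⊤ := eq_top_iff.2 fun p _ => by
      have h1 : p.1 ∈ A.toSubmodule := by rw [hA]; trivial
      have h2' : p.2 ∈ B.toSubmodule := by rw [hB]; trivial
      have := S.toSubmodule.add_mem (show (p.1, (0 : W)) ∈ S.toSubmodule from h1)
        (show ((0 : V), p.2) ∈ S.toSubmodule from h2')
      simpa using this
    rw [hT, finrank_top, Module.finrank_prod] at hS
    omega
  have hA0 : ∀ v, (v, (0 : W)) ∈ S.toSubmodule → v = 0 := fun v hv => by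
    by_contra hv0
    have hA : A = ⊤ := (IsSimpleOrder.eq_bot_or_eq_top A).resolve_left fun h =>
      hv0 ((Submodule.mem_bot ℂ).1 (by
        have : v ∈ A.toSubmodule := hv
        rwa [h] at this))
    have h1 : x ∈ A.toSubmodule := by rw [hA]; trivial
    have h2' : ((0 : V), y) ∈ S.toSubmodule := by
      simpa using S.toSubmodule.sub_mem hxS (show (x, (0 : W)) ∈ S.toSubmodule from h1)
    exact hy0 ((hntop v hv y h2').resolve_left hv0)
  have hB0 : ∀ w, ((0 : V), w) ∈ S.toSubmodule → w = 0 := fun w hw => by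
    by_contra hw0
    have hB : B = ⊤ := (IsSimpleOrder.eq_bot_or_eq_top B).resolve_left fun h =>
      hw0 ((Submodule.mem_bot ℂ).1 (by
        have : w ∈ B.toSubmodule := hw
        rwa [h] at this))
    have h1 : y ∈ B.toSubmodule := by rw [hB]; trivial
    have h2' : (x, (0 : W)) ∈ S.toSubmodule := by
      simpa using S.toSubmodule.sub_mem hxS (show ((0 : V), y) ∈ S.toSubmodule from h1)
    exact hx0 ((hntop x h2' w hw).resolve_right hw0)
  have hP : P.toSubmodule = ⊤ := by
    rcases IsSimpleOrder.eq_bot_or_eq_top P with h | h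
    · exact absurd ((Submodule.mem_bot ℂ).1 (by
        have : x ∈ P.toSubmodule := ⟨_, hxS, rfl⟩
        rwa [h] at this)) hx0
    · rw [h]; rfl
  have hQ : Q.toSubmodule = ⊤ := by
    rcases IsSimpleOrder.eq_bot_or_eq_top Q with h | h
    · exact absurd ((Submodule.mem_bot ℂ).1 (by
        have : y ∈ Q.toSubmodule := ⟨_, hxS, rfl⟩
        rwa [h] at this)) hy0
    · rw [h]; rfl
  have hf : Function.Bijective ((LinearMap.fst ℂ V W).comp S.toSubmodule.subtype) := by
    refine ⟨(injective_iff_map_eq_zero _).2 fun p hp => ?_, fun v => ?_⟩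
    · obtain ⟨⟨v, w⟩, hvw⟩ := p
      change v = 0 at hp
      subst hp
      exact Subtype.ext (Prod.ext rfl (hB0 w hvw))
    · obtain ⟨p, hp, rfl⟩ := Submodule.mem_map.1 (show v ∈ P.toSubmodule by rw [hP]; trivial)
      exact ⟨⟨p, hp⟩, rfl⟩
  have hg : Function.Bijective ((LinearMap.snd ℂ V W).comp S.toSubmodule.subtype) := by
    refine ⟨(injective_iff_map_eq_zero _).2 fun p hp => ?_, fun w => ?_⟩
    · obtain ⟨⟨v, w⟩, hvw⟩ := p
      change w = 0 at hp
      subst hp
      exact Subtype.ext (Prod.ext (hA0 v hvw) rfl)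
    · obtain ⟨p, hp, rfl⟩ := Submodule.mem_map.1 (show w ∈ Q.toSubmodule by rw [hQ]; trivial)
      exact ⟨⟨p, hp⟩, rfl⟩
  let f := LinearEquiv.ofBijective _ hf
  let φ : V ≃ₗ[ℂ] W := f.symm.trans (LinearEquiv.ofBijective _ hg)
  funext g
  show LinearMap.trace ℂ V (ρ g) = LinearMap.trace ℂ W (σ g)
  rw [show σ g = φ.conj (ρ g) from ?_, LinearMap.trace_conj']
  apply LinearMap.ext; intro w
  obtain ⟨⟨⟨v, w⟩, hp⟩, rfl⟩ := hg.2 w
  have h1 : φ v = w := by
    have : f.symm v = ⟨(v, w), hp⟩ := by rw [LinearEquiv.symm_apply_eq]; rfl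
    show (LinearEquiv.ofBijective _ hg) (f.symm v) = w
    rw [this]; rfl
  have h3 : φ (ρ g v) = σ g w := by
    have : f.symm (ρ g v) = ⟨(ρ g v, σ g w), S.apply_mem_toSubmodule g hp⟩ := by
      rw [LinearEquiv.symm_apply_eq]; rfl
    show (LinearEquiv.ofBijective _ hg) (f.symm (ρ g v)) = σ g w
    rw [this]; rfl
  show σ g w = φ.conj (ρ g) w
  rw [← h1, LinearEquiv.conj_apply_apply, LinearEquiv.symm_apply_apply, h3, h1]

include he h2 in
/-- The two classes exclude each other in a representation of Weil degree. -/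
theorem class_excl (hm : 2 ≤ m) {k : Fin m} {ν : F} (hν : ¬ IsSquare ν)
    (hd : 2 * finrank ℂ V ≤ Fintype.card F ^ m + 1) {x : V}
    (hx : x ∈ Wt e ρ 1 (Pi.single k 1)) (hx0 : x ≠ 0) {y : V}
    (hy : y ∈ Wt e ρ ν (Pi.single k 1)) : y = 0 := by
  classical
  by_contra hy0
  have hν0 : ν ≠ 0 := fun h => hν (h ▸ IsSquare.zero)
  have hdisj : Disjoint (weightsR1 (m := m) e 1) (weightsR1 (m := m) e ν) := by
    rw [Finset.disjoint_left]
    intro ψ h1 h2'
    obtain ⟨v, hv, rfl⟩ := mem_weightsR1.1 h1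
    obtain ⟨w, hw, hvw⟩ := mem_weightsR1.1 h2'
    obtain ⟨p, hp⟩ := Function.ne_iff.1 hv
    have key : (1 : F) * v p ^ 2 = ν * w p ^ 2 := by
      refine sep he fun t => ?_
      have := DFunLike.congr_fun hvw (sE p t)
      rw [chiV_apply, chiV_apply, qv_sE, qv_sE] at this
      rw [show t * ((1 : F) * v p ^ 2) = 1 * (t * v p ^ 2) by ring,
        show t * (ν * w p ^ 2) = ν * (t * w p ^ 2) by ring]
      exact this.symm
    have hwp : w p ≠ 0 := fun h => hp (by
      rw [h, zero_pow two_ne_zero, mul_zero, one_mul] at key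
      exact pow_eq_zero_iff two_ne_zero |>.1 key)
    exact hν ⟨v p / w p, by field_simp; linear_combination -key⟩
  have hall := mul_le_finrank (resChar ρ upp) (weightsR1 (m := m) e 1 ∪ weightsR1 (m := m) e ν) 1
    fun ψ hψ => by
      obtain ⟨c, z, hz, hz0, hψ⟩ : ∃ c z, z ∈ Wt e ρ c (Pi.single k 1) ∧ z ≠ 0 ∧
          ψ ∈ weightsR1 (m := m) e c := by
        rcases Finset.mem_union.1 hψ with h | h
        exacts [⟨1, x, hx, hx0, h⟩, ⟨ν, y, hy, hy0, h⟩]
      obtain ⟨v, hv, rfl⟩ := mem_weightsR1.1 hψ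
      obtain ⟨B, rfl⟩ := exists_gl_mulVec hm (Pi.single k (1 : F)) v (by simp) hv
      exact one_le_finrank_of_ne_bot ((Submodule.ne_bot_iff _).2 ⟨_, move e ρ B hz, fun h =>
        hz0 (rep_injective ρ _ (h.trans (map_zero _).symm))⟩)
  rw [mul_one, Finset.card_union_of_disjoint hdisj] at hall
  have a1 := card_weightsR1 (m := m) he h2 (one_ne_zero (α := F))
  have a2 := card_weightsR1 (m := m) he h2 hν0
  have a4 : 4 ≤ Fintype.card F ^ m :=
    le_trans (Nat.pow_le_pow_left (Fintype.one_lt_card (α := F)) 2)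
      (Nat.pow_le_pow_right Fintype.card_pos hm)
  omega

end CfsgLib.MinDeg.SpW
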