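import Cfsg.Agent.Lib.MinDeg.Basic
import Cfsg.Agent.Lib.MinDeg.Hyperbolic
import Mathlib.LinearAlgebra.SymplecticGroup
import Mathlib.LinearAlgebra.Matrix.GeneralLinearGroup.Defs

/-!
# Elements of `Sp_2m(q)` for the weight analysis of small representations

Siegel radicals as additive characters into the group, the Levi homomorphism `gl`, and the Weyl
element of one coordinate with its relations.
-/

set_option autoImplicit false
set_option linter.unusedSimpArgs false
set_option linter.unusedTactic false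
set_option linter.unreachableTactic false

namespace CfsgLib.MinDeg.SpW

open Matrix

variable (F : Type*) [Field F] (m : ℕ)

/-- The symplectic group. -/
abbrev Spm := ↥(Matrix.symplecticGroup (Fin m) F)

/-- Symmetric matrices. -/
def Sm : AddSubgroup (Matrix (Fin m) (Fin m) F) where
  carrier := {H | Hᵀ = H}
  zero_mem' := transpose_zero
  add_mem' {a b} ha hb := show (a + b)ᵀ = a + b by
    rw [transpose_add, show aᵀ = a from ha, show bᵀ = b from hb]
  neg_mem' {a} ha := show (-a)ᵀ = -a by rw [transpose_neg, show aᵀ = a from ha]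

variable {F m}

theorem symH (H : Sm F m) : (H.1)ᵀ = H.1 := H.2

theorem apply_symH (H : Sm F m) (p q : Fin m) : H.1 p q = H.1 q p :=
  (congrFun (congrFun (symH H) p) q).symm

theorem upperU_mem (H : Sm F m) : upperU H.1 ∈ Matrix.symplecticGroup (Fin m) F := by
  simp [SymplecticGroup.mem_iff, Matrix.J, upperU, fromBlocks_transpose, fromBlocks_multiply,
    symH H]

theorem lowerU_mem (H : Sm F m) : lowerU H.1 ∈ Matrix.symplecticGroup (Fin m) F := by
  simp [SymplecticGroup.mem_iff, Matrix.J, lowerU, fromBlocks_transpose, fromBlocks_multiply,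
    symH H]

/-- The upper radical. -/
def upp : AddChar (Sm F m) (Spm F m) where
  toFun H := ⟨upperU H.1, upperU_mem H⟩
  map_zero_eq_one' := Subtype.ext (by exact upperU_zero)
  map_add_eq_mul' a b := Subtype.ext (by exact (upperU_mul a.1 b.1).symm)

/-- The lower radical. -/
def low : AddChar (Sm F m) (Spm F m) where
  toFun H := ⟨lowerU H.1, lowerU_mem H⟩
  map_zero_eq_one' := Subtype.ext (by exact lowerU_zero)
  map_add_eq_mul' a b := Subtype.ext (by exact (lowerU_mul a.1 b.1).symm)

theorem upp_val (H : Sm F m) : (upp H).1 = fromBlocks 1 H.1 0 1 := rfl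

theorem low_val (H : Sm F m) : (low H).1 = fromBlocks 1 0 H.1 1 := rfl

theorem levi_mem (B : GL (Fin m) F) :
    fromBlocks ((B⁻¹ : GL (Fin m) F).1)ᵀ 0 0 B.1 ∈ Matrix.symplecticGroup (Fin m) F := by
  have h1 : ((B⁻¹ : GL (Fin m) F).1)ᵀ * (B.1)ᵀ = 1 := by
    rw [← transpose_mul, ← Units.val_mul, mul_inv_cancel, Units.val_one, transpose_one]
  have h2 : B.1 * (B⁻¹ : GL (Fin m) F).1 = 1 := by
    rw [← Units.val_mul, mul_inv_cancel, Units.val_one]
  simp [SymplecticGroup.mem_iff, Matrix.J, fromBlocks_transpose, fromBlocks_multiply, h1, h2, -Matrix.coe_units_inv]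

/-- The Levi subgroup, parametrised by the action on weights. -/
def gl : GL (Fin m) F →* Spm F m where
  toFun B := ⟨fromBlocks ((B⁻¹ : GL (Fin m) F).1)ᵀ 0 0 B.1, levi_mem B⟩
  map_one' := Subtype.ext (by simp)
  map_mul' A B := Subtype.ext (by simp [fromBlocks_multiply, transpose_mul])

theorem gl_val (B : GL (Fin m) F) : (gl B).1 = fromBlocks ((B⁻¹ : GL (Fin m) F).1)ᵀ 0 0 B.1 := rfl

/-- The congruence of symmetric matrices induced by `gl B`. -/
def cong (B : GL (Fin m) F) : Sm F m ≃+ Sm F m where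
  toFun H := ⟨((B⁻¹ : GL (Fin m) F).1)ᵀ * H.1 * (B⁻¹ : GL (Fin m) F).1,
    show _ᵀ = _ by rw [transpose_mul, transpose_mul, transpose_transpose, symH H, mul_assoc]⟩
  invFun H := ⟨(B.1)ᵀ * H.1 * B.1,
    show _ᵀ = _ by rw [transpose_mul, transpose_mul, transpose_transpose, symH H, mul_assoc]⟩
  left_inv H := Subtype.ext <| by
    show (B.1)ᵀ * (((B⁻¹ : GL (Fin m) F).1)ᵀ * H.1 * (B⁻¹ : GL (Fin m) F).1) * B.1 = H.1
    rw [← mul_assoc, ← mul_assoc, ← transpose_mul, mul_assoc, ← Units.val_mul, inv_mul_cancel,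
      Units.val_one, transpose_one, one_mul, mul_one]
  right_inv H := Subtype.ext <| by
    show ((B⁻¹ : GL (Fin m) F).1)ᵀ * ((B.1)ᵀ * H.1 * B.1) * (B⁻¹ : GL (Fin m) F).1 = H.1
    rw [← mul_assoc, ← mul_assoc, ← transpose_mul, mul_assoc, ← Units.val_mul, mul_inv_cancel,
      Units.val_one, transpose_one, one_mul, mul_one]
  map_add' H K := Subtype.ext <| by
    show _ * (H.1 + K.1) * _ = _ * H.1 * _ + _ * K.1 * _
    rw [mul_add, add_mul]

theorem cong_val (B : GL (Fin m) F) (H : Sm F m) :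
    (cong B H).1 = ((B⁻¹ : GL (Fin m) F).1)ᵀ * H.1 * (B⁻¹ : GL (Fin m) F).1 := rfl

theorem gl_mul_upp (B : GL (Fin m) F) (H : Sm F m) : gl B * upp H = upp (cong B H) * gl B := by
  refine Subtype.ext ?_
  show (gl B).1 * (upp H).1 = (upp (cong B H)).1 * (gl B).1
  simp [gl_val, upp_val, cong_val, fromBlocks_multiply, mul_assoc]

theorem gl_mul_low (B : GL (Fin m) F) (H : Sm F m) :
    gl B * low H = low ⟨B.1 * H.1 * (B.1)ᵀ,
      show _ᵀ = _ by rw [transpose_mul, transpose_mul, transpose_transpose, symH H, mul_assoc]⟩ *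
      gl B := by
  refine Subtype.ext ?_
  have h1 : (B.1)ᵀ * ((B⁻¹ : GL (Fin m) F).1)ᵀ = 1 := by
    rw [← transpose_mul, ← Units.val_mul, inv_mul_cancel, Units.val_one, transpose_one]
  show (gl B).1 * (low H).1 = (low _).1 * (gl B).1
  simp [gl_val, low_val, fromBlocks_multiply, mul_assoc, h1, -Matrix.coe_units_inv]

/-! ### Particular symmetric matrices and invertible matrices -/

/-- The rank one symmetric matrix `r • v vᵀ`. -/
def vv (r : F) (v : Fin m → F) : Sm F m :=
  ⟨r • vecMulVec v v, show _ᵀ = _ by rw [transpose_smul, transpose_vecMulVec]⟩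

/-- The matrix `r E_kk`. -/
def sE (k : Fin m) (r : F) : Sm F m :=
  ⟨single k k r, show _ᵀ = _ by rw [transpose_single]⟩

/-- The matrix `a (E_ik + E_ki)`. -/
def sS (i k : Fin m) (a : F) : Sm F m :=
  ⟨single i k a + single k i a, show _ᵀ = _ by
    rw [transpose_add, transpose_single, transpose_single, add_comm]⟩

/-- The transvection adding `s` times coordinate `i` to coordinate `k`. -/
def tv {i k : Fin m} (h : k ≠ i) (s : F) : GL (Fin m) F where
  val := transvection k i s
  inv := transvection k i (-s)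
  val_inv := by rw [transvection_mul_transvection_same _ _ h, add_neg_cancel, transvection_zero]
  inv_val := by rw [transvection_mul_transvection_same _ _ h, neg_add_cancel, transvection_zero]

theorem tv_val {i k : Fin m} (h : k ≠ i) (s : F) : (tv h s).1 = 1 + single k i s := rfl

theorem tv_inv_val {i k : Fin m} (h : k ≠ i) (s : F) :
    ((tv h s)⁻¹ : GL (Fin m) F).1 = 1 + single k i (-s) := rfl

/-- The diagonal matrix scaling coordinate `k` by `a`. -/
def dg (k : Fin m) (a : Fˣ) : GL (Fin m) F where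
  val := diagonal (Pi.mulSingle k (a : F))
  inv := diagonal (Pi.mulSingle k ((a⁻¹ : Fˣ) : F))
  val_inv := by
    rw [diagonal_mul_diagonal, ← diagonal_one]
    congr 1; funext i; by_cases h : i = k
    · subst h; simp
    · simp [h]
  inv_val := by
    rw [diagonal_mul_diagonal, ← diagonal_one]
    congr 1; funext i; by_cases h : i = k
    · subst h; simp
    · simp [h]

theorem dg_val (k : Fin m) (a : Fˣ) : (dg k a).1 = diagonal (Pi.mulSingle k (a : F)) := rfl

theorem dg_inv (k : Fin m) (a : Fˣ) : (dg k a)⁻¹ = dg k a⁻¹ := Units.ext rfl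

theorem dg_val' (k : Fin m) (a : Fˣ) : (dg k a).1 = 1 + single k k ((a : F) - 1) := by
  ext p q
  simp only [dg_val, diagonal_apply, Pi.mulSingle_apply, Matrix.add_apply, one_apply, single_apply]
  grind

theorem dg_inv_transpose (k : Fin m) (a : Fˣ) :
    (((dg k a)⁻¹ : GL (Fin m) F).1)ᵀ = 1 + single k k (((a⁻¹ : Fˣ) : F) - 1) := by
  rw [dg_inv, dg_val', transpose_add, transpose_one, transpose_single]

/-! ### The Weyl element of a coordinate -/

/-- The Weyl element of the coordinate `k`. -/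
def wk (k : Fin m) : Spm F m := upp (sE k 1) * low (sE k (-1)) * upp (sE k 1)

/-- A two by two matrix in the coordinate `k`. -/
def m2 (k : Fin m) (a b c d : F) : Matrix (Fin m ⊕ Fin m) (Fin m ⊕ Fin m) F :=
  fromBlocks (diagonal (Pi.mulSingle k a)) (single k k b) (single k k c)
    (diagonal (Pi.mulSingle k d))

theorem m2_one (k : Fin m) : (m2 k 1 0 0 1 : Matrix _ _ F) = 1 := by
  simp [m2, ← fromBlocks_one]

theorem m2_mul (k : Fin m) (a b c d a' b' c' d' : F) :
    m2 k a b c d * m2 k a' b' c' d' =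
      m2 k (a * a' + b * c') (a * b' + b * d') (c * a' + d * c') (c * b' + d * d') := by
  simp only [m2, fromBlocks_multiply]
  congr 1 <;> ext p q <;> by_cases hp : p = k <;> by_cases hq : q = k <;>
    simp [hp, hq, diagonal_apply, Pi.mulSingle_apply, mul_apply, single_apply, eq_comm] <;>
    (try subst_vars) <;> (try by_cases hpq : p = q) <;> simp_all [diagonal_apply, eq_comm]

theorem upp_sE (k : Fin m) (r : F) : (upp (sE k r) : Spm F m).1 = m2 k 1 r 0 1 := by
  simp [upp_val, sE, m2]

theorem low_sE (k : Fin m) (r : F) : (low (sE k r) : Spm F m).1 = m2 k 1 0 r 1 := by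
  simp [low_val, sE, m2]

theorem gl_dg (k : Fin m) (a : Fˣ) :
    (gl (dg k a) : Spm F m).1 = m2 k ((a⁻¹ : Fˣ) : F) 0 0 (a : F) := by
  rw [gl_val, dg_inv, dg_val, dg_val, diagonal_transpose]
  simp [m2]

theorem wk_eq (k : Fin m) : (wk k : Spm F m).1 = m2 k 0 1 (-1) 0 := by
  show (upp (sE k 1) : Spm F m).1 * (low (sE k (-1))).1 * (upp (sE k 1)).1 = _
  rw [upp_sE, low_sE, m2_mul, m2_mul]
  congr 1 <;> ring

theorem wk_val (k : Fin m) :
    (wk k : Spm F m).1 =
      fromBlocks (1 - single k k (1 : F)) (single k k 1) (-single k k 1) (1 - single k k 1) := by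
  rw [wk_eq, m2, single_neg]
  congr 1 <;> ext p q <;> simp only [diagonal_apply, Pi.mulSingle_apply, Matrix.sub_apply,
    one_apply, single_apply] <;> grind

theorem wk_upp_comm (k : Fin m) (H : Sm F m) (hH : ∀ q, H.1 k q = 0) :
    wk k * upp H = upp H * wk k := by
  have h1 : single k k (1 : F) * H.1 = 0 := by
    ext p q; by_cases hp : p = k
    · subst hp; simp [hH]
    · simp [hp]
  have h2 : H.1 * single k k (1 : F) = 0 := by
    ext p q; by_cases hq : q = k
    · subst hq; simp [apply_symH H p, hH]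
    · simp [hq]
  refine Subtype.ext ?_
  show (wk k : Spm F m).1 * (upp H).1 = (upp H).1 * (wk k : Spm F m).1
  simp only [wk_val, upp_val, fromBlocks_multiply, Matrix.sub_mul, Matrix.mul_sub, Matrix.one_mul,
    Matrix.mul_one, Matrix.neg_mul, Matrix.mul_neg, Matrix.mul_zero, Matrix.zero_mul, h1, h2,
    sub_zero, add_zero, zero_add, neg_zero]
  congr 1
  abel

theorem wk_low_comm (k : Fin m) (H : Sm F m) (hH : ∀ q, H.1 k q = 0) :
    wk k * low H = low H * wk k := by
  have h1 : single k k (1 : F) * H.1 = 0 := by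
    ext p q; by_cases hp : p = k
    · subst hp; simp [hH]
    · simp [hp]
  have h2 : H.1 * single k k (1 : F) = 0 := by
    ext p q; by_cases hq : q = k
    · subst hq; simp [apply_symH H p, hH]
    · simp [hq]
  refine Subtype.ext ?_
  show (wk k : Spm F m).1 * (low H).1 = (low H).1 * (wk k : Spm F m).1
  simp only [wk_val, low_val, fromBlocks_multiply, Matrix.sub_mul, Matrix.mul_sub, Matrix.one_mul,
    Matrix.mul_one, Matrix.neg_mul, Matrix.mul_neg, Matrix.mul_zero, Matrix.zero_mul, h1, h2,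
    sub_zero, add_zero, zero_add, neg_zero]
  congr 1
  abel

theorem sE_row {k l : Fin m} (h : k ≠ l) (r : F) (q : Fin m) : (sE l r).1 k q = 0 := by
  simp [sE, h.symm]

theorem wk_comm_wk {k l : Fin m} (h : k ≠ l) : Commute (wk k : Spm F m) (wk l) := by
  have h1 : Commute (wk k : Spm F m) (upp (sE l 1)) := wk_upp_comm k _ (sE_row h 1)
  have h2 : Commute (wk k : Spm F m) (low (sE l (-1))) := wk_low_comm k _ (sE_row h (-1))
  exact (h1.mul_right h2).mul_right h1

theorem wk_comm_gl (k : Fin m) (B : GL (Fin m) F) (h1 : ∀ q, B.1 k q = (1 : Matrix _ _ F) k q)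
    (h2 : ∀ p, B.1 p k = (1 : Matrix _ _ F) p k) : wk k * gl B = gl B * wk k := by
  set E := single k k (1 : F) with hE
  have e1 : E * B.1 = E := by
    ext p q; by_cases hp : p = k
    · subst hp; simp [hE, h1, single_apply, one_apply]
    · simp [hE, hp, Ne.symm hp]
  have e2 : B.1 * E = E := by
    ext p q; by_cases hq : q = k
    · subst hq; simp [hE, h2, single_apply, one_apply, eq_comm]
    · simp [hE, hq, Ne.symm hq]
  have e3 : E * (B⁻¹ : GL (Fin m) F).1 = E := by
    conv_lhs => rw [← e1, mul_assoc, ← Units.val_mul, mul_inv_cancel, Units.val_one, mul_one]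
  have e4 : (B⁻¹ : GL (Fin m) F).1 * E = E := by
    conv_lhs => rw [← e2, ← mul_assoc, ← Units.val_mul, inv_mul_cancel, Units.val_one, one_mul]
  have hEt : Eᵀ = E := transpose_single ..
  have e5 : E * ((B⁻¹ : GL (Fin m) F).1)ᵀ = E := by
    have := congrArg transpose e4; rwa [transpose_mul, hEt] at this
  have e6 : ((B⁻¹ : GL (Fin m) F).1)ᵀ * E = E := by
    have := congrArg transpose e3; rwa [transpose_mul, hEt] at this
  refine Subtype.ext ?_
  show (wk k : Spm F m).1 * (gl B).1 = (gl B).1 * (wk k : Spm F m).1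
  simp only [wk_val, gl_val, fromBlocks_multiply, Matrix.sub_mul, Matrix.mul_sub, Matrix.one_mul,
    Matrix.mul_one, Matrix.neg_mul, Matrix.mul_neg, Matrix.mul_zero, Matrix.zero_mul, ← hE, e1, e2,
    e5, e6, sub_zero, sub_self, neg_zero, add_zero, zero_add]

theorem wk_mul_sS {i k : Fin m} (h : k ≠ i) (a : F) :
    wk k * upp (sS i k a) = gl (tv h (-a)) * wk k := by
  refine Subtype.ext ?_
  show (wk k : Spm F m).1 * (upp (sS i k a)).1 = (gl (tv h (-a))).1 * (wk k : Spm F m).1
  simp only [wk_val, gl_val, upp_val, tv_val, tv_inv_val, sS, neg_neg, transpose_add, transpose_one,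
    transpose_single, fromBlocks_multiply, Matrix.sub_mul, Matrix.mul_sub, Matrix.add_mul,
    Matrix.mul_add, Matrix.one_mul, Matrix.mul_one, Matrix.neg_mul, Matrix.mul_neg, Matrix.mul_zero,
    Matrix.zero_mul, add_zero, zero_add, single_mul_single_same, mul_one, one_mul,
    single_mul_single_of_ne _ _ _ _ h, single_mul_single_of_ne _ _ _ _ h.symm]
  congr 1 <;> simp [single_neg] <;> abel

theorem wk_mul_tv {i k : Fin m} (h : k ≠ i) (s : F) :
    wk k * gl (tv h s) = upp (sS i k s) * wk k := by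
  refine Subtype.ext ?_
  show (wk k : Spm F m).1 * (gl (tv h s)).1 = (upp (sS i k s)).1 * (wk k : Spm F m).1
  simp only [wk_val, gl_val, upp_val, tv_val, tv_inv_val, sS, transpose_add, transpose_one,
    transpose_single, fromBlocks_multiply, Matrix.sub_mul, Matrix.mul_sub, Matrix.add_mul,
    Matrix.mul_add, Matrix.one_mul, Matrix.mul_one, Matrix.neg_mul, Matrix.mul_neg, Matrix.mul_zero,
    Matrix.zero_mul, add_zero, zero_add, single_mul_single_same, mul_one, one_mul,
    single_mul_single_of_ne _ _ _ _ h, single_mul_single_of_ne _ _ _ _ h.symm]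
  congr 1 <;> simp [single_neg] <;> abel

theorem wk_cube (k : Fin m) :
    wk k * upp (sE k (1 : F)) * (wk k * upp (sE k 1)) * (wk k * upp (sE k 1)) = 1 := by
  refine Subtype.ext ?_
  show (wk k : Spm F m).1 * (upp (sE k 1)).1 * ((wk k : Spm F m).1 * (upp (sE k 1)).1) *
    ((wk k : Spm F m).1 * (upp (sE k 1)).1) = 1
  rw [wk_eq, upp_sE, m2_mul, m2_mul, m2_mul, ← m2_one (F := F) k]
  congr 1 <;> ring

theorem wk_cube_neg (k : Fin m) :
    wk k * upp (sE k (-1 : F)) * (wk k * upp (sE k (-1))) * (wk k * upp (sE k (-1))) =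
      gl (dg k (-1)) := by
  refine Subtype.ext ?_
  show (wk k : Spm F m).1 * (upp (sE k (-1))).1 * ((wk k : Spm F m).1 * (upp (sE k (-1))).1) *
    ((wk k : Spm F m).1 * (upp (sE k (-1))).1) = (gl (dg k (-1))).1
  rw [wk_eq, upp_sE, m2_mul, m2_mul, m2_mul, gl_dg]
  congr 1 <;> simp

theorem wk_sq (k : Fin m) : wk k * wk k = (gl (dg k (-1)) : Spm F m) := by
  refine Subtype.ext ?_
  show (wk k : Spm F m).1 * (wk k : Spm F m).1 = (gl (dg k (-1))).1
  rw [wk_eq, m2_mul, gl_dg]
  congr 1 <;> simp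

theorem dg_word (k : Fin m) (t : Fˣ) :
    upp (sE k (t : F)) * wk k * (upp (sE k ((t⁻¹ : Fˣ) : F)) * wk k) * (upp (sE k (t : F)) * wk k) =
      gl (dg k t⁻¹) := by
  refine Subtype.ext ?_
  show (upp (sE k _)).1 * (wk k : Spm F m).1 * ((upp (sE k _)).1 * (wk k : Spm F m).1) *
    ((upp (sE k _)).1 * (wk k : Spm F m).1) = (gl (dg k t⁻¹)).1
  simp only [wk_eq, upp_sE, m2_mul, gl_dg]
  congr 1 <;> simp

theorem wk_mul_dg (k : Fin m) (a : Fˣ) : wk k * gl (dg k a) = (gl (dg k a⁻¹) * wk k : Spm F m) := by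
  refine Subtype.ext ?_
  show (wk k : Spm F m).1 * (gl (dg k a)).1 = (gl (dg k a⁻¹)).1 * (wk k : Spm F m).1
  rw [wk_eq, gl_dg, gl_dg, m2_mul, m2_mul]
  congr 1 <;> simp

end CfsgLib.MinDeg.SpW
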