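import Cfsg.Agent.Lib.MinDeg.SymOrbit
import Mathlib.LinearAlgebra.Trace
import Mathlib.LinearAlgebra.Determinant
import Mathlib.LinearAlgebra.Eigenspace.Triangularizable
import Mathlib.Analysis.Complex.Polynomial.Basic

/-!
# The odd part of the Weil representation of `Sp_2n(q)`, `q` odd

Intertwiners of the Heisenberg representation form a projective representation commuting with
parity; multiplying an intertwiner by `det (odd part) / det (even part)` makes it an honest one.
-/

set_option autoImplicit false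

namespace CfsgLib.MinDeg.Weil

open Matrix Finset Module

variable {F : Type*} [Field F] [Fintype F] {n : ℕ} (e : AddChar F ℂ)

/-- Functions on `F^n`. -/
abbrev Fun (F : Type*) (n : ℕ) := (Fin n → F) → ℂ

/-- Heisenberg operator of a phase space vector. -/
noncomputable def heis (v : Fin n ⊕ Fin n → F) : Module.End ℂ (Fun F n) where
  toFun f x := e ((v ∘ Sum.inr) ⬝ᵥ x + (v ∘ Sum.inl) ⬝ᵥ (v ∘ Sum.inr) * 2⁻¹) * f (x + v ∘ Sum.inl)
  map_add' f g := by funext x; simp [mul_add]
  map_smul' c f := by funext x; simp [mul_left_comm]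

omit [Fintype F] in
theorem heis_apply (v : Fin n ⊕ Fin n → F) (f : Fun F n) (x : Fin n → F) :
    heis e v f x =
      e ((v ∘ Sum.inr) ⬝ᵥ x + (v ∘ Sum.inl) ⬝ᵥ (v ∘ Sum.inr) * 2⁻¹) * f (x + v ∘ Sum.inl) := rfl

/-- The commutation cocycle. -/
def cocycle (v w : Fin n ⊕ Fin n → F) : F :=
  -(v ⬝ᵥ Matrix.J (Fin n) F *ᵥ w) * 2⁻¹

omit [Fintype F] in
theorem heis_mul (h2 : (2 : F) ≠ 0) (v w : Fin n ⊕ Fin n → F) :
    heis e v * heis e w = e (cocycle v w) • heis e (v + w) := by
  apply LinearMap.ext; intro f; funext x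
  simp only [Module.End.mul_apply, LinearMap.smul_apply, Pi.smul_apply, smul_eq_mul, heis_apply]
  rw [← mul_assoc, ← mul_assoc, ← AddChar.map_add_eq_mul, ← AddChar.map_add_eq_mul]
  congr 1
  · congr 1
    have hJ : v ⬝ᵥ Matrix.J (Fin n) F *ᵥ w =
        -((v ∘ Sum.inl) ⬝ᵥ (w ∘ Sum.inr)) + (v ∘ Sum.inr) ⬝ᵥ (w ∘ Sum.inl) := by
      simp [Matrix.J, fromBlocks_mulVec, neg_mulVec, dotProduct, Fintype.sum_sum_type]
    have p1 : (v + w) ∘ Sum.inl = v ∘ Sum.inl + w ∘ Sum.inl := rfl
    have p2 : (v + w) ∘ Sum.inr = v ∘ Sum.inr + w ∘ Sum.inr := rfl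
    rw [cocycle, hJ, p1, p2]
    simp only [dotProduct_add, add_dotProduct, dotProduct_comm (w ∘ Sum.inr) (v ∘ Sum.inl),
      dotProduct_comm (w ∘ Sum.inl) (v ∘ Sum.inr)]
    field_simp
    ring
  · rw [add_assoc]; rfl

omit [Fintype F] in
theorem heis_zero : heis (n := n) e 0 = 1 := by
  apply LinearMap.ext; intro f; funext x
  have h0 : ((0 : Fin n ⊕ Fin n → F) ∘ Sum.inl) = 0 := rfl
  have h1 : ((0 : Fin n ⊕ Fin n → F) ∘ Sum.inr) = 0 := rfl
  simp [heis_apply, h0, h1, e.map_zero_eq_one]

/-- `W` intertwines the Heisenberg representation with its twist by the matrix `A`. -/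
def IsTwiner (A : Matrix (Fin n ⊕ Fin n) (Fin n ⊕ Fin n) F) (W : Module.End ℂ (Fun F n)) : Prop :=
  ∀ v, W * heis e v = heis e (A *ᵥ v) * W

omit [Fintype F] in
theorem isTwiner_one : IsTwiner (n := n) e 1 1 := fun v => by simp

omit [Fintype F] in
theorem IsTwiner.mul {A B : Matrix (Fin n ⊕ Fin n) (Fin n ⊕ Fin n) F} {V W : Module.End ℂ (Fun F n)}
    (hV : IsTwiner e A V) (hW : IsTwiner e B W) : IsTwiner e (A * B) (V * W) := fun v => by
  rw [mul_assoc, hW v, ← mul_assoc, hV, mul_assoc, mulVec_mulVec]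

theorem eq_top_of_invariant (he : e ≠ 0) (h2 : (2 : F) ≠ 0) (K : Submodule ℂ (Fun F n))
    (hK : ∀ v, ∀ f ∈ K, heis e v f ∈ K) (hne : K ≠ ⊥) : K = ⊤ := by
  classical
  obtain ⟨f, hf, hf0⟩ := Submodule.exists_mem_ne_zero_of_ne_bot hne
  obtain ⟨x₀, hx₀⟩ := Function.ne_iff.1 hf0
  have hprim := AddChar.IsPrimitive.of_ne_one (show e ≠ 1 from fun h => he (by rw [h]; rfl))
  have hδ : ∀ y : Fin n → F, Pi.single y (1 : ℂ) ∈ K := by
    intro y
    set a := x₀ - y
    let g : Fun F n := fun x => f (x + a)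
    -- sum of modulations of the translate
    have hsum : (∑ b : Fin n → F, e (-(b ⬝ᵥ y + a ⬝ᵥ b * 2⁻¹)) • heis e (Sum.elim a b) f) ∈ K :=
      Submodule.sum_mem _ fun b _ => K.smul_mem _ (hK _ f hf)
    have hval : (∑ b : Fin n → F, e (-(b ⬝ᵥ y + a ⬝ᵥ b * 2⁻¹)) • heis e (Sum.elim a b) f) =
        ((Fintype.card (Fin n → F) : ℂ) * f x₀) • Pi.single y (1 : ℂ) := by
      funext x
      simp only [Finset.sum_apply, Pi.smul_apply, smul_eq_mul, heis_apply, Sum.elim_comp_inl,
        Sum.elim_comp_inr, ← mul_assoc, ← AddChar.map_add_eq_mul]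
      rw [← Finset.sum_mul]
      have he' : ∀ b : Fin n → F, e (-(b ⬝ᵥ y + a ⬝ᵥ b * 2⁻¹) + (b ⬝ᵥ x + a ⬝ᵥ b * 2⁻¹)) =
          e (b ⬝ᵥ (x - y)) := fun b => by rw [dotProduct_sub]; ring_nf
      rw [Finset.sum_congr rfl fun b _ => he' b]
      by_cases hxy : x = y
      · subst hxy
        simp [a, e.map_zero_eq_one]
      · rw [Pi.single_eq_of_ne hxy, mul_zero]
        obtain ⟨i, hi⟩ := Function.ne_iff.1 (sub_ne_zero.2 hxy)
        let φ : AddChar (Fin n → F) ℂ :=
          { toFun := fun b => e (b ⬝ᵥ (x - y))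
            map_zero_eq_one' := by simp [e.map_zero_eq_one]
            map_add_eq_mul' := fun b c => by rw [add_dotProduct]; exact e.map_add_eq_mul _ _ }
        have hφ : φ ≠ 0 := fun h => hprim hi (DFunLike.ext _ _ fun t => by
          have := DFunLike.congr_fun h (Pi.single i t)
          simpa [φ, AddChar.mulShift_apply, mul_comm, mul_sub] using this)
        rw [show ∑ b : Fin n → F, e (b ⬝ᵥ (x - y)) = ∑ b, φ b from rfl,
          AddChar.sum_eq_zero_iff_ne_zero.2 hφ, zero_mul]
    rw [hval] at hsum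
    have hc : ((Fintype.card (Fin n → F) : ℂ) * f x₀) ≠ 0 :=
      mul_ne_zero (by exact_mod_cast Fintype.card_ne_zero) hx₀
    have := K.smul_mem ((Fintype.card (Fin n → F) : ℂ) * f x₀)⁻¹ hsum
    rwa [smul_smul, inv_mul_cancel₀ hc, one_smul] at this
  refine eq_top_iff.2 fun g _ => ?_
  rw [← Finset.univ_sum_single g]
  refine Submodule.sum_mem _ fun y _ => ?_
  have : Pi.single y (g y) = g y • (Pi.single y (1 : ℂ) : Fun F n) := by
    rw [← Pi.single_smul]; simp
  rw [this]
  exact K.smul_mem _ (hδ y)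

variable {e}

theorem IsTwiner.injective (he : e ≠ 0) (h2 : (2 : F) ≠ 0)
    {A : Matrix (Fin n ⊕ Fin n) (Fin n ⊕ Fin n) F} {W : Module.End ℂ (Fun F n)}
    (hW : IsTwiner e A W) (hW0 : W ≠ 0) : Function.Injective W := by
  rw [← LinearMap.ker_eq_bot]
  by_contra h
  have := eq_top_of_invariant e he h2 (LinearMap.ker W) (fun v f hf => by
    rw [LinearMap.mem_ker] at hf ⊢
    rw [← Module.End.mul_apply, hW v, Module.End.mul_apply, hf, map_zero]) h
  exact hW0 (LinearMap.ker_eq_top.1 this)

/-- Intertwiners for the identity are scalars. -/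
theorem scalar_of_commute (he : e ≠ 0) (h2 : (2 : F) ≠ 0) (X : Module.End ℂ (Fun F n))
    (hX : ∀ v, X * heis e v = heis e v * X) : ∃ c : ℂ, X = c • 1 := by
  obtain ⟨c, hc⟩ := Module.End.exists_eigenvalue X
  have := eq_top_of_invariant e he h2 (Module.End.eigenspace X c) (fun v f hf => by
    rw [Module.End.mem_eigenspace_iff] at hf ⊢
    rw [← Module.End.mul_apply, hX, Module.End.mul_apply, hf, map_smul]) hc
  refine ⟨c, LinearMap.ext fun f => ?_⟩
  have hf : f ∈ Module.End.eigenspace X c := by rw [this]; trivial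
  simpa using Module.End.mem_eigenspace_iff.1 hf

omit [Fintype F] in
theorem J_anti (a b : Fin n ⊕ Fin n → F) :
    b ⬝ᵥ Matrix.J (Fin n) F *ᵥ a = -(a ⬝ᵥ Matrix.J (Fin n) F *ᵥ b) := by
  rw [dotProduct_mulVec a, dotProduct_comm, ← mulVec_transpose, Matrix.J_transpose, neg_mulVec,
    neg_dotProduct, neg_neg]

omit [Fintype F] in
theorem cocycle_sp {A : Matrix (Fin n ⊕ Fin n) (Fin n ⊕ Fin n) F}
    (hA : A ∈ Matrix.symplecticGroup (Fin n) F) (v w : Fin n ⊕ Fin n → F) :
    cocycle (A *ᵥ v) (A *ᵥ w) = cocycle v w := by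
  have hA' := SymplecticGroup.mem_iff'.1 hA
  simp only [cocycle]
  rw [← vecMul_transpose A v, ← dotProduct_mulVec, mulVec_mulVec, mulVec_mulVec, hA']

theorem exists_twiner (he : e ≠ 0) (h2 : (2 : F) ≠ 0)
    {A : Matrix (Fin n ⊕ Fin n) (Fin n ⊕ Fin n) F} (hA : A ∈ Matrix.symplecticGroup (Fin n) F) :
    ∃ W, W ≠ 0 ∧ IsTwiner e A W := by
  classical
  let avg : Module.End ℂ (Fun F n) → Module.End ℂ (Fun F n) := fun T =>
    ∑ v, heis e (A *ᵥ v) * T * heis e (-v)
  have hJ : ∀ v : Fin n ⊕ Fin n → F, v ⬝ᵥ Matrix.J (Fin n) F *ᵥ v = 0 := fun v => by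
    simp [Matrix.J, fromBlocks_mulVec, neg_mulVec, dotProduct, Fintype.sum_sum_type, mul_comm]
  have hinv : ∀ v : Fin n ⊕ Fin n → F, heis e v * heis e (-v) = 1 := fun v => by
    rw [heis_mul e h2, add_neg_cancel, heis_zero]
    simp [cocycle, mulVec_neg, hJ, e.map_zero_eq_one]
  have hinv' : ∀ v : Fin n ⊕ Fin n → F, heis e (-v) * heis e v = 1 := fun v => by simpa using hinv (-v)
  have havg : ∀ T, IsTwiner e A (avg T) := by
    intro T u
    simp only [avg, Finset.sum_mul, Finset.mul_sum]
    refine Fintype.sum_equiv (Equiv.subRight u) _ _ fun v => ?_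
    have e1 : heis e (-v) * heis e u = e (cocycle (-v) u) • heis e (-(v - u)) := by
      rw [heis_mul e h2, show -v + u = -(v - u) by abel]
    have e2 : heis e (A *ᵥ u) * heis e (A *ᵥ (v - u)) =
        e (cocycle u (v - u)) • heis e (A *ᵥ v) := by
      rw [heis_mul e h2, cocycle_sp hA, ← mulVec_add, add_sub_cancel]
    simp only [Equiv.subRight_apply]
    rw [mul_assoc, e1, ← mul_assoc, ← mul_assoc, e2, mul_smul_comm, smul_mul_assoc, smul_mul_assoc]
    congr 2
    simp only [cocycle, mulVec_sub, dotProduct_sub, hJ, neg_dotProduct]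
    rw [J_anti u v]; ring
  -- some average is nonzero
  by_contra hall
  push Not at hall
  have hz : ∀ T, avg T = 0 := fun T => by_contra fun h => hall _ h (havg T)
  -- the operators are independent
  have hprim := AddChar.IsPrimitive.of_ne_one (show e ≠ 1 from fun h => he (by rw [h]; rfl))
  have hconj : ∀ y v : Fin n ⊕ Fin n → F, heis e y * heis e v * heis e (-y) =
      e (cocycle y v - cocycle v y) • heis e v := by
    intro y v
    have hs : heis e y * heis e v = e (cocycle y v - cocycle v y) • (heis e v * heis e y) := by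
      rw [heis_mul e h2, heis_mul e h2, smul_smul, ← AddChar.map_add_eq_mul, sub_add_cancel, add_comm y v]
    rw [hs, smul_mul_assoc, mul_assoc, hinv, mul_one]
  have hne : ∀ v : Fin n ⊕ Fin n → F, heis e v ≠ 0 := fun v h => by
    have := hinv v; rw [h, zero_mul] at this; exact zero_ne_one this
  have hli : LinearIndependent ℂ fun v => heis e (A *ᵥ v) := by
    refine linearIndependent_of_separated _ (fun v => hne _)
      (fun y => (LinearMap.mulLeft ℂ (heis e y)) ∘ₗ (LinearMap.mulRight ℂ (heis e (-y))))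
      (fun y v => e (cocycle y (A *ᵥ v) - cocycle (A *ᵥ v) y))
      (fun y v => by simpa [mul_assoc] using hconj y (A *ᵥ v)) fun i j hij => ?_
    by_contra hcon
    push Not at hcon
    apply hij
    have hinjA : Function.Injective (A *ᵥ ·) := mulVec_injective_iff_isUnit.2
      ((isUnit_iff_isUnit_det _).2 (SymplecticGroup.symplectic_det hA))
    apply hinjA
    show A *ᵥ i = A *ᵥ j
    set d := A *ᵥ i - A *ᵥ j
    by_contra hd
    have hd0 : d ≠ 0 := sub_ne_zero.2 hd
    obtain ⟨k, hk⟩ := Function.ne_iff.1 (show Matrix.J (Fin n) F *ᵥ d ≠ 0 from fun h => hd0 (by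
      have := congrArg (fun z => Matrix.J (Fin n) F *ᵥ z) h
      simpa [mulVec_mulVec, Matrix.J_squared, neg_mulVec] using this))
    refine hprim hk (DFunLike.ext _ _ fun t => ?_)
    have h3 := hcon (-(t • Pi.single k 1))
    have hanti := J_anti (F := F) (n := n)
    have ev : ∀ z, cocycle (-(t • (Pi.single k 1 : Fin n ⊕ Fin n → F))) z -
        cocycle z (-(t • (Pi.single k 1 : Fin n ⊕ Fin n → F))) =
        t * (Matrix.J (Fin n) F *ᵥ z) k := fun z => by
      simp only [cocycle]
      rw [hanti (-(t • (Pi.single k 1 : Fin n ⊕ Fin n → F))) z, neg_dotProduct, smul_dotProduct,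
        single_one_dotProduct, smul_eq_mul]
      field_simp
      ring
    rw [ev, ev] at h3
    show e ((Matrix.J (Fin n) F *ᵥ d) k * t) = 1
    have hsplit : t * (Matrix.J (Fin n) F *ᵥ (A *ᵥ i)) k =
        (Matrix.J (Fin n) F *ᵥ d) k * t + t * (Matrix.J (Fin n) F *ᵥ (A *ᵥ j)) k := by
      simp [d, mulVec_sub]; ring
    rw [hsplit, AddChar.map_add_eq_mul] at h3
    exact (mul_eq_right₀ (e.val_isUnit _).ne_zero).1 h3
  -- contradiction from the averages of rank-one maps
  have h0 : heis e (-(0 : Fin n ⊕ Fin n → F)) = 0 := by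
    apply LinearMap.ext; intro f; funext x
    have key : ∑ v, (heis e (-v) f x) • heis e (A *ᵥ v) = 0 := by
      apply LinearMap.ext; intro g
      let T : Module.End ℂ (Fun F n) := (LinearMap.proj x).smulRight g
      have := LinearMap.congr_fun (hz T) f
      simp only [avg, LinearMap.sum_apply, Module.End.mul_apply, T, LinearMap.smulRight_apply,
        LinearMap.proj_apply, map_smul, LinearMap.zero_apply] at this
      simpa [LinearMap.sum_apply] using this
    simpa using Fintype.linearIndependent_iff.1 hli _ key 0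
  exact hne _ h0

variable (F n) in
/-- Parity. -/
def parity : Module.End ℂ (Fun F n) where
  toFun f x := f (-x)
  map_add' _ _ := rfl
  map_smul' _ _ := rfl

variable (F n) in
/-- The odd functions. -/
def oddPart : Submodule ℂ (Fun F n) := Module.End.eigenspace (parity F n) (-1)

variable (F n) in
/-- The even functions. -/
def evenPart : Submodule ℂ (Fun F n) := Module.End.eigenspace (parity F n) 1

theorem parity_twiner : IsTwiner e (-1) (parity F n) := by
  intro v
  apply LinearMap.ext; intro f; funext x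
  have p1 : ((-1 : Matrix (Fin n ⊕ Fin n) (Fin n ⊕ Fin n) F) *ᵥ v) ∘ Sum.inl = -(v ∘ Sum.inl) := by
    funext i; simp [neg_mulVec]
  have p2 : ((-1 : Matrix (Fin n ⊕ Fin n) (Fin n ⊕ Fin n) F) *ᵥ v) ∘ Sum.inr = -(v ∘ Sum.inr) := by
    funext i; simp [neg_mulVec]
  show heis e v f (-x) = _
  simp only [Module.End.mul_apply, heis_apply, p1, p2]
  show _ = _ * f (-(x + -(v ∘ Sum.inl)))
  simp [dotProduct_neg, neg_dotProduct, neg_add_rev, add_comm]

theorem trace_parity (h2 : (2 : F) ≠ 0) : LinearMap.trace ℂ _ (parity F n) = 1 := by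
  classical
  rw [LinearMap.trace_eq_matrix_trace ℂ (Pi.basisFun ℂ (Fin n → F))]
  rw [Matrix.trace, Finset.sum_eq_single (0 : Fin n → F)]
  · simp [LinearMap.toMatrix_apply, parity]
  · intro x _ hx
    have : -x ≠ x := by
      intro h
      obtain ⟨i, hi⟩ := Function.ne_iff.1 hx
      refine hi ((mul_eq_zero.1 (show (2 : F) * x i = 0 from ?_)).resolve_left h2)
      have := congrFun h i
      simp only [Pi.neg_apply] at this
      linear_combination -this
    simp [LinearMap.toMatrix_apply, parity, this]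
  · simp

theorem twiner_comm_parity (he : e ≠ 0) (h2 : (2 : F) ≠ 0)
    {A : Matrix (Fin n ⊕ Fin n) (Fin n ⊕ Fin n) F}
    {W : Module.End ℂ (Fun F n)} (hW : IsTwiner e A W) (hW0 : W ≠ 0) :
    W * parity F n = parity F n * W := by
  have hinj := hW.injective he h2 hW0
  let E : Fun F n ≃ₗ[ℂ] Fun F n := LinearEquiv.ofInjectiveEndo W hinj
  have hP2 : parity F n * parity F n = 1 := by
    apply LinearMap.ext; intro f; funext x; show f (- -x) = f x; rw [neg_neg]
  have hPW : ∀ v, (parity F n * W) * heis e v = heis e ((-1 * A) *ᵥ v) * (parity F n * W) :=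
    (parity_twiner).mul e hW
  have hWP : ∀ v, (W * parity F n) * heis e v = heis e ((A * -1) *ᵥ v) * (W * parity F n) :=
    hW.mul e parity_twiner
  -- `W⁻¹ P W P` commutes with the Heisenberg group
  let Wi : Module.End ℂ (Fun F n) := (E.symm : Fun F n →ₗ[ℂ] Fun F n)
  have hWWi : W * Wi = 1 := by
    apply LinearMap.ext; intro f; exact LinearEquiv.apply_symm_apply E f
  have hWiW : Wi * W = 1 := by
    apply LinearMap.ext; intro f; exact LinearEquiv.symm_apply_apply E f
  have hWi : ∀ v, Wi * heis e (A *ᵥ v) = heis e v * Wi := fun v => by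
    calc Wi * heis e (A *ᵥ v) = Wi * (heis e (A *ᵥ v) * W) * Wi := by
          rw [mul_assoc, mul_assoc, hWWi, mul_one]
      _ = Wi * (W * heis e v) * Wi := by rw [hW v]
      _ = heis e v * Wi := by rw [← mul_assoc, hWiW, one_mul]
  obtain ⟨c, hc⟩ := scalar_of_commute he h2 (Wi * parity F n * W * parity F n) (fun v => by
    calc Wi * parity F n * W * parity F n * heis e v
        = Wi * parity F n * ((W * parity F n) * heis e v) := by simp only [mul_assoc]
      _ = Wi * parity F n * (heis e ((A * -1) *ᵥ v) * (W * parity F n)) := by rw [hWP]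
      _ = Wi * (parity F n * heis e ((A * -1) *ᵥ v)) * (W * parity F n) := by simp only [mul_assoc]
      _ = Wi * (heis e (-1 *ᵥ ((A * -1) *ᵥ v)) * parity F n) * (W * parity F n) := by
          rw [parity_twiner]
      _ = Wi * heis e (A *ᵥ v) * parity F n * W * parity F n := by
          rw [mulVec_mulVec]; simp [mul_assoc]
      _ = _ := by rw [hWi]; simp only [mul_assoc])
  have h1 : parity F n * W = c • (W * parity F n) := by
    have := congrArg (fun X => W * X * parity F n) hc
    simp only [← mul_assoc, hWWi, one_mul, mul_smul_comm, smul_mul_assoc, mul_one] at this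
    rw [mul_assoc _ (parity F n) (parity F n), hP2, mul_one] at this
    exact this
  have h2' : parity F n = c • (W * parity F n * Wi) := by
    rw [← smul_mul_assoc, ← h1, mul_assoc, hWWi, mul_one]
  have htr := congrArg (LinearMap.trace ℂ _) h2'
  rw [map_smul, LinearMap.trace_mul_cycle, hWiW, one_mul, trace_parity h2, smul_eq_mul, mul_one] at htr
  rw [h1, ← htr, one_smul]

/-- The restriction of an endomorphism to a submodule, if it preserves it. -/
noncomputable def resDet (K : Submodule ℂ (Fun F n)) (W : Module.End ℂ (Fun F n)) : ℂ := by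
  classical
  exact if h : ∀ f ∈ K, W f ∈ K then LinearMap.det (W.restrict h) else 0

omit [Fintype F] in
theorem resDet_eq {K : Submodule ℂ (Fun F n)} {W : Module.End ℂ (Fun F n)} (h : ∀ f ∈ K, W f ∈ K) :
    resDet K W = LinearMap.det (W.restrict h) := dif_pos h

theorem maps_parts {W : Module.End ℂ (Fun F n)} (h : W * parity F n = parity F n * W) (c : ℂ) :
    ∀ f ∈ Module.End.eigenspace (parity F n) c, W f ∈ Module.End.eigenspace (parity F n) c := by
  intro f hf
  rw [Module.End.mem_eigenspace_iff] at hf ⊢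
  rw [← Module.End.mul_apply, ← h, Module.End.mul_apply, hf, map_smul]

/-- The normalising scalar. -/
noncomputable def norml (W : Module.End ℂ (Fun F n)) : ℂ :=
  resDet (oddPart F n) W / resDet (evenPart F n) W

theorem finrank_parts (h2 : (2 : F) ≠ 0) :
    finrank ℂ (evenPart F n) = finrank ℂ (oddPart F n) + 1 ∧
      2 * finrank ℂ (oddPart F n) + 1 = Fintype.card F ^ n := by
  classical
  have hP2 : ∀ f, parity F n (parity F n f) = f := fun f => by
    funext x; show f (- -x) = f x; rw [neg_neg]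
  have hc : IsCompl (evenPart F n) (oddPart F n) := by
    refine IsCompl.of_eq ?_ ?_
    · rw [eq_bot_iff]
      intro f hf
      obtain ⟨h1, h2⟩ := Submodule.mem_inf.1 hf
      rw [evenPart, Module.End.mem_eigenspace_iff] at h1
      rw [oddPart, Module.End.mem_eigenspace_iff, h1] at h2
      rw [Submodule.mem_bot]
      funext x
      have := congrFun h2 x
      simp at this ⊢
      linear_combination this / 2
    · rw [eq_top_iff]
      intro f _
      refine Submodule.mem_sup.2 ⟨(2⁻¹ : ℂ) • (f + parity F n f), ?_, (2⁻¹ : ℂ) • (f - parity F n f), ?_, ?_⟩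
      · rw [evenPart, Module.End.mem_eigenspace_iff, map_smul, map_add, hP2, one_smul, add_comm]
      · rw [oddPart, Module.End.mem_eigenspace_iff, map_smul, map_sub, hP2, smul_smul,
          mul_comm, ← smul_smul, neg_one_smul, neg_sub]
      · rw [← smul_add]; module
  have hdim := Submodule.finrank_add_eq_of_isCompl hc
  have htot : finrank ℂ (Fun F n) = Fintype.card F ^ n := by simp
  -- trace of parity
  let E := Submodule.prodEquivOfIsCompl _ _ hc
  have htr : LinearMap.trace ℂ _ (parity F n) =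
      (finrank ℂ (evenPart F n) : ℂ) - finrank ℂ (oddPart F n) := by
    have hconj : parity F n = E.conj (LinearMap.prodMap (LinearMap.id) (-LinearMap.id)) := by
      apply LinearMap.ext; intro f
      obtain ⟨⟨a, b⟩, rfl⟩ := E.surjective f
      rw [LinearEquiv.conj_apply_apply, LinearEquiv.symm_apply_apply]
      simp only [LinearMap.prodMap_apply, LinearMap.id_apply, LinearMap.neg_apply, E,
        Submodule.coe_prodEquivOfIsCompl', map_add]
      rw [Module.End.mem_eigenspace_iff.1 a.2, Module.End.mem_eigenspace_iff.1 b.2]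
      simp
    rw [hconj, LinearMap.trace_conj', LinearMap.trace_prodMap']
    rw [show (-LinearMap.id : oddPart F n →ₗ[ℂ] oddPart F n) = (-1 : ℂ) • LinearMap.id from by ext; simp, map_smul]
    simp [LinearMap.trace_id, sub_eq_add_neg]
  rw [trace_parity h2] at htr
  have h3 : finrank ℂ (evenPart F n) = finrank ℂ (oddPart F n) + 1 := by
    have : (finrank ℂ (evenPart F n) : ℂ) = (finrank ℂ (oddPart F n) + 1 : ℕ) := by
      push_cast; linear_combination -htr
    exact_mod_cast this
  exact ⟨h3, by omega⟩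

theorem resDet_mul {K : Submodule ℂ (Fun F n)} {V W : Module.End ℂ (Fun F n)}
    (hV : ∀ f ∈ K, V f ∈ K) (hW : ∀ f ∈ K, W f ∈ K) :
    resDet K (V * W) = resDet K V * resDet K W := by
  have hVW : ∀ f ∈ K, (V * W) f ∈ K := fun f hf => hV _ (hW f hf)
  rw [resDet_eq hV, resDet_eq hW, resDet_eq hVW, ← map_mul]
  rfl

/-- The normalisation of intertwiners. -/
theorem norml_smul_self (he : e ≠ 0) (h2 : (2 : F) ≠ 0)
    {A : Matrix (Fin n ⊕ Fin n) (Fin n ⊕ Fin n) F}
    {V W : Module.End ℂ (Fun F n)} (hA : A ∈ Matrix.symplecticGroup (Fin n) F)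
    (hV : IsTwiner e A V) (hV0 : V ≠ 0) (hW : IsTwiner e A W) (hW0 : W ≠ 0) :
    norml V • V = norml W • W := by
  classical
  have hinj := hW.injective he h2 hW0
  let E : Fun F n ≃ₗ[ℂ] Fun F n := LinearEquiv.ofInjectiveEndo W hinj
  let Wi : Module.End ℂ (Fun F n) := (E.symm : Fun F n →ₗ[ℂ] Fun F n)
  have hWWi : W * Wi = 1 := by
    apply LinearMap.ext; intro f; exact LinearEquiv.apply_symm_apply E f
  have hWiW : Wi * W = 1 := by
    apply LinearMap.ext; intro f; exact LinearEquiv.symm_apply_apply E f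
  obtain ⟨c, hc⟩ := scalar_of_commute he h2 (Wi * V) (fun v => by
    calc Wi * V * heis e v = Wi * (heis e (A *ᵥ v) * (W * Wi)) * V := by
          rw [hWWi, mul_one, mul_assoc, hV v, mul_assoc]
      _ = Wi * (W * heis e v) * Wi * V := by rw [hW v]; simp only [mul_assoc]
      _ = _ := by rw [← mul_assoc Wi W, hWiW, one_mul, mul_assoc])
  have hVc : V = c • W := by
    have := congrArg (W * ·) hc
    rwa [← mul_assoc, hWWi, one_mul, mul_smul_comm, mul_one] at this
  have hc0 : c ≠ 0 := fun h => hV0 (by rw [hVc, h, zero_smul])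
  have hcomm := twiner_comm_parity he h2 hW hW0
  have hpres := fun r => maps_parts hcomm r
  have hres : ∀ r, resDet (Module.End.eigenspace (parity F n) r) V =
      c ^ finrank ℂ (Module.End.eigenspace (parity F n) r) *
        resDet (Module.End.eigenspace (parity F n) r) W := by
    intro r
    have hV' : ∀ f ∈ Module.End.eigenspace (parity F n) r, V f ∈ Module.End.eigenspace (parity F n) r :=
      fun f hf => by rw [hVc]; exact Submodule.smul_mem _ c (hpres r f hf)
    rw [resDet_eq hV', resDet_eq (hpres r), ← LinearMap.det_smul]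
    congr 1
    apply LinearMap.ext; intro f; apply Subtype.ext
    show V f.1 = c • W f.1
    rw [hVc]; rfl
  have hd : norml V = norml W / c := by
    simp only [norml, oddPart, evenPart, hres]
    rw [show finrank ℂ (Module.End.eigenspace (parity F n) 1) = finrank ℂ (Module.End.eigenspace (parity F n) (-1)) + 1 from
      (finrank_parts h2).1, pow_succ]
    field_simp
  rw [hd, hVc, smul_smul, div_mul_cancel₀ _ hc0]

theorem resDet_ne_zero {K : Submodule ℂ (Fun F n)} {W : Module.End ℂ (Fun F n)}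
    (hW : ∀ f ∈ K, W f ∈ K) (hinj : Function.Injective W) : resDet K W ≠ 0 := by
  rw [resDet_eq hW]
  intro h
  have h' := LinearMap.bot_lt_ker_of_det_eq_zero h
  rw [LinearMap.ker_eq_bot.2 fun a b hab => Subtype.ext (hinj (congrArg Subtype.val hab))] at h'
  exact lt_irrefl _ h'

/-- The Weil representation on all functions. -/
theorem exists_weil (he : e ≠ 0) (h2 : (2 : F) ≠ 0) :
    ∃ ω : Representation ℂ (Matrix.symplecticGroup (Fin n) F) (Fun F n),
      (∀ g, ω g * parity F n = parity F n * ω g) ∧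
      ∀ g W, IsTwiner e g.1 W → W ≠ 0 → ∃ c : ℂ, c ≠ 0 ∧ ω g = c • W := by
  classical
  choose T hT0 hT using fun g : Matrix.symplecticGroup (Fin n) F => exists_twiner he h2 g.2
  have hnn : ∀ {A} {W : Module.End ℂ (Fun F n)}, IsTwiner e A W → W ≠ 0 → norml W ≠ 0 := by
    intro A W hW hW0
    have hc := twiner_comm_parity he h2 hW hW0
    exact div_ne_zero (resDet_ne_zero (maps_parts hc _) (hW.injective he h2 hW0))
      (resDet_ne_zero (maps_parts hc _) (hW.injective he h2 hW0))
  let ω : Matrix.symplecticGroup (Fin n) F → Module.End ℂ (Fun F n) := fun g => norml (T g) • T g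
  have hω : ∀ g W, IsTwiner e g.1 W → W ≠ 0 → ω g = norml W • W := fun g W hW hW0 =>
    norml_smul_self he h2 g.2 (hT g) (hT0 g) hW hW0
  have hne1 : (1 : Module.End ℂ (Fun F n)) ≠ 0 := by
    intro h
    have := congrFun (LinearMap.congr_fun h (Pi.single 0 1)) 0
    simp at this
  refine ⟨{ toFun := ω, map_one' := ?_, map_mul' := fun g h => ?_ }, fun g => ?_, fun g W hW hW0 =>
    ⟨_, hnn hW hW0, hω g W hW hW0⟩⟩
  · rw [hω 1 1 (isTwiner_one e) hne1]
    have : norml (1 : Module.End ℂ (Fun F n)) = 1 := by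
      have hr : ∀ K : Submodule ℂ (Fun F n), resDet K (1 : Module.End ℂ (Fun F n)) = 1 := fun K => by
        rw [resDet_eq (fun f hf => hf)]
        exact map_one LinearMap.det
      simp [norml, hr]
    rw [this, one_smul]
  · have hgh : IsTwiner e (g * h).1 (T g * T h) := (hT g).mul e (hT h)
    have hgh0 : T g * T h ≠ 0 := fun hz => hT0 h (LinearMap.ext fun f => (hT g).injective he h2 (hT0 g)
      (by simpa using LinearMap.congr_fun hz f))
    rw [hω (g * h) _ hgh hgh0]
    show _ = norml (T g) • T g * norml (T h) • T h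
    rw [smul_mul_smul_comm]
    congr 1
    have cg := twiner_comm_parity he h2 (hT g) (hT0 g)
    have ch := twiner_comm_parity he h2 (hT h) (hT0 h)
    simp only [norml, oddPart, evenPart, resDet_mul (maps_parts cg _) (maps_parts ch _)]
    rw [mul_div_mul_comm]
  · show norml (T g) • T g * parity F n = parity F n * norml (T g) • T g
    rw [smul_mul_assoc, mul_smul_comm, twiner_comm_parity he h2 (hT g) (hT0 g)]

variable (e) in
/-- Chirp. -/
noncomputable def chirp (H : Matrix (Fin n) (Fin n) F) : Module.End ℂ (Fun F n) where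
  toFun f x := e (-(x ⬝ᵥ H *ᵥ x) * 2⁻¹) * f x
  map_add' f g := by funext x; simp [mul_add]
  map_smul' c f := by funext x; simp [mul_left_comm]

theorem chirp_twiner (h2 : (2 : F) ≠ 0) (H : Matrix (Fin n) (Fin n) F) (hH : Hᵀ = H) :
    IsTwiner e (lowerU H) (chirp e H) := by
  intro v
  apply LinearMap.ext; intro f; funext x
  have p1 : (lowerU H *ᵥ v) ∘ Sum.inl = v ∘ Sum.inl := by funext i; simp [lowerU, fromBlocks_mulVec]
  have p2 : (lowerU H *ᵥ v) ∘ Sum.inr = H *ᵥ (v ∘ Sum.inl) + v ∘ Sum.inr := by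
    funext i; simp [lowerU, fromBlocks_mulVec]
  show e (-(x ⬝ᵥ H *ᵥ x) * 2⁻¹) * heis e v f x = heis e (lowerU H *ᵥ v) (chirp e H f) x
  rw [heis_apply, heis_apply, p1, p2]
  show _ = e _ * (e _ * f (x + v ∘ Sum.inl))
  rw [← mul_assoc, ← mul_assoc, ← AddChar.map_add_eq_mul, ← AddChar.map_add_eq_mul]
  congr 2
  set a := v ∘ Sum.inl
  set b := v ∘ Sum.inr
  have hs : a ⬝ᵥ H *ᵥ x = x ⬝ᵥ H *ᵥ a := by
    rw [dotProduct_mulVec, ← mulVec_transpose, hH, dotProduct_comm]
  have hc : (H *ᵥ a) ⬝ᵥ x = x ⬝ᵥ H *ᵥ a := dotProduct_comm _ _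
  simp only [mulVec_add, dotProduct_add, add_dotProduct, hs, hc]
  field_simp
  ring

variable (F n) in
/-- Substitution. -/
def subst (A : Matrix (Fin n) (Fin n) F) : Module.End ℂ (Fun F n) where
  toFun f x := f (A *ᵥ x)
  map_add' _ _ := rfl
  map_smul' _ _ := rfl

/-- The odd part is irreducible, of degree `(q^n - 1)/2`. -/
theorem exists_odd_irreducible [StarRing F] (hs : ∀ x : F, star x = x) (h2 : (2 : F) ≠ 0)
    (hn : 2 ≤ n) :
    ∃ ρ : Representation ℂ (Matrix.symplecticGroup (Fin n) F)
      (Fin ((Fintype.card F ^ n - 1) / 2) → ℂ), ρ.IsIrreducible := by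
  classical
  obtain ⟨e, he1⟩ : ∃ e : AddChar F ℂ, e 1 ≠ 1 := AddChar.exists_apply_ne_zero.2 one_ne_zero
  have he : e ≠ 0 := fun h => he1 (by simp [h])
  obtain ⟨ω, hω, htw⟩ := exists_weil (n := n) he h2
  have hpres : ∀ g, ∀ f ∈ oddPart F n, ω g f ∈ oddPart F n := fun g => maps_parts (hω g) (-1)
  have hd : finrank ℂ (oddPart F n) = (Fintype.card F ^ n - 1) / 2 := by
    have := (finrank_parts (F := F) (n := n) h2).2; omega
  let σ : Representation ℂ (Matrix.symplecticGroup (Fin n) F) (oddPart F n) :=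
    { toFun := fun g => (ω g).restrict (hpres g)
      map_one' := LinearMap.ext fun f => Subtype.ext (by simp)
      map_mul' := fun g h => LinearMap.ext fun f => Subtype.ext (by simp) }
  let E : oddPart F n ≃ₗ[ℂ] (Fin ((Fintype.card F ^ n - 1) / 2) → ℂ) :=
    LinearEquiv.ofFinrankEq _ _ (by rw [hd, Module.finrank_fin_fun])
  let ρ : Representation ℂ (Matrix.symplecticGroup (Fin n) F)
      (Fin ((Fintype.card F ^ n - 1) / 2) → ℂ) :=
    { toFun := fun g => E.conj (σ g)
      map_one' := by rw [map_one]; exact LinearEquiv.conj_id E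
      map_mul' := fun g h => by rw [map_mul]; exact LinearEquiv.conj_comp E (σ h) (σ g) }
  have hρ : ∀ g f, E.symm (ρ g f) = σ g (E.symm f) := fun g f => by
    show E.symm (E.conj (σ g) f) = _
    rw [LinearEquiv.conj_apply_apply, LinearEquiv.symm_apply_apply]
  have hpos : 0 < (Fintype.card F ^ n - 1) / 2 := by
    have h3 : 3 ≤ Fintype.card F := by
      have := Fintype.one_lt_card (α := F)
      by_contra h
      have h' : Fintype.card F = 2 := by omega
      exact h2 (by simpa [h'] using Nat.cast_card_eq_zero F)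
    have : 3 ≤ Fintype.card F ^ n := h3.trans (Nat.le_self_pow (by omega) _)
    omega
  haveI : Nontrivial (Fin ((Fintype.card F ^ n - 1) / 2) → ℂ) := by
    haveI : Nonempty (Fin ((Fintype.card F ^ n - 1) / 2)) := ⟨⟨0, hpos⟩⟩
    exact Function.nontrivial
  refine ⟨ρ, ?_⟩
  have : ∀ S : Subrepresentation ρ, S = ⊥ ∨ S = ⊤ := by
    intro S
    by_contra hcon
    push Not at hcon
    obtain ⟨hbot, htop⟩ := hcon
    set D := sympData hs n
    have htriv : ∀ H, ∀ f ∈ S.toSubmodule, ρ (D.radical H) f = f := by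
      intro H f hf
      by_contra hne
      have hb := symp_odd_bound hs h2 hn S.toRepresentation H (fun h => hne (by
        exact congrArg Subtype.val (LinearMap.congr_fun h ⟨f, hf⟩)))
      have hlt : finrank ℂ S.toSubmodule < finrank ℂ (Fin ((Fintype.card F ^ n - 1) / 2) → ℂ) :=
        Submodule.finrank_lt fun h => htop (Subrepresentation.toSubmodule_injective h)
      rw [Module.finrank_fin_fun] at hlt
      omega
    -- the fixed vectors are fixed by the whole group
    have hall : ∀ g, ∀ f ∈ S.toSubmodule, ρ g f = f := by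
      let K : Subgroup (Matrix.symplecticGroup (Fin n) F) := MonoidHom.ker S.toRepresentation
      have hK : Subgroup.normalClosure (Set.range D.radical) ≤ K := by
        refine Subgroup.normalClosure_le_normal ?_
        rintro _ ⟨H, rfl⟩
        exact LinearMap.ext fun f => Subtype.ext (htriv H f.1 f.2)
      rw [D.normalClosure_eq_top (t := (1 : F)) (by ring) hn (by simp) one_ne_zero] at hK
      intro g f hf
      exact congrArg Subtype.val (LinearMap.congr_fun (hK (Subgroup.mem_top g)) ⟨f, hf⟩)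
    obtain ⟨f₀, hf₀, hf₀0⟩ := Submodule.exists_mem_ne_zero_of_ne_bot (p := S.toSubmodule)
      (fun h => hbot (Subrepresentation.toSubmodule_injective h))
    set f : Fun F n := (E.symm f₀).1 with hfdef
    have hfix : ∀ g, ω g f = f := fun g => by
      have := hρ g f₀
      rw [hall g f₀ hf₀] at this
      exact (congrArg Subtype.val this).symm
    have hodd : ∀ x, f (-x) = -f x := fun x => by
      have := congrFun (Module.End.mem_eigenspace_iff.1 (E.symm f₀).2) x
      simp only [Pi.smul_apply, smul_eq_mul, neg_one_mul] at this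
      exact this
    obtain ⟨x, hx⟩ : ∃ x, f x ≠ 0 := by
      by_contra h; push Not at h
      exact hf₀0 (E.symm.injective (by rw [map_zero]; exact Subtype.ext (funext h)))
    have hx0 : x ≠ 0 := by
      rintro rfl
      have := hodd 0
      rw [neg_zero] at this
      exact hx (by linear_combination this / 2)
    -- chirps separate, substitutions move
    have hch : ∀ y, f y ≠ 0 → ∀ H : Matrix (Fin n) (Fin n) F, Hᵀ = H → x ⬝ᵥ H *ᵥ x = y ⬝ᵥ H *ᵥ y := by
      intro y hy H hH
      by_contra hne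
      have hprim := AddChar.IsPrimitive.of_ne_one (show e ≠ 1 from fun h => he (by rw [h]; rfl))
      refine hprim (sub_ne_zero.2 hne) (DFunLike.ext _ _ fun t => ?_)
      set H' := (-(2 * t)) • H with hH'
      have hH'' : H' ∈ skewPart n (-1 : F) := by
        rw [mem_skewPart_neg_one hs, hH', transpose_smul, hH]
      have hC0 : chirp e H' ≠ 0 := fun h => by
        have h4 := congrFun (LinearMap.congr_fun h (Pi.single x 1)) x
        simp [chirp, (e.val_isUnit _).ne_zero] at h4
      obtain ⟨c, hc, hωc⟩ := htw (D.lower ⟨H', hH''⟩) (chirp e H')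
        (chirp_twiner h2 H' ((mem_skewPart_neg_one hs).1 hH'')) hC0
      have h1 := hfix (D.lower ⟨H', hH''⟩)
      rw [hωc] at h1
      have ex := congrFun h1 x
      have ey := congrFun h1 y
      simp only [LinearMap.smul_apply, Pi.smul_apply, smul_eq_mul] at ex ey
      change c * (e (-(x ⬝ᵥ H' *ᵥ x) * 2⁻¹) * f x) = f x at ex
      change c * (e (-(y ⬝ᵥ H' *ᵥ y) * 2⁻¹) * f y) = f y at ey
      have hval : ∀ z : Fin n → F, -(z ⬝ᵥ H' *ᵥ z) * 2⁻¹ = (z ⬝ᵥ H *ᵥ z) * t := fun z => by
        simp only [hH', smul_mulVec, dotProduct_smul, smul_eq_mul]; field_simp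
      rw [hval] at ex ey
      have ex' : c * e ((x ⬝ᵥ H *ᵥ x) * t) = 1 := by
        rw [← mul_assoc] at ex; exact (mul_eq_right₀ hx).1 ex
      have ey' : c * e ((y ⬝ᵥ H *ᵥ y) * t) = 1 := by
        rw [← mul_assoc] at ey; exact (mul_eq_right₀ hy).1 ey
      show e ((x ⬝ᵥ H *ᵥ x - y ⬝ᵥ H *ᵥ y) * t) = 1
      rw [sub_mul, AddChar.map_sub_eq_div, mul_left_cancel₀ hc (ex'.trans ey'.symm),
        div_self (e.val_isUnit _).ne_zero]
    have hmove : ∀ y, y ≠ 0 → f y ≠ 0 := by
      intro y hy
      obtain ⟨A, hA, hAx⟩ := exists_det_one_mulVec hn x y hx0 hy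
      have hAd : A.det ≠ 0 := by simp [hA]
      obtain ⟨g, hg⟩ := D.exists_levi (t := (1 : F)) (by ring) hn (by simp) one_ne_zero A hAd (hs _)
      have htwin : IsTwiner e g.1 (subst F n A⁻¹) := by
        intro v
        rw [show g.1 = leviM A from hg]
        apply LinearMap.ext; intro f'; funext z
        have hu := Ne.isUnit hAd
        have p1 : (leviM A *ᵥ v) ∘ Sum.inl = A *ᵥ (v ∘ Sum.inl) := by
          funext i; simp [leviM, fromBlocks_mulVec]
        have p2 : (leviM A *ᵥ v) ∘ Sum.inr = (A⁻¹)ᵀ *ᵥ (v ∘ Sum.inr) := by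
          funext i; simp [leviM, fromBlocks_mulVec, conjTranspose_eq hs]
        show heis e v f' (A⁻¹ *ᵥ z) = heis e (leviM A *ᵥ v) (subst F n A⁻¹ f') z
        rw [heis_apply, heis_apply, p1, p2]
        show _ = e _ * f' (A⁻¹ *ᵥ (z + A *ᵥ (v ∘ Sum.inl)))
        rw [mulVec_add, mulVec_mulVec, nonsing_inv_mul A hu, one_mulVec]
        congr 2
        rw [mulVec_transpose, ← dotProduct_mulVec, dotProduct_comm (A *ᵥ (v ∘ Sum.inl)),
          ← dotProduct_mulVec, mulVec_mulVec, nonsing_inv_mul A hu, one_mulVec, dotProduct_comm (v ∘ Sum.inr) (v ∘ Sum.inl)]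
      have hS0 : subst F n A⁻¹ ≠ 0 := fun h => by
        have := congrFun (LinearMap.congr_fun h (Pi.single x 1)) y
        simp [subst, ← hAx, mulVec_mulVec, nonsing_inv_mul A (Ne.isUnit hAd)] at this
      obtain ⟨c, hc, hωc⟩ := htw g _ htwin hS0
      have h1 := congrFun (hfix g) y
      rw [hωc] at h1
      simp only [LinearMap.smul_apply, Pi.smul_apply, smul_eq_mul] at h1
      change c * f (A⁻¹ *ᵥ y) = f y at h1
      rw [← hAx, mulVec_mulVec, nonsing_inv_mul A (Ne.isUnit hAd), one_mulVec, hAx] at h1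
      rw [← h1]
      exact mul_ne_zero hc hx
    obtain ⟨i, hi⟩ := Function.ne_iff.1 hx0
    obtain ⟨j, hj⟩ := Fintype.exists_ne_of_one_lt_card (by simp; omega : 1 < Fintype.card (Fin n)) i
    have h3 := hch (Pi.single j 1) (hmove _ (by simp)) (single i i 1) (by simp)
    simp [single_mulVec, dotProduct, Pi.single_apply, Function.update_apply, hj.symm] at h3
    exact hi h3
  exact { eq_bot_or_eq_top := this
          exists_pair_ne := ⟨⊥, ⊤, fun h => by
            have := congrArg Subrepresentation.toSubmodule h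
            exact bot_ne_top this⟩ }

end CfsgLib.MinDeg.Weil
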