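import Cfsg.Agent.Lib.MinDeg.SpWCount
import Cfsg.Agent.Lib.MinDeg.Weil

/-!
# The four Weil representations

Both parity parts of the Weil representation are irreducible; the Weil representation of the
character `t ↦ e (2ct)` has the weight of the class of `c` on the upper Siegel radical.
-/

set_option autoImplicit false
set_option linter.unusedSectionVars false
set_option linter.unusedSimpArgs false

namespace CfsgLib.MinDeg.SpW

open Matrix Module Weil

variable {F : Type*} [Field F] [Fintype F] {m : ℕ}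

theorem w0_mem : fromBlocks (0 : Matrix (Fin m) (Fin m) F) 1 (-1) 0 ∈
    Matrix.symplecticGroup (Fin m) F := by
  simp [SymplecticGroup.mem_iff, Matrix.J, fromBlocks_transpose, fromBlocks_multiply]

/-- The element exchanging the two halves. -/
def w0 : Spm F m := ⟨fromBlocks 0 1 (-1) 0, w0_mem⟩

theorem w0_mul_upp (H : Sm F m) : w0 * upp H = low (-H) * (w0 : Spm F m) := by
  refine Subtype.ext ?_
  show (w0 : Spm F m).1 * (upp H).1 = (low (-H)).1 * (w0 : Spm F m).1
  rw [upp_val, low_val]
  simp [w0, fromBlocks_multiply]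

variable (e : AddChar F ℂ)

/-- The Fourier operator. -/
noncomputable def four : Module.End ℂ (Fun F m) where
  toFun f x := ∑ y, e (x ⬝ᵥ y) * f y
  map_add' f g := by funext x; simp [mul_add, Finset.sum_add_distrib]
  map_smul' c f := by funext x; simp [Finset.mul_sum, mul_left_comm]

theorem four_twiner (h2 : (2 : F) ≠ 0) : IsTwiner e (w0 : Spm F m).1 (four e) := by
  intro v
  apply LinearMap.ext; intro f; funext x
  have p1 : ((w0 : Spm F m).1 *ᵥ v) ∘ Sum.inl = v ∘ Sum.inr := by
    funext i; simp [w0, fromBlocks_mulVec]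
  have p2 : ((w0 : Spm F m).1 *ᵥ v) ∘ Sum.inr = -(v ∘ Sum.inl) := by
    funext i; simp [w0, fromBlocks_mulVec, neg_mulVec]
  show ∑ y, e (x ⬝ᵥ y) * heis e v f y = heis e ((w0 : Spm F m).1 *ᵥ v) (four e f) x
  rw [heis_apply, p1, p2]
  show _ = _ * ∑ y, e ((x + v ∘ Sum.inr) ⬝ᵥ y) * f y
  rw [Finset.mul_sum]
  refine Fintype.sum_equiv (Equiv.addRight (v ∘ Sum.inl)) _ _ fun y => ?_
  rw [heis_apply, Equiv.coe_addRight, ← mul_assoc, ← mul_assoc, ← AddChar.map_add_eq_mul,
    ← AddChar.map_add_eq_mul]
  congr 2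
  set a := v ∘ Sum.inl
  set b := v ∘ Sum.inr
  simp only [add_dotProduct, dotProduct_add, dotProduct_neg, neg_dotProduct, dotProduct_comm b a,
    dotProduct_comm x a, dotProduct_comm y a]
  field_simp
  ring

theorem subst_twiner (B : GL (Fin m) F) : IsTwiner e (gl B).1 (subst F m (B.1)ᵀ) := by
  intro v
  apply LinearMap.ext; intro f; funext z
  have hi : (B⁻¹ : GL (Fin m) F).1 * B.1 = 1 := by
    rw [← Units.val_mul, inv_mul_cancel, Units.val_one]
  have hi' : (B.1)ᵀ * ((B⁻¹ : GL (Fin m) F).1)ᵀ = 1 := by rw [← transpose_mul, hi, transpose_one]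
  have p1 : ((gl B).1 *ᵥ v) ∘ Sum.inl = ((B⁻¹ : GL (Fin m) F).1)ᵀ *ᵥ (v ∘ Sum.inl) := by
    funext i; simp [gl_val, fromBlocks_mulVec]
  have p2 : ((gl B).1 *ᵥ v) ∘ Sum.inr = B.1 *ᵥ (v ∘ Sum.inr) := by
    funext i; simp [gl_val, fromBlocks_mulVec]
  show heis e v f ((B.1)ᵀ *ᵥ z) = heis e ((gl B).1 *ᵥ v) (subst F m (B.1)ᵀ f) z
  rw [heis_apply, heis_apply, p1, p2]
  show _ = e _ * f ((B.1)ᵀ *ᵥ (z + ((B⁻¹ : GL (Fin m) F).1)ᵀ *ᵥ (v ∘ Sum.inl)))
  rw [mulVec_add, mulVec_mulVec, hi', one_mulVec]
  congr 2
  set a := v ∘ Sum.inl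
  set b := v ∘ Sum.inr
  have e1 : b ⬝ᵥ (B.1)ᵀ *ᵥ z = (B.1 *ᵥ b) ⬝ᵥ z := by
    rw [dotProduct_mulVec, vecMul_transpose]
  have e2 : (((B⁻¹ : GL (Fin m) F).1)ᵀ *ᵥ a) ⬝ᵥ (B.1 *ᵥ b) = a ⬝ᵥ b := by
    rw [dotProduct_comm, dotProduct_mulVec, vecMul_transpose, mulVec_mulVec, hi, one_mulVec,
      dotProduct_comm]
  rw [e1, e2]

variable {e} (he : e ≠ 0) (h2 : (2 : F) ≠ 0) (hm : 2 ≤ m)
  {ω : Representation ℂ (Spm F m) (Fun F m)}
  (htw : ∀ g W, IsTwiner e g.1 W → W ≠ 0 → ∃ c : ℂ, c ≠ 0 ∧ ω g = c • W)

include htw h2 in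
theorem four_apply : ∃ l : ℂ, l ≠ 0 ∧
    ∀ f x, ω w0 f x = l * ∑ y, e (x ⬝ᵥ y) * f y := by
  classical
  obtain ⟨l, hl, h⟩ := htw w0 (four e) (four_twiner e h2) fun h => by
    have := congrFun (LinearMap.congr_fun h (Pi.single 0 1)) 0
    simp [four, Pi.single_apply] at this
  exact ⟨l, hl, fun f x => by rw [h]; rfl⟩

include htw in
theorem gl_apply (B : GL (Fin m) F) : ∃ l : ℂ, l ≠ 0 ∧
    ∀ f x, ω (gl B) f x = l * f ((B.1)ᵀ *ᵥ x) := by
  classical
  obtain ⟨l, hl, h⟩ := htw (gl B) (subst F m (B.1)ᵀ) (subst_twiner e B) fun h => by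
    have := congrFun (LinearMap.congr_fun h (Pi.single 0 1)) 0
    simp [subst, Pi.single_apply] at this
  exact ⟨l, hl, fun f x => by rw [h]; rfl⟩

include htw h2 hm in
/-- The lower radical acts by chirps alone. -/
theorem low_apply (H : Sm F m) (f : Fun F m) (x : Fin m → F) :
    ω (low H) f x = e (-qv H x * 2⁻¹) * f x := by
  classical
  have hC : ∀ H : Sm F m, ∃ c : ℂ, ∀ f x, ω (low H) f x = c * (e (-qv H x * 2⁻¹) * f x) := fun H => by
    obtain ⟨c, -, h⟩ := htw (low H) (chirp e H.1) (chirp_twiner h2 H.1 (symH H)) fun h => by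
      have := congrFun (LinearMap.congr_fun h (Pi.single 0 1)) 0
      simp [chirp] at this
    exact ⟨c, fun f x => by rw [h]; rfl⟩
  choose c hc using hC
  have hval : ∀ H, c H = ω (low H) (Pi.single 0 1) 0 := fun H => by
    simp [hc, qv_zero']
  have hadd : ∀ H K, c (H + K) = c H * c K := fun H K => by
    rw [hval, AddChar.map_add_eq_mul, map_mul, Module.End.mul_apply, hc, hc]
    simp [qv_zero']
  have h0 : c 0 = 1 := by rw [hval, AddChar.map_zero_eq_one, map_one]; simp
  have hconj : ∀ (k : Fin m) (r : F) (B : GL (Fin m) F),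
      c (vv r (B.1 *ᵥ Pi.single k 1)) = c (sE k r) := by
    intro k r B
    obtain ⟨l, hl, hB⟩ := gl_apply htw B
    have := congrArg (fun g => ω g (Pi.single 0 1) 0) (gl_mul_low B (sE k r))
    simp only [map_mul, Module.End.mul_apply, hc, hB, vv_single, mulVec_zero, qv_zero', neg_zero,
      zero_mul, AddChar.map_zero_eq_one, one_mul, Pi.single_eq_same, mul_one] at this
    rw [mul_comm] at this
    exact (mul_right_cancel₀ hl this).symm
  let k : Fin m := ⟨0, by omega⟩
  have hall : ∀ r v, v ≠ 0 → c (vv r v) = c (sE k r) := fun r v hv => by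
    obtain ⟨B, rfl⟩ := exists_gl_mulVec hm (Pi.single k (1 : F)) v (by simp) hv
    exact hconj k r B
  have hq : Odd (Fintype.card F) := by
    rcases Nat.even_or_odd (Fintype.card F) with h | h
    · exact absurd (FiniteField.even_card_iff_char_two.2 (Nat.even_iff.1 h))
        fun hc => h2 (by
          haveI : CharP F 2 := hc ▸ ringChar.charP F
          exact CharTwo.two_eq_zero)
    · exact h
  have hone : ∀ r, c (sE k r) = 1 := fun r => by
    let j : Fin m := ⟨1, by omega⟩
    have hjk : k ≠ j := by simp [k, j]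
    set a : Fin m → F := Pi.single k 1
    set b : Fin m → F := Pi.single j 1
    have ha : a ≠ 0 := by simp [a]
    have hb : b ≠ 0 := by simp [b]
    have hab : a + b ≠ 0 := fun h => by
      have := congrFun h k
      simp [a, b, hjk] at this
    have hab' : a - b ≠ 0 := fun h => by
      have := congrFun h k
      simp [a, b, hjk] at this
    have e1 : vv r (a + b) + vv r (a - b) = vv (2 * r) a + vv (2 * r) b := Subtype.ext <| by
      ext p s
      simp [vv, vecMulVec_apply]
      ring
    have e2 : vv (2 * r) a = vv r a + vv r a := Subtype.ext <| by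
      ext p s
      simp [vv, vecMulVec_apply]
      ring
    have e3 : vv (2 * r) b = vv r b + vv r b := Subtype.ext <| by
      ext p s
      simp [vv, vecMulVec_apply]
      ring
    have h := congrArg c e1
    rw [e2, e3, hadd, hadd, hadd, hadd, hall r _ hab, hall r _ hab', hall r _ ha, hall r _ hb] at h
    set g := c (sE k r) with hg
    have hp : ∀ n : ℕ, c (n • sE k r) = g ^ n := fun n => by
      induction n with
      | zero => simpa using h0
      | succ n ih => rw [succ_nsmul, hadd, ih, pow_succ]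
    have hgq : g ^ Fintype.card F = 1 := by
      rw [← hp, ← h0]
      congr 1
      refine Subtype.ext ?_
      ext p s
      simp [← Nat.cast_smul_eq_nsmul F]
    have hg0 : g ≠ 0 := fun h => by
      rw [h, zero_pow Fintype.card_ne_zero] at hgq
      exact zero_ne_one hgq
    have hg2 : g ^ 2 = 1 := mul_left_cancel₀ (pow_ne_zero 2 hg0) (by linear_combination -h)
    obtain ⟨n, hn⟩ := hq
    rwa [hn, pow_succ, pow_mul, hg2, one_pow, one_mul] at hgq
  have hH : c H = 1 := by
    let A : AddSubgroup (Sm F m) :=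
      { carrier := {H | c H = 1}
        zero_mem' := h0
        add_mem' := fun {a b} (ha : c a = 1) (hb : c b = 1) => by
          show c (a + b) = 1
          rw [hadd, ha, hb, one_mul]
        neg_mem' := fun {a} (ha : c a = 1) => by
          show c (-a) = 1
          have := hadd (-a) a
          rwa [neg_add_cancel, h0, ha, mul_one, eq_comm] at this }
    refine vv_span h2 A (fun r v => ?_) H
    show c (vv r v) = 1
    by_cases hv : v = 0
    · rw [show vv r v = 0 from Subtype.ext (by simp [vv, hv]), h0]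
    · rw [hall r v hv, hone]
  rw [hc, hH, one_mul]

include he h2 htw hm in
/-- Each parity part of the Weil representation is irreducible. -/
theorem weil_irreducible (hω : ∀ g, ω g * parity F m = parity F m * ω g) {ε : ℂ}
    (hε : ε = 1 ∨ ε = -1) :
    ∃ σ : Representation ℂ (Spm F m) (Module.End.eigenspace (parity F m) ε),
      σ.IsIrreducible ∧ ∃ y : Module.End.eigenspace (parity F m) ε, y ≠ 0 ∧
        ∀ H, σ (upp H) y = e (2⁻¹ * qv H (Pi.single (⟨0, by omega⟩ : Fin m) 1)) • y := by
  classical
  set K := Module.End.eigenspace (parity F m) ε with hK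
  have hpres : ∀ g, ∀ f ∈ K, ω g f ∈ K := fun g => maps_parts (hω g) ε
  let σ : Representation ℂ (Spm F m) K :=
    { toFun := fun g => (ω g).restrict (hpres g)
      map_one' := LinearMap.ext fun f => Subtype.ext (by simp)
      map_mul' := fun g h => LinearMap.ext fun f => Subtype.ext (by simp) }
  have hsym : ∀ f ∈ K, ∀ x, f (-x) = ε * f x := fun f hf x =>
    congrFun (Module.End.mem_eigenspace_iff.1 hf) x
  -- cutting a function down to a pair of points
  let P : (Fin m → F) → Fun F m → Fun F m := fun x f y => if y = x ∨ y = -x then f y else 0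
  have hP : ∀ (S : Submodule ℂ (Fun F m)), (∀ g, ∀ f ∈ S, ω g f ∈ S) →
      ∀ f ∈ S, ∀ x, P x f ∈ S := by
    intro S hS f hf x
    have hc : (-2⁻¹ : F) ≠ 0 := by simp [h2]
    have hsum : ∑ H : Sm F m, e (qv H x * 2⁻¹) • ω (low H) f =
        (Fintype.card (Sm F m) : ℂ) • P x f := by
      funext y
      simp only [Finset.sum_apply, Pi.smul_apply, smul_eq_mul, low_apply h2 hm htw, ← mul_assoc]
      rw [← Finset.sum_mul]
      have e1 : ∑ H : Sm F m, e (qv H x * 2⁻¹) * e (-qv H y * 2⁻¹) =
          ∑ H, (chiV e (-2⁻¹) y / chiV e (-2⁻¹) x) H := Finset.sum_congr rfl fun H _ => by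
        rw [AddChar.div_apply', chiV_apply, chiV_apply, div_eq_mul_inv, ← AddChar.map_neg_eq_inv,
          ← AddChar.map_add_eq_mul, ← AddChar.map_add_eq_mul]
        congr 1
        ring
      rw [e1]
      by_cases hxy : y = x ∨ y = -x
      · have : chiV e (-2⁻¹) y = chiV e (-2⁻¹) x := by
          rcases hxy with rfl | rfl
          · rfl
          · rw [← neg_one_smul F x, chiV_smul]; simp
        rw [this, div_self', show (1 : AddChar (Sm F m) ℂ) = 0 from rfl]
        simp [P, hxy]
      · have hne : chiV e (-2⁻¹) y / chiV e (-2⁻¹) x ≠ 0 := fun h =>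
          hxy (chiV_inj he h2 hc (div_eq_one.1 h))
        rw [AddChar.sum_eq_zero_iff_ne_zero.2 hne]
        simp [P, hxy]
    have := S.smul_mem (Fintype.card (Sm F m) : ℂ)⁻¹
      (hsum ▸ S.sum_mem fun H _ => S.smul_mem _ (hS _ f hf))
    rwa [smul_smul, inv_mul_cancel₀ card_cast_ne_zero, one_smul] at this
  have hPK : ∀ f ∈ K, ∀ x, P x f ∈ K := hP K hpres
  -- an invariant part is zero or everything
  have hmain : ∀ S : Submodule ℂ (Fun F m), S ≤ K → (∀ g, ∀ f ∈ S, ω g f ∈ S) → S ≠ ⊥ → K ≤ S := by
    intro S hSK hS hS0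
    obtain ⟨f, hf, hf0⟩ := Submodule.exists_mem_ne_zero_of_ne_bot hS0
    obtain ⟨l, hl, hF⟩ := four_apply h2 htw
    obtain ⟨g, hg, x, hx0, hgx⟩ : ∃ g ∈ S, ∃ x, x ≠ 0 ∧ g x ≠ 0 := by
      obtain ⟨x, hx⟩ := Function.ne_iff.1 hf0
      by_cases hx0 : x = 0
      · subst hx0
        refine ⟨ω w0 (P 0 f), hS _ _ (hP S hS f hf 0), Pi.single ⟨0, by omega⟩ 1, by simp, ?_⟩
        rw [hF]
        refine mul_ne_zero hl ?_
        rw [Finset.sum_eq_single (0 : Fin m → F) (fun y _ hy => by simp [P, hy]) (by simp)]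
        simpa [P] using hx
      · exact ⟨f, hf, x, hx0, hx⟩
    have hcover : ∀ z, z ≠ 0 ∨ ε = 1 → ∃ g' ∈ S, (∀ y, ¬ (y = z ∨ y = -z) → g' y = 0) ∧ g' z ≠ 0 := by
      intro z hz
      by_cases hz0 : z = 0
      · have hε1 := hz.resolve_left (not_not.2 hz0)
        subst hz0
        refine ⟨P 0 (ω w0 (P x g)), hP S hS _ (hS _ _ (hP S hS g hg x)) 0,
          fun y hy => if_neg hy, ?_⟩
        have hxx : x ≠ -x := fun h => hx0 (funext fun i => by
          have := congrFun h i
          exact (mul_eq_zero.1 (show (2 : F) * x i = 0 by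
            simp only [Pi.neg_apply] at this; linear_combination this)).resolve_left h2)
        have hv : P 0 (ω w0 (P x g)) 0 = ω w0 (P x g) 0 := by simp [P]
        rw [hv, hF, Finset.sum_eq_add x (-x) hxx (fun y _ hy => by simp [P, hy.1, hy.2]) (by simp)
          (by simp)]
        simp only [zero_dotProduct, AddChar.map_zero_eq_one, one_mul, P, true_or, or_true, if_true,
          hsym g (hSK hg) x, hε1]
        exact mul_ne_zero hl (by rw [← two_mul]; exact mul_ne_zero two_ne_zero hgx)
      · obtain ⟨B, hB⟩ := exists_gl_mulVec hm z x hz0 hx0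
        let Bt : GL (Fin m) F := ((isUnit_iff_isUnit_det (B.1)ᵀ).2 (by
          rw [det_transpose]; exact (isUnit_iff_isUnit_det _).1 B.isUnit)).unit
        obtain ⟨l', hl', hG⟩ := gl_apply htw Bt
        have hBt : (Bt.1)ᵀ = B.1 := transpose_transpose _
        refine ⟨ω (gl Bt) (P x g), hS _ _ (hP S hS g hg x), fun y hy => ?_, ?_⟩
        · rw [hG, hBt]
          simp only [P]
          rw [if_neg, mul_zero]
          rintro (h | h)
          · refine hy (Or.inl (by_contra fun hne => gl_mulVec_ne B (sub_ne_zero.2 hne) ?_))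
            rw [mulVec_sub, h, hB, sub_self]
          · refine hy (Or.inr (by_contra fun hne => gl_mulVec_ne B (sub_ne_zero.2 hne) ?_))
            rw [mulVec_sub, h, mulVec_neg, hB, sub_self]
        · rw [hG, hBt, hB]
          simpa [P, hgx] using hl'
    intro h hh
    have hPh : ∀ z, P z h ∈ S := fun z => by
      by_cases hz : h z = 0
      · have : P z h = 0 := funext fun y => by
          simp only [P, Pi.zero_apply, ite_eq_right_iff]
          rintro (rfl | rfl)
          · exact hz
          · rw [hsym h hh, hz, mul_zero]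
        rw [this]; exact S.zero_mem
      · have hz' : z ≠ 0 ∨ ε = 1 := by
          rcases hε with h1 | h1
          · exact Or.inr h1
          · refine Or.inl fun hz0 => hz ?_
            have := hsym h hh 0
            rw [neg_zero, h1] at this
            rw [hz0]; linear_combination this / 2
        obtain ⟨g', hg', hsupp, hgz⟩ := hcover z hz'
        have : P z h = (h z / g' z) • g' := funext fun y => by
          simp only [P, Pi.smul_apply, smul_eq_mul]
          by_cases hy : y = z ∨ y = -z
          · rw [if_pos hy]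
            rcases hy with rfl | rfl
            · rw [div_mul_cancel₀ _ hgz]
            · rw [hsym h hh, hsym g' (hSK hg'), mul_left_comm, div_mul_cancel₀ _ hgz]
          · rw [if_neg hy, hsupp y hy, mul_zero]
        rw [this]; exact S.smul_mem _ hg'
    have hexp : h = ∑ z, (if z = 0 then (1 : ℂ) else 2⁻¹) • P z h := funext fun y => by
      simp only [Finset.sum_apply, Pi.smul_apply, smul_eq_mul, P]
      by_cases hy : y = 0
      · subst hy
        rw [Finset.sum_eq_single (0 : Fin m → F) (fun z _ hz => by simp [Ne.symm hz, hz]) (by simp)]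
        simp
      · have hyy : y ≠ -y := fun h => hy (funext fun i => by
          have := congrFun h i
          exact (mul_eq_zero.1 (show (2 : F) * y i = 0 by
            simp only [Pi.neg_apply] at this; linear_combination this)).resolve_left h2)
        rw [Finset.sum_eq_add y (-y) hyy (fun z _ hz => by
          rw [if_neg (show ¬ (y = z ∨ y = -z) from ?_), mul_zero]
          rintro (rfl | rfl)
          · exact hz.1 rfl
          · exact hz.2 (neg_neg z).symm) (by simp) (by simp)]
        simp [hy]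
        ring
    rw [hexp]
    exact S.sum_mem fun z _ => S.smul_mem _ (hPh z)
  -- a vector of the required weight
  let k : Fin m := ⟨0, by omega⟩
  set a : Fin m → F := Pi.single k 1 with ha
  have ha0 : a ≠ -a := fun h => by
    have := congrFun h k
    simp only [ha, Pi.neg_apply, Pi.single_eq_same] at this
    exact h2 (by linear_combination this)
  set f : Fun F m := Pi.single a 1 + ε • Pi.single (-a) 1 with hfdef
  have hε2 : ε * ε = 1 := by rcases hε with h | h <;> simp [h]
  have hfK : f ∈ K := by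
    rw [hK, Module.End.mem_eigenspace_iff]
    funext y
    show f (-y) = ε * f y
    simp only [hfdef, Pi.add_apply, Pi.smul_apply, smul_eq_mul, Pi.single_apply, neg_eq_iff_eq_neg,
      neg_neg, mul_add, ← mul_assoc, hε2, one_mul]
    rw [add_comm]
  have hfa : f a = 1 := by simp [hfdef, ha0]
  have hf0 : ω w0⁻¹ f ≠ 0 := fun h => by
    have := rep_injective ω _ (h.trans (map_zero _).symm)
    rw [this] at hfa
    exact zero_ne_one hfa
  haveI : Nontrivial K := ⟨⟨⟨f, hfK⟩, 0, fun h => by
    rw [show f = 0 from congrArg Subtype.val h] at hfa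
    exact zero_ne_one hfa⟩⟩
  refine ⟨σ, ?_, ⟨ω w0⁻¹ f, hpres _ _ hfK⟩, fun h => hf0 (congrArg Subtype.val h), fun H => ?_⟩
  · exact
      { eq_bot_or_eq_top := fun S => by
          by_cases hS : S.toSubmodule.map K.subtype = ⊥
          · left
            refine Subrepresentation.toSubmodule_injective ?_
            exact Submodule.map_injective_of_injective K.injective_subtype (hS.trans (Submodule.map_bot _).symm)
          · right
            refine Subrepresentation.toSubmodule_injective (eq_top_iff.2 fun p _ => ?_)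
            have := hmain (S.toSubmodule.map K.subtype) (Submodule.map_subtype_le _ _)
              (fun g f hf => by
                obtain ⟨q, hq, rfl⟩ := Submodule.mem_map.1 hf
                exact ⟨σ g q, S.apply_mem_toSubmodule g hq, rfl⟩) hS p.2
            obtain ⟨q, hq, hqp⟩ := Submodule.mem_map.1 this
            rwa [← Subtype.ext hqp]
        exists_pair_ne := ⟨⊥, ⊤, fun h => bot_ne_top (congrArg Subrepresentation.toSubmodule h)⟩ }
  · refine Subtype.ext ?_
    show ω (upp H) (ω w0⁻¹ f) = e (2⁻¹ * qv H a) • ω w0⁻¹ f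
    have hw : upp H * (w0 : Spm F m)⁻¹ = w0⁻¹ * low (-H) := by
      rw [eq_inv_mul_iff_mul_eq, ← mul_assoc, w0_mul_upp, mul_inv_cancel_right]
    have hlow : ω (low (-H)) f = e (2⁻¹ * qv H a) • f := funext fun y => by
      rw [low_apply h2 hm htw, Pi.smul_apply, smul_eq_mul]
      by_cases hy : f y = 0
      · rw [hy, mul_zero, mul_zero]
      · congr 2
        have : y = a ∨ y = -a := by
          by_contra hcon
          push Not at hcon
          exact hy (by simp [hfdef, hcon.1, hcon.2])
        rcases this with rfl | rfl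
        · simp [qv, neg_mulVec]; ring
        · simp [qv, neg_mulVec, mulVec_neg]; ring
    rw [← Module.End.mul_apply, ← map_mul, hw, map_mul, Module.End.mul_apply, hlow, map_smul]

include he h2 hm in
/-- The Weil characters. -/
theorem exists_weil_char {c : F} (hc : c ≠ 0) (k : Fin m) (hk : k.1 = 0) {ε : ℂ}
    (hε : ε = 1 ∨ ε = -1) :
    ∃ χ : Cfsg.IrrCharacter (Spm F m),
      χ.1 1 = finrank ℂ (Module.End.eigenspace (parity F m) ε) ∧ classSum e c k χ.1 ≠ 0 := by
  classical
  set e' := AddChar.mulShift e (2 * c) with he'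
  have he'0 : e' ≠ 0 := by
    intro h
    refine mul_ne_zero h2 hc (sep he fun t => ?_)
    rw [mul_zero, AddChar.map_zero_eq_one, mul_comm]
    exact DFunLike.congr_fun h t
  obtain ⟨ω, hω, htw⟩ := exists_weil (n := m) he'0 h2
  obtain ⟨σ, hσ, y, hy0, hy⟩ := weil_irreducible he'0 h2 hm htw hω hε
  refine ⟨⟨σ.character, Char.isIrrCharacter_character σ⟩, σ.char_one, ?_⟩
  refine (classSum_ne_zero σ c k).2 ⟨y, (mem_Wt e σ).2 fun H => ?_, hy0⟩
  rw [hy, show (⟨0, by omega⟩ : Fin m) = k from Fin.ext hk.symm, he', AddChar.mulShift_apply]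
  congr 2
  field_simp

end CfsgLib.MinDeg.SpW
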