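import Mathlib.LinearAlgebra.SymplecticGroup
import Cfsg.Agent.Lib.MinDeg.Hyperbolic

/-!
# The Siegel data of the symplectic group
-/

set_option autoImplicit false

namespace CfsgLib.MinDeg

open Matrix

variable {F : Type*} [Field F]

/-- The trivial involution of a field. -/
theorem exists_triv_star (F : Type*) [Field F] :
    ∃ S : StarRing F, ∀ x : F, @star F S.toStar x = x :=
  ⟨starRingOfComm, fun _ => rfl⟩

variable [StarRing F]

theorem conjTranspose_eq (hs : ∀ x : F, star x = x) {ι κ : Type*} (M : Matrix ι κ F) : Mᴴ = Mᵀ := by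
  ext i j; simp [hs]

theorem mem_skewPart_neg_one (hs : ∀ x : F, star x = x) {m : ℕ} {H : Matrix (Fin m) (Fin m) F} :
    H ∈ skewPart m (-1 : F) ↔ Hᵀ = H := by
  rw [mem_skewPart, conjTranspose_eq hs]; simp

theorem formJ_neg_one (m : ℕ) : formJ m (-1 : F) = -Matrix.J (Fin m) F := by
  simp [formJ, Matrix.J, fromBlocks_neg]

theorem mem_symp_iff (hs : ∀ x : F, star x = x) {m : ℕ} {A : Matrix (Fin m ⊕ Fin m) (Fin m ⊕ Fin m) F} :
    A ∈ Matrix.symplecticGroup (Fin m) F ↔ Aᴴ * formJ m (-1) * A = formJ m (-1) := by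
  rw [SymplecticGroup.mem_iff', conjTranspose_eq hs, formJ_neg_one, Matrix.mul_neg, Matrix.neg_mul,
    neg_inj]

/-- `Sp_2m` as a group with Siegel radicals. -/
noncomputable def sympData (hs : ∀ x : F, star x = x) (m : ℕ) :
    SiegelData (Matrix.symplecticGroup (Fin m) F) F m (-1 : F) where
  f := { toFun := fun g => g.1, map_one' := rfl, map_mul' := fun _ _ => rfl }
  inj := fun _ _ h => Subtype.ext h
  isometry g := (mem_symp_iff hs).1 g.2
  detCond _ := Or.inr hs
  upper H := ⟨upperU H.1, (mem_symp_iff hs).2 <| by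
    have hH := mem_skewPart.1 H.2
    simp [formJ, upperU, fromBlocks_conjTranspose, fromBlocks_multiply, hH]⟩
  upper_spec _ := rfl
  lower H := ⟨lowerU H.1, (mem_symp_iff hs).2 <| by
    have hH := mem_skewPart.1 H.2
    simp [formJ, lowerU, fromBlocks_conjTranspose, fromBlocks_multiply, hH]⟩
  lower_spec _ := rfl

end CfsgLib.MinDeg
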