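import Cfsg.Agent.Lib.MinDeg.SpWWeights
import Cfsg.Agent.Lib.MinDeg.SympGroup
import Cfsg.Agent.Lib.MinDeg.HermOrbit
import Mathlib.RepresentationTheory.Subrepresentation

/-!
# The invariant subspace spanned by a rank one weight vector

The translates of one weight vector of rank one, together with one vector fixed by the radical,
span an invariant subspace of dimension at most `(q^m + 1)/2`.
-/

set_option autoImplicit false
set_option linter.unusedSectionVars false
set_option linter.unusedSimpArgs false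

namespace CfsgLib.MinDeg.SpW

open Matrix Module

variable {F : Type*} [Field F] {m : ℕ}

theorem wk_mul_upp_sE (k : Fin m) (r : F) :
    wk k * upp (sE k r) = (low (sE k (-r)) * wk k : Spm F m) := by
  refine Subtype.ext ?_
  show (wk k : Spm F m).1 * (upp (sE k r)).1 = (low (sE k (-r))).1 * (wk k : Spm F m).1
  rw [wk_eq, upp_sE, low_sE, m2_mul, m2_mul]
  congr 1 <;> ring

theorem exists_gl_mulVec (hm : 2 ≤ m) (v w : Fin m → F) (hv : v ≠ 0) (hw : w ≠ 0) :
    ∃ B : GL (Fin m) F, B.1 *ᵥ v = w := by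
  obtain ⟨B, hB, e⟩ := exists_det_one_mulVec hm v w hv hw
  exact ⟨((isUnit_iff_isUnit_det B).2 (by simp [hB])).unit, e⟩

theorem gl_mulVec_ne (B : GL (Fin m) F) {v : Fin m → F} (hv : v ≠ 0) : B.1 *ᵥ v ≠ 0 := fun h =>
  hv (by simpa [mulVec_mulVec, ← Units.val_mul, -Matrix.coe_units_inv] using
    congrArg ((B⁻¹ : GL (Fin m) F).1 *ᵥ ·) h)

/-- The two radicals generate the group. -/
theorem gen_top (hm : 2 ≤ m) (K : Subgroup (Spm F m)) (hU : ∀ H, upp H ∈ K) (hL : ∀ H, low H ∈ K) :
    K = ⊤ := by
  obtain ⟨S, hs⟩ := exists_triv_star F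
  letI := S
  rw [eq_top_iff]
  intro g _
  obtain ⟨g', hg', e⟩ := isometry_mem (ε := (-1 : F)) (t := (1 : F)) (by ring) hm (by simp [hs])
    one_ne_zero (K.toSubmonoid.map (Matrix.symplecticGroup (Fin m) F).subtype)
    (fun H hH => ⟨upp ⟨H, (mem_skewPart_neg_one hs).1 hH⟩, hU _, rfl⟩)
    (fun H hH => ⟨low ⟨H, (mem_skewPart_neg_one hs).1 hH⟩, hL _, rfl⟩)
    g.1 ((mem_symp_iff hs).1 g.2) (Or.inr hs)
  rwa [show g' = g from Subtype.ext e] at hg'

theorem vv_single (k : Fin m) (B : GL (Fin m) F) (r : F) :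
    (⟨B.1 * (sE k r).1 * (B.1)ᵀ, show _ᵀ = _ by
      rw [transpose_mul, transpose_mul, transpose_transpose, symH, mul_assoc]⟩ : Sm F m) =
      vv r (B.1 *ᵥ Pi.single k 1) := by
  refine Subtype.ext ?_
  ext p q
  simp [vv, sE, vecMulVec_apply, mul_apply, mulVec_single_one, single_apply, Finset.sum_ite_eq,
    Finset.sum_ite_eq', mul_ite, ite_mul, ite_and, mul_comm, mul_left_comm]
  ring

theorem vv_span (h2 : (2 : F) ≠ 0) (K : AddSubgroup (Sm F m)) (h : ∀ r v, vv r v ∈ K) (H : Sm F m) :
    H ∈ K := by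
  classical
  have e : H = ∑ p, ∑ q, (vv (H.1 p q / 2) (Pi.single p 1 + Pi.single q 1) -
      vv (H.1 p q / 2) (Pi.single p 1) - vv (H.1 p q / 2) (Pi.single q 1)) := by
    refine Subtype.ext ?_
    simp only [AddSubgroup.val_finsetSum, AddSubgroup.coe_sub, vv]
    ext a b
    simp only [Matrix.sum_apply, Matrix.sub_apply, Matrix.smul_apply, vecMulVec_apply, Pi.add_apply,
      smul_eq_mul]
    have : ∀ p q, H.1 p q / 2 * (((Pi.single p 1 : Fin m → F) a + (Pi.single q 1 : Fin m → F) a) *
        ((Pi.single p 1 : Fin m → F) b + (Pi.single q 1 : Fin m → F) b)) -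
        H.1 p q / 2 * ((Pi.single p 1 : Fin m → F) a * (Pi.single p 1 : Fin m → F) b) -
        H.1 p q / 2 * ((Pi.single q 1 : Fin m → F) a * (Pi.single q 1 : Fin m → F) b) =
        H.1 p q / 2 * ((Pi.single p 1 : Fin m → F) a * (Pi.single q 1 : Fin m → F) b) +
        H.1 p q / 2 * ((Pi.single q 1 : Fin m → F) a * (Pi.single p 1 : Fin m → F) b) :=
      fun p q => by ring
    simp only [this]
    simp only [Finset.sum_add_distrib, Pi.single_apply, mul_ite, ite_mul, mul_one, one_mul,
      mul_zero, zero_mul, Finset.sum_ite_irrel, Finset.sum_const_zero, Finset.sum_ite_eq, Finset.mem_univ, if_true]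
    rw [apply_symH H b a]
    field_simp
    ring
  rw [e]
  exact K.sum_mem fun p _ => K.sum_mem fun q _ => K.sub_mem (K.sub_mem (h _ _) (h _ _)) (h _ _)

variable [Fintype F] {e : AddChar F ℂ} {V : Type*} [AddCommGroup V] [Module ℂ V]
  (ρ : Representation ℂ (Spm F m) V)

/-- The elements preserving a subspace, in a finite group. -/
def stabGrp [Finite (Spm F m)] (S : Submodule ℂ V) : Subgroup (Spm F m) where
  carrier := {g | ∀ x ∈ S, ρ g x ∈ S}
  one_mem' x hx := by simpa using hx
  mul_mem' {a b} ha hb x hx := by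
    rw [map_mul, Module.End.mul_apply]; exact ha _ (hb x hx)
  inv_mem' {a} ha := by
    have hpow : ∀ n : ℕ, ∀ x ∈ S, ρ (a ^ n) x ∈ S := fun n => by
      induction n with
      | zero => intro x hx; simpa using hx
      | succ n ih =>
        intro x hx
        rw [pow_succ, map_mul, Module.End.mul_apply]; exact ih _ (ha x hx)
    intro x hx
    rw [inv_eq_of_mul_eq_one_left (show a ^ (orderOf a - 1) * a = 1 by
      rw [← pow_succ, Nat.sub_add_cancel (orderOf_pos a), pow_orderOf_eq_one])]
    exact hpow _ x hx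

variable (e) in
/-- The weights of the rank one kind of the scalar `c`. -/
noncomputable def weightsR1 (c : F) : Finset (AddChar (Sm F m) ℂ) := by
  classical
  exact ({v : Fin m → F | v ≠ 0} : Finset _).image (chiV e c)

theorem mem_weightsR1 {c : F} {ψ : AddChar (Sm F m) ℂ} :
    ψ ∈ weightsR1 e c ↔ ∃ v, v ≠ 0 ∧ chiV e c v = ψ := by
  simp [weightsR1]

variable (he : e ≠ 0) (h2 : (2 : F) ≠ 0)

include he h2 in
/-- Weights determine vectors up to sign. -/
theorem chiV_inj {c : F} (hc : c ≠ 0) {v v' : Fin m → F} (h : chiV e c v' = chiV e c v) :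
    v' = v ∨ v' = -v := by
  have key : ∀ p q, v' p * v' q = v p * v q := fun p q => by
    refine mul_left_cancel₀ (mul_ne_zero h2 hc) (sep he fun t => ?_)
    have := DFunLike.congr_fun h (sS p q t)
    rw [chiV_apply, chiV_apply, qv_sS, qv_sS] at this
    convert this using 2 <;> ring
  by_cases hv : v = 0
  · left
    funext p
    have := key p p
    simp [hv] at this ⊢
    exact this
  obtain ⟨j, hj⟩ := Function.ne_iff.1 hv
  rcases sq_eq_sq_iff_eq_or_eq_neg.1 (show v' j ^ 2 = v j ^ 2 by rw [sq, sq]; exact key j j) with h | h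
  · left; funext p
    have := key p j; rw [h] at this; exact mul_right_cancel₀ hj this
  · right; funext p
    have := key p j; rw [h] at this
    refine mul_right_cancel₀ hj (show v' p * v j = -v p * v j by linear_combination -this)

include he h2 in
theorem card_weightsR1 {c : F} (hc : c ≠ 0) :
    2 * (weightsR1 (m := m) e c).card = Fintype.card F ^ m - 1 := by
  classical
  have hs : ({v : Fin m → F | v ≠ 0} : Finset _).card = Fintype.card F ^ m - 1 := by
    rw [Finset.filter_ne', Finset.card_erase_of_mem (Finset.mem_univ _), Finset.card_univ,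
      Fintype.card_fun, Fintype.card_fin]
  rw [← hs, Finset.card_eq_sum_card_image (chiV e c), ← weightsR1.eq_def,
    Finset.sum_congr rfl (g := fun _ => 2) fun ψ hψ => ?_]
  · simp [mul_comm]
  obtain ⟨v, hv, rfl⟩ := mem_weightsR1.1 hψ
  rw [show ({v : Fin m → F | v ≠ 0} : Finset _).filter (fun w => chiV e c w = chiV e c v) = {v, -v}
    from ?_, Finset.card_pair]
  · intro h
    obtain ⟨j, hj⟩ := Function.ne_iff.1 hv
    have := congrFun h j
    simp only [Pi.neg_apply] at this
    exact hj ((mul_eq_zero.1 (show (2 : F) * v j = 0 by linear_combination this)).resolve_left h2)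
  · ext w
    simp only [Finset.mem_filter, Finset.mem_univ, true_and, Finset.mem_insert,
      Finset.mem_singleton]
    refine ⟨fun h => chiV_inj he h2 hc h.2, ?_⟩
    rintro (rfl | rfl)
    · exact ⟨hv, rfl⟩
    · exact ⟨neg_ne_zero.2 hv, by rw [← neg_one_smul F v, chiV_smul]; simp⟩

variable (hR : R1 e ρ) (hm : 2 ≤ m)

include he h2 hm in
/-- A rank one weight forces all weights of its kind. -/
theorem card_weightsR1_le [FiniteDimensional ℂ V] {k : Fin m} {c : F} {x : V}
    (hx : x ∈ Wt e ρ c (Pi.single k 1)) (hx0 : x ≠ 0) :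
    (weightsR1 (m := m) e c).card ≤ finrank ℂ V := by
  have := mul_le_finrank (resChar ρ upp) (weightsR1 (m := m) e c) 1 fun ψ hψ => by
    obtain ⟨v, hv, rfl⟩ := mem_weightsR1.1 hψ
    obtain ⟨B, rfl⟩ := exists_gl_mulVec hm (Pi.single k (1 : F)) v (by simp) hv
    exact one_le_finrank_of_ne_bot
      (Submodule.ne_bot_iff _ |>.2 ⟨_, move e ρ B hx, fun h =>
        hx0 (rep_injective ρ _ (h.trans (map_zero _).symm))⟩)
  rwa [mul_one] at this

/-- The span of the translates of a vector. -/
def transSpan (x : V) : Submodule ℂ V :=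
  Submodule.span ℂ (Set.range fun B : GL (Fin m) F => ρ (gl B) x)

theorem gl_transSpan {x y : V} (hy : y ∈ transSpan ρ x) (B : GL (Fin m) F) :
    ρ (gl B) y ∈ transSpan ρ x := by
  induction hy using Submodule.span_induction with
  | mem z hz =>
    obtain ⟨B', rfl⟩ := hz
    exact Submodule.subset_span ⟨B * B', by simp [map_mul]⟩
  | zero => simp
  | add a b _ _ ha hb => rw [map_add]; exact add_mem ha hb
  | smul r a _ ha => rw [map_smul]; exact Submodule.smul_mem _ _ ha

theorem upp_transSpan {k : Fin m} {c : F} {x y : V} (hx : x ∈ Wt e ρ c (Pi.single k 1))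
    (hy : y ∈ transSpan ρ x) (H : Sm F m) : ρ (upp H) y ∈ transSpan ρ x := by
  induction hy using Submodule.span_induction with
  | mem z hz =>
    obtain ⟨B', rfl⟩ := hz
    rw [(mem_Wt e ρ).1 (move e ρ B' hx)]
    exact Submodule.smul_mem _ _ (Submodule.subset_span ⟨B', rfl⟩)
  | zero => simp
  | add a b _ _ ha hb => rw [map_add]; exact add_mem ha hb
  | smul r a _ ha => rw [map_smul]; exact Submodule.smul_mem _ _ ha

theorem proj_transSpan {k : Fin m} {c : F} {x y : V} (hx : x ∈ Wt e ρ c (Pi.single k 1))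
    (hy : y ∈ transSpan ρ x) (ψ : AddChar (Sm F m) ℂ) :
    weightProj (resChar ρ upp) ψ y ∈ transSpan ρ x := by
  rw [weightProj_apply]
  exact Submodule.smul_mem _ _ (Submodule.sum_mem _ fun H _ =>
    Submodule.smul_mem _ _ (upp_transSpan ρ hx hy H))

include he h2 hR in
/-- Weight vectors off the coordinate axis are sent into the span. -/
theorem wk_off {i k : Fin m} (hki : k ≠ i) {k₀ : Fin m} {c : F} (hc : c ≠ 0) {x y : V}
    (hx : x ∈ Wt e ρ c (Pi.single k₀ 1)) {v : Fin m → F} (hv : v i ≠ 0) (hy : y ∈ Wt e ρ c v)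
    (hyS : y ∈ transSpan ρ x) : ρ (wk k) y ∈ transSpan ρ x := by
  set s := v k / v i with hs
  set y₀ := ρ (gl (tv hki (-s))) y with hy₀
  have hmem := move e ρ (tv hki (-s)) hy
  rw [← hy₀] at hmem
  have hvk : ((tv hki (-s)).1 *ᵥ v) k = 0 := by
    rw [(tv_mulVec_apply hki _).1, hs]; field_simp; ring
  obtain ⟨κ, hκ⟩ := refl_scalar ρ he h2 hR hki hc hvk (by rw [(tv_mulVec_apply hki _).2]; exact hv)
  obtain ⟨α, hα⟩ := (hκ y₀ hmem).2
  have e1 : y = ρ (gl (tv hki s)) y₀ := by
    rw [hy₀, ← Module.End.mul_apply, ← map_mul, ← map_mul,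
      show tv hki s * tv hki (-s) = 1 from Units.ext <| show transvection k i s * transvection k i (-s) = 1 by
        rw [transvection_mul_transvection_same _ _ hki, add_neg_cancel, transvection_zero],
      map_one, map_one, Module.End.one_apply]
  rw [e1, ← Module.End.mul_apply, ← map_mul, wk_mul_tv hki, map_mul, Module.End.mul_apply, hα,
    map_smul]
  refine Submodule.smul_mem _ _ (upp_transSpan ρ hx (Submodule.sum_mem _ fun t _ =>
    Submodule.smul_mem _ _ (gl_transSpan ρ (gl_transSpan ρ hyS _) _)) _)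

include he h2 hR hm in
/-- The invariant subspace of a rank one weight vector. -/
theorem exists_invariant [FiniteDimensional ℂ V] {k : Fin m} {c : F} (hc : c ≠ 0) {x : V}
    (hx : x ∈ Wt e ρ c (Pi.single k 1)) {ε : ℂ} (hz : ρ (gl (-1)) x = ε • x) :
    ∃ S : Subrepresentation ρ, x ∈ S.toSubmodule ∧
      finrank ℂ S.toSubmodule ≤ (weightsR1 (m := m) e c).card + 1 := by
  classical
  have : Nontrivial (Fin m) := Fin.nontrivial_iff_two_le.2 hm
  obtain ⟨i, hik⟩ := exists_ne k
  have hek : (Pi.single k (1 : F) : Fin m → F) i = 0 := by simp [hik]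
  set D := transSpan ρ x with hD
  have hxD : x ∈ D := Submodule.subset_span ⟨1, by simp⟩
  set z := ρ (wk k) x with hzd
  set o := weightProj (resChar ρ upp) 0 z with ho
  have hfixH : ∀ H : Sm F m, (∀ q, H.1 k q = 0) → ρ (upp H) z = z := fun H hH => by
    rw [hzd, ← Module.End.mul_apply, ← map_mul, ← wk_upp_comm k H hH, map_mul, Module.End.mul_apply,
      (mem_Wt e ρ).1 hx, show qv H (Pi.single k (1 : F)) = 0 by simp [qv, mulVec_single_one, hH],
      mul_zero, AddChar.map_zero_eq_one, one_smul]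
  obtain ⟨κi, hκi⟩ := refl_scalar ρ he h2 hR hik hc hek (by simp)
  obtain ⟨α, hα⟩ := (hκi x hx).2
  -- one step of the other Weyl element
  have hwz : ρ (wk i) z - α • z ∈ D := by
    have e1 : ρ (wk i) z = α • ∑ t : F, ρ (wk k) (ρ (gl (tv hik t)) x) := by
      rw [hzd, ← Module.End.mul_apply, ← map_mul, (wk_comm_wk hik).eq, map_mul, Module.End.mul_apply,
        hα, map_smul, comb, map_sum]
      simp
    rw [e1, ← Finset.sum_erase_add _ _ (Finset.mem_univ (0 : F)),
      show tv hik (0 : F) = 1 from Units.ext (by simp [tv_val]), map_one, map_one,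
      Module.End.one_apply, smul_add, add_sub_cancel_right]
    refine Submodule.smul_mem _ _ (Submodule.sum_mem _ fun t ht => ?_)
    refine wk_off ρ he h2 hR hik.symm hc hx ?_ (move e ρ (tv hik t) hx) (gl_transSpan ρ hxD _)
    rw [(tv_mulVec_apply hik t).1, hek]
    simpa using Finset.ne_of_mem_erase ht
  -- the components of the image on the axis
  have hcomp : ∀ ψ, ψ ≠ 0 → weightProj (resChar ρ upp) ψ z ∈ D := by
    intro ψ hψ
    by_cases hne : weightProj (resChar ρ upp) ψ z = 0
    · rw [hne]; exact zero_mem _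
    have axis : ∀ ψ' : AddChar (Sm F m) ℂ, weightProj (resChar ρ upp) ψ' z ≠ 0 → ψ' ≠ 0 →
        ∃ c₁, c₁ ≠ 0 ∧ ψ' = chiV e c₁ (Pi.single k 1) := by
      intro ψ' hne' hψ'
      obtain ⟨c', v', rfl⟩ := hR ψ' (weightSpace_ne_bot ρ hne')
      have hc' : c' ≠ 0 := fun h => hψ' (by rw [h, chiV_zero])
      have hoff : ∀ p, p ≠ k → v' p = 0 := fun p hp => by
        have := offk_eq he h2 (c := 0) (v := (0 : Fin m → F)) (c' := c') (v' := v') (k := k)
          (fun H hH => by
            rw [zero_mul, AddChar.map_zero_eq_one]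
            exact weight_value ρ (H := H) (by rw [hfixH H hH, one_smul]) hne') hp hp
        simpa [hc'] using this
      have hv' : v' = v' k • Pi.single k 1 := funext fun p => by
        by_cases hp : p = k
        · subst hp; simp
        · simp [hp, hoff p hp]
      have hk0 : v' k ≠ 0 := fun h => hψ' (by
        rw [hv', h, zero_smul]
        exact AddChar.ext _ _ fun H => by simp [chiV_apply, qv_zero'])
      exact ⟨c' * v' k ^ 2, mul_ne_zero hc' (pow_ne_zero _ hk0), by rw [hv', chiV_smul]; simp⟩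
    obtain ⟨c₁, hc₁, rfl⟩ := axis ψ hne hψ
    set β := weightProj (resChar ρ upp) (chiV e c₁ (Pi.single k 1)) z with hβ
    set P := weightProj (resChar ρ upp) (chiV e c₁ ((tv hik 1).1 *ᵥ Pi.single k 1)) with hP
    have hPz : P z = 0 := by
      by_contra h
      have h1 := fun t : F => weight_value ρ (H := sS i i t) (a := (1 : ℂ))
        (by rw [hfixH _ (sS_row hik hik t), one_smul]) h
      simp only [chiV_apply, qv_sS, (tv_mulVec_apply hik _).1, hek, zero_add, Pi.single_eq_same,
        mul_one] at h1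
      have h0 : c₁ * 2 = 0 := sep he fun t => by
        rw [mul_zero, AddChar.map_zero_eq_one, ← h1 t]; congr 1; ring
      exact mul_ne_zero hc₁ h2 h0
    have hmemD : P (ρ (wk i) z) ∈ D := by
      have := proj_transSpan ρ hx hwz (chiV e c₁ ((tv hik 1).1 *ᵥ Pi.single k 1))
      rwa [← hP, map_sub, map_smul, hPz, smul_zero, sub_zero] at this
    obtain ⟨κ₁, hκ₁⟩ := refl_scalar ρ he h2 hR hik hc₁ hek (by simp)
    obtain ⟨α₁, hα₁⟩ := (hκ₁ β (weightProj_mem _ _ _)).2
    have e2 : P (ρ (wk i) z) = α₁ • ρ (gl (tv hik 1)) β := by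
      conv_lhs => rw [← sum_weightProj (resChar ρ upp) z, map_sum, map_sum]
      rw [Finset.sum_eq_single (chiV e c₁ (Pi.single k 1)) (fun ψ' _ hne' => ?_) (by simp), ← hβ,
        hα₁, map_smul, comb, map_sum]
      · congr 1
        rw [Finset.sum_eq_single (1 : F) (fun t _ ht => ?_) (by simp), one_smul, hP,
          weightProj_of_mem (move e ρ (tv hik 1) (weightProj_mem _ _ _))]
        rw [one_smul]
        exact weightProj_of_mem_ne (fun h => ht (chiV_tv_injective he h2 hik hc₁ (by simp) h).symm)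
          (move e ρ (tv hik t) (weightProj_mem _ _ _))
      · by_contra hne2
        have hpz : weightProj (resChar ρ upp) ψ' z ≠ 0 := fun h => hne2 (by rw [h, map_zero, map_zero])
        have hval : ∀ t : F, e (c₁ * (2 * t)) = ψ' (sS k k t) := fun t => by
          have hk : ∀ q, (sS k k t).1 i q = 0 := sS_row hik.symm hik.symm t
          have := weight_value ρ (H := sS k k t)
            (a := ψ' (sS k k t)) (z := ρ (wk i) (weightProj (resChar ρ upp) ψ' z)) (by
              rw [← Module.End.mul_apply, ← map_mul, ← wk_upp_comm i _ hk, map_mul,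
                Module.End.mul_apply, ← resChar_apply ρ upp,
                mem_weightSpace.1 (weightProj_mem _ ψ' z), map_smul]) hne2
          rw [← this, chiV_apply, qv_sS, (tv_mulVec_apply hik _).2]
          simp
        by_cases h0 : ψ' = 0
        · subst h0
          have h0' : c₁ * 2 = 0 := sep he fun t => by
            rw [mul_zero, AddChar.map_zero_eq_one,
              show t * (c₁ * 2) = c₁ * (2 * t) by ring, hval]
            rfl
          exact mul_ne_zero hc₁ h2 h0'
        · obtain ⟨c₂, -, rfl⟩ := axis ψ' hpz h0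
          refine hne' ?_
          have : c₁ * 2 = c₂ * 2 := sep he fun t => by
            have := hval t
            rw [chiV_apply, qv_sS] at this
            simp at this
            convert this using 2 <;> ring
          rw [mul_right_cancel₀ h2 this]
    rw [e2] at hmemD
    by_cases hα0 : α₁ = 0
    · exact absurd (rep_injective ρ (wk i) (by rw [hα₁, hα0, zero_smul, map_zero])) hne
    have h3 := gl_transSpan ρ ((Submodule.smul_mem_iff _ hα0).1 hmemD) (tv hik 1)⁻¹
    rwa [← Module.End.mul_apply, ← map_mul, ← map_mul, inv_mul_cancel, map_one, map_one,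
      Module.End.one_apply] at h3
  -- the fixed vector spans a stable line
  have hofix : ∀ H, ρ (upp H) o = o := fun H => by
    rw [ho, ← resChar_apply ρ upp, mem_weightSpace.1 (weightProj_mem _ 0 z), AddChar.zero_apply,
      one_smul]
  have hoSL : ∀ B : GL (Fin m) F, B.1.det = 1 → ρ (gl B) o = o := by
    let K : Submonoid (Matrix (Fin m) (Fin m) F) :=
      { carrier := {M | ∃ B : GL (Fin m) F, B.1 = M ∧ ρ (gl B) o = o}
        one_mem' := ⟨1, rfl, by simp⟩
        mul_mem' := by
          rintro _ _ ⟨B, rfl, h⟩ ⟨B', rfl, h'⟩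
          exact ⟨B * B', rfl, by rw [map_mul, map_mul, Module.End.mul_apply, h', h]⟩ }
    have hK := mem_of_det_eq_one K fun p q hpq t => ⟨tv hpq t, rfl, tv_fix_zero ρ he h2 hR hofix hpq t⟩
    intro B hB
    obtain ⟨B', hB', h⟩ := hK B.1 hB
    rwa [Units.ext hB'] at h
  have hodg : ∀ b : Fˣ, ∃ l : ℂ, ρ (gl (dg i b)) o = l • o := by
    intro b
    obtain ⟨l, hl⟩ := dg_scalar ρ he h2 hR hik hc hek (by simp) hx b
    refine ⟨l, ?_⟩
    have hcm : wk k * gl (dg i b) = (gl (dg i b) * wk k : Spm F m) := by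
      refine wk_comm_gl k _ (fun q => ?_) (fun p => ?_)
      · simp only [dg_val, diagonal_apply, one_apply, Pi.mulSingle_apply, hik.symm, if_false]
      · simp only [dg_val, diagonal_apply, one_apply, Pi.mulSingle_apply]
        by_cases hp : p = k
        · subst hp; simp [hik.symm]
        · simp [hp]
    rw [ho, ← proj_equiv ρ (dg i b) 0 0 (fun H => rfl), hzd, ← Module.End.mul_apply (ρ (gl (dg i b))) (ρ (wk k)), ← map_mul,
      ← hcm, map_mul, Module.End.mul_apply, hl, map_smul, map_smul]
  have hogl : ∀ B : GL (Fin m) F, ρ (gl B) o ∈ ℂ ∙ o := by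
    intro B
    let d : Fˣ := Matrix.GeneralLinearGroup.det B
    have e1 : B = (B * (dg i d)⁻¹) * dg i d := by rw [inv_mul_cancel_right]
    obtain ⟨l, hl⟩ := hodg d
    rw [e1, map_mul, map_mul, Module.End.mul_apply, hl, map_smul, hoSL]
    · exact Submodule.smul_mem _ _ (Submodule.mem_span_singleton_self o)
    · rw [dg_inv, Units.val_mul, det_mul, dg_val, det_diagonal,
        Fintype.prod_eq_single i (fun j hj => Pi.mulSingle_eq_of_ne hj _), Pi.mulSingle_eq_same]
      exact (congrArg Units.val (mul_inv_cancel d) : _)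
  set S := D ⊔ (ℂ ∙ o) with hS
  have hzS : z ∈ S := by
    rw [← sum_weightProj (resChar ρ upp) z]
    refine Submodule.sum_mem _ fun ψ _ => ?_
    by_cases h : ψ = 0
    · subst h; exact Submodule.mem_sup_right (Submodule.mem_span_singleton_self _)
    · exact Submodule.mem_sup_left (hcomp ψ h)
  have hDD : ∀ y ∈ D, ∀ g, (∀ y' ∈ D, ρ g y' ∈ S) → ρ g o ∈ S → ∀ r : ℂ, ρ g (y + r • o) ∈ S :=
    fun y hy g h1 h2 r => by rw [map_add, map_smul]; exact add_mem (h1 y hy) (Submodule.smul_mem _ _ h2)
  have hstab : ∀ g, (∀ y' ∈ D, ρ g y' ∈ S) → ρ g o ∈ S → g ∈ stabGrp ρ S := by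
    intro g h1 h2 y hy
    obtain ⟨a, ha, b, hb, rfl⟩ := Submodule.mem_sup.1 hy
    obtain ⟨r, rfl⟩ := Submodule.mem_span_singleton.1 hb
    exact hDD a ha g h1 h2 r
  have hglS : ∀ B : GL (Fin m) F, gl B ∈ stabGrp ρ S := fun B =>
    hstab _ (fun y hy => Submodule.mem_sup_left (gl_transSpan ρ hy B))
      (Submodule.mem_sup_right (hogl B))
  have huS : ∀ H, upp H ∈ stabGrp ρ S := fun H =>
    hstab _ (fun y hy => Submodule.mem_sup_left (upp_transSpan ρ hx hy H))
      (by rw [hofix]; exact Submodule.mem_sup_right (Submodule.mem_span_singleton_self _))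
  have hwD : ∀ y ∈ D, ρ (wk k) y ∈ S := by
    intro y hy
    induction hy using Submodule.span_induction with
    | mem y' hy' =>
      obtain ⟨B, rfl⟩ := hy'
      set v := B.1 *ᵥ Pi.single k 1 with hv
      by_cases hex : ∃ j, k ≠ j ∧ v j ≠ 0
      · obtain ⟨j, hkj, hj⟩ := hex
        exact Submodule.mem_sup_left (wk_off ρ he h2 hR hkj hc hx hj (move e ρ B hx)
          (Submodule.subset_span ⟨B, rfl⟩))
      push Not at hex
      have hv0 : v k ≠ 0 := fun h => by
        have hz' : v = 0 := funext fun p => by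
          by_cases hp : k = p
          · subst hp; exact h
          · exact hex p hp
        exact gl_mulVec_ne B (by simp) (hv.symm.trans hz')
      set a := Units.mk0 (v k) hv0
      have hvs : v = (dg k a).1 *ᵥ Pi.single k 1 := funext fun p => by
        rw [dg_val, mulVec_diagonal]
        by_cases hp : p = k
        · subst hp; simp [a]
        · simp [hp, hex p (Ne.symm hp)]
      obtain ⟨l, hl⟩ := stab_scalar ρ he h2 hR hc hx ((dg k a)⁻¹ * B) (by
        rw [Units.val_mul, ← mulVec_mulVec, ← hv, hvs, mulVec_mulVec, ← Units.val_mul,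
          inv_mul_cancel, Units.val_one, one_mulVec])
      have e3 : ρ (gl B) x = l • ρ (gl (dg k a)) x := by
        rw [← map_smul, ← hl, ← Module.End.mul_apply, ← map_mul, ← map_mul, mul_inv_cancel_left]
      show ρ (wk k) (ρ (gl B) x) ∈ S
      rw [e3, map_smul, ← Module.End.mul_apply, ← map_mul, wk_mul_dg, map_mul, Module.End.mul_apply,
        ← hzd]
      exact Submodule.smul_mem _ _ (hglS _ z hzS)
    | zero => simp
    | add a b _ _ ha hb => rw [map_add]; exact add_mem ha hb
    | smul r a _ ha => rw [map_smul]; exact Submodule.smul_mem _ _ ha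
  have hrest : z - o ∈ D := by
    have e4 : z - o = ∑ ψ ∈ Finset.univ.erase 0, weightProj (resChar ρ upp) ψ z := by
      rw [sub_eq_iff_eq_add, ho, Finset.sum_erase_add _ _ (Finset.mem_univ _),
        sum_weightProj (resChar ρ upp) z]
    rw [e4]
    exact Submodule.sum_mem _ fun ψ hψ => hcomp ψ (Finset.ne_of_mem_erase hψ)
  have hwS : wk k ∈ stabGrp ρ S := by
    refine hstab _ hwD ?_
    have e5 : ρ (wk k) o = ρ (gl (dg k (-1))) x - ρ (wk k) (z - o) := by
      rw [map_sub, hzd, ← Module.End.mul_apply (ρ (wk k)) (ρ (wk k)), ← map_mul, wk_sq,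
        sub_sub_cancel]
    rw [e5]
    exact sub_mem (Submodule.mem_sup_left (gl_transSpan ρ hxD _)) (hwD _ hrest)
  have hlowk : ∀ r, low (sE k r) ∈ stabGrp ρ S := fun r => by
    rw [show low (sE k r) = wk k * upp (sE k (-r)) * (wk k)⁻¹ by
      rw [wk_mul_upp_sE, neg_neg, mul_inv_cancel_right]]
    exact mul_mem (mul_mem hwS (huS _)) (inv_mem hwS)
  have hlow : ∀ H, low H ∈ stabGrp ρ S := by
    let A : AddSubgroup (Sm F m) :=
      { carrier := {H | low H ∈ stabGrp ρ S}
        zero_mem' := by simp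
        add_mem' := fun {a b} ha hb => by
          show low (a + b) ∈ stabGrp ρ S
          rw [AddChar.map_add_eq_mul]; exact mul_mem ha hb
        neg_mem' := fun {a} ha => by
          show low (-a) ∈ stabGrp ρ S
          rw [AddChar.map_neg_eq_inv]; exact inv_mem ha }
    refine vv_span h2 A fun r v => ?_
    show low (vv r v) ∈ stabGrp ρ S
    by_cases hv : v = 0
    · rw [show vv r v = 0 from Subtype.ext (by simp [vv, hv]), AddChar.map_zero_eq_one]
      exact one_mem _
    obtain ⟨B, rfl⟩ := exists_gl_mulVec hm (Pi.single k (1 : F)) v (by simp) hv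
    rw [← vv_single, ← mul_inv_cancel_right (low _) (gl B), ← gl_mul_low]
    exact mul_mem (mul_mem (hglS B) (hlowk r)) (inv_mem (hglS B))
  have htop := gen_top hm _ huS hlow
  refine ⟨⟨S, fun g y hy => (htop ▸ Subgroup.mem_top g : g ∈ stabGrp ρ S) y hy⟩,
    Submodule.mem_sup_left hxD, ?_⟩
  -- the dimension
  have hchoice : ∀ ψ : weightsR1 (m := m) e c, ∃ B : GL (Fin m) F,
      chiV e c (B.1 *ᵥ Pi.single k 1) = ψ.1 := fun ψ => by
    obtain ⟨v, hv, h⟩ := mem_weightsR1.1 ψ.2
    obtain ⟨B, rfl⟩ := exists_gl_mulVec hm (Pi.single k (1 : F)) v (by simp) hv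
    exact ⟨B, h⟩
  choose Bf hBf using hchoice
  have hDle : D ≤ Submodule.span ℂ (Set.range fun ψ => ρ (gl (Bf ψ)) x) := by
    refine Submodule.span_le.2 ?_
    rintro _ ⟨B, rfl⟩
    have hv : B.1 *ᵥ Pi.single k 1 ≠ 0 := gl_mulVec_ne B (by simp)
    set ψ : weightsR1 (m := m) e c := ⟨_, mem_weightsR1.2 ⟨_, hv, rfl⟩⟩
    rw [SetLike.mem_coe, Submodule.mem_span_range_iff_exists_fun]
    have hab : ∃ a : ℂ, ρ (gl B) x = a • ρ (gl (Bf ψ)) x := by
      have hfix : ∀ B' : GL (Fin m) F, B'.1 *ᵥ Pi.single k 1 = (Bf ψ).1 *ᵥ Pi.single k 1 →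
          ∃ a : ℂ, ρ (gl B') x = a • ρ (gl (Bf ψ)) x := fun B' h => by
        obtain ⟨a, ha⟩ := stab_scalar ρ he h2 hR hc hx ((Bf ψ)⁻¹ * B') (by
          rw [Units.val_mul, ← mulVec_mulVec, h, mulVec_mulVec, ← Units.val_mul, inv_mul_cancel,
            Units.val_one, one_mulVec])
        exact ⟨a, by rw [← map_smul, ← ha, ← Module.End.mul_apply, ← map_mul, ← map_mul,
          mul_inv_cancel_left]⟩
      rcases chiV_inj he h2 hc (hBf ψ).symm with h | h
      · exact hfix B h
      · obtain ⟨a, ha⟩ := hfix (B * -1) (by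
          rw [mul_neg, mul_one, Units.val_neg, neg_mulVec, h, neg_neg])
        have hne' : x = 0 ∨ ε ≠ 0 := by
          by_cases hε : ε = 0
          · rw [hε, zero_smul] at hz
            exact Or.inl (rep_injective ρ _ (hz.trans (map_zero _).symm))
          · exact Or.inr hε
        rcases hne' with h0 | h0
        · exact ⟨0, by simp [h0]⟩
        · refine ⟨a / ε, ?_⟩
          rw [map_mul, map_mul, Module.End.mul_apply, hz, map_smul] at ha
          rw [div_eq_inv_mul, mul_smul, ← ha, smul_smul, inv_mul_cancel₀ h0, one_smul]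
    obtain ⟨a, ha⟩ := hab
    exact ⟨Pi.single ψ a, by
      rw [Finset.sum_eq_single ψ (fun b _ hb => by simp [hb]) (by simp), Pi.single_eq_same]; exact ha.symm⟩
  calc finrank ℂ ↥(D ⊔ ℂ ∙ o) ≤ finrank ℂ ↥D + finrank ℂ ↥(ℂ ∙ o) :=
        Submodule.finrank_add_le_finrank_add_finrank _ _
    _ ≤ _ := add_le_add ((Submodule.finrank_mono hDle).trans ((finrank_range_le_card _).trans
        (by simp))) ((finrank_span_le_card _).trans (by simp))

end CfsgLib.MinDeg.SpW
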