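import Cfsg.Agent.Lib.MinDeg.SpWElements
import Mathlib.LinearAlgebra.Matrix.Reindex
import Mathlib.LinearAlgebra.Matrix.Transvection

/-!
# Rank one weights of representations of `Sp_2m(q)`, `q` odd

In a representation all whose weights on the Siegel radical have rank at most one, the Weyl
element of a coordinate sends a weight vector to a multiple of the sum of its translates, and the
stabiliser of a weight acts on each weight vector by scalars.
-/

set_option autoImplicit false
set_option linter.unusedSectionVars false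
set_option linter.unusedSimpArgs false

namespace CfsgLib.MinDeg.SpW

open Matrix

variable {F : Type*} [Field F] {m : ℕ}

/-- The value of the quadratic form of a symmetric matrix. -/
def qv (H : Sm F m) (v : Fin m → F) : F := v ⬝ᵥ H.1 *ᵥ v

theorem qv_add (H K : Sm F m) (v : Fin m → F) : qv (H + K) v = qv H v + qv K v := by
  simp [qv, add_mulVec, dotProduct_add]

theorem qv_zero (v : Fin m → F) : qv (0 : Sm F m) v = 0 := by simp [qv]

theorem qv_smul (H : Sm F m) (a : F) (v : Fin m → F) : qv H (a • v) = a ^ 2 * qv H v := by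
  simp [qv, mulVec_smul, sq, mul_assoc]

theorem qv_zero' (H : Sm F m) : qv H 0 = 0 := by simp [qv]

theorem qv_sS (i k : Fin m) (a : F) (v : Fin m → F) : qv (sS i k a) v = 2 * a * v i * v k := by
  simp [qv, sS, add_mulVec, single_mulVec, dotProduct_add, dotProduct, Function.update_apply,
    Finset.sum_add_distrib]
  simp only [mul_add, Finset.sum_add_distrib]
  rw [Finset.sum_eq_single i (fun b _ hb => by simp [hb]) (by simp),
    Finset.sum_eq_single k (fun b _ hb => by simp [hb]) (by simp)]
  simp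
  ring

theorem qv_sE (k : Fin m) (r : F) (v : Fin m → F) : qv (sE k r) v = r * v k ^ 2 := by
  simp [qv, sE, single_mulVec, dotProduct, Function.update_apply]
  ring

theorem qv_cong (B : GL (Fin m) F) (H : Sm F m) (v : Fin m → F) :
    qv (cong B H) (B.1 *ᵥ v) = qv H v := by
  simp only [qv, cong_val]
  rw [← mulVec_mulVec, ← mulVec_mulVec, mulVec_mulVec v, ← Units.val_mul, inv_mul_cancel,
    Units.val_one, one_mulVec, dotProduct_mulVec, vecMul_transpose, mulVec_mulVec, ← Units.val_mul,
    inv_mul_cancel, Units.val_one, one_mulVec]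

theorem sS_row {k p q : Fin m} (hp : p ≠ k) (hq : q ≠ k) (t : F) (j : Fin m) :
    (sS p q t).1 k j = 0 := by
  simp [sS, hp, hq]

/-- Separation of arguments by a nontrivial additive character. -/
theorem sep {e : AddChar F ℂ} (he : e ≠ 0) {a b : F} (h : ∀ t, e (t * a) = e (t * b)) : a = b := by
  by_contra hne
  obtain ⟨u, hu⟩ := AddChar.ne_zero_iff.1 he
  apply hu
  have hd : a - b ≠ 0 := sub_ne_zero.2 hne
  set t := u / (a - b) with ht
  have h2 : t * a = t * b + u := by rw [ht]; field_simp; ring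
  have h3 := h t
  rw [h2, AddChar.map_add_eq_mul] at h3
  exact (mul_right_eq_self₀.1 h3).resolve_right (e.val_isUnit _).ne_zero

variable (e : AddChar F ℂ)

/-- The weight of a vector and a scalar. -/
def chiV (c : F) (v : Fin m → F) : AddChar (Sm F m) ℂ where
  toFun H := e (c * qv H v)
  map_zero_eq_one' := by simp [qv_zero]
  map_add_eq_mul' H K := by rw [qv_add, mul_add, AddChar.map_add_eq_mul]

theorem chiV_apply (c : F) (v : Fin m → F) (H : Sm F m) : chiV e c v H = e (c * qv H v) := rfl

theorem chiV_smul (c a : F) (v : Fin m → F) : chiV e c (a • v) = chiV e (c * a ^ 2) v :=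
  AddChar.ext _ _ fun H => by rw [chiV_apply, chiV_apply, qv_smul, mul_assoc]

theorem chiV_zero (v : Fin m → F) : chiV e (0 : F) v = 0 :=
  AddChar.ext _ _ fun H => by simp [chiV_apply]

variable [Fintype F] {V : Type*} [AddCommGroup V] [Module ℂ V] (ρ : Representation ℂ (Spm F m) V)

noncomputable instance instFintypeSm : Fintype (Sm F m) := Fintype.ofFinite _

/-- The weight space of a vector and a scalar. -/
def Wt (c : F) (v : Fin m → F) : Submodule ℂ V := weightSpace (resChar ρ upp) (chiV e c v)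

theorem mem_Wt {c : F} {v : Fin m → F} {x : V} :
    x ∈ Wt e ρ c v ↔ ∀ H, ρ (upp H) x = e (c * qv H v) • x := by
  simp [Wt, mem_weightSpace, chiV_apply]

/-- All weights on the Siegel radical have rank at most one. -/
def R1 : Prop :=
  ∀ ψ : AddChar (Sm F m) ℂ, weightSpace (resChar ρ upp) ψ ≠ ⊥ → ∃ c v, ψ = chiV e c v

theorem move (B : GL (Fin m) F) {c : F} {v : Fin m → F} {x : V} (hx : x ∈ Wt e ρ c v) :
    ρ (gl B) x ∈ Wt e ρ c (B.1 *ᵥ v) :=
  mapsTo_weightSpace ρ upp (gl B) (cong B) (gl_mul_upp B) _ _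
    (fun H => by rw [chiV_apply, chiV_apply, qv_cong]) x hx

/-- The projection to a weight commutes with a normalising element. -/
theorem proj_equiv (B : GL (Fin m) F) (ψ ψ' : AddChar (Sm F m) ℂ)
    (h : ∀ H, ψ' (cong B H) = ψ H) (z : V) :
    weightProj (resChar ρ upp) ψ' (ρ (gl B) z) = ρ (gl B) (weightProj (resChar ρ upp) ψ z) := by
  rw [weightProj_apply, weightProj_apply, map_smul, map_sum]
  congr 1
  rw [← Equiv.sum_comp (cong B).toEquiv]
  refine Finset.sum_congr rfl fun H _ => ?_
  simp only [AddEquiv.toEquiv_eq_coe, EquivLike.coe_coe, map_smul, resChar_apply, ← map_neg, h,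
    ← Module.End.mul_apply, ← map_mul, gl_mul_upp]

theorem proj_chiV (B : GL (Fin m) F) (c : F) (v : Fin m → F) (z : V) :
    weightProj (resChar ρ upp) (chiV e c (B.1 *ᵥ v)) (ρ (gl B) z) =
      ρ (gl B) (weightProj (resChar ρ upp) (chiV e c v) z) :=
  proj_equiv ρ B _ _ (fun H => by rw [chiV_apply, chiV_apply, qv_cong]) z

/-- An eigenvector of the radical element `H` only has weights with that value at `H`. -/
theorem weight_value {H : Sm F m} {z : V} {a : ℂ} (h : ρ (upp H) z = a • z)
    {ψ : AddChar (Sm F m) ℂ} (hψ : weightProj (resChar ρ upp) ψ z ≠ 0) : ψ H = a := by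
  have h1 : ρ (upp H) (weightProj (resChar ρ upp) ψ z) = a • weightProj (resChar ρ upp) ψ z := by
    rw [weightProj_apply, map_smul, map_sum, smul_comm, Finset.smul_sum (r := a)]
    congr 1
    refine Finset.sum_congr rfl fun K _ => ?_
    rw [map_smul, resChar_apply, ← Module.End.mul_apply, ← map_mul, ← AddChar.map_add_eq_mul,
      add_comm, AddChar.map_add_eq_mul, map_mul, Module.End.mul_apply, h, map_smul, smul_comm]
  rw [← resChar_apply ρ upp, mem_weightSpace.1 (weightProj_mem _ ψ z) H] at h1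
  exact smul_left_injective ℂ hψ h1

theorem weightSpace_ne_bot {ψ : AddChar (Sm F m) ℂ} {z : V}
    (hψ : weightProj (resChar ρ upp) ψ z ≠ 0) : weightSpace (resChar ρ upp) ψ ≠ ⊥ := fun h => by
  have := weightProj_mem (resChar ρ upp) ψ z
  rw [h, Submodule.mem_bot] at this
  exact hψ this

variable {e} (he : e ≠ 0) (h2 : (2 : F) ≠ 0)

include he h2 in
theorem offk_eq {k : Fin m} {c c' : F} {v v' : Fin m → F}
    (h : ∀ H : Sm F m, (∀ q, H.1 k q = 0) → e (c' * qv H v') = e (c * qv H v))
    {p q : Fin m} (hp : p ≠ k) (hq : q ≠ k) : c' * v' p * v' q = c * v p * v q := by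
  refine mul_left_cancel₀ h2 (sep he fun t => ?_)
  have h1 := h (sS p q t) (sS_row hp hq t)
  rw [qv_sS, qv_sS] at h1
  convert h1 using 2 <;> ring

theorem tv_mulVec {i k : Fin m} (h : k ≠ i) (s : F) (v : Fin m → F) :
    (tv h s).1 *ᵥ v = v + Pi.single k (s * v i) := by
  rw [tv_val, add_mulVec, one_mulVec, single_mulVec]
  congr 1

variable (hR : R1 e ρ)

section Line

variable {i k : Fin m} (hki : k ≠ i) {c : F} (hc : c ≠ 0) {v : Fin m → F} (hvk : v k = 0)
  (hvi : v i ≠ 0)

theorem tv_mulVec_apply (s : F) : ((tv hki s).1 *ᵥ v) k = v k + s * v i ∧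
    ((tv hki s).1 *ᵥ v) i = v i := by
  rw [tv_mulVec]; simp [hki.symm]

include hvk in
theorem fix_sS {x : V} (hx : x ∈ Wt e ρ c v) (a : F) : ρ (upp (sS i k a)) x = x := by
  rw [(mem_Wt e ρ).1 hx, qv_sS, hvk]
  simp

include he h2 hc hvi in
theorem chiV_tv_injective : Function.Injective fun s : F => chiV e c ((tv hki s).1 *ᵥ v) := by
  intro s s' h
  have h1 : ∀ t, e (t * (2 * c * v i * (v k + s * v i))) = e (t * (2 * c * v i * (v k + s' * v i))) := by
    intro t
    have := DFunLike.congr_fun h (sS i k t)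
    simp only [chiV_apply, qv_sS, tv_mulVec_apply hki] at this
    convert this using 2 <;> ring
  have h3 := mul_left_cancel₀ (mul_ne_zero (mul_ne_zero h2 hc) hvi) (sep he h1)
  exact mul_right_cancel₀ hvi (add_left_cancel h3)

include he h2 hR hc hvk hvi in
/-- The Weyl element sends a weight vector to the sum of translates of its projection. -/
theorem wk_sum {x : V} (hx : x ∈ Wt e ρ c v) :
    ρ (wk k) x =
      ∑ s : F, ρ (gl (tv hki s)) (weightProj (resChar ρ upp) (chiV e c v) (ρ (wk k) x)) := by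
  classical
  set z := ρ (wk k) x with hz
  have hfix : ∀ s, ρ (gl (tv hki s)) z = z := by
    intro s
    rw [hz, ← Module.End.mul_apply, ← map_mul, show gl (tv hki s) * wk k =
      wk k * upp (sS i k (-s)) by rw [wk_mul_sS hki, neg_neg], map_mul, Module.End.mul_apply,
      fix_sS ρ hvk hx]
  have hP : ∀ s, weightProj (resChar ρ upp) (chiV e c ((tv hki s).1 *ᵥ v)) z =
      ρ (gl (tv hki s)) (weightProj (resChar ρ upp) (chiV e c v) z) := fun s => by
    conv_lhs => rw [← hfix s]
    exact proj_chiV e ρ (tv hki s) c v z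
  conv_lhs => rw [← sum_weightProj (resChar ρ upp) z]
  simp only [← hP]
  rw [← Finset.sum_image (f := fun ψ => weightProj (resChar ρ upp) ψ z)
    fun a _ b _ h => chiV_tv_injective he h2 hki hc hvi h]
  refine (Finset.sum_subset (Finset.subset_univ _) fun ψ _ hψ => ?_).symm
  by_contra hne
  obtain ⟨c', v', rfl⟩ := hR ψ (weightSpace_ne_bot ρ hne)
  have hoff : ∀ H : Sm F m, (∀ q, H.1 k q = 0) → e (c' * qv H v') = e (c * qv H v) := by
    intro H hH
    refine weight_value ρ (H := H) ?_ hne
    rw [hz, ← Module.End.mul_apply, ← map_mul, ← wk_upp_comm k H hH, map_mul, Module.End.mul_apply,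
      (mem_Wt e ρ).1 hx, map_smul]
  apply hψ
  have hii := offk_eq he h2 hoff hki.symm hki.symm
  have hR0 : c * v i * v i ≠ 0 := mul_ne_zero (mul_ne_zero hc hvi) hvi
  have hvi' : v' i ≠ 0 := fun h => hR0 (by rw [← hii, h]; ring)
  have hc' : c' ≠ 0 := fun h => hR0 (by rw [← hii, h]; ring)
  set α := c' * v' i / (c * v i) with hα
  have hu : ∀ p, p ≠ k → α * v' p = v p := by
    intro p hp
    have := offk_eq he h2 hoff hp hki.symm
    rw [hα]; field_simp; linear_combination this
  have hcα : c * α ^ 2 = c' := by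
    rw [hα]; field_simp; linear_combination hii
  refine Finset.mem_image.2 ⟨α * v' k / v i, Finset.mem_univ _, ?_⟩
  rw [← hcα, ← chiV_smul]
  congr 1
  funext p
  rw [tv_mulVec]
  by_cases hp : p = k
  · subst hp; simp [hvk, div_mul_cancel₀ _ hvi]
  · simp [hp, hu p hp]

/-- Combinations of translates. -/
noncomputable def comb (y : V) (f : F → ℂ) : V := ∑ t, f t • ρ (gl (tv hki t)) y

/-- The value of a Weyl element followed by a radical element on combinations. -/
noncomputable def stepFun (e : AddChar F ℂ) (c vi r : F) (f : F → ℂ) : F → ℂ := fun s =>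
  ∑ t, f t * e (c * (r * (t * vi) ^ 2)) * e (c * (2 * t * vi * (s * vi)))

theorem comb_single [DecidableEq F] (y : V) : comb ρ hki y (Pi.single 0 1) = y := by
  rw [comb, Finset.sum_eq_single 0 (fun t _ ht => by simp [ht]) (by simp)]
  rw [show tv hki (0 : F) = 1 from Units.ext (by simp [tv_val]), map_one, map_one]
  simp

include he h2 hc hvi in
theorem proj_comb {y : V} (hy : y ∈ Wt e ρ c v) (f : F → ℂ) :
    weightProj (resChar ρ upp) (chiV e c v) (comb ρ hki y f) = f 0 • y := by
  classical
  simp only [comb, map_sum, map_smul]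
  rw [Finset.sum_eq_single 0 (fun t _ ht => ?_) (by simp)]
  · rw [show tv hki (0 : F) = 1 from Units.ext (by simp [tv_val]), map_one, map_one]
    simp [weightProj_of_mem hy]
  · rw [weightProj_of_mem_ne ?_ (move e ρ (tv hki t) hy), smul_zero]
    intro h
    refine ht (chiV_tv_injective he h2 hki hc hvi (show _ = chiV e c ((tv hki 0).1 *ᵥ v) from ?_))
    rw [show (tv hki (0 : F)).1 *ᵥ v = v by simp [tv_mulVec hki]]
    exact h.symm

include hvk in
theorem upp_translate {y : V} (hy : y ∈ Wt e ρ c v) (r t : F) :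
    ρ (upp (sE k r)) (ρ (gl (tv hki t)) y) = e (c * (r * (t * v i) ^ 2)) • ρ (gl (tv hki t)) y := by
  rw [(mem_Wt e ρ).1 (move e ρ (tv hki t) hy), qv_sE, (tv_mulVec_apply hki t).1, hvk, zero_add]

include he h2 hR hc hvk hvi in
theorem wk_translate {y : V} (hy : y ∈ Wt e ρ c v) (t : F) :
    ρ (wk k) (ρ (gl (tv hki t)) y) =
      comb ρ hki (weightProj (resChar ρ upp) (chiV e c v) (ρ (wk k) y))
        fun s => e (c * (2 * t * v i * (s * v i))) := by
  rw [← Module.End.mul_apply, ← map_mul, wk_mul_tv hki, map_mul, Module.End.mul_apply]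
  conv_lhs => rw [wk_sum ρ he h2 hR hki hc hvk hvi hy, map_sum]
  refine Finset.sum_congr rfl fun s _ => ?_
  rw [(mem_Wt e ρ).1 (move e ρ (tv hki s) (weightProj_mem _ _ _)), qv_sS,
    (tv_mulVec_apply hki s).1, (tv_mulVec_apply hki s).2, hvk, zero_add]

include he h2 hR hc hvk hvi in
theorem step {y : V} (hy : y ∈ Wt e ρ c v) (r : F) (f : F → ℂ) :
    ρ (wk k * upp (sE k r)) (comb ρ hki y f) =
      comb ρ hki (weightProj (resChar ρ upp) (chiV e c v) (ρ (wk k) y))
        (stepFun e c (v i) r f) := by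
  rw [map_mul, Module.End.mul_apply]
  simp only [comb, map_sum, map_smul, upp_translate ρ hki hvk hy,
    wk_translate ρ he h2 hR hki hc hvk hvi hy, Finset.smul_sum, smul_smul, stepFun, Finset.sum_smul]
  rw [Finset.sum_comm]

include he h2 hR hc hvk hvi in
/-- The scalar of the reflection of the coordinate. -/
theorem refl_scalar : ∃ κ : ℂ, ∀ x ∈ Wt e ρ c v, ρ (gl (dg k (-1))) x = κ • x ∧
    ∃ α : ℂ, ρ (wk k) x = α • comb ρ hki x fun _ => 1 := by
  classical
  let δ : F → ℂ := Pi.single 0 1
  let f₃ := stepFun e c (v i) 1 (stepFun e c (v i) 1 (stepFun e c (v i) 1 δ))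
  let g₃ := stepFun e c (v i) (-1) (stepFun e c (v i) (-1) (stepFun e c (v i) (-1) δ))
  let f₂ := stepFun e c (v i) 0 (stepFun e c (v i) 0 δ)
  refine ⟨g₃ 0 / f₃ 0, fun x hx => ?_⟩
  set P := weightProj (resChar ρ upp) (chiV e c v) with hP
  let A : V → V := fun y => P (ρ (wk k) y)
  have hA : ∀ y, A y ∈ Wt e ρ c v := fun y => weightProj_mem _ _ _
  have three : ∀ r : F, P (ρ (wk k * upp (sE k r) * (wk k * upp (sE k r)) * (wk k * upp (sE k r))) x) =
      stepFun e c (v i) r (stepFun e c (v i) r (stepFun e c (v i) r δ)) 0 • A (A (A x)) := by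
    intro r
    conv_lhs => rw [← comb_single ρ hki x]
    rw [map_mul, map_mul _ (wk k * _) (wk k * _), Module.End.mul_apply, Module.End.mul_apply,
      step ρ he h2 hR hki hc hvk hvi hx, step ρ he h2 hR hki hc hvk hvi (hA x),
      step ρ he h2 hR hki hc hvk hvi (hA (A x))]
    exact proj_comb ρ he h2 hki hc hvi (hA _) _
  have hfixd : ρ (gl (dg k (-1))) x ∈ Wt e ρ c v := by
    have := move e ρ (dg k (-1)) hx
    rwa [show (dg k (-1) : GL (Fin m) F).1 *ᵥ v = v from funext fun p => by
      rw [dg_val, mulVec_diagonal]; by_cases hp : p = k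
      · subst hp; simp [hvk]
      · simp [hp]] at this
  have e1 := three 1
  rw [wk_cube, map_one, Module.End.one_apply, hP, weightProj_of_mem hx] at e1
  have e2 := three (-1)
  rw [wk_cube_neg, hP, weightProj_of_mem hfixd] at e2
  have e3 : ρ (gl (dg k (-1))) x = f₂ 0 • A (A x) := by
    have h0 : upp (sE k (0 : F)) = 1 := by
      rw [show sE k (0 : F) = 0 from Subtype.ext (single_zero k k)]; exact AddChar.map_zero_eq_one _
    have hw : ρ (wk k * upp (sE k (0 : F)) * (wk k * upp (sE k 0))) (comb ρ hki x δ) =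
        ρ (gl (dg k (-1))) x := by
      rw [comb_single, h0, mul_one, wk_sq]
    rw [map_mul, Module.End.mul_apply, step ρ he h2 hR hki hc hvk hvi hx,
      step ρ he h2 hR hki hc hvk hvi (hA x)] at hw
    rw [← weightProj_of_mem hfixd, ← hw]
    exact proj_comb ρ he h2 hki hc hvi (hA _) _
  by_cases hx0 : x = 0
  · subst hx0; simp [comb]
  have hf : f₃ 0 ≠ 0 := fun h => hx0 (by rw [e1]; show f₃ 0 • _ = _; rw [h, zero_smul])
  have hd : ρ (gl (dg k (-1))) x = (g₃ 0 / f₃ 0) • x := by
    conv_rhs => rw [e1]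
    show _ = _ • f₃ 0 • A (A (A x))
    rw [smul_smul, div_mul_cancel₀ _ hf]
    exact e2
  refine ⟨hd, ?_⟩
  set κ := g₃ 0 / f₃ 0
  have hκ : κ ≠ 0 := fun h => hx0 (rep_injective ρ _ (by rw [hd, h, zero_smul, map_zero]))
  have h4 : κ • A x = f₂ 0 • A (A (A x)) := by
    have := congrArg A (hd.symm.trans e3)
    simpa [A, map_smul] using this
  have h5 : A x = (f₂ 0 / (κ * f₃ 0)) • x := by
    have h6 : (κ * f₃ 0) • A x = f₂ 0 • x := by
      conv_rhs => rw [e1]
      show _ = _ • f₃ 0 • A (A (A x))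
      rw [mul_comm, mul_smul, h4, smul_comm]
    rw [div_eq_inv_mul, mul_smul, ← h6, smul_smul, inv_mul_cancel₀ (mul_ne_zero hκ hf), one_smul]
  refine ⟨f₂ 0 / (κ * f₃ 0), ?_⟩
  rw [wk_sum ρ he h2 hR hki hc hvk hvi hx]
  change ∑ s, ρ (gl (tv hki s)) (A x) = _
  simp only [h5, map_smul, comb, one_smul, Finset.smul_sum]

include he h2 hR hki hc hvk hvi in
/-- Scalings of the coordinate act by scalars. -/
theorem dg_scalar {x : V} (hx : x ∈ Wt e ρ c v) (b : Fˣ) : ∃ a : ℂ, ρ (gl (dg k b)) x = a • x := by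
  classical
  obtain ⟨α, hα⟩ := ((refl_scalar ρ he h2 hR hki hc hvk hvi).choose_spec x hx).2
  have hw : ∀ f : F → ℂ, ∃ g, ρ (wk k) (comb ρ hki x f) = comb ρ hki x g := by
    intro f
    refine ⟨fun s => α * stepFun e c (v i) 0 f s, ?_⟩
    have h0 : wk k * upp (sE k (0 : F)) = wk k := by
      rw [show sE k (0 : F) = 0 from Subtype.ext (single_zero k k), AddChar.map_zero_eq_one, mul_one]
    have := step ρ he h2 hR hki hc hvk hvi hx 0 f
    rw [h0, hα, map_smul, proj_comb ρ he h2 hki hc hvi hx, one_smul] at this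
    rw [this]
    simp only [comb, map_smul, smul_smul, mul_comm]
  have hu : ∀ (r : F) (f : F → ℂ), ∃ g, ρ (upp (sE k r)) (comb ρ hki x f) = comb ρ hki x g :=
    fun r f => ⟨fun t => f t * e (c * (r * (t * v i) ^ 2)), by
      simp only [comb, map_sum, map_smul, upp_translate ρ hki hvk hx, smul_smul]⟩
  have huw : ∀ (r : F) (f : F → ℂ),
      ∃ g, ρ (upp (sE k r) * wk k) (comb ρ hki x f) = comb ρ hki x g := fun r f => by
    obtain ⟨g, hg⟩ := hw f
    obtain ⟨g', hg'⟩ := hu r g
    exact ⟨g', by rw [map_mul, Module.End.mul_apply, hg, hg']⟩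
  obtain ⟨g₁, h1⟩ := huw ((b⁻¹ : Fˣ) : F) (Pi.single 0 1)
  obtain ⟨g₂, h2'⟩ := huw ((b⁻¹⁻¹ : Fˣ) : F) g₁
  obtain ⟨g₃, h3⟩ := huw ((b⁻¹ : Fˣ) : F) g₂
  have hd : ρ (gl (dg k b)) x = comb ρ hki x g₃ := by
    have hw := dg_word k b⁻¹
    rw [inv_inv] at hw
    rw [← h3, ← h2', ← h1, comb_single, inv_inv, ← hw]
    simp only [map_mul, Module.End.mul_apply]
  refine ⟨g₃ 0, ?_⟩
  have hmem := move e ρ (dg k b) hx
  rw [show (dg k b : GL (Fin m) F).1 *ᵥ v = v from funext fun p => by
    rw [dg_val, mulVec_diagonal]; by_cases hp : p = k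
    · subst hp; simp [hvk]
    · simp [hp]] at hmem
  rw [← weightProj_of_mem hmem, hd, proj_comb ρ he h2 hki hc hvi hx]

end Line

/-! ### The stabiliser of a weight -/

include he h2 hR in
theorem tv_fix {i : Fin m} {c : F} (hc : c ≠ 0) {x : V} (hx : x ∈ Wt e ρ c (Pi.single i 1))
    {p q : Fin m} (hpq : p ≠ q) (hq : q ≠ i) (s : F) : ρ (gl (tv hpq s)) x = x := by
  have hv : (Pi.single i (1 : F) : Fin m → F) q = 0 := by simp [hq]
  obtain ⟨κ, hκ⟩ := refl_scalar ρ he h2 hR hq hc hv (by simp)
  by_cases hx0 : x = 0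
  · simp [hx0]
  have hd := (hκ x hx).1
  have hκ0 : κ ≠ 0 := fun h => hx0 (rep_injective ρ _ (by rw [hd, h, zero_smul, map_zero]))
  have key : ∀ s, ρ (gl (tv hpq (-s))) x = ρ (gl (tv hpq s)) x := by
    intro s
    have hmem : ρ (gl (tv hpq s)) x ∈ Wt e ρ c (Pi.single i 1) := by
      have := move e ρ (tv hpq s) hx
      rwa [tv_mulVec, hv, mul_zero, Pi.single_zero, add_zero] at this
    have e1 : tv hpq (-s) * dg q (-1) = dg q (-1) * tv hpq s := Units.ext <| by
      rw [Units.val_mul, Units.val_mul, tv_val, tv_val, dg_val, Matrix.add_mul, Matrix.mul_add,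
        Matrix.one_mul, Matrix.mul_one, add_right_inj]
      ext a b
      simp only [mul_diagonal, diagonal_mul, single_apply, Pi.mulSingle_apply]
      by_cases hab : p = a ∧ q = b
      · obtain ⟨rfl, rfl⟩ := hab
        simp [hpq]
      · simp [hab]
    have e2 := congrArg (fun g => ρ (gl g) x) e1
    simp only [map_mul, Module.End.mul_apply, hd, map_smul, (hκ _ hmem).1] at e2
    exact smul_right_injective V hκ0 e2
  have e2 : tv hpq (s / 2) = tv hpq s * tv hpq (-(s / 2)) := Units.ext <| by
    show transvection p q (s / 2) = transvection p q s * transvection p q (-(s / 2))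
    rw [transvection_mul_transvection_same _ _ hpq]
    congr 1
    field_simp
    ring
  have h3 := congrArg (fun g => ρ (gl g) x) e2
  simp only [map_mul, Module.End.mul_apply, key] at h3
  have hcomm : Commute (ρ (gl (tv hpq s))) (ρ (gl (tv hpq (s / 2)))) := by
    refine Commute.map ?_ (ρ.comp gl)
    exact Units.ext <| show transvection p q s * transvection p q (s / 2) =
      transvection p q (s / 2) * transvection p q s by
      rw [transvection_mul_transvection_same _ _ hpq, transvection_mul_transvection_same _ _ hpq,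
        add_comm]
  rw [← Module.End.mul_apply, hcomm.eq, Module.End.mul_apply] at h3
  exact (rep_injective ρ _ h3).symm

/-- The matrices of elements acting on a vector by a scalar. -/
def scalarMon (x : V) : Submonoid (Matrix (Fin m) (Fin m) F) where
  carrier := {M | ∃ B : GL (Fin m) F, B.1 = M ∧ ∃ a : ℂ, ρ (gl B) x = a • x}
  one_mem' := ⟨1, rfl, 1, by simp⟩
  mul_mem' := by
    rintro _ _ ⟨B, rfl, a, ha⟩ ⟨B', rfl, a', ha'⟩
    exact ⟨B * B', rfl, a' * a, by
      rw [map_mul, map_mul, Module.End.mul_apply, ha', map_smul, ha, smul_smul]⟩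

include he h2 hR in
/-- The stabiliser of a weight acts on weight vectors by scalars. -/
theorem stab_scalar {i : Fin m} {c : F} (hc : c ≠ 0) {x : V} (hx : x ∈ Wt e ρ c (Pi.single i 1))
    (B : GL (Fin m) F) (hB : B.1 *ᵥ Pi.single i 1 = Pi.single i 1) :
    ∃ a : ℂ, ρ (gl B) x = a • x := by
  classical
  have hT : ∀ p q : Fin m, p ≠ q → q ≠ i → ∀ s, transvection p q s ∈ scalarMon ρ x :=
    fun p q hpq hq s => ⟨tv hpq s, rfl, 1, by rw [one_smul, tv_fix ρ he h2 hR hc hx hpq hq]⟩
  have hD : ∀ q, q ≠ i → ∀ b : Fˣ, diagonal (Pi.mulSingle q (b : F)) ∈ scalarMon ρ x :=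
    fun q hq b => ⟨dg q b, rfl, dg_scalar ρ he h2 hR hq hc (by simp [hq]) (by simp) hx b⟩
  suffices h : B.1 ∈ scalarMon ρ x by
    obtain ⟨B', hB', ha⟩ := h
    rwa [Units.ext hB'] at ha
  let eq : {j // j ≠ i} ⊕ {j // ¬j ≠ i} ≃ Fin m := Equiv.sumCompl _
  let r : Matrix ({j // j ≠ i} ⊕ {j // ¬j ≠ i}) ({j // j ≠ i} ⊕ {j // ¬j ≠ i}) F ≃ₐ[F]
      Matrix (Fin m) (Fin m) F := Matrix.reindexAlgEquiv F F eq
  let L : Submonoid (Matrix ({j // j ≠ i} ⊕ {j // ¬j ≠ i}) ({j // j ≠ i} ⊕ {j // ¬j ≠ i}) F) :=
    (scalarMon ρ x).comap r.toRingEquiv.toRingHom.toMonoidHom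
  have hLmem : ∀ C, C ∈ L ↔ C.submatrix eq.symm eq.symm ∈ scalarMon ρ x := fun C => Iff.rfl
  have hsub : ∀ j : {j // ¬j ≠ i}, j.1 = i := fun j => not_not.1 j.2
  have hd0 : B.1.det ≠ 0 := (B.isUnit.map Matrix.detMonoidHom).ne_zero
  -- the shape of the matrix
  set C := B.1.submatrix eq eq with hC
  have hblock : C = fromBlocks C.toBlocks₁₁ 0 C.toBlocks₂₁ 1 := by
    conv_lhs => rw [← fromBlocks_toBlocks C]
    have hcol : ∀ p, B.1 p i = (1 : Matrix (Fin m) (Fin m) F) p i := fun p => by
      have := congrFun hB p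
      simpa [mulVec_single_one, Pi.single_apply, one_apply] using this
    congr 1
    · ext a b; simp [toBlocks₁₂, hC, eq, hsub b, hcol, one_apply, a.2]
    · ext a b
      have hab : a = b := Subtype.ext ((hsub a).trans (hsub b).symm)
      simp [toBlocks₂₂, hC, eq, hsub b, hsub a, hcol, one_apply, hab]
  have hdet : C.toBlocks₁₁.det ≠ 0 := by
    have h1 : C.det = B.1.det := det_submatrix_equiv_self eq _
    rw [hblock, det_fromBlocks_zero₁₂, det_one, mul_one] at h1
    rw [h1]; exact hd0
  have hfac : C = fromBlocks 1 0 (C.toBlocks₂₁ * C.toBlocks₁₁⁻¹) 1 *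
      fromBlocks C.toBlocks₁₁ 0 0 1 := by
    rw [fromBlocks_multiply]
    conv_lhs => rw [hblock]
    simp [nonsing_inv_mul_cancel_right _ _ (Ne.isUnit hdet)]
  have h21 : ∀ R, fromBlocks 1 0 R 1 ∈ L := by
    intro R
    induction R using Matrix.induction_on' with
    | h_zero => rw [fromBlocks_one]; exact L.one_mem
    | h_add R R' hR' hR'' =>
      have := L.mul_mem hR' hR''
      rw [fromBlocks_multiply] at this
      simpa using this
    | h_std_basis a b t =>
      rw [hLmem]
      convert hT a.1 b.1 (fun h => b.2 (h ▸ hsub a)) b.2 t using 1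
      ext p q
      obtain ⟨p, rfl⟩ := eq.surjective p
      obtain ⟨q, rfl⟩ := eq.surjective q
      rcases p with p | p <;> rcases q with q | q <;>
        simp [eq, transvection, one_apply, single_apply, Subtype.ext_iff] <;> grind
  have h11 : ∀ D, D.det ≠ 0 → fromBlocks D 0 0 1 ∈ L := by
    intro D hD'
    refine diagonal_transvection_induction_of_det_ne_zero
      (fun D => fromBlocks D 0 0 1 ∈ L) D hD' (fun d hd => ?_) (fun t => ?_)
      fun A B' _ _ ihA ihB => ?_
    ·
      rw [det_diagonal, Finset.prod_ne_zero_iff] at hd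
      have key : ∀ s : Finset {j // j ≠ i},
          fromBlocks (diagonal fun j => if j ∈ s then d j else 1) 0 0 1 ∈ L := by
        intro s
        induction s using Finset.induction with
        | empty =>
          rw [show (fun j : {j // j ≠ i} => if j ∈ (∅ : Finset _) then d j else 1) = fun _ => (1 : F)
            by funext j; simp, diagonal_one, fromBlocks_one]
          exact L.one_mem
        | insert j s hj ih =>
          have h1 : fromBlocks (diagonal (Pi.mulSingle j (d j))) 0 0 1 ∈ L := by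
            rw [hLmem]
            convert hD j.1 j.2 (Units.mk0 _ (hd j (Finset.mem_univ _))) using 1
            ext p q
            obtain ⟨p, rfl⟩ := eq.surjective p
            obtain ⟨q, rfl⟩ := eq.surjective q
            rcases p with p | p <;> rcases q with q | q <;>
              simp [eq, diagonal_apply, Pi.mulSingle_apply, one_apply, Subtype.ext_iff] <;> grind
          have := L.mul_mem h1 ih
          rw [fromBlocks_multiply] at this
          simp only [Matrix.zero_mul, Matrix.mul_zero, add_zero, zero_add, Matrix.one_mul,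
            diagonal_mul_diagonal] at this
          have hfun : (fun l => if l ∈ insert j s then d l else 1) =
              fun l => (Pi.mulSingle j (d j) : {j // j ≠ i} → F) l * (if l ∈ s then d l else 1) := funext fun l => by
            by_cases hb : l = j
            · subst hb; simp [hj]
            · simp [hb]
          rw [hfun]; exact this
      simpa using key Finset.univ
    ·
      rw [hLmem]
      obtain ⟨a, b, hab, s⟩ := t
      convert hT a.1 b.1 (fun h => hab (Subtype.ext h)) b.2 s using 1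
      ext p q
      obtain ⟨p, rfl⟩ := eq.surjective p
      obtain ⟨q, rfl⟩ := eq.surjective q
      rcases p with p | p <;> rcases q with q | q <;>
        simp [eq, TransvectionStruct.toMatrix, transvection, one_apply, single_apply,
          Subtype.ext_iff] <;> grind
    · have := L.mul_mem ihA ihB
      rw [fromBlocks_multiply] at this
      simpa using this
  have hCL : C ∈ L := hfac ▸ L.mul_mem (h21 _) (h11 _ hdet)
  rw [hLmem] at hCL
  simpa [hC] using hCL

include he h2 hR in
/-- Transvections fix the vectors fixed by the radical. -/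
theorem tv_fix_zero {x : V} (hx : ∀ H, ρ (upp H) x = x) {i k : Fin m} (hki : k ≠ i) (s : F) :
    ρ (gl (tv hki s)) x = x := by
  refine rep_injective ρ (wk k) ?_
  rw [← Module.End.mul_apply, ← map_mul, wk_mul_tv hki, map_mul, Module.End.mul_apply]
  conv_lhs => rw [← sum_weightProj (resChar ρ upp) (ρ (wk k) x), map_sum]
  conv_rhs => rw [← sum_weightProj (resChar ρ upp) (ρ (wk k) x)]
  refine Finset.sum_congr rfl fun ψ _ => ?_
  set z := ρ (wk k) x with hz
  rw [← resChar_apply ρ upp, mem_weightSpace.1 (weightProj_mem _ ψ z)]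
  by_cases hne : weightProj (resChar ρ upp) ψ z = 0
  · rw [hne, smul_zero]
  obtain ⟨c', v', rfl⟩ := hR ψ (weightSpace_ne_bot ρ hne)
  have hoff : ∀ H : Sm F m, (∀ q, H.1 k q = 0) → e (c' * qv H v') = e (0 * qv H (0 : Fin m → F)) := by
    intro H hH
    rw [zero_mul, AddChar.map_zero_eq_one]
    refine weight_value ρ (H := H) ?_ hne
    rw [hz, ← Module.End.mul_apply, ← map_mul, ← wk_upp_comm k H hH, map_mul, Module.End.mul_apply,
      hx, one_smul]
  have hii := offk_eq he h2 hoff hki.symm hki.symm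
  have h0 : c' * v' i = 0 := by
    rcases mul_eq_zero.1 (hii.trans (by ring) : c' * v' i * v' i = 0) with h | h
    · exact h
    · rw [h, mul_zero]
  rw [chiV_apply, qv_sS, show c' * (2 * s * v' i * v' k) = 2 * s * v' k * (c' * v' i) by ring, h0,
    mul_zero, AddChar.map_zero_eq_one, one_smul]

end CfsgLib.MinDeg.SpW
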