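import Mathlib
import Cfsg.Prelude.Def_Sz
import Cfsg.Agent.Lib.MinDeg.Basic

/-!
# Generators of the matrix Suzuki group and the normal closure of a root centre

`S.u a b` are the lower unitriangular elements, `S.h t` the torus, `S.w` the antidiagonal involution.
The centre `S.z b = S.u 0 b` normally generates the whole group.
-/

set_option autoImplicit false

namespace CfsgLib.MinDeg.Suzuki

open Matrix

/-- A field of characteristic two with a Tits endomorphism, given also as the exponent `e`. -/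
structure Tits (F : Type*) [Field F] where
  e : ℕ
  θ : F →+* F
  θ_eq : ∀ x, θ x = x ^ e
  θθ : ∀ x, θ (θ x) = x ^ 2
  two : (2 : F) = 0
  exists_ne : ∃ t : F, t ≠ 0 ∧ t ≠ 1
  sqrt : ∀ x : F, ∃ y, y ^ 2 = x

variable {F : Type*} [Field F] (S : Tits F)

theorem Tits.neg_eq (S : Tits F) (x : F) : -x = x := by
  linear_combination (-x) * S.two

/-- Lower unitriangular Suzuki matrix. -/
def matU (a b : F) : Matrix (Fin 4) (Fin 4) F :=
  !![1, 0, 0, 0; a, 1, 0, 0; b, S.θ a, 1, 0;
    S.θ b + a * b + a ^ 2 * S.θ a, b + a * S.θ a, a, 1]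

/-- Upper unitriangular Suzuki matrix. -/
def matV (a b : F) : Matrix (Fin 4) (Fin 4) F :=
  !![1, a, b + a * S.θ a, S.θ b + a * b + a ^ 2 * S.θ a; 0, 1, S.θ a, b; 0, 0, 1, a; 0, 0, 0, 1]

/-- Antidiagonal matrix. -/
def matW (F : Type*) [Field F] : Matrix (Fin 4) (Fin 4) F :=
  !![0, 0, 0, 1; 0, 0, 1, 0; 0, 1, 0, 0; 1, 0, 0, 0]

/-- Torus matrix. -/
def matH (t : F) : Matrix (Fin 4) (Fin 4) F :=
  !![t, 0, 0, 0; 0, S.θ t / t, 0, 0; 0, 0, t / S.θ t, 0; 0, 0, 0, t⁻¹]

theorem matU_mul (a b c d : F) :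
    matU S a b * matU S c d = matU S (a + c) (b + d + S.θ a * c) := by
  have := S.θθ; have := S.two
  ext i j
  fin_cases i <;> fin_cases j <;>
    simp [matU, Matrix.mul_apply, Fin.sum_univ_four, map_add, map_mul, S.θθ] <;> grind

theorem matU_zero : matU S 0 0 = 1 := by
  ext i j; fin_cases i <;> fin_cases j <;> simp [matU]

theorem matW_mul_matU (a b : F) : matW F * matU S a b = matV S a b * matW F := by
  ext i j
  fin_cases i <;> fin_cases j <;> simp [matU, matV, matW, Matrix.mul_apply, Fin.sum_univ_four]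

theorem matW_mul_matW : matW F * matW F = 1 := by
  ext i j; fin_cases i <;> fin_cases j <;> simp [matW, Matrix.mul_apply, Fin.sum_univ_four]

theorem matV_mul (a b c d : F) :
    matV S a b * matV S c d = matV S (a + c) (b + d + S.θ a * c) := by
  have h := fun a b => matW_mul_matU S a b
  have e : ∀ a b, matV S a b = matW F * matU S a b * matW F := fun a b => by
    rw [h a b, Matrix.mul_assoc, matW_mul_matW, Matrix.mul_one]
  rw [e, e, e, ← matU_mul]
  simp only [Matrix.mul_assoc]
  rw [← Matrix.mul_assoc (matW F) (matW F), matW_mul_matW, Matrix.one_mul]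

theorem matV_zero : matV S 0 0 = 1 := by
  ext i j; fin_cases i <;> fin_cases j <;> simp [matV]

theorem matH_mul (s t : F) : matH S s * matH S t = matH S (s * t) := by
  ext i j
  fin_cases i <;> fin_cases j <;>
    simp [matH, Matrix.mul_apply, Fin.sum_univ_four, map_mul] <;> ring

theorem matH_one : matH S 1 = 1 := by
  ext i j; fin_cases i <;> fin_cases j <;> simp [matH]

/-- Rows of each pair are isotropic. -/
def RowIso (A : Matrix (Fin 4) (Fin 4) F) : Prop :=
  ∀ p, Cfsg.Lie.altForm4 (A (Cfsg.Lie.pairOf p).1) (A (Cfsg.Lie.pairOf p).2) = 0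

/-- The defining conditions of the Suzuki group. -/
def SzCond (A : Matrix (Fin 4) (Fin 4) F) : Prop :=
  (∀ u v, Cfsg.Lie.altForm4 (A *ᵥ u) (A *ᵥ v) = Cfsg.Lie.altForm4 u v) ∧
    Cfsg.Lie.star4 A = A.map S.θ

theorem szCond_altForm {A : Matrix (Fin 4) (Fin 4) F} (hA : SzCond S A) (i j : Fin 4) :
    A 0 i * A 3 j + A 1 i * A 2 j + A 2 i * A 1 j + A 3 i * A 0 j =
      Cfsg.Lie.altForm4 (Pi.single i 1 : Fin 4 → F) (Pi.single j 1) := by
  rw [← hA.1 (Pi.single i 1) (Pi.single j 1)]
  simp [Cfsg.Lie.altForm4]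

theorem szCond_mul {A B : Matrix (Fin 4) (Fin 4) F} (hA : SzCond S A) (hA' : RowIso A)
    (hB : SzCond S B) : SzCond S (A * B) := by
  refine ⟨fun u v => by rw [← mulVec_mulVec, ← mulVec_mulVec, hA.1, hB.1], ?_⟩
  rw [Matrix.map_mul, ← hA.2, ← hB.2]
  ext p r
  have hr := hA' p
  have hc := szCond_altForm S hB (Cfsg.Lie.pairOf r).1 (Cfsg.Lie.pairOf r).2
  have h0 : Cfsg.Lie.altForm4 (Pi.single (Cfsg.Lie.pairOf r).1 1 : Fin 4 → F)
      (Pi.single (Cfsg.Lie.pairOf r).2 1) = 0 := by
    fin_cases r <;> simp [Cfsg.Lie.pairOf, Cfsg.Lie.altForm4]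
  rw [h0] at hc
  simp only [Cfsg.Lie.altForm4] at hr
  have h2 := S.two
  simp only [Cfsg.Lie.star4, Matrix.of_apply, Matrix.mul_apply, Fin.sum_univ_four]
  have p0 : Cfsg.Lie.pairOf 0 = (0, 1) := rfl
  have p1 : Cfsg.Lie.pairOf 1 = (0, 2) := rfl
  have p2 : Cfsg.Lie.pairOf 2 = (1, 3) := rfl
  have p3 : Cfsg.Lie.pairOf 3 = (2, 3) := rfl
  simp only [p0, p1, p2, p3]
  grind

theorem szCond_matU (a b : F) : SzCond S (matU S a b) ∧ RowIso (matU S a b) := by
  have := S.θθ; have := S.two
  refine ⟨⟨fun u v => ?_, ?_⟩, fun p => ?_⟩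
  · simp [Cfsg.Lie.altForm4, matU, mulVec, dotProduct, Fin.sum_univ_four]
    grind
  · ext p r
    fin_cases p <;> fin_cases r <;>
      simp [Cfsg.Lie.star4, Cfsg.Lie.pairOf, matU, map_add, map_mul, map_pow, S.θθ] <;> grind
  · fin_cases p <;> simp [Cfsg.Lie.pairOf, Cfsg.Lie.altForm4, matU] <;> grind

theorem szCond_matV (a b : F) : SzCond S (matV S a b) ∧ RowIso (matV S a b) := by
  have := S.θθ; have := S.two
  refine ⟨⟨fun u v => ?_, ?_⟩, fun p => ?_⟩
  · simp [Cfsg.Lie.altForm4, matV, mulVec, dotProduct, Fin.sum_univ_four]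
    grind
  · ext p r
    fin_cases p <;> fin_cases r <;>
      simp [Cfsg.Lie.star4, Cfsg.Lie.pairOf, matV, map_add, map_mul, map_pow, S.θθ] <;> grind
  · fin_cases p <;> simp [Cfsg.Lie.pairOf, Cfsg.Lie.altForm4, matV] <;> grind

theorem szCond_matW : SzCond S (matW F) ∧ RowIso (matW F) := by
  have := S.two
  refine ⟨⟨fun u v => ?_, ?_⟩, fun p => ?_⟩
  · simp [Cfsg.Lie.altForm4, matW, mulVec, dotProduct, Fin.sum_univ_four]
    grind
  · ext p r
    fin_cases p <;> fin_cases r <;>
      simp [Cfsg.Lie.star4, Cfsg.Lie.pairOf, matW, S.neg_eq]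
  · fin_cases p <;> simp [Cfsg.Lie.pairOf, Cfsg.Lie.altForm4, matW]

theorem szCond_matH {t : F} (ht : t ≠ 0) : SzCond S (matH S t) ∧ RowIso (matH S t) := by
  have := S.θθ; have := S.two
  have hθ : S.θ t ≠ 0 := fun h => ht ((map_eq_zero _).1 h)
  refine ⟨⟨fun u v => ?_, ?_⟩, fun p => ?_⟩
  · simp [Cfsg.Lie.altForm4, matH, mulVec, dotProduct, Fin.sum_univ_four]
    field_simp
  · ext p r
    fin_cases p <;> fin_cases r <;>
      simp [Cfsg.Lie.star4, Cfsg.Lie.pairOf, matH, S.θθ] <;> field_simp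
  · fin_cases p <;> simp [Cfsg.Lie.pairOf, Cfsg.Lie.altForm4, matH]

/-- Two columns whose minors are `θ` of the second one: the second is a point of the ovoid. -/
theorem ovoid {u v : Fin 4 → F} (hB : u 0 * v 3 + u 1 * v 2 + u 2 * v 1 + u 3 * v 0 = 0)
    (h0 : u 0 * v 1 + u 1 * v 0 = S.θ (v 0)) (h1 : u 0 * v 2 + u 2 * v 0 = S.θ (v 1))
    (h2 : u 1 * v 3 + u 3 * v 1 = S.θ (v 2)) (h3 : u 2 * v 3 + u 3 * v 2 = S.θ (v 3)) :
    (v 3 ≠ 0 → ∃ a b : F, v = fun i => v 3 *
        ![S.θ b + a * b + a ^ 2 * S.θ a, b, a, 1] i) ∧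
      (v 3 = 0 → v 1 = 0 ∧ v 2 = 0) := by
  have htwo := S.two
  set s := u 0 * v 3 + u 3 * v 0 with hs
  have e4 : v 3 * s = v 1 * S.θ (v 3) + v 2 * S.θ (v 2) := by
    rw [← h3, ← h2, hs]
    linear_combination (v 3) * hB - v 3 * (u 1 * v 2 + u 2 * v 1) * htwo -
      v 1 * v 2 * u 3 * htwo
  have esq : s ^ 2 = S.θ (v 0) * S.θ (v 3) + S.θ (v 1) * S.θ (v 2) := by
    rw [← h0, ← h1, ← h2, ← h3, hs]; grind
  refine ⟨fun h => ⟨v 2 / v 3, v 1 / v 3, ?_⟩, fun h => ?_⟩
  · have hθ : S.θ (v 3) ≠ 0 := fun h' => h ((map_eq_zero _).1 h')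
    have key : S.θ (S.θ (v 3) * (v 0 * v 3 + v 1 * v 2)) =
        S.θ (S.θ (v 1) * v 3 ^ 2 + S.θ (v 2) * v 2 ^ 2) := by
      simp only [map_mul, map_add, map_pow, S.θθ]
      rw [← esq, ← mul_pow, e4]
      linear_combination v 1 * S.θ (v 3) * v 2 * S.θ (v 2) * htwo
    have key' := S.θ.injective key
    funext i
    fin_cases i <;> simp [map_div₀] <;> field_simp
    linear_combination key' - S.θ (v 3) * v 1 * v 2 * htwo
  · have h2' : v 2 = 0 := by
      have : v 2 * S.θ (v 2) = 0 := by rw [h, map_zero, mul_zero, zero_add, zero_mul] at e4; exact e4.symm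
      simpa [map_eq_zero] using this
    refine ⟨?_, h2'⟩
    have hv1 : v 1 * s = 0 := by rw [hs, h]; rw [h2', map_zero, h] at h2; linear_combination v 0 * h2
    have : v 0 * s + v 1 * S.θ (v 1) = 0 := by
      rw [← h1, hs, h, h2']; rw [h, h2'] at hB
      linear_combination v 0 * hB
    have e : v 1 ^ 2 * S.θ (v 1) = 0 := by linear_combination v 1 * this - v 0 * hv1
    simpa [map_eq_zero] using e

/-- A matrix unit satisfying the conditions. -/
def toGL (A B : Matrix (Fin 4) (Fin 4) F) (h : A * B = 1) : GL (Fin 4) F :=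
  ⟨A, B, h, mul_eq_one_comm.1 h⟩

theorem Tits.mem_Sz {g : GL (Fin 4) F} (hg : SzCond S (g : Matrix (Fin 4) (Fin 4) F)) :
    g ∈ Cfsg.Lie.Sz F S.e := by
  refine Subgroup.subset_closure ⟨hg.1, ?_⟩
  rw [hg.2]
  ext i j
  simp [S.θ_eq]

theorem matU_mul_inv (a b : F) : matU S a b * matU S a (b + a * S.θ a) = 1 := by
  rw [matU_mul, ← matU_zero S]
  congr 1
  · linear_combination a * S.two
  · linear_combination (b + a * S.θ a) * S.two

theorem matV_mul_inv (a b : F) : matV S a b * matV S a (b + a * S.θ a) = 1 := by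
  rw [matV_mul, ← matV_zero S]
  congr 1
  · linear_combination a * S.two
  · linear_combination (b + a * S.θ a) * S.two

/-- `U(a,b)` in the group. -/
def Tits.u (a b : F) : Cfsg.Lie.Sz F S.e :=
  ⟨toGL _ _ (matU_mul_inv S a b), S.mem_Sz (szCond_matU S a b).1⟩

/-- `V(a,b)` in the group. -/
def Tits.v (a b : F) : Cfsg.Lie.Sz F S.e :=
  ⟨toGL _ _ (matV_mul_inv S a b), S.mem_Sz (szCond_matV S a b).1⟩

/-- The antidiagonal involution in the group. -/
def Tits.w : Cfsg.Lie.Sz F S.e :=
  ⟨toGL _ _ (matW_mul_matW (F := F)), S.mem_Sz (szCond_matW S).1⟩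

/-- The torus element. -/
def Tits.h (t : F) (ht : t ≠ 0) : Cfsg.Lie.Sz F S.e :=
  ⟨toGL (matH S t) (matH S t⁻¹) (by rw [matH_mul, mul_inv_cancel₀ ht, matH_one]),
    S.mem_Sz (szCond_matH S ht).1⟩

/-- The matrix of an element. -/
def Tits.mat (g : Cfsg.Lie.Sz F S.e) : Matrix (Fin 4) (Fin 4) F := (g.1 : Matrix (Fin 4) (Fin 4) F)

theorem Tits.ext_mat {g g' : Cfsg.Lie.Sz F S.e} (h : S.mat g = S.mat g') : g = g' :=
  Subtype.ext (Units.ext h)

theorem Tits.mat_mul (g g' : Cfsg.Lie.Sz F S.e) : S.mat (g * g') = S.mat g * S.mat g' := rfl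

/-- The centre of the root group. -/
def Tits.z : AddChar F (Cfsg.Lie.Sz F S.e) where
  toFun b := S.u 0 b
  map_zero_eq_one' := S.ext_mat (matU_zero S)
  map_add_eq_mul' a b := S.ext_mat (by
    show matU S 0 (a + b) = matU S 0 a * matU S 0 b
    rw [matU_mul]; simp)

theorem Tits.u_mul (a b c d : F) : S.u a b * S.u c d = S.u (a + c) (b + d + S.θ a * c) :=
  S.ext_mat (matU_mul S a b c d)

theorem Tits.h_mul_u (t : F) (ht : t ≠ 0) (a b : F) :
    S.h t ht * S.u a b = S.u (S.θ t / t ^ 2 * a) (b / S.θ t) * S.h t ht := by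
  refine S.ext_mat ?_
  show matH S t * matU S a b = matU S _ _ * matH S t
  have hθ : S.θ t ≠ 0 := fun h => ht ((map_eq_zero _).1 h)
  ext i j
  fin_cases i <;> fin_cases j <;>
    simp [matH, matU, Matrix.mul_apply, Fin.sum_univ_four, map_mul, map_div₀, map_pow, S.θθ] <;>
    field_simp

/-- The root centre normally generates the Suzuki group. -/
theorem Tits.normalClosure_eq_top : Subgroup.normalClosure (Set.range S.z) = ⊤ := by
  set K := Subgroup.normalClosure (Set.range S.z)
  have hKn : K.Normal := Subgroup.normalClosure_normal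
  have hz : ∀ b, S.u 0 b ∈ K := fun b => Subgroup.subset_normalClosure ⟨b, rfl⟩
  have hw : S.w ∈ K := by
    have e : S.w = S.v 1 1 * S.u 0 1 * (S.v 1 1)⁻¹ := by
      rw [eq_mul_inv_iff_mul_eq]
      refine S.ext_mat ?_
      show matW F * matV S 1 1 = matV S 1 1 * matU S 0 1
      have := S.two
      ext i j
      fin_cases i <;> fin_cases j <;>
        simp [matW, matV, matU, Matrix.mul_apply, Fin.sum_univ_four] <;> grind
    rw [e]; exact hKn.conj_mem _ (hz 1) _
  have hh : ∀ t ht, S.h t ht ∈ K := by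
    intro t ht
    obtain ⟨r, hr⟩ := S.sqrt t
    have hr0 : r ≠ 0 := fun h => ht (by rw [← hr, h]; ring)
    have e : S.h t ht = S.h r hr0 * S.w * (S.h r hr0)⁻¹ * S.w := by
      refine S.ext_mat ?_
      show matH S t = matH S r * matW F * matH S r⁻¹ * matW F
      rw [← hr]
      have hθ : S.θ r ≠ 0 := fun h => hr0 ((map_eq_zero _).1 h)
      ext i j
      fin_cases i <;> fin_cases j <;>
        simp [matH, matW, Matrix.mul_apply, Fin.sum_univ_four, map_pow] <;> field_simp
    rw [e]; exact K.mul_mem (hKn.conj_mem _ hw _) hw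
  have hu0 : ∀ a, S.u a 0 ∈ K := by
    intro a
    obtain ⟨t, ht, ht1⟩ := S.exists_ne
    set s := S.θ t / t ^ 2 with hs
    have hs1 : s + 1 ≠ 0 := by
      intro h
      have e : S.θ t = t ^ 2 := by
        have h' : s = 1 := by linear_combination h - S.two
        rwa [hs, div_eq_one_iff_eq (pow_ne_zero _ ht)] at h'
      have e2 := congrArg S.θ e
      rw [S.θθ, map_pow, e, ← pow_mul] at e2
      apply ht1
      have : t ^ 2 = 1 := by
        have h0 : t ^ 2 * (t ^ 2 - 1) = 0 := by linear_combination -e2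
        exact sub_eq_zero.1 ((mul_eq_zero.1 h0).resolve_left (pow_ne_zero _ ht))
      have h1 : (t + 1) ^ 2 = 0 := by linear_combination this + (t + 1) * S.two
      have h2 := (pow_eq_zero_iff two_ne_zero).1 h1
      linear_combination h2 - S.two
    set c := a / (s + 1) with hc
    have e : S.h t ht * (S.u c 0 * (S.h t ht)⁻¹ * (S.u c 0)⁻¹) =
        S.u (s * c) 0 * (S.u c 0)⁻¹ := by
      rw [← mul_assoc, ← mul_assoc, S.h_mul_u, zero_div, mul_inv_cancel_right, ← hs]
    have e2 : (S.u c 0)⁻¹ = S.u c (c * S.θ c) := by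
      refine inv_eq_of_mul_eq_one_right (S.ext_mat ?_)
      have := matU_mul_inv S c 0
      rwa [zero_add] at this
    have hmem : S.u (s * c) 0 * (S.u c 0)⁻¹ ∈ K := by
      rw [← e]
      exact K.mul_mem (hh t ht) (hKn.conj_mem _ (K.inv_mem (hh t ht)) _)
    rw [e2, S.u_mul] at hmem
    have := K.mul_mem hmem (hz (0 + c * S.θ c + S.θ (s * c) * c))
    rw [S.u_mul] at this
    convert this using 2
    · rw [add_zero, hc]; field_simp
    · rw [mul_zero, add_zero]; linear_combination -(0 + c * S.θ c + S.θ (s * c) * c) * S.two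
  have hu : ∀ a b, S.u a b ∈ K := fun a b => by
    have := K.mul_mem (hu0 a) (hz b)
    rwa [S.u_mul, add_zero, zero_add, mul_zero, add_zero] at this
  have hv : ∀ a b, S.v a b ∈ K := fun a b => by
    have e : S.v a b = S.w * S.u a b * S.w := by
      refine S.ext_mat ?_
      show matV S a b = matW F * matU S a b * matW F
      rw [matW_mul_matU, Matrix.mul_assoc, matW_mul_matW, Matrix.mul_one]
    rw [e]; exact K.mul_mem (K.mul_mem hw (hu a b)) hw
  -- every defining element lies in `K`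
  have hfix : ∀ g : Cfsg.Lie.Sz F S.e, SzCond S (S.mat g) →
      (∀ i : Fin 4, i ≠ 3 → S.mat g i 3 = 0) → g ∈ K := by
    intro g hg hc3
    set A := S.mat g
    have b03 := szCond_altForm S hg 0 3
    have b13 := szCond_altForm S hg 1 3
    have b23 := szCond_altForm S hg 2 3
    simp [Cfsg.Lie.altForm4, hc3] at b03 b13 b23
    have hl : A 3 3 ≠ 0 := fun h => by rw [h, mul_zero] at b03; exact zero_ne_one b03
    have a01 : A 0 1 = 0 := (mul_eq_zero.1 (by simpa using b13)).resolve_right hl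
    have a02 : A 0 2 = 0 := (mul_eq_zero.1 (by simpa using b23)).resolve_right hl
    have ha00 : A 0 0 ≠ 0 := fun h => by rw [h, zero_mul] at b03; exact zero_ne_one b03
    have hB := szCond_altForm S hg 0 1
    have e0 := congrFun (congrFun hg.2 3) 0
    have e1 := congrFun (congrFun hg.2 2) 0
    have e2 := congrFun (congrFun hg.2 1) 0
    have e3 := congrFun (congrFun hg.2 0) 0
    simp [Cfsg.Lie.altForm4, Cfsg.Lie.star4, Cfsg.Lie.pairOf, sub_eq_add_neg, S.neg_eq] at hB e0 e1 e2 e3
    obtain ⟨hov, -⟩ := ovoid S (u := fun i => A i.rev 1) (v := fun i => A i.rev 0)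
      (by have := S.two; (try simp); grind) (by have := S.two; (try simp); grind) (by have := S.two; (try simp); grind)
      (by have := S.two; (try simp); grind) (by have := S.two; (try simp); grind)
    obtain ⟨a, b, hab⟩ := hov (by simpa using ha00)
    have hc0 : ∀ i, A i 0 = A 0 0 * matU S a b i 0 := fun i => by
      have := congrFun hab i.rev
      fin_cases i <;> simp [matU] at this ⊢ <;> exact this
    set g' := (S.u a b)⁻¹ * g with hg'
    have hA' : S.mat g' = matU S a (b + a * S.θ a) * A := by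
      rw [hg']; rfl
    have hg'c : SzCond S (S.mat g') := by
      rw [hA']; exact szCond_mul S (szCond_matU S _ _).1 (szCond_matU S _ _).2 hg
    set B := S.mat g'
    have hB3 : ∀ i : Fin 4, i ≠ 3 → B i 3 = 0 := fun i hi => by
      rw [hA', Matrix.mul_apply, Fin.sum_univ_four]
      fin_cases i <;>
        simp [matU, hc3 0 (by decide), hc3 1 (by decide), hc3 2 (by decide)] at hi ⊢
    have hB0 : ∀ i, B i 0 = if i = 0 then A 0 0 else 0 := fun i => by
      have hinv : matU S a (b + a * S.θ a) * matU S a b = 1 :=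
        mul_eq_one_comm.1 (matU_mul_inv S a b)
      have := congrFun (congrFun hinv i) 0
      simp only [Matrix.mul_apply, Fin.sum_univ_four, Matrix.one_apply] at this
      rw [hA', Matrix.mul_apply, Fin.sum_univ_four, hc0 1, hc0 2, hc0 3]
      split_ifs at this ⊢ with h
      · have h00 : matU S a b 0 0 = 1 := by simp [matU]
        rw [h00] at this
        linear_combination A 0 0 * this
      · have h00 : matU S a b 0 0 = 1 := by simp [matU]
        rw [h00] at this
        linear_combination A 0 0 * this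
    set μ := A 0 0
    have c03 := szCond_altForm S hg'c 0 3
    have c13 := szCond_altForm S hg'c 1 3
    have c23 := szCond_altForm S hg'c 2 3
    have c01 := szCond_altForm S hg'c 0 1
    have c02 := szCond_altForm S hg'c 0 2
    simp [Cfsg.Lie.altForm4, hB3, hB0] at c03 c13 c23 c01 c02
    have hl' : B 3 3 ≠ 0 := fun h => by rw [h, mul_zero] at c03; exact zero_ne_one c03
    have f01 : B 0 1 = 0 := (mul_eq_zero.1 (by simpa using c13)).resolve_right hl'
    have f02 : B 0 2 = 0 := (mul_eq_zero.1 (by simpa using c23)).resolve_right hl'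
    have f31 : B 3 1 = 0 := (mul_eq_zero.1 (by simpa using c01)).resolve_left ha00
    have f32 : B 3 2 = 0 := (mul_eq_zero.1 (by simpa using c02)).resolve_left ha00
    have d11 := congrFun (congrFun hg'c.2 0) 0
    have d21 := congrFun (congrFun hg'c.2 1) 0
    have d12 := congrFun (congrFun hg'c.2 2) 3
    have d22 := congrFun (congrFun hg'c.2 3) 3
    simp [Cfsg.Lie.star4, Cfsg.Lie.pairOf, hB3, hB0, f01, f02, f31, f32, sub_eq_add_neg,
      S.neg_eq] at d11 d21 d12 d22
    have f21 : B 2 1 = 0 := by simpa [ha00] using d21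
    have f12 : B 1 2 = 0 := by simpa [hl'] using d12
    have hdiag : B = matH S μ := by
      have hμ : B 3 3 = μ⁻¹ := eq_inv_of_mul_eq_one_right c03
      rw [hμ] at d22
      have hθ : S.θ μ ≠ 0 := fun h => ha00 ((map_eq_zero _).1 h)
      rw [map_inv₀] at d22
      ext i j
      fin_cases i <;> fin_cases j <;> simp [matH, hB3, hB0, f01, f02, f31, f32, f21, f12, hμ]
      · field_simp at d11 ⊢; linear_combination d11
      · field_simp at d22 ⊢; linear_combination d22
    have hgg : g' = S.h μ ha00 := S.ext_mat hdiag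
    have : g = S.u a b * g' := by rw [hg', mul_inv_cancel_left]
    rw [this, hgg]
    exact K.mul_mem (hu a b) (hh μ ha00)
  have hgood : ∀ g : Cfsg.Lie.Sz F S.e, SzCond S (S.mat g) → S.mat g 3 3 ≠ 0 → g ∈ K := by
    intro g hg hl
    set A := S.mat g
    have hB := szCond_altForm S hg 2 3
    have e0 := congrFun (congrFun hg.2 0) 3
    have e1 := congrFun (congrFun hg.2 1) 3
    have e2 := congrFun (congrFun hg.2 2) 3
    have e3 := congrFun (congrFun hg.2 3) 3
    simp [Cfsg.Lie.altForm4, Cfsg.Lie.star4, Cfsg.Lie.pairOf, sub_eq_add_neg, S.neg_eq] at hB e0 e1 e2 e3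
    obtain ⟨hov, -⟩ := ovoid S (u := fun i => A i 2) (v := fun i => A i 3)
      hB (by have := S.two; (try simp); grind) (by have := S.two; (try simp); grind)
      (by have := S.two; (try simp); grind) (by have := S.two; (try simp); grind)
    obtain ⟨a, b, hab⟩ := hov hl
    set g' := (S.v a b)⁻¹ * g with hg'
    have hA' : S.mat g' = matV S a (b + a * S.θ a) * A := by rw [hg']; rfl
    have hgc : SzCond S (S.mat g') := by
      rw [hA']; exact szCond_mul S (szCond_matV S _ _).1 (szCond_matV S _ _).2 hg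
    have : g' ∈ K := by
      refine hfix g' hgc fun i hi => ?_
      have hinv : matV S a (b + a * S.θ a) * matV S a b = 1 :=
        mul_eq_one_comm.1 (matV_mul_inv S a b)
      have e := congrFun (congrFun hinv i) 3
      simp only [Matrix.mul_apply, Fin.sum_univ_four, Matrix.one_apply, if_neg hi] at e
      have hc : ∀ k, A k 3 = A 3 3 * matV S a b k 3 := fun k => by
        have := congrFun hab k
        fin_cases k <;> simp [matV] at this ⊢ <;> exact this
      rw [hA', Matrix.mul_apply, Fin.sum_univ_four, hc 0, hc 1, hc 2]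
      have h33 : matV S a b 3 3 = 1 := by simp [matV]
      rw [h33] at e
      linear_combination A 3 3 * e
    have e : g = S.v a b * g' := by rw [hg', mul_inv_cancel_left]
    rw [e]; exact K.mul_mem (hv a b) this
  rw [eq_top_iff]
  intro g _
  suffices Cfsg.Lie.Sz F S.e ≤ K.map (Cfsg.Lie.Sz F S.e).subtype by
    obtain ⟨g', hg', e⟩ := this g.2
    rwa [← Subtype.ext e]
  refine (Subgroup.closure_le _).2 ?_
  intro x hx
  obtain ⟨h1, h2⟩ := hx
  have hcond : SzCond S (x : Matrix (Fin 4) (Fin 4) F) := ⟨h1, by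
    rw [h2]; ext i j; simp [S.θ_eq]⟩
  let g : Cfsg.Lie.Sz F S.e := ⟨x, Subgroup.subset_closure ⟨h1, h2⟩⟩
  refine ⟨g, ?_, rfl⟩
  by_cases hl : S.mat g 3 3 = 0
  · have hwg : SzCond S (S.mat (S.w * g)) := szCond_mul S (szCond_matW S).1 (szCond_matW S).2 hcond
    have hne : S.mat (S.w * g) 3 3 ≠ 0 := by
      show (matW F * S.mat g) 3 3 ≠ 0
      have hcond' : SzCond S (S.mat g) := hcond
      set A := S.mat g
      have hB := szCond_altForm S hcond' 2 3
      have b03 := szCond_altForm S hcond' 0 3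
      have e0 := congrFun (congrFun hcond'.2 0) 3
      have e1 := congrFun (congrFun hcond'.2 1) 3
      have e2 := congrFun (congrFun hcond'.2 2) 3
      have e3 := congrFun (congrFun hcond'.2 3) 3
      simp [Cfsg.Lie.altForm4, Cfsg.Lie.star4, Cfsg.Lie.pairOf, sub_eq_add_neg, S.neg_eq] at hB b03 e0 e1 e2 e3
      obtain ⟨-, hov⟩ := ovoid S (u := fun i => A i 2) (v := fun i => A i 3)
        hB (by have := S.two; (try simp); grind) (by have := S.two; (try simp); grind)
        (by have := S.two; (try simp); grind) (by have := S.two; (try simp); grind)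
      obtain ⟨h1', h2'⟩ := hov hl
      simp [matW, Matrix.mul_apply, Fin.sum_univ_four]
      intro h03
      rw [h03, h1', h2', hl] at b03
      simp at b03
    have := K.mul_mem hw (hgood _ hwg hne)
    rwa [← mul_assoc, show S.w * S.w = 1 from S.ext_mat (matW_mul_matW (F := F)), one_mul] at this
  · exact hgood g hcond hl

/-- The standard endomorphism for `q = 2^(2m+1)`. -/
theorem exists_tits [Fintype F] {m : ℕ} (hm : 1 ≤ m) (hF : Fintype.card F = 2 ^ (2 * m + 1)) :
    ∃ S : Tits F, S.e = 2 ^ (m + 1) := by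
  haveI : CharP F 2 := ringChar.of_eq (FiniteField.even_card_iff_char_two.2 (by rw [hF, pow_succ]; omega))
  refine ⟨⟨2 ^ (m + 1), iterateFrobenius F 2 (m + 1), fun x => iterateFrobenius_def .., fun x => ?_,
    CharTwo.two_eq_zero, ?_, fun x => ?_⟩, rfl⟩
  · rw [iterateFrobenius_def, iterateFrobenius_def, ← pow_mul, ← pow_add,
      show m + 1 + (m + 1) = (2 * m + 1) + 1 by ring, pow_succ, pow_mul, ← hF, FiniteField.pow_card]
  · classical
    have hc : 2 < Fintype.card F := by
      rw [hF]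
      calc 2 < 2 ^ 2 := by norm_num
        _ ≤ _ := Nat.pow_le_pow_right (by norm_num) (by omega)
    have := Finset.card_lt_card (s := ({0, 1} : Finset F)) (t := Finset.univ) (by
      refine Finset.ssubset_univ_iff.2 fun h => ?_
      have := congrArg Finset.card h
      rw [Finset.card_univ] at this
      have h2 : ({0, 1} : Finset F).card ≤ 2 := Finset.card_le_two
      omega)
    obtain ⟨t, -, ht⟩ := Finset.exists_mem_notMem_of_card_lt_card this
    simp only [Finset.mem_insert, Finset.mem_singleton, not_or] at ht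
    exact ⟨t, ht⟩
  · obtain ⟨y, hy⟩ := FiniteField.isSquare_of_char_two (CharP.eq F (ringChar.charP F) ‹CharP F 2›) x
    exact ⟨y, by rw [hy, sq]⟩

end CfsgLib.MinDeg.Suzuki
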