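import Cfsg.Agent.Lib.MinDeg.Suzuki

/-!
# Smallest degree of the Suzuki groups
-/

set_option autoImplicit false

namespace CfsgLib.MinDeg.Suzuki

open Finset

variable {F : Type*} [Field F] [Fintype F] (S : Tits F)

/-- The commutator pairing `(a, c) ↦ θ(a) c + θ(c) a`. -/
def Tits.comm (a c : F) : F := S.θ a * c + S.θ c * a

theorem Tits.u_conj (a c : F) :
    S.u c 0 * S.u a 0 * (S.u c 0)⁻¹ = S.z (S.comm a c) * S.u a 0 := by
  rw [mul_inv_eq_iff_eq_mul]
  show _ = S.u 0 _ * _ * _
  rw [S.u_mul, S.u_mul, S.u_mul]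
  congr 1
  · simp [add_comm]
  · simp only [map_zero, zero_mul, add_zero, zero_add, Tits.comm]
    linear_combination -(S.θ a * c) * S.two

theorem Tits.u_comm_z (a b : F) : S.z b * S.u a 0 = S.u a 0 * S.z b := by
  show S.u 0 b * S.u a 0 = S.u a 0 * S.u 0 b
  rw [S.u_mul, S.u_mul]; simp

theorem Tits.eq_of_pow_eq {a a' : F} (ha' : a' ≠ 0) (h : S.θ a * a = S.θ a' * a') : a = a' := by
  set x := a / a'
  have hx : S.θ x * x = 1 := by
    rw [map_div₀, div_mul_div_comm, h, div_self]
    exact mul_ne_zero (fun h => ha' ((map_eq_zero _).1 h)) ha'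
  have hx' : x ^ 2 * S.θ x = 1 := by
    have := congrArg S.θ hx
    rwa [map_mul, S.θθ, map_one] at this
  have : x = 1 := by linear_combination hx' - x * hx
  exact (div_eq_one_iff_eq ha').1 this

theorem Tits.card_radical_le [DecidableEq F] (ψ : AddChar F ℂ) (hψ : ψ ≠ 0) :
    #{a : F | ∀ c, ψ (S.comm a c) = 1} ≤ 2 := by
  classical
  let p : F → F := fun d => S.θ d + d
  have hp : Fintype.card F ≤ 2 * (univ.image p).card := by
    rw [← card_univ]
    refine card_le_mul_card_image _ _ fun y hy => ?_
    obtain ⟨d₀, -, rfl⟩ := mem_image.1 hy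
    refine (card_le_card (t := {d₀, d₀ + 1}) fun d hd => ?_).trans card_le_two
    simp only [mem_filter, mem_univ, true_and, p] at hd
    have h1 : S.θ (d - d₀) = d - d₀ := by
      rw [map_sub]
      linear_combination hd - (d - d₀) * S.two
    have h2 : (d - d₀) ^ 2 = d - d₀ := by rw [← S.θθ, h1, h1]
    have : (d - d₀) * (d - d₀ - 1) = 0 := by linear_combination h2
    rcases mul_eq_zero.1 this with h | h
    · simp [sub_eq_zero.1 h]
    · simp [show d = d₀ + 1 by linear_combination h]
  -- two characters trivial on a subgroup of index two agree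
  have hsub : ∀ e e' : AddChar F ℂ, e ≠ 0 → e' ≠ 0 → (∀ d, e (p d) = 1) → (∀ d, e' (p d) = 1) →
      e = e' := by
    intro e e' he he' hd hd'
    obtain ⟨x, hx⟩ : ∃ x, e x ≠ 1 := by
      by_contra h; push Not at h; exact he (DFunLike.ext _ _ h)
    have hcover : ∀ y, y ∈ univ.image p ∨ y - x ∈ univ.image p := by
      intro y
      by_contra hh
      push Not at hh
      have hdisj : Disjoint (univ.image p) ((univ.image p).image (· + x)) := by
        rw [Finset.disjoint_left]
        intro z hz hz'
        obtain ⟨d, -, rfl⟩ := mem_image.1 hz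
        obtain ⟨z', hz', hzz⟩ := mem_image.1 hz'
        obtain ⟨d', -, rfl⟩ := mem_image.1 hz'
        apply hx
        have := congrArg e hzz
        rwa [AddChar.map_add_eq_mul, hd, hd, one_mul] at this
      have huniv : univ.image p ∪ (univ.image p).image (· + x) = univ := by
        apply eq_univ_of_card
        have := card_le_univ (univ.image p ∪ (univ.image p).image (· + x))
        rw [card_union_of_disjoint hdisj, card_image_of_injective _ (add_left_injective x)] at this ⊢
        omega
      have := huniv.symm ▸ mem_univ y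
      rcases mem_union.1 this with h | h
      · exact hh.1 h
      · obtain ⟨z, hz, rfl⟩ := mem_image.1 h
        exact hh.2 (by simpa using hz)
    have val : ∀ (g : AddChar F ℂ), g x ≠ 1 → g x = -1 := fun g hg => by
      have h2 : x + x = 0 := by linear_combination x * S.two
      have := g.map_add_eq_mul x x
      rw [h2, g.map_zero_eq_one] at this
      exact ((mul_self_eq_one_iff).1 this.symm).resolve_left hg
    have hx' : e' x ≠ 1 := by
      intro h1
      apply he'
      refine DFunLike.ext _ _ fun y => ?_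
      rcases hcover y with h | h
      · obtain ⟨d, -, rfl⟩ := mem_image.1 h; simpa using hd' d
      · obtain ⟨d, -, hd0⟩ := mem_image.1 h
        rw [show y = p d + x by linear_combination -hd0, AddChar.map_add_eq_mul, hd', h1]
        simp
    refine DFunLike.ext _ _ fun y => ?_
    rcases hcover y with h | h
    · obtain ⟨d, -, rfl⟩ := mem_image.1 h; rw [hd, hd']
    · obtain ⟨d, -, hd0⟩ := mem_image.1 h
      rw [show y = p d + x by linear_combination -hd0, e.map_add_eq_mul (p d), e'.map_add_eq_mul (p d),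
        hd, hd', val e hx, val e' hx']
  have hprim := AddChar.IsPrimitive.of_ne_one (show ψ ≠ 1 from fun h => hψ (by rw [h]; rfl))
  -- the radical has at most one nonzero element
  have key : ∀ a a', a ≠ 0 → a' ≠ 0 → (∀ c, ψ (S.comm a c) = 1) → (∀ c, ψ (S.comm a' c) = 1) →
      a = a' := by
    intro a a' ha ha' h h'
    have f : ∀ b : F, (∀ c, ψ (S.comm b c) = 1) → ∀ d, AddChar.mulShift ψ (S.θ b * b) (p d) = 1 := by
      intro b hb d
      rw [AddChar.mulShift_apply]
      convert hb (b * d) using 2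
      simp only [Tits.comm, p, map_mul]; ring
    have hne : ∀ b : F, b ≠ 0 → AddChar.mulShift ψ (S.θ b * b) ≠ 0 := fun b hb h0 =>
      hprim (mul_ne_zero (fun h => hb ((map_eq_zero _).1 h)) hb) h0
    exact S.eq_of_pow_eq ha' (AddChar.to_mulShift_inj_of_isPrimitive hprim
      (hsub _ _ (hne a ha) (hne a' ha') (f a h) (f a' h')))
  rcases Finset.eq_empty_or_nonempty (({a : F | ∀ c, ψ (S.comm a c) = 1} : Finset F).erase 0) with h | ⟨a₀, ha₀⟩
  · have := card_le_card (s := ({a : F | ∀ c, ψ (S.comm a c) = 1} : Finset F)) (t := {0}) (fun a ha => by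
      by_contra h0
      have : a ∈ (∅ : Finset F) := h ▸ mem_erase.2 ⟨by simpa using h0, ha⟩
      simp at this)
    simp at this; omega
  · refine (card_le_card (t := {0, a₀}) fun a ha => ?_).trans card_le_two
    simp only [mem_erase, mem_filter, mem_univ, true_and] at ha₀ ha
    rcases eq_or_ne a 0 with rfl | h0
    · simp
    · simp [key a a₀ h0 ha₀.1 ha ha₀.2]

theorem Tits.degree_bound {m : ℕ} (hF : Fintype.card F = 2 ^ (2 * m + 1)) {k : ℕ}
    (ρ : Representation ℂ (Cfsg.Lie.Sz F S.e) (Fin k → ℂ)) (hρ : ρ.IsIrreducible) (hk : 2 ≤ k) :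
    2 ^ m * (2 ^ (2 * m + 1) - 1) ≤ k := by
  classical
  obtain ⟨_, ⟨b, rfl⟩, hb⟩ := exists_rep_ne_one ρ hρ hk _ S.normalClosure_eq_top
  obtain ⟨ψ, hψ, hW⟩ := exists_weight_ne_zero (resChar ρ S.z) (a := b) hb
  set W := weightSpace (resChar ρ S.z) ψ with hWdef
  have hstab : ∀ a, ∀ w ∈ W, ρ (S.u a 0) w ∈ W := fun a w hw =>
    mapsTo_weightSpace ρ S.z (S.u a 0) (AddEquiv.refl F)
      (fun b => (S.u_comm_z a b).symm) ψ ψ (fun b => rfl) w hw
  have hstab' : ∀ a, ∀ w ∈ W, ρ (S.u a 0)⁻¹ w ∈ W := fun a w hw =>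
    mapsTo_weightSpace ρ S.z (S.u a 0)⁻¹ (AddEquiv.refl F)
      (fun b => by
        rw [AddEquiv.refl_apply, eq_comm, eq_inv_mul_iff_mul_eq, ← mul_assoc, ← S.u_comm_z,
          mul_inv_cancel_right]) ψ ψ (fun b => rfl) w hw
  let β : F → F → ℂ := fun c a => ψ (S.comm a c)
  let I : Finset (F → ℂ) := univ.image fun a c => β c a
  have hrep : ∀ f : I, ∃ a, (fun c => β c a) = f.1 := fun f => by
    obtain ⟨a, -, h⟩ := mem_image.1 f.2; exact ⟨a, h⟩
  choose rep hrep using hrep
  have hI : Fintype.card I ≤ Module.finrank ℂ W * Module.finrank ℂ W := by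
    refine card_le_sq_finrank ρ W hW (fun f => S.u (rep f) 0) (fun c : F => S.u c 0)
      (fun c f => β c (rep f)) (fun f => hstab _) hstab hstab' (fun c f w hw => ?_) ?_
    · rw [S.u_conj, map_mul, Module.End.mul_apply]
      exact mem_weightSpace.1 (hstab _ w hw) _
    · intro f f' hne
      by_contra h
      push Not at h
      exact hne (Subtype.ext (by rw [← hrep f, ← hrep f']; exact funext h))
  have hI2 : Fintype.card F ≤ 2 * I.card := by
    rw [← card_univ]
    refine card_le_mul_card_image _ _ fun f hf => ?_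
    obtain ⟨a₀, -, rfl⟩ := mem_image.1 hf
    refine le_trans (card_le_card_of_injOn (fun a => a + a₀) (fun a ha => ?_)
      (fun a _ a' _ h => add_right_cancel h)) (S.card_radical_le ψ hψ)
    simp only [coe_filter, mem_univ, true_and, Set.mem_ofPred_eq] at ha ⊢
    intro c
    have := congrFun ha c
    rw [show S.comm (a + a₀) c = S.comm a c + S.comm a₀ c by simp [Tits.comm]; ring,
      AddChar.map_add_eq_mul, show ψ (S.comm a c) = ψ (S.comm a₀ c) from this,
      ← AddChar.map_add_eq_mul, show S.comm a₀ c + S.comm a₀ c = 0 by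
        linear_combination S.comm a₀ c * S.two, AddChar.map_zero_eq_one]
  rw [Fintype.card_coe] at hI
  have hr : 2 ^ m ≤ Module.finrank ℂ W := by
    by_contra h
    push Not at h
    rw [hF, pow_succ, mul_comm, pow_mul'] at hI2
    have := Nat.mul_self_lt_mul_self h
    nlinarith
  have hprim := AddChar.IsPrimitive.of_ne_one (show ψ ≠ 1 from fun h => hψ (by rw [h]; rfl))
  let T : Finset (AddChar F ℂ) := ((univ : Finset F).erase 0).image (AddChar.mulShift ψ)
  have hT : T.card = 2 ^ (2 * m + 1) - 1 := by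
    rw [card_image_of_injective _ (AddChar.to_mulShift_inj_of_isPrimitive hprim),
      card_erase_of_mem (mem_univ _), card_univ, hF]
  have h1 := orbit_mul_le_finrank ρ S.z ψ (2 ^ m) hr T fun ψ' hψ' => by
    obtain ⟨s, hs, rfl⟩ := mem_image.1 hψ'
    have hs0 := (mem_erase.1 hs).1
    obtain ⟨t, ht⟩ := Finite.surjective_of_injective S.θ.injective s
    have ht0 : t ≠ 0 := fun h => hs0 (by rw [← ht, h, map_zero])
    let φ : F ≃+ F :=
      { toFun := fun b => b / S.θ t
        invFun := fun b => b * S.θ t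
        left_inv := fun b => by simp only; rw [ht, div_mul_cancel₀ _ hs0]
        right_inv := fun b => by simp only; rw [ht, mul_div_cancel_right₀ _ hs0]
        map_add' := fun b b' => add_div _ _ _ }
    refine ⟨S.h t ht0, φ, fun b => ?_, fun b => ?_⟩
    · show S.h t ht0 * S.u 0 b = S.u 0 (b / S.θ t) * S.h t ht0
      rw [S.h_mul_u, mul_zero]
    · show AddChar.mulShift ψ s (b / S.θ t) = ψ b
      rw [AddChar.mulShift_apply, ht, mul_div_cancel₀ _ hs0]
  rw [hT, Module.finrank_fin_fun, mul_comm] at h1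
  exact h1

end CfsgLib.MinDeg.Suzuki
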