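import Cfsg.Agent.Lib.MinDeg.SympGroup
import Cfsg.Agent.Lib.MinDeg.QuadOrbit
import Mathlib.NumberTheory.LegendreSymbol.AddCharacter

/-!
# Smallest degree for symplectic groups in characteristic two
-/

set_option autoImplicit false

namespace CfsgLib.MinDeg

open Matrix Finset

variable {F : Type*} [Field F] [StarRing F] [CharP F 2] {m : ℕ}

omit [CharP F 2] in
theorem symm_single_mem (hs : ∀ x : F, star x = x) (i j : Fin m) (h : F) :
    single i j h + single j i h ∈ skewPart m (-1 : F) := by
  rw [mem_skewPart_neg_one hs, transpose_add, transpose_single, transpose_single, add_comm]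

omit [CharP F 2] in
theorem vecMulVec_self_mem (hs : ∀ x : F, star x = x) (c : F) (x : Fin m → F) :
    c • vecMulVec x x ∈ skewPart m (-1 : F) := by
  rw [mem_skewPart_neg_one hs, transpose_smul, transpose_vecMulVec]

omit [StarRing F] in
/-- A symmetric matrix is a sum of diagonal entries and symmetrised off-diagonal entries. -/
theorem symm_decomp (H : Matrix (Fin m) (Fin m) F) (hH : Hᵀ = H) :
    H = ∑ k, ∑ l, (if k = l then single k l (H k l) else
      if k < l then single k l (H k l) + single l k (H k l) else 0) := by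
  have hsym : ∀ k l, H k l = H l k := fun k l => by
    conv_lhs => rw [← hH, transpose_apply]
  ext a b
  simp only [Matrix.sum_apply]
  rw [← Finset.sum_product']
  rcases lt_trichotomy a b with hab | hab | hab
  · rw [Finset.sum_eq_single (a, b)]
    · simp [hab.ne, hab, single_apply]
    · rintro ⟨k, l⟩ - hne
      simp only [ne_eq, Prod.mk.injEq] at hne
      split_ifs <;> simp [Matrix.add_apply, single_apply] <;> grind
    · simp
  · subst hab
    rw [Finset.sum_eq_single (a, a)]
    · simp [single_apply]
    · rintro ⟨k, l⟩ - hne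
      simp only [ne_eq, Prod.mk.injEq] at hne
      split_ifs <;> simp [Matrix.add_apply, single_apply] <;> grind
    · simp
  · rw [Finset.sum_eq_single (b, a)]
    · simp [hab.ne, hab, single_apply, hsym a b]
    · rintro ⟨k, l⟩ - hne
      simp only [ne_eq, Prod.mk.injEq] at hne
      split_ifs <;> simp [Matrix.add_apply, single_apply] <;> grind
    · simp

theorem addChar_neg {A G : Type*} [AddGroup A] [Group G] (u : AddChar A G) (a : A) :
    u (-a) = (u a)⁻¹ :=
  eq_inv_of_mul_eq_one_left (by rw [← u.map_add_eq_mul, neg_add_cancel, u.map_zero_eq_one])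

variable [Fintype F]

/-- The short root subgroup of the Siegel radical normally generates. -/
theorem short_normalClosure_eq_top (hs : ∀ x : F, star x = x) (i j : Fin m) (hij : i ≠ j) :
    Subgroup.normalClosure (Set.range fun h : F =>
      (sympData hs m).radical ⟨_, symm_single_mem hs i j h⟩) = ⊤ := by
  have hm : 2 ≤ m := by
    have h1 := i.isLt; have h2 := j.isLt
    have : i.1 ≠ j.1 := fun h => hij (Fin.ext h)
    omega
  set D := sympData hs m
  set K := Subgroup.normalClosure (Set.range fun h : F =>
      D.radical ⟨_, symm_single_mem hs i j h⟩) with hK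
  have hKn : K.Normal := Subgroup.normalClosure_normal
  have hε : (-1 : F) * -1 = 1 := by ring
  have ht : star (1 : F) = -((-1 : F) * 1) := by simp
  let N : AddSubgroup (skewPart m (-1 : F)) :=
    { carrier := {H | D.radical H ∈ K}
      zero_mem' := by simp [AddChar.map_zero_eq_one, K.one_mem]
      add_mem' := fun {a b} ha hb => by
        simp only [Set.mem_ofPred_eq, AddChar.map_add_eq_mul] at ha hb ⊢
        exact K.mul_mem ha hb
      neg_mem' := fun {a} ha => by
        simp only [Set.mem_ofPred_eq] at ha ⊢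
        rw [addChar_neg]; exact K.inv_mem ha }
  have hshort : ∀ h, (⟨_, symm_single_mem hs i j h⟩ : skewPart m (-1 : F)) ∈ N := fun h =>
    Subgroup.subset_normalClosure ⟨h, rfl⟩
  have hcongr : ∀ (A : Matrix (Fin m) (Fin m) F) (hA : A.det ≠ 0) (H : skewPart m (-1 : F)),
      H ∈ N → congrEquiv (-1) A hA H ∈ N := by
    intro A hA H hH
    obtain ⟨g, hg⟩ := D.exists_levi (t := (1 : F)) hε hm ht one_ne_zero A hA (hs _)
    have e : D.radical (congrEquiv (-1) A hA H) = g * D.radical H * g⁻¹ := by
      rw [eq_mul_inv_iff_mul_eq]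
      apply D.inj
      rw [map_mul, map_mul, hg, D.f_radical, D.f_radical]
      exact (leviM_mul_upperU A H.1 hA).symm
    show D.radical _ ∈ K
    rw [e]; exact hKn.conj_mem _ hH g
  -- a Weyl element moving the short root subgroup into the Levi factor
  let W : Matrix (Fin m ⊕ Fin m) (Fin m ⊕ Fin m) F :=
    fromBlocks (1 - single j j 1) (single j j 1) (single j j 1) (1 - single j j 1)
  have hW : W ∈ Matrix.symplecticGroup (Fin m) F := by
    rw [SymplecticGroup.mem_iff]
    simp only [W, Matrix.J, fromBlocks_transpose, fromBlocks_multiply, transpose_sub, transpose_one,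
      transpose_single, Matrix.mul_zero, Matrix.zero_mul, Matrix.mul_one, Matrix.one_mul,
      CharTwo.neg_eq, add_zero, zero_add, Matrix.sub_mul, Matrix.mul_sub, single_mul_single_same,
      one_mul, Matrix.mul_neg, Matrix.neg_mul]
    rw [fromBlocks_inj]
    refine ⟨?_, ?_, ?_, ?_⟩ <;> ext a b <;>
      simp only [Matrix.add_apply, Matrix.sub_apply, Matrix.zero_apply, Matrix.one_apply,
        Matrix.neg_apply, single_apply] <;> grind
  let w : Matrix.symplecticGroup (Fin m) F := ⟨W, hW⟩
  have hWW : w * w = 1 := by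
    apply Subtype.ext
    show W * W = 1
    simp only [W, fromBlocks_multiply, Matrix.sub_mul, Matrix.mul_sub, Matrix.one_mul,
      Matrix.mul_one, single_mul_single_same, one_mul]
    rw [← fromBlocks_one, fromBlocks_inj]
    refine ⟨?_, ?_, ?_, ?_⟩ <;> ext a b <;>
      simp only [Matrix.add_apply, Matrix.sub_apply, Matrix.zero_apply, Matrix.one_apply,
        single_apply] <;> grind
  have hTinv : ∀ h : F, (transvection i j h)⁻¹ = transvection i j h := fun h => by
    refine inv_eq_right_inv ?_
    rw [transvection_mul_transvection_same i j hij, CharTwo.add_self_eq_zero, transvection_zero]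
  have hlevi : ∀ h : F, ∃ g ∈ K, D.f g = leviM (transvection i j h) := by
    intro h
    refine ⟨w * D.radical ⟨_, symm_single_mem hs i j h⟩ * w⁻¹, hKn.conj_mem _ (hshort h) w, ?_⟩
    rw [inv_eq_of_mul_eq_one_right hWW, map_mul, map_mul, D.f_radical]
    show W * upperU _ * W = _
    rw [leviM, hTinv h]
    simp only [W, upperU, conjTranspose_eq hs, fromBlocks_multiply,
      Matrix.transvection, transpose_add, transpose_one, transpose_single, Matrix.mul_zero,
      Matrix.zero_mul, Matrix.mul_one, Matrix.one_mul, add_zero, zero_add, Matrix.sub_mul,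
      Matrix.mul_sub, Matrix.mul_add, Matrix.add_mul, single_mul_single_same, mul_one, one_mul,
      single_mul_single_of_ne _ _ _ _ hij, single_mul_single_of_ne _ _ _ _ hij.symm]
    rw [fromBlocks_inj]
    refine ⟨?_, ?_, ?_, ?_⟩ <;> ext a b <;>
      simp only [Matrix.add_apply, Matrix.sub_apply, Matrix.zero_apply, Matrix.one_apply,
        single_apply] <;> grind
  have hlong : ∀ c : F, (⟨c • vecMulVec (Pi.single i 1) (Pi.single i 1), vecMulVec_self_mem hs _ _⟩ :
      skewPart m (-1 : F)) ∈ N := by
    intro c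
    obtain ⟨h, hh⟩ := FiniteField.isSquare_of_char_two (CharP.eq F (ringChar.charP F) ‹CharP F 2›) c
    have hd : (transvection i j h).det ≠ 0 := by
      rw [det_transvection_of_ne i j hij]; exact one_ne_zero
    let H : skewPart m (-1 : F) := ⟨single j j 1, by
      rw [mem_skewPart_neg_one hs, transpose_single]⟩
    obtain ⟨g, hgK, hg⟩ := hlevi h
    have hcomm : congrEquiv (-1) (transvection i j h) hd H - H ∈ N := by
      show D.radical _ ∈ K
      have e : D.radical (congrEquiv (-1) (transvection i j h) hd H - H) =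
          g * (D.radical H * g⁻¹ * (D.radical H)⁻¹) := by
        rw [sub_eq_add_neg, AddChar.map_add_eq_mul, addChar_neg, ← mul_assoc]
        congr 1
        rw [← mul_assoc, eq_mul_inv_iff_mul_eq]
        apply D.inj
        rw [map_mul, map_mul, hg, D.f_radical, D.f_radical]
        exact (leviM_mul_upperU _ H.1 hd).symm
      rw [e]
      exact K.mul_mem hgK (hKn.conj_mem _ (K.inv_mem hgK) _)
    have key : (⟨c • vecMulVec (Pi.single i 1) (Pi.single i 1), vecMulVec_self_mem hs _ _⟩ :
        skewPart m (-1 : F)) = (congrEquiv (-1) (transvection i j h) hd H - H) -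
          ⟨_, symm_single_mem hs i j h⟩ := by
      apply Subtype.ext
      simp only [congrEquiv, AddEquiv.coe_mk, Equiv.coe_fn_mk, AddSubgroupClass.coe_sub, H,
        conjTranspose_eq hs, hh, Matrix.transvection, transpose_add,
        transpose_one, transpose_single, Matrix.add_mul, Matrix.mul_add, Matrix.one_mul,
        Matrix.mul_one, single_mul_single_same, mul_one, one_mul,
        single_mul_single_of_ne _ _ _ _ hij.symm, single_mul_single_of_ne _ _ _ _ hij]
      ext a b
      simp only [Matrix.add_apply, Matrix.sub_apply, Matrix.smul_apply, Matrix.zero_apply,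
        vecMulVec_apply, Pi.single_apply, single_apply, smul_eq_mul]
      grind
    rw [key]
    exact sub_mem hcomm (hshort h)
  have hvv : ∀ (c : F) (v : Fin m → F),
      (⟨c • vecMulVec v v, vecMulVec_self_mem hs _ _⟩ : skewPart m (-1 : F)) ∈ N := by
    intro c v
    rcases eq_or_ne v 0 with rfl | hv
    · simp only [vecMulVec_zero, smul_zero]; exact N.zero_mem
    obtain ⟨A, hA, hAv⟩ := exists_det_one_mulVec hm (Pi.single i 1) v (by simp) hv
    have := hcongr A (hA ▸ one_ne_zero) _ (hlong c)
    convert this using 1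
    apply Subtype.ext
    simp only [congrEquiv, AddEquiv.coe_mk, Equiv.coe_fn_mk, Matrix.mul_smul, Matrix.smul_mul,
      mul_vecMulVec, vecMulVec_mul, conjTranspose_eq hs, vecMul_transpose, hAv]
  rw [eq_top_iff, ← D.normalClosure_eq_top (t := (1 : F)) hε hm ht one_ne_zero]
  refine Subgroup.normalClosure_le_normal ?_
  rintro _ ⟨H, rfl⟩
  show H ∈ N
  suffices ∀ M : Matrix (Fin m) (Fin m) F, M = H.1 → ∀ hM : M ∈ skewPart m (-1 : F),
      (⟨M, hM⟩ : skewPart m (-1 : F)) ∈ N from this H.1 rfl H.2
  intro M hMe hM
  have hmem : M ∈ N.map (skewPart m (-1 : F)).subtype := by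
    rw [symm_decomp M ((mem_skewPart_neg_one hs).1 hM)]
    refine sum_mem fun k _ => sum_mem fun l _ => ?_
    split_ifs with h1 h2
    · subst h1
      refine ⟨_, hvv (M k k) (Pi.single k 1), ?_⟩
      ext a b
      simp only [AddSubgroup.coe_subtype, Matrix.smul_apply, vecMulVec_apply, Pi.single_apply,
        single_apply, smul_eq_mul]
      grind
    · refine ⟨_, sub_mem (sub_mem (hvv (M k l) (Pi.single k 1 + Pi.single l 1))
        (hvv (M k l) (Pi.single k 1))) (hvv (M k l) (Pi.single l 1)), ?_⟩
      ext a b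
      simp only [AddSubgroup.coe_subtype, AddSubgroupClass.coe_sub, Matrix.sub_apply,
        Matrix.add_apply, Matrix.smul_apply, vecMulVec_apply, Pi.add_apply, Pi.single_apply,
        single_apply, smul_eq_mul]
      grind
    · exact zero_mem _
  obtain ⟨H', hH', e⟩ := hmem
  have : H' = ⟨M, hM⟩ := Subtype.ext e
  exact this ▸ hH'

/-- The degree bound. -/
theorem symp_even_degree_bound (hs : ∀ x : F, star x = x) (hm : 2 ≤ m) {k : ℕ}
    (ρ : Representation ℂ (Matrix.symplecticGroup (Fin m) F) (Fin k → ℂ)) (hρ : ρ.IsIrreducible)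
    (hk : 2 ≤ k) :
    (Fintype.card F ^ m - 1) * (Fintype.card F ^ m - Fintype.card F) /
      (2 * (Fintype.card F + 1)) ≤ k := by
  classical
  haveI : Fintype (skewPart m (-1 : F)) := Fintype.ofFinite _
  set D := sympData hs m
  set i : Fin m := ⟨0, by omega⟩
  set j : Fin m := ⟨1, by omega⟩
  have hij : i ≠ j := by simp [i, j, Fin.ext_iff]
  obtain ⟨_, ⟨h, rfl⟩, hh⟩ :=
    exists_rep_ne_one ρ hρ hk _ (short_normalClosure_eq_top hs i j hij)
  obtain ⟨ψ, hψ, hW⟩ := exists_weight_apply_ne_one (resChar ρ D.radical)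
    (a := ⟨_, symm_single_mem hs i j h⟩) hh
  obtain ⟨e, he⟩ : ∃ e : AddChar F ℂ, e 1 ≠ 1 := AddChar.exists_apply_ne_zero.2 one_ne_zero
  have hbij : Function.Bijective (AddChar.mulShift e) :=
    (Fintype.bijective_iff_injective_and_card _).2 ⟨AddChar.to_mulShift_inj_of_isPrimitive
      (AddChar.IsPrimitive.of_ne_one (fun h => he (by rw [h, AddChar.one_apply]))),
        AddChar.card_eq.symm⟩
  have hmem2 : ∀ (c : F) (x y : Fin m → F),
      c • (vecMulVec x y + vecMulVec y x) ∈ skewPart m (-1 : F) := fun c x y => by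
    rw [mem_skewPart_neg_one hs, transpose_smul, transpose_add, transpose_vecMulVec,
      transpose_vecMulVec, add_comm]
  let θ : (Fin m → F) → AddChar F ℂ := fun x =>
    { toFun := fun c => ψ ⟨c • vecMulVec x x, vecMulVec_self_mem hs c x⟩
      map_zero_eq_one' := by simp only [zero_smul]; exact ψ.map_zero_eq_one
      map_add_eq_mul' := fun a b => by
        simp only [add_smul]; exact ψ.map_add_eq_mul ⟨_, vecMulVec_self_mem hs a x⟩ ⟨_, vecMulVec_self_mem hs b x⟩ }
  let β : (Fin m → F) → (Fin m → F) → AddChar F ℂ := fun x y =>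
    { toFun := fun c => ψ ⟨c • (vecMulVec x y + vecMulVec y x), hmem2 c x y⟩
      map_zero_eq_one' := by simp only [zero_smul]; exact ψ.map_zero_eq_one
      map_add_eq_mul' := fun a b => by
        simp only [add_smul]; exact ψ.map_add_eq_mul ⟨_, hmem2 a x y⟩ ⟨_, hmem2 b x y⟩ }
  choose Qf hQf using fun x => hbij.2 (θ x)
  choose Bf hBf using fun x y => hbij.2 (β x y)
  have hQ : ∀ x c, e (Qf x * c) = ψ ⟨c • vecMulVec x x, vecMulVec_self_mem hs c x⟩ := fun x c => by
    rw [← AddChar.mulShift_apply, hQf]; rfl
  have hB : ∀ x y c, e (Bf x y * c) = ψ ⟨c • (vecMulVec x y + vecMulVec y x), hmem2 c x y⟩ :=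
    fun x y c => by rw [← AddChar.mulShift_apply, hBf]; rfl
  have hinj : ∀ {a b : F}, (∀ c, e (a * c) = e (b * c)) → a = b := fun {a b} h =>
    hbij.1 (DFunLike.ext _ _ fun c => by simpa [AddChar.mulShift_apply] using h c)
  let S : Quad F m :=
    { Q := Qf
      B := Bf
      map_smul := fun d x => hinj fun c => by
        rw [hQ, show d ^ 2 * Qf x * c = Qf x * (c * d ^ 2) by ring, hQ]
        congr 1; apply Subtype.ext
        simp [smul_vecMulVec, vecMulVec_smul, smul_smul, sq, mul_assoc]
      map_add := fun x y => hinj fun c => by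
        rw [add_mul, add_mul, AddChar.map_add_eq_mul, AddChar.map_add_eq_mul, hQ, hQ, hQ, hB,
          ← AddChar.map_add_eq_mul, ← AddChar.map_add_eq_mul]
        congr 1; apply Subtype.ext
        simp [add_vecMulVec, vecMulVec_add, smul_add]
        abel
      add_left := fun x y z => hinj fun c => by
        rw [add_mul, AddChar.map_add_eq_mul, hB, hB, hB, ← AddChar.map_add_eq_mul]
        congr 1; apply Subtype.ext
        simp [add_vecMulVec, vecMulVec_add, smul_add]
        abel
      smul_left := fun d x y => hinj fun c => by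
        rw [hB, show d * Bf x y * c = Bf x y * (c * d) by ring, hB]
        congr 1; apply Subtype.ext
        simp [smul_vecMulVec, vecMulVec_smul, smul_smul, smul_add] }
  have hB0 : S.B (Pi.single i 1) (Pi.single j 1) ≠ 0 := by
    intro h0
    apply hψ
    have := hB (Pi.single i 1) (Pi.single j 1) h
    rw [show Bf (Pi.single i 1) (Pi.single j 1) = 0 from h0, zero_mul, AddChar.map_zero_eq_one] at this
    rw [this]
    congr 1; apply Subtype.ext
    ext a b; simp [vecMulVec_apply, Pi.single_apply, single_apply]; grind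
  have hmemT : ∀ f : S.orbit, ∃ g : Matrix (Fin m) (Fin m) F, g.det ≠ 0 ∧
      (fun x => S.Q (g *ᵥ x)) = f.1 := fun f => S.mem_orbit.1 f.2
  choose g hg hgf using hmemT
  let T : Finset (AddChar (skewPart m (-1 : F)) ℂ) :=
    (univ : Finset S.orbit).image fun f => ψ.compAddMonoidHom (congrEquiv (-1) (g f) (hg f)).toAddMonoidHom
  have hT : S.orbit.card ≤ T.card := by
    rw [card_image_of_injective, card_univ, Fintype.card_coe]
    intro f f' hff
    apply Subtype.ext
    rw [← hgf f, ← hgf f']
    funext x
    refine hinj fun c => ?_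
    have := DFunLike.congr_fun hff ⟨c • vecMulVec x x, vecMulVec_self_mem hs c x⟩
    rw [hQ, hQ]
    simpa [congrEquiv, mul_vecMulVec, vecMulVec_mul, conjTranspose_eq hs, vecMul_transpose] using this
  refine le_trans (Nat.div_le_of_le_mul (S.card_orbit hm hB0)) (hT.trans ?_)
  have h1 := orbit_mul_le_finrank ρ D.radical ψ 1 (one_le_finrank_of_ne_bot hW) T fun ψ' hψ' => by
    obtain ⟨f, -, rfl⟩ := mem_image.1 hψ'
    have hd : (g f)⁻¹.det ≠ 0 := by simp [det_nonsing_inv, hg f]
    obtain ⟨x, hx⟩ := D.exists_levi (t := (1 : F)) (by ring) hm (by simp) one_ne_zero _ hd (hs _)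
    refine ⟨x, congrEquiv (-1) _ hd, fun a => D.inj ?_, fun a => ?_⟩
    · rw [map_mul, map_mul, hx, D.f_radical, D.f_radical]
      exact leviM_mul_upperU _ a.1 hd
    · show ψ (congrEquiv (-1) (g f) (hg f) (congrEquiv (-1) _ hd a)) = ψ a
      congr 1
      apply Subtype.ext
      have hu := Ne.isUnit (hg f)
      simp only [congrEquiv, AddEquiv.coe_mk, Equiv.coe_fn_mk, Matrix.mul_assoc,
        ← conjTranspose_mul, mul_nonsing_inv _ hu, conjTranspose_one, Matrix.mul_one,
        mul_nonsing_inv_cancel_left _ _ hu]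
  rw [mul_one, Module.finrank_fin_fun] at h1
  exact h1

end CfsgLib.MinDeg
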