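import Cfsg.Agent.Lib.MinDeg.TriCore

/-!
# The degree bound from the radical data

A representation that is non-trivial on the centre of the radical has degree at least
`(q - 1) q^4 + (q - 1) q^3 + (q - 1)`.
-/

set_option autoImplicit false
set_option linter.unusedSectionVars false

namespace CfsgLib.MinDeg.TriData

open Module

variable {F K : Type*} [Field F] [Fintype F] [Field K] [Fintype K] [Algebra F K]
variable {G : Type*} [Group G] (D : TriData F K G)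
variable {V : Type*} [AddCommGroup V] [Module ℂ V] [FiniteDimensional ℂ V]
  (ρ : Representation ℂ G V)

/-- The average over the centre. -/
def zSum : Module.End ℂ V := ∑ t, ρ (D.z t)

theorem fix_inf_ker : D.fix ρ ⊓ LinearMap.ker (D.zSum ρ) = ⊥ := by
  refine (Submodule.eq_bot_iff _).2 fun v hv => ?_
  obtain ⟨h1, h2⟩ := Submodule.mem_inf.1 hv
  rw [LinearMap.mem_ker, zSum, LinearMap.sum_apply,
    Finset.sum_congr rfl (fun t _ => (D.mem_fix ρ).1 h1 t), Finset.sum_const, Finset.card_univ,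
    ← Nat.cast_smul_eq_nsmul ℂ, smul_eq_zero] at h2
  exact h2.resolve_left (Nat.cast_ne_zero.2 Fintype.card_ne_zero)

/-- The abelian subgroup `z b p`. -/
def u₁ : AddChar (F × K × F) G where
  toFun i := D.z i.1 * D.b i.2.1 * D.p i.2.2
  map_zero_eq_one' := by simp
  map_add_eq_mul' i j := by
    simp only [Prod.fst_add, Prod.snd_add, AddChar.map_add_eq_mul, mul_assoc]
    rw [← mul_assoc (D.p i.2.2) (D.z j.1), ← (D.z_p j.1 _).eq, mul_assoc (D.z j.1),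
      ← mul_assoc (D.p i.2.2) (D.b j.2.1), ← (D.b_p j.2.1 _).eq, mul_assoc (D.b j.2.1),
      ← mul_assoc (D.b i.2.1) (D.z j.1), ← (D.z_b j.1 _).eq, mul_assoc (D.z j.1)]

theorem u₁_apply (i : F × K × F) : D.u₁ i = D.z i.1 * D.b i.2.1 * D.p i.2.2 := rfl

/-- Weights of the abelian subgroup. -/
abbrev Wt₁ (ψ : F × K × F → ℂ) : Prop := IsWt ρ (fun i => D.u₁ i) ⊤ ψ

/-- The weight with given restrictions to the three factors. -/
def wt₁Mk (χ : AddChar F ℂ × AddChar K ℂ × AddChar F ℂ) : F × K × F → ℂ :=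
  fun i => χ.1 i.1 * χ.2.1 i.2.1 * χ.2.2 i.2.2

theorem wt₁_of_addChar (ψ : AddChar (F × K × F) ℂ) (lam : AddChar F ℂ) (bet : AddChar K ℂ)
    (pi : AddChar F ℂ) (h1 : ∀ c, ψ (c, 0, 0) = lam c) (h2 : ∀ y, ψ (0, y, 0) = bet y)
    (h3 : ∀ w, ψ (0, 0, w) = pi w) : ⇑ψ = wt₁Mk (lam, bet, pi) := by
  funext i
  obtain ⟨c, y, w⟩ := i
  show _ = lam c * bet y * pi w
  rw [← h1, ← h2, ← h3, ← AddChar.map_add_eq_mul, ← AddChar.map_add_eq_mul]
  simp

theorem mul_pairing_char (lam : AddChar F ℂ) (hlam : lam ≠ 0) (χ : AddChar F ℂ) :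
    ∃ r, ∀ y, χ y = lam (r * y) :=
  exists_pairing_char rfl (fun r y => r * y) (fun _ _ _ => add_mul _ _ _)
    (fun _ _ _ => mul_add _ _ _) (fun x hx r => ⟨x⁻¹ * r, mul_inv_cancel_left₀ hx r⟩) lam hlam χ

theorem exists_wt₁ (hne : ∃ t, ρ (D.z t) ≠ 1) : ∃ χ : AddChar F ℂ × AddChar K ℂ × AddChar F ℂ,
    χ.1 ≠ 0 ∧ D.Wt₁ ρ (wt₁Mk χ) := by
  obtain ⟨t, ht⟩ := hne
  obtain ⟨ψ, hψ, hW⟩ := exists_weight_apply_ne_one (resChar ρ D.u₁) (a := (t, 0, 0))
    (by simpa [u₁_apply] using ht)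
  obtain ⟨v, hv, hv0⟩ := Submodule.exists_mem_ne_zero_of_ne_bot hW
  let lam := ψ.compAddMonoidHom (AddMonoidHom.inl F (K × F))
  let bet := ψ.compAddMonoidHom ((AddMonoidHom.inr F (K × F)).comp (AddMonoidHom.inl K F))
  let pi := ψ.compAddMonoidHom ((AddMonoidHom.inr F (K × F)).comp (AddMonoidHom.inr K F))
  refine ⟨(lam, bet, pi), fun h => hψ ?_, v, Submodule.mem_top, hv0, fun i => ?_⟩
  · have := DFunLike.congr_fun h t
    simpa [lam, Prod.zero_eq_mk] using this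
  · rw [← wt₁_of_addChar ψ lam bet pi (fun _ => rfl) (fun _ => rfl) (fun _ => rfl)]
    exact mem_weightSpace.1 hv i

theorem all_wt₁ (hK : Nat.card K = Nat.card K) (hne : ∃ t, ρ (D.z t) ≠ 1)
    (χ : AddChar F ℂ × AddChar K ℂ × AddChar F ℂ) (hχ : χ.1 ≠ 0) : D.Wt₁ ρ (wt₁Mk χ) := by
  obtain ⟨lam, bet, pi⟩ := χ
  obtain ⟨⟨lam₀, bet₀, pi₀⟩, h₀, hw₀⟩ := D.exists_wt₁ ρ hne
  obtain ⟨r, hr⟩ := mul_pairing_char lam₀ h₀ lam
  have hr0 : r ≠ 0 := fun h => hχ (AddChar.ext _ _ fun c => by simp [hr c, h])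
  set c : Fˣ := Units.mk0 r hr0
  choose yb hyb using D.hz_b c
  choose wp hwp using D.hz_p c
  -- scale the centre
  have hw₁ : D.Wt₁ ρ (fun i => wt₁Mk (lam₀, bet₀, pi₀) (r * i.1, yb i.2.1, wp i.2.2)) :=
    hw₀.conj (D.hz c) (fun _ _ => Submodule.mem_top) _ fun i v _ => by
      rw [u₁_apply, u₁_apply,
        show D.hz c * (D.z i.1 * D.b i.2.1 * D.p i.2.2) * (D.hz c)⁻¹ =
          (D.hz c * D.z i.1 * (D.hz c)⁻¹) * (D.hz c * D.b i.2.1 * (D.hz c)⁻¹) *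
            (D.hz c * D.p i.2.2 * (D.hz c)⁻¹) by group, D.hz_z, hyb, hwp, Units.val_mk0]
  obtain ⟨⟨lam₁, bet₁, pi₁⟩, hlam₁, hw₂⟩ :
      ∃ χ : AddChar F ℂ × AddChar K ℂ × AddChar F ℂ, χ.1 = lam ∧ D.Wt₁ ρ (wt₁Mk χ) := by
    obtain ⟨v, -, hv0, hv⟩ := hw₁
    have hadd : ∀ i j, (fun i : F × K × F =>
        wt₁Mk (lam₀, bet₀, pi₀) (r * i.1, yb i.2.1, wp i.2.2)) (i + j) =
        wt₁Mk (lam₀, bet₀, pi₀) (r * i.1, yb i.2.1, wp i.2.2) *
          wt₁Mk (lam₀, bet₀, pi₀) (r * j.1, yb j.2.1, wp j.2.2) := by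
      intro i j
      refine smul_left_injective ℂ hv0 ?_
      show _ • v = _ • v
      rw [← hv]; beta_reduce; rw [show D.u₁ (i + j) = D.u₁ i * D.u₁ j from AddChar.map_add_eq_mul .., map_mul, Module.End.mul_apply, hv j, map_smul, hv i,
        smul_smul, mul_comm]
    have hzero : (fun i : F × K × F =>
        wt₁Mk (lam₀, bet₀, pi₀) (r * i.1, yb i.2.1, wp i.2.2)) 0 = 1 := by
      refine smul_left_injective ℂ hv0 ?_
      show _ • v = _ • v
      rw [← hv]; beta_reduce; rw [show D.u₁ 0 = 1 from AddChar.map_zero_eq_one _, map_one, Module.End.one_apply, one_smul]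
    let ψ : AddChar (F × K × F) ℂ :=
      ⟨fun i => wt₁Mk (lam₀, bet₀, pi₀) (r * i.1, yb i.2.1, wp i.2.2), hzero, hadd⟩
    let bet' := ψ.compAddMonoidHom ((AddMonoidHom.inr F (K × F)).comp (AddMonoidHom.inl K F))
    let pi' := ψ.compAddMonoidHom ((AddMonoidHom.inr F (K × F)).comp (AddMonoidHom.inr K F))
    refine ⟨(lam, bet', pi'), rfl, ?_⟩
    rw [← wt₁_of_addChar ψ lam bet' pi' (fun x => ?_) (fun _ => rfl) (fun _ => rfl)]
    · exact ⟨v, Submodule.mem_top, hv0, hv⟩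
    · have e1 : bet₀ (yb 0) * pi₀ (wp 0) = 1 := by
        have : wt₁Mk (lam₀, bet₀, pi₀) (r * (0 : F), yb 0, wp 0) = 1 := hzero
        simpa [wt₁Mk, mul_assoc] using this
      show wt₁Mk (lam₀, bet₀, pi₀) (r * x, yb 0, wp 0) = lam x
      simp only [wt₁Mk, mul_assoc, e1, mul_one, hr]
  subst hlam₁
  -- shift the slot `p`
  obtain ⟨t, ht⟩ := mul_pairing_char lam₁ hχ (pi / pi₁)
  have hw₃ : D.Wt₁ ρ (wt₁Mk (lam₁, bet₁, pi)) := by
    have h := hw₂.conj (D.m (D.e⁻¹ * t)) (fun _ _ => Submodule.mem_top)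
      (fun i => (i.1 + t * i.2.2, i.2.1, i.2.2)) fun i v _ => by
        rw [u₁_apply, u₁_apply,
          show D.m (D.e⁻¹ * t) * (D.z i.1 * D.b i.2.1 * D.p i.2.2) * (D.m (D.e⁻¹ * t))⁻¹ =
            (D.m (D.e⁻¹ * t) * D.z i.1 * (D.m (D.e⁻¹ * t))⁻¹) *
            (D.m (D.e⁻¹ * t) * D.b i.2.1 * (D.m (D.e⁻¹ * t))⁻¹) *
            (D.m (D.e⁻¹ * t) * D.p i.2.2 * (D.m (D.e⁻¹ * t))⁻¹) by group,
          ← (D.z_m _ _).eq, (D.m_b _ _).eq, D.m_p, mul_inv_cancel_left₀ D.e_ne,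
          mul_inv_cancel_right, mul_inv_cancel_right]
        show ρ (D.z i.1 * D.b i.2.1 * (D.p i.2.2 * D.z (t * i.2.2))) v =
          ρ (D.z (i.1 + t * i.2.2) * D.b i.2.1 * D.p i.2.2) v
        rw [← (D.z_p _ _).eq, AddChar.map_add_eq_mul]
        simp only [mul_assoc]
        rw [← mul_assoc (D.b i.2.1) (D.z (t * i.2.2)), ← (D.z_b _ _).eq, mul_assoc]
    convert h using 1
    funext i
    have := ht i.2.2
    simp only [wt₁Mk, Function.comp_apply, AddChar.map_add_eq_mul, ← this, AddChar.div_apply']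
    field_simp [(pi₁.val_isUnit i.2.2).ne_zero]
  -- shift the slot `b`
  obtain ⟨x, hx⟩ := exists_pairing_char hK D.B D.B_add D.B_add' D.B_nd lam₁ hχ (bet / bet₁)
  have h := hw₃.conj (D.a x) (fun _ _ => Submodule.mem_top)
    (fun i => (i.1 + D.B x i.2.1, i.2.1, i.2.2)) fun i v _ => by
      rw [u₁_apply, u₁_apply,
        show D.a x * (D.z i.1 * D.b i.2.1 * D.p i.2.2) * (D.a x)⁻¹ =
          (D.a x * D.z i.1 * (D.a x)⁻¹) * (D.a x * D.b i.2.1 * (D.a x)⁻¹) *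
          (D.a x * D.p i.2.2 * (D.a x)⁻¹) by group,
        ← (D.z_a _ _).eq, D.a_b, (D.a_p _ _).eq, mul_inv_cancel_right, mul_inv_cancel_right,
        ]
      show ρ (D.z i.1 * (D.b i.2.1 * D.z (D.B x i.2.1)) * D.p i.2.2) v =
        ρ (D.z (i.1 + D.B x i.2.1) * D.b i.2.1 * D.p i.2.2) v
      rw [← (D.z_b _ _).eq, AddChar.map_add_eq_mul]
      simp only [mul_assoc]
  convert h using 1
  funext i
  have := hx i.2.1
  simp only [wt₁Mk, Function.comp_apply, AddChar.map_add_eq_mul, ← this, AddChar.div_apply']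
  field_simp [(bet₁.val_isUnit i.2.1).ne_zero]

theorem moved_card_le (hne : ∃ t, ρ (D.z t) ≠ 1) :
    (Fintype.card F - 1) * (Fintype.card K * Fintype.card F) ≤
      finrank ℂ (LinearMap.ker (D.zSum ρ)) := by
  classical
  let S : Finset (AddChar F ℂ × AddChar K ℂ × AddChar F ℂ) :=
    ((Finset.univ.erase (0 : AddChar F ℂ)) ×ˢ Finset.univ)
  have hS : S.card = (Fintype.card F - 1) * (Fintype.card K * Fintype.card F) := by
    rw [Finset.card_product, Finset.card_erase_of_mem (Finset.mem_univ _), Finset.card_univ,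
      Finset.card_univ, Fintype.card_prod, AddChar.card_eq, AddChar.card_eq]
  have hinj : Function.Injective (wt₁Mk (F := F) (K := K)) := by
    intro χ χ' h
    refine Prod.ext (AddChar.ext _ _ fun c => ?_) (Prod.ext (AddChar.ext _ _ fun y => ?_)
      (AddChar.ext _ _ fun w => ?_))
    · simpa [wt₁Mk] using congrFun h (c, 0, 0)
    · simpa [wt₁Mk] using congrFun h (0, y, 0)
    · simpa [wt₁Mk] using congrFun h (0, 0, w)
  rw [← hS, ← Finset.card_image_of_injective S hinj]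
  refine card_wt_le ρ (fun i => D.u₁ i) _ _ fun ψ hψ => ?_
  obtain ⟨χ, hχ, rfl⟩ := Finset.mem_image.1 hψ
  obtain ⟨hχ0, -⟩ := Finset.mem_product.1 hχ
  have hχ1 := Finset.ne_of_mem_erase hχ0
  obtain ⟨v, -, hv0, hv⟩ := D.all_wt₁ ρ rfl hne χ hχ1
  refine ⟨v, LinearMap.mem_ker.2 ?_, hv0, hv⟩
  have hz : ∀ t, ρ (D.z t) v = χ.1 t • v := fun t => by
    simpa [u₁_apply, wt₁Mk] using hv (t, 0, 0)
  rw [zSum, LinearMap.sum_apply, Finset.sum_congr rfl (fun t _ => hz t), ← Finset.sum_smul,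
    AddChar.sum_eq_zero_iff_ne_zero.2 hχ1, zero_smul]

end CfsgLib.MinDeg.TriData
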