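import Cfsg.Agent.Lib.MinDeg.Basic
import Mathlib.Algebra.Algebra.Basic
import Mathlib.FieldTheory.Finite.Basic

/-!
# A degree bound from a parabolic subgroup with special radical of order `q^(1+8)`

The abstract part of the smallest-degree bound for the groups `³D₄(q)`: the centre `z` of the
radical, its four slots `m, a, b, p` (two over `F`, two over the cubic extension `K`), some
elements normalising them, and counting of joint eigencharacters.
-/

set_option autoImplicit false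
set_option linter.unusedSectionVars false

namespace CfsgLib.MinDeg

open Module

section Eigen

variable {G : Type*} [Group G] {V : Type*} [AddCommGroup V] [Module ℂ V]
variable {ι : Type*}

/-- `ψ` is the joint eigencharacter of the family `ρ ∘ u` at a non-zero vector of `W`. -/
def IsWt (ρ : Representation ℂ G V) (u : ι → G) (W : Submodule ℂ V) (ψ : ι → ℂ) : Prop :=
  ∃ v ∈ W, v ≠ 0 ∧ ∀ i, ρ (u i) v = ψ i • v

theorem card_wt_le [FiniteDimensional ℂ V] (ρ : Representation ℂ G V) (u : ι → G)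
    (W : Submodule ℂ V) (T : Finset (ι → ℂ)) (hT : ∀ ψ ∈ T, IsWt ρ u W ψ) :
    T.card ≤ finrank ℂ W := by
  classical
  choose v hvW hv0 hv using fun ψ : T => hT ψ.1 ψ.2
  have hli : LinearIndependent ℂ v :=
    linearIndependent_of_separated v hv0 (fun i => ρ (u i)) (fun i ψ => ψ.1 i) (fun i ψ => hv ψ i)
      (fun ψ ψ' hne => by
        by_contra h
        push Not at h
        exact hne (Subtype.ext (funext h)))
  have hW : LinearIndependent ℂ (fun ψ : T => (⟨v ψ, hvW ψ⟩ : W)) :=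
    LinearIndependent.of_comp W.subtype hli
  simpa using hW.fintype_card_le_finrank

/-- An element normalising the family carries weights to weights. -/
theorem IsWt.conj {ρ : Representation ℂ G V} {u : ι → G} {W : Submodule ℂ V} {ψ : ι → ℂ}
    (h : IsWt ρ u W ψ) (g : G) (hW : ∀ v ∈ W, ρ g⁻¹ v ∈ W) (φ : ι → ι)
    (hφ : ∀ i, ∀ v ∈ W, ρ (g * u i * g⁻¹) v = ρ (u (φ i)) v) : IsWt ρ u W (ψ ∘ φ) := by
  obtain ⟨v, hvW, hv0, hv⟩ := h
  refine ⟨ρ g⁻¹ v, hW v hvW, fun h0 => hv0 (rep_injective ρ g⁻¹ (h0.trans (map_zero _).symm)),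
    fun i => ?_⟩
  calc ρ (u i) (ρ g⁻¹ v) = ρ g⁻¹ (ρ (g * u i * g⁻¹) v) := by
        rw [← Module.End.mul_apply, ← Module.End.mul_apply, ← map_mul, ← map_mul]
        congr 2; group
    _ = (ψ ∘ φ) i • ρ g⁻¹ v := by rw [hφ i v hvW, hv (φ i), map_smul]; rfl

end Eigen

/-- A bilinear pairing with surjective sections gives every character. -/
theorem exists_pairing_char {X Y F : Type*} [AddCommGroup X] [Finite X] [AddCommGroup Y] [Finite Y]
    [AddCommGroup F] (hXY : Nat.card X = Nat.card Y) (C : X → Y → F)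
    (hadd : ∀ x x' y, C (x + x') y = C x y + C x' y)
    (hadd' : ∀ x y y', C x (y + y') = C x y + C x y')
    (hnd : ∀ x, x ≠ 0 → ∀ r, ∃ y, C x y = r)
    (lam : AddChar F ℂ) (hlam : lam ≠ 0) (χ : AddChar Y ℂ) : ∃ x, ∀ y, χ y = lam (C x y) := by
  classical
  haveI := Fintype.ofFinite X
  haveI := Fintype.ofFinite Y
  let f : X → AddChar Y ℂ := fun x =>
    { toFun := fun y => lam (C x y)
      map_zero_eq_one' := by
        have h0 := hadd' x 0 0
        rw [add_zero, left_eq_add] at h0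
        rw [h0, AddChar.map_zero_eq_one]
      map_add_eq_mul' := fun y y' => by rw [hadd', AddChar.map_add_eq_mul] }
  have hf : Function.Injective f := by
    intro x x' h
    by_contra hne
    obtain ⟨r, hr⟩ := AddChar.ne_zero_iff.1 hlam
    obtain ⟨y, hy⟩ := hnd (x - x') (sub_ne_zero.2 hne) r
    have e : lam (C x y) = lam (C x' y) := DFunLike.congr_fun h y
    have e2 : C (x - x') y + C x' y = C x y := by rw [← hadd, sub_add_cancel]
    rw [← e2, hy, AddChar.map_add_eq_mul] at e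
    apply hr
    have hne0 : lam (C x' y) ≠ 0 := (lam.val_isUnit _).ne_zero
    exact (mul_eq_right₀ hne0).1 e
  have hcard : Fintype.card X = Fintype.card (AddChar Y ℂ) := by
    rw [AddChar.card_eq, ← Nat.card_eq_fintype_card, ← Nat.card_eq_fintype_card, hXY]
  obtain ⟨x, hx⟩ := ((Fintype.bijective_iff_injective_and_card f).2 ⟨hf, hcard⟩).2 χ
  exact ⟨x, fun y => (DFunLike.congr_fun hx y).symm⟩

variable (F K : Type*) [Field F] [Field K] [Algebra F K]

/-- The slots of the radical and elements normalising them. -/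
structure TriData (G : Type*) [Group G] where
  z : AddChar F G
  m : AddChar F G
  a : AddChar K G
  b : AddChar K G
  p : AddChar F G
  z_m : ∀ t u, Commute (z t) (m u)
  z_a : ∀ t u, Commute (z t) (a u)
  z_b : ∀ t u, Commute (z t) (b u)
  z_p : ∀ t u, Commute (z t) (p u)
  m_a : ∀ t u, Commute (m t) (a u)
  m_b : ∀ t u, Commute (m t) (b u)
  a_p : ∀ t u, Commute (a t) (p u)
  b_p : ∀ t u, Commute (b t) (p u)
  e : F
  e_ne : e ≠ 0
  m_p : ∀ t u, m t * p u * (m t)⁻¹ = p u * z (e * t * u)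
  B : K → K → F
  B_add : ∀ x x' y, B (x + x') y = B x y + B x' y
  B_add' : ∀ x y y', B x (y + y') = B x y + B x y'
  B_nd : ∀ x, x ≠ 0 → ∀ r, ∃ y, B x y = r
  a_b : ∀ x y, a x * b y * (a x)⁻¹ = b y * z (B x y)
  s : K → G
  s_z : ∀ x t, Commute (s x) (z t)
  s_p : ∀ x t, Commute (s x) (p t)
  C : K → K → F
  C_add : ∀ x x' y, C (x + x') y = C x y + C x' y
  C_add' : ∀ x y y', C x (y + y') = C x y + C x y'
  C_nd : ∀ x, x ≠ 0 → ∀ r, ∃ y, C x y = r
  s_b : ∀ x y, s x * b y * (s x)⁻¹ = b y * p (C x y)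
  s_a : ∀ x y, ∃ y' w c, s x * a y * (s x)⁻¹ = a y * b y' * p w * z c
  s_m : ∀ x t, ∃ y y' w c, s x * m t * (s x)⁻¹ = m t * a y * b y' * p w * z c
  cubic : ∀ r : F, ∃ x, ∀ t, ∃ y y' c, s x * m t * (s x)⁻¹ = m t * a y * b y' * p (r * t) * z c
  hs : Fˣ → G
  hs_zi : ∀ c t, ∃ t', (hs c)⁻¹⁻¹ * z t * (hs c)⁻¹ = z t'
  hs_m : ∀ (c : Fˣ) t, hs c * m t * (hs c)⁻¹ = m (c * t)
  hs_a : ∀ (c : Fˣ) x, hs c * a x * (hs c)⁻¹ = a (algebraMap F K c * x)
  hs_b : ∀ (c : Fˣ) x, hs c * b x * (hs c)⁻¹ = b (algebraMap F K c * x)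
  hs_p : ∀ (c : Fˣ) t, hs c * p t * (hs c)⁻¹ = p (c * t)
  hz : Fˣ → G
  hz_z : ∀ (c : Fˣ) t, hz c * z t * (hz c)⁻¹ = z (c * t)
  hz_b : ∀ c x, ∃ x', hz c * b x * (hz c)⁻¹ = b x'
  hz_p : ∀ c t, ∃ t', hz c * p t * (hz c)⁻¹ = p t'
  ht : G
  w : K
  w_ne : w ≠ 1
  ht_zi : ∀ t, ∃ t', ht * z t * ht⁻¹ = z t'
  ht_m : ∀ t, ∃ t', ht * m t * ht⁻¹ = m t'
  ht_a : ∀ x, ht * a x * ht⁻¹ = a (w * x)
  ht_b : ∀ x, ∃ x', ht * b x * ht⁻¹ = b x'
  ht_p : ∀ t, ht * p t * ht⁻¹ = p t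
  n : G
  n_z' : ∀ t, ∃ t', n * z t * n⁻¹ = z t'
  nm : F → F
  nm_surj : Function.Surjective nm
  n_m : ∀ t, n * m t * n⁻¹ = p (nm t)
  n_a : ∀ x, ∃ x', n * a x * n⁻¹ = b x'
  n_b : ∀ x, ∃ x', n * b x * n⁻¹ = a x'
  n_p : ∀ t, ∃ t', n * p t * n⁻¹ = m t'
  d : G
  d_p : ∀ t, ∃ t', d⁻¹ * z t * d = p t'

namespace TriData

variable {F K} {G : Type*} [Group G] (D : TriData F K G)
variable {V : Type*} [AddCommGroup V] [Module ℂ V] (ρ : Representation ℂ G V)

/-- The vectors fixed by the centre. -/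
def fix : Submodule ℂ V := ⨅ t, LinearMap.ker (ρ (D.z t) - 1)

theorem mem_fix {v : V} : v ∈ D.fix ρ ↔ ∀ t, ρ (D.z t) v = v := by
  simp [fix, sub_eq_zero]

/-- The product of the slots. -/
def u (i : F × K × K × F) : G := D.m i.1 * D.a i.2.1 * D.b i.2.2.1 * D.p i.2.2.2

theorem u_m (t : F) : D.u (t, 0, 0, 0) = D.m t := by simp [u]
theorem u_a (x : K) : D.u (0, x, 0, 0) = D.a x := by simp [u]
theorem u_b (x : K) : D.u (0, 0, x, 0) = D.b x := by simp [u]
theorem u_p (t : F) : D.u (0, 0, 0, t) = D.p t := by simp [u]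

theorem stable_of_normal {g : G} (h : ∀ t, ∃ t', g⁻¹ * D.z t * g = D.z t') :
    ∀ v ∈ D.fix ρ, ρ g v ∈ D.fix ρ := by
  intro v hv
  rw [mem_fix] at hv ⊢
  intro t
  obtain ⟨t', ht'⟩ := h t
  have e : D.z t * g = g * D.z t' := by rw [← ht']; group
  rw [← Module.End.mul_apply, ← map_mul, e, map_mul, Module.End.mul_apply, hv t']

theorem stable_of_commute {g : G} (h : ∀ t, Commute (D.z t) g) :
    ∀ v ∈ D.fix ρ, ρ g v ∈ D.fix ρ :=
  D.stable_of_normal ρ fun t => ⟨t, by rw [mul_assoc, (h t).eq, inv_mul_cancel_left]⟩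

theorem z_u (t : F) (i : F × K × K × F) : Commute (D.z t) (D.u i) :=
  (((D.z_m t _).mul_right (D.z_a t _)).mul_right (D.z_b t _)).mul_right (D.z_p t _)

theorem mul_comm_z (s t : F) : D.z s * D.z t = D.z t * D.z s := by
  rw [← AddChar.map_add_eq_mul, add_comm, AddChar.map_add_eq_mul]

theorem u_mul (i j : F × K × K × F) :
    ∃ c, D.u i * D.u j = D.u (i + j) * D.z c := by
  obtain ⟨t, x, y, w⟩ := i
  obtain ⟨t', x', y', w'⟩ := j
  refine ⟨-(D.B x' y) + -(D.e * t' * w), ?_⟩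
  have h1 : D.p w * D.m t' = D.m t' * D.p w * D.z (-(D.e * t' * w)) := by
    have := D.m_p t' w
    rw [mul_inv_eq_iff_eq_mul, mul_assoc, (D.z_m _ _).eq, ← mul_assoc] at this
    rw [this, mul_assoc, ← AddChar.map_add_eq_mul, add_neg_cancel,
      AddChar.map_zero_eq_one, mul_one]
  have h2 : D.b y * D.a x' = D.a x' * D.b y * D.z (-(D.B x' y)) := by
    have := D.a_b x' y
    rw [mul_inv_eq_iff_eq_mul, mul_assoc, (D.z_a _ _).eq, ← mul_assoc] at this
    rw [this, mul_assoc, ← AddChar.map_add_eq_mul, add_neg_cancel,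
      AddChar.map_zero_eq_one, mul_one]
  -- moving central factors to the right
  have zr : ∀ {g : G}, (∀ c, Commute (D.z c) g) → ∀ c r, D.z c * (g * r) = g * (D.z c * r) :=
    fun hg c r => by rw [← mul_assoc, (hg c).eq, mul_assoc]
  simp only [u, Prod.mk_add_mk, AddChar.map_add_eq_mul]
  calc D.m t * D.a x * D.b y * D.p w * (D.m t' * D.a x' * D.b y' * D.p w')
      = D.m t * D.a x * D.b y * (D.p w * D.m t') * D.a x' * D.b y' * D.p w' := by
        simp only [mul_assoc]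
    _ = D.m t * D.a x * D.b y * D.m t' * D.p w * D.a x' * D.b y' * D.p w' *
          D.z (-(D.e * t' * w)) := by
        rw [h1]
        simp only [mul_assoc]
        rw [zr (fun c => D.z_a c x'), zr (fun c => D.z_b c y'), (D.z_p _ w').eq]
    _ = D.m t * D.m t' * (D.a x * (D.b y * D.a x')) * D.b y' * (D.p w * D.p w') *
          D.z (-(D.e * t' * w)) := by
        simp only [mul_assoc]
        rw [← mul_assoc (D.b y) (D.m t'), ← (D.m_b t' y).eq, mul_assoc (D.m t'),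
          ← mul_assoc (D.a x) (D.m t'), ← (D.m_a t' x).eq, mul_assoc (D.m t'),
          ← mul_assoc (D.p w) (D.a x'), ← (D.a_p x' w).eq, mul_assoc (D.a x'),
          ← mul_assoc (D.p w) (D.b y'), ← (D.b_p y' w).eq, mul_assoc (D.b y')]
    _ = _ := by
        rw [h2]
        simp only [mul_assoc]
        rw [zr (fun c => D.z_b c y'), zr (fun c => D.z_p c w), zr (fun c => D.z_p c w')]

theorem rho_z_right {g : G} {c : F} {v : V} (hv : v ∈ D.fix ρ) :
    ρ (g * D.z c) v = ρ g v := by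
  rw [map_mul, Module.End.mul_apply, (D.mem_fix ρ).1 hv c]

theorem rho_u_add (i j : F × K × K × F) {v : V} (hv : v ∈ D.fix ρ) :
    ρ (D.u i) (ρ (D.u j) v) = ρ (D.u (i + j)) v := by
  obtain ⟨c, hc⟩ := D.u_mul i j
  rw [← Module.End.mul_apply, ← map_mul, hc, D.rho_z_right ρ hv]

/-- The slots acting on the fixed space of the centre. -/
def onFix : AddChar (F × K × K × F) (Module.End ℂ (D.fix ρ)) where
  toFun i := (ρ (D.u i)).restrict (D.stable_of_commute ρ fun t => D.z_u t i)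
  map_zero_eq_one' := by
    apply LinearMap.ext
    intro v
    apply Subtype.ext
    simp [u]
  map_add_eq_mul' i j := by
    apply LinearMap.ext
    intro v
    apply Subtype.ext
    exact (D.rho_u_add ρ i j v.2).symm

theorem onFix_apply (i : F × K × K × F) (v : D.fix ρ) :
    (D.onFix ρ i v : V) = ρ (D.u i) v := rfl

/-- Weights on the fixed space of the centre. -/
abbrev Wt (ψ : F × K × K × F → ℂ) : Prop := IsWt ρ D.u (D.fix ρ) ψ

theorem wt_add {ψ : F × K × K × F → ℂ} (h : D.Wt ρ ψ) (i j : F × K × K × F) :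
    ψ (i + j) = ψ i * ψ j := by
  obtain ⟨v, hvW, hv0, hv⟩ := h
  have e := D.rho_u_add ρ i j hvW
  rw [hv j, map_smul, hv i, smul_smul, hv (i + j)] at e
  have := smul_left_injective ℂ hv0 e
  rw [← this, mul_comm]

theorem wt_split {ψ : F × K × K × F → ℂ} (h : D.Wt ρ ψ) (t : F) (x y : K) (w : F) :
    ψ (t, x, y, w) = ψ (t, 0, 0, 0) * ψ (0, x, 0, 0) * ψ (0, 0, y, 0) * ψ (0, 0, 0, w) := by
  rw [← D.wt_add ρ h, ← D.wt_add ρ h, ← D.wt_add ρ h]
  simp

theorem wt_zero {ψ : F × K × K × F → ℂ} (h : D.Wt ρ ψ) : ψ 0 = 1 := by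
  obtain ⟨v, hvW, hv0, hv⟩ := h
  have e := hv 0
  rw [show D.u 0 = 1 by simp [u], map_one, Module.End.one_apply] at e
  exact (smul_left_injective ℂ hv0 (e.symm.trans (one_smul ℂ v).symm))

/-- Transporting a weight along an element described on the four slots. -/
theorem wt_conj {ψ : F × K × K × F → ℂ} (h : D.Wt ρ ψ) (g : G)
    (hz : ∀ t, ∃ t', g * D.z t * g⁻¹ = D.z t')
    (φ₁ : F → F × K × K × F) (φ₂ φ₃ : K → F × K × K × F) (φ₄ : F → F × K × K × F)
    (h₁ : ∀ t, ∃ c, g * D.m t * g⁻¹ = D.u (φ₁ t) * D.z c)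
    (h₂ : ∀ x, ∃ c, g * D.a x * g⁻¹ = D.u (φ₂ x) * D.z c)
    (h₃ : ∀ x, ∃ c, g * D.b x * g⁻¹ = D.u (φ₃ x) * D.z c)
    (h₄ : ∀ t, ∃ c, g * D.p t * g⁻¹ = D.u (φ₄ t) * D.z c) :
    D.Wt ρ fun i => ψ (φ₁ i.1 + φ₂ i.2.1 + φ₃ i.2.2.1 + φ₄ i.2.2.2) := by
  refine IsWt.conj h g (D.stable_of_normal ρ fun t => ?_)
    (fun i => φ₁ i.1 + φ₂ i.2.1 + φ₃ i.2.2.1 + φ₄ i.2.2.2) fun i v hv => ?_
  · obtain ⟨t', ht'⟩ := hz t
    exact ⟨t', by rw [inv_inv, ht']⟩
  · obtain ⟨c₁, e₁⟩ := h₁ i.1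
    obtain ⟨c₂, e₂⟩ := h₂ i.2.1
    obtain ⟨c₃, e₃⟩ := h₃ i.2.2.1
    obtain ⟨c₄, e₄⟩ := h₄ i.2.2.2
    have e : g * D.u i * g⁻¹ = (g * D.m i.1 * g⁻¹) * (g * D.a i.2.1 * g⁻¹) *
        (g * D.b i.2.2.1 * g⁻¹) * (g * D.p i.2.2.2 * g⁻¹) := by
      simp only [u]; group
    have hk : ∀ (j k : F × K × K × F) (c : F) (x : G),
        (∀ w ∈ D.fix ρ, ρ x w = ρ (D.u j) w) →
          ∀ w ∈ D.fix ρ, ρ (x * (D.u k * D.z c)) w = ρ (D.u (j + k)) w := by
      intro j k c x hx w hw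
      rw [map_mul, Module.End.mul_apply, D.rho_z_right ρ hw,
        hx _ (D.stable_of_commute ρ (fun t => D.z_u t k) w hw), D.rho_u_add ρ j k hw]
    rw [e, e₁, e₂, e₃, e₄]
    exact hk _ _ _ _ (hk _ _ _ _ (hk _ _ _ _ fun w hw => D.rho_z_right ρ hw)) v hv

end TriData

end CfsgLib.MinDeg
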