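import Cfsg.Agent.Lib.MinDeg.TriBound

/-!
# The fixed space of the centre of the radical
-/

set_option autoImplicit false
set_option linter.unusedSectionVars false

namespace CfsgLib.MinDeg.TriData

open Module

variable {F K : Type*} [Field F] [Fintype F] [Field K] [Fintype K] [Algebra F K]
variable {G : Type*} [Group G] {D : TriData F K G}
variable {V : Type*} [AddCommGroup V] [Module ℂ V] [FiniteDimensional ℂ V]
  {ρ : Representation ℂ G V} {ψ : F × K × K × F → ℂ}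

/-- A weight as an additive character. -/
noncomputable def wtChar (h : D.Wt ρ ψ) : AddChar (F × K × K × F) ℂ :=
  ⟨ψ, D.wt_zero ρ h, D.wt_add ρ h⟩

/-- The restriction to the slot `b`. -/
noncomputable def betOf (h : D.Wt ρ ψ) : AddChar K ℂ :=
  (wtChar h).compAddMonoidHom (((AddMonoidHom.inr F (K × K × F)).comp
    (AddMonoidHom.inr K (K × F))).comp (AddMonoidHom.inl K F))

/-- The restriction to the slot `p`. -/
noncomputable def piOf (h : D.Wt ρ ψ) : AddChar F ℂ :=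
  (wtChar h).compAddMonoidHom (((AddMonoidHom.inr F (K × K × F)).comp
    (AddMonoidHom.inr K (K × F))).comp (AddMonoidHom.inr K F))

theorem betOf_apply (h : D.Wt ρ ψ) (y : K) : betOf h y = ψ (0, 0, y, 0) := rfl

theorem piOf_apply (h : D.Wt ρ ψ) (w : F) : piOf h w = ψ (0, 0, 0, w) := rfl

theorem fieldChar_ne_zero {R : Type*} [Field R] [Fintype R] {χ : AddChar R ℂ} (c : R)
    (hc : c ≠ 0) (hχ : χ ≠ 0) : ∃ t, χ (c * t) ≠ 1 := by
  obtain ⟨t, ht⟩ := AddChar.ne_zero_iff.1 hχ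
  exact ⟨c⁻¹ * t, by rwa [mul_inv_cancel_left₀ hc]⟩

theorem exists_wt_slot_p (hne : ∃ t, ρ (D.z t) ≠ 1) :
    ∃ (ψ : F × K × K × F → ℂ) (h : D.Wt ρ ψ), piOf h ≠ 0 := by
  by_contra hcon
  push Not at hcon
  -- the fixed space of `z` is fixed by `p`
  have hp : ∀ v ∈ D.fix ρ, ∀ t, ρ (D.p t) v = v := by
    intro v hv t
    by_contra hv'
    obtain ⟨χ, hχ, hW⟩ := exists_weight_apply_ne_one (D.onFix ρ) (a := (0, 0, 0, t)) (fun h => hv' (by
      have := congrArg Subtype.val (LinearMap.congr_fun h (⟨v, hv⟩ : D.fix ρ))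
      simpa [onFix_apply, u_p] using this))
    obtain ⟨⟨w, hw⟩, hwm, hw0⟩ := Submodule.exists_mem_ne_zero_of_ne_bot hW
    have hwt : D.Wt ρ χ := ⟨w, hw, fun h => hw0 (Subtype.ext h), fun i => by
      have := congrArg Subtype.val (mem_weightSpace.1 hwm i)
      simpa [onFix_apply] using this⟩
    exact hχ (DFunLike.congr_fun (hcon _ hwt) t)
  let P : Submodule ℂ V := ⨅ t, LinearMap.ker (ρ (D.p t) - 1)
  have hP : ∀ {v : V}, v ∈ P ↔ ∀ t, ρ (D.p t) v = v := fun {v} => by simp [P, sub_eq_zero]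
  have hle : D.fix ρ ≤ P := fun v hv => hP.2 (hp v hv)
  have hmaps : ∀ v ∈ P, ρ D.d v ∈ D.fix ρ := by
    intro v hv
    rw [mem_fix]
    intro t
    obtain ⟨t', ht'⟩ := D.d_p t
    rw [← Module.End.mul_apply, ← map_mul, show D.z t * D.d = D.d * D.p t' by rw [← ht']; group,
      map_mul, Module.End.mul_apply, hP.1 hv t']
  have hfin : finrank ℂ P ≤ finrank ℂ (D.fix ρ) :=
    LinearMap.finrank_le_finrank_of_injective (f := (ρ D.d).restrict hmaps)
      fun _ _ h => Subtype.ext (rep_injective ρ D.d (congrArg Subtype.val h))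
  have heq : D.fix ρ = P := Submodule.eq_of_le_of_finrank_le hle hfin
  -- a moved vector fixed by `p`
  obtain ⟨lam, hlam⟩ : ∃ lam : AddChar F ℂ, lam ≠ 0 := by
    obtain ⟨lam, hlam⟩ := (AddChar.exists_apply_ne_zero (α := F) (a := 1)).2 one_ne_zero
    exact ⟨lam, fun h => hlam (by simp [h])⟩
  obtain ⟨v, -, hv0, hv⟩ := D.all_wt₁ ρ rfl hne (lam, 0, 0) hlam
  have hvP : v ∈ P := hP.2 fun t => by simpa [u₁_apply, wt₁Mk] using hv (0, 0, t)
  rw [← heq, mem_fix] at hvP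
  obtain ⟨t, ht⟩ := AddChar.ne_zero_iff.1 hlam
  apply ht
  refine smul_left_injective ℂ hv0 ?_
  show lam t • v = (1 : ℂ) • v
  have := hv (t, 0, 0)
  rw [one_smul]
  conv_rhs => rw [← hvP t]
  simpa [u₁_apply, wt₁Mk] using this.symm

/-- Weights with the same slot `p` are moved to any prescribed slots `(b, p)` by one map. -/
theorem exists_reach {χ π : AddChar F ℂ} (hχ : χ ≠ 0) (hπ : π ≠ 0) (β₀ β : AddChar K ℂ) :
    ∃ Φ : F × K × K × F → F × K × K × F, Function.Surjective Φ ∧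
      ∀ (ψ : F × K × K × F → ℂ) (h : D.Wt ρ ψ), piOf h = χ → betOf h = β₀ →
        ∃ h' : D.Wt ρ (ψ ∘ Φ), piOf h' = π ∧ betOf h' = β := by
  obtain ⟨r, hr⟩ := mul_pairing_char χ hχ π
  have hr0 : r ≠ 0 := fun h => hπ (AddChar.ext _ _ fun c => by simp [hr c, h])
  set c : Fˣ := Units.mk0 r hr0
  set cK : K := algebraMap F K r
  have hcK : cK ≠ 0 := (map_ne_zero _).2 hr0
  let β₁ : AddChar K ℂ := β₀.compAddMonoidHom (AddMonoidHom.mulLeft cK)
  obtain ⟨x, hx⟩ := exists_pairing_char rfl D.C D.C_add D.C_add' D.C_nd π hπ (β / β₁)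
  choose ay aw ac hay using D.s_a x
  choose my my' mw mc hmy using D.s_m x
  let S : F × K × K × F → F × K × K × F := fun i =>
    (i.1, my i.1, my' i.1, mw i.1) + (0, i.2.1, ay i.2.1, aw i.2.1) +
      (0, 0, i.2.2.1, D.C x i.2.2.1) + (0, 0, 0, i.2.2.2)
  let H : F × K × K × F → F × K × K × F := fun i =>
    (r * i.1, cK * i.2.1, cK * i.2.2.1, r * i.2.2.2)
  have hH : Function.Surjective H := fun i =>
    ⟨(r⁻¹ * i.1, cK⁻¹ * i.2.1, cK⁻¹ * i.2.2.1, r⁻¹ * i.2.2.2), by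
      simp [H, mul_inv_cancel_left₀ hr0, mul_inv_cancel_left₀ hcK]⟩
  have hS : Function.Surjective S := by
    refine Finite.injective_iff_surjective.1 ?_
    intro i j h
    obtain ⟨t, a, y, w⟩ := i
    obtain ⟨t', a', y', w'⟩ := j
    simp only [S, Prod.mk_add_mk, Prod.mk.injEq, add_zero] at h
    obtain ⟨rfl, h2, h3, h4⟩ := h
    obtain rfl := add_left_cancel h2
    obtain rfl := add_left_cancel h3
    obtain rfl := add_left_cancel h4
    rfl
  refine ⟨H ∘ S, hH.comp hS, fun ψ h hp hb => ?_⟩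
  have h1 : D.Wt ρ (ψ ∘ H) := by
    refine h.conj (D.hs c) (fun v hv => D.stable_of_normal ρ (fun t => ?_) v hv) H fun i v _ => ?_
    · exact D.hs_zi c t
    · congr 2
      simp only [u, H]
      rw [show D.hs c * (D.m i.1 * D.a i.2.1 * D.b i.2.2.1 * D.p i.2.2.2) * (D.hs c)⁻¹ =
        (D.hs c * D.m i.1 * (D.hs c)⁻¹) * (D.hs c * D.a i.2.1 * (D.hs c)⁻¹) *
          (D.hs c * D.b i.2.2.1 * (D.hs c)⁻¹) * (D.hs c * D.p i.2.2.2 * (D.hs c)⁻¹) by group,
        D.hs_m, D.hs_a, D.hs_b, D.hs_p, Units.val_mk0]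
  have h2 : D.Wt ρ ((ψ ∘ H) ∘ S) :=
    D.wt_conj ρ h1 (D.s x) (fun t => ⟨t, by rw [(D.s_z x t).eq, mul_inv_cancel_right]⟩)
      (fun t => (t, my t, my' t, mw t)) (fun a => (0, a, ay a, aw a))
      (fun y => (0, 0, y, D.C x y)) (fun w => (0, 0, 0, w))
      (fun t => ⟨mc t, hmy t⟩) (fun a => ⟨ac a, by simpa [u] using hay a⟩)
      (fun y => ⟨0, by simpa [u] using D.s_b x y⟩)
      (fun w => ⟨0, by simp [u, (D.s_p x w).eq]⟩)
  have key0 : (ψ ∘ H) (S 0) = 1 := D.wt_zero ρ h2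
  have hsplit : ∀ y w, ((ψ ∘ H) ∘ S) (0, 0, y, w) = (ψ ∘ H) (0, 0, y, D.C x y + w) := by
    intro y w
    have e : S (0, 0, y, w) = S 0 + (0, 0, y, D.C x y + w) := by
      have hC : D.C x 0 = 0 := by simpa using D.C_add' x 0 0
      simp [S, hC]
      abel_nf
    show (ψ ∘ H) (S (0, 0, y, w)) = _
    rw [e, D.wt_add ρ h1, key0, one_mul]
  refine ⟨h2, AddChar.ext _ _ fun w => ?_, AddChar.ext _ _ fun y => ?_⟩
  · rw [piOf_apply, show ψ ∘ H ∘ S = (ψ ∘ H) ∘ S from rfl, hsplit]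
    have hC : D.C x 0 = 0 := by simpa using D.C_add' x 0 0
    simp [H, hC, hr, ← hp, piOf_apply]
  · rw [betOf_apply, show ψ ∘ H ∘ S = (ψ ∘ H) ∘ S from rfl, hsplit, add_zero]
    show ψ (H (0, 0, y, D.C x y)) = β y
    have e : H (0, 0, y, D.C x y) = (0, 0, cK * y, 0) + (0, 0, 0, r * D.C x y) := by simp [H]
    rw [e, D.wt_add ρ h, ← betOf_apply h, ← piOf_apply h, hb, hp, ← hr, ← hx,
      AddChar.div_apply']
    show β₁ y * (β y / β₁ y) = β y
    field_simp [(β₁.val_isUnit y).ne_zero]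

theorem wt_scale (h : D.Wt ρ ψ) (c : Fˣ) : D.Wt ρ fun i =>
    ψ ((c : F) * i.1, algebraMap F K c * i.2.1, algebraMap F K c * i.2.2.1, (c : F) * i.2.2.2) := by
  refine h.conj (D.hs c) (fun v hv => D.stable_of_normal ρ (fun t => D.hs_zi c t) v hv)
    (fun i => ((c : F) * i.1, algebraMap F K c * i.2.1, algebraMap F K c * i.2.2.1,
      (c : F) * i.2.2.2)) fun i v _ => ?_
  congr 2
  simp only [u]
  rw [show D.hs c * (D.m i.1 * D.a i.2.1 * D.b i.2.2.1 * D.p i.2.2.2) * (D.hs c)⁻¹ =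
    (D.hs c * D.m i.1 * (D.hs c)⁻¹) * (D.hs c * D.a i.2.1 * (D.hs c)⁻¹) *
      (D.hs c * D.b i.2.2.1 * (D.hs c)⁻¹) * (D.hs c * D.p i.2.2.2 * (D.hs c)⁻¹) by group,
    D.hs_m, D.hs_a, D.hs_b, D.hs_p]

/-- Either a non-trivial weight kills the slot `p`, or two weights share the slots `b`, `p`. -/
theorem dichotomy (hne : ∃ t, ρ (D.z t) ≠ 1) :
    (∃ (ψ : F × K × K × F → ℂ) (h : D.Wt ρ ψ), piOf h = 0 ∧ ∃ i, ψ i ≠ 1) ∨
    (∃ (ψ ψ' : F × K × K × F → ℂ) (h : D.Wt ρ ψ) (h' : D.Wt ρ ψ'),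
      piOf h ≠ 0 ∧ piOf h' = piOf h ∧ betOf h' = betOf h ∧ ψ ≠ ψ') := by
  by_contra hcon
  obtain ⟨hA, hB⟩ := not_or.1 hcon
  obtain ⟨ψ₀, h₀, hπ₀⟩ := exists_wt_slot_p hne
  obtain ⟨Φ₀, -, hΦ₀⟩ := exists_reach (D := D) (ρ := ρ) hπ₀ hπ₀ (betOf h₀) 0
  obtain ⟨h, hp, hb⟩ := hΦ₀ ψ₀ h₀ rfl rfl
  set ψ := ψ₀ ∘ Φ₀
  set π := piOf h₀
  have hb' : ∀ y, ψ (0, 0, y, 0) = 1 := fun y => by rw [← betOf_apply h, hb]; rfl
  have hp' : ∀ w, ψ (0, 0, 0, w) = π w := fun w => by rw [← piOf_apply h, hp]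
  -- a torus element with non-trivial action on the slot `a`
  choose mt hmt using D.ht_m
  choose bt hbt using D.ht_b
  have hT : D.Wt ρ fun i => ψ ((mt i.1, 0, 0, 0) + (0, D.w * i.2.1, 0, 0) +
      (0, 0, bt i.2.2.1, 0) + (0, 0, 0, i.2.2.2)) :=
    D.wt_conj ρ h D.ht (fun t => D.ht_zi t) (fun t => (mt t, 0, 0, 0))
      (fun a => (0, D.w * a, 0, 0)) (fun y => (0, 0, bt y, 0)) (fun w => (0, 0, 0, w))
      (fun t => ⟨0, by simp [u, hmt]⟩) (fun a => ⟨0, by simp [u, D.ht_a]⟩)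
      (fun y => ⟨0, by simp [u, hbt]⟩) (fun w => ⟨0, by simp [u, D.ht_p]⟩)
  have hT0 : ψ (mt 0, 0, 0, 0) * ψ (0, 0, bt 0, 0) = 1 := by
    have := D.wt_zero ρ hT
    simp only [Prod.fst_zero, Prod.snd_zero, mul_zero] at this
    rw [D.wt_add ρ h, D.wt_add ρ h, D.wt_add ρ h] at this
    simpa [show ((0 : F), (0 : K), (0 : K), (0 : F)) = 0 from rfl, D.wt_zero ρ h] using this
  have hmt0 : ψ (mt 0, 0, 0, 0) = 1 := by simpa [hb'] using hT0
  have heqT : ψ = fun i => ψ ((mt i.1, 0, 0, 0) + (0, D.w * i.2.1, 0, 0) +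
      (0, 0, bt i.2.2.1, 0) + (0, 0, 0, i.2.2.2)) := by
    by_contra hne'
    refine hB ⟨ψ, _, h, hT, by rwa [hp], ?_, ?_, hne'⟩
    · rw [hp]
      refine AddChar.ext _ _ fun w => ?_
      rw [piOf_apply, D.wt_add ρ h, D.wt_add ρ h, D.wt_add ρ h]
      simp [hb', hmt0, hp', show ((0 : F), (0 : K), (0 : K), (0 : F)) = 0 from rfl, D.wt_zero ρ h]
    · rw [hb]
      refine AddChar.ext _ _ fun y => ?_
      rw [betOf_apply, D.wt_add ρ h, D.wt_add ρ h, D.wt_add ρ h]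
      simp [hb', hmt0, show ((0 : F), (0 : K), (0 : K), (0 : F)) = 0 from rfl, D.wt_zero ρ h]
  have ha : ∀ x, ψ (0, x, 0, 0) = 1 := by
    intro x
    have hw1 : D.w - 1 ≠ 0 := sub_ne_zero.2 D.w_ne
    set y := x / (D.w - 1)
    have e1 := congrFun heqT (0, y, 0, 0)
    rw [D.wt_add ρ h, D.wt_add ρ h, D.wt_add ρ h] at e1
    simp only [hmt0, hb', show ((0 : F), (0 : K), (0 : K), (0 : F)) = 0 from rfl, D.wt_zero ρ h,
      one_mul, mul_one] at e1
    have e2 : ψ (0, x, 0, 0) * ψ (0, y, 0, 0) = ψ (0, D.w * y, 0, 0) := by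
      rw [← D.wt_add ρ h]
      congr 1
      simp [y]
      field_simp
      ring
    rw [← e1] at e2
    exact (mul_eq_right₀ ((wtChar h).val_isUnit (0, y, 0, 0)).ne_zero).1 e2
  -- a unipotent element making the slot `m` trivial
  let μ : AddChar F ℂ := (wtChar h).compAddMonoidHom (AddMonoidHom.inl F (K × K × F))
  obtain ⟨r, hr⟩ := mul_pairing_char π hπ₀ μ⁻¹
  obtain ⟨x, hx⟩ := D.cubic r
  choose my my' mc hmy using hx
  choose ay aw ac hay using D.s_a x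
  have hS : D.Wt ρ fun i => ψ ((i.1, my i.1, my' i.1, r * i.1) + (0, i.2.1, ay i.2.1, aw i.2.1) +
      (0, 0, i.2.2.1, D.C x i.2.2.1) + (0, 0, 0, i.2.2.2)) :=
    D.wt_conj ρ h (D.s x) (fun t => ⟨t, by rw [(D.s_z x t).eq, mul_inv_cancel_right]⟩)
      (fun t => (t, my t, my' t, r * t)) (fun a => (0, a, ay a, aw a))
      (fun y => (0, 0, y, D.C x y)) (fun w => (0, 0, 0, w))
      (fun t => ⟨mc t, hmy t⟩) (fun a => ⟨ac a, by simpa [u] using hay a⟩)
      (fun y => ⟨0, by simpa [u] using D.s_b x y⟩)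
      (fun w => ⟨0, by simp [u, (D.s_p x w).eq]⟩)
  set ψ₁ := fun i : F × K × K × F => ψ ((i.1, my i.1, my' i.1, r * i.1) +
    (0, i.2.1, ay i.2.1, aw i.2.1) + (0, 0, i.2.2.1, D.C x i.2.2.1) + (0, 0, 0, i.2.2.2))
  have hC : D.C x 0 = 0 := by simpa using D.C_add' x 0 0
  have haz : ∀ a, ψ (0, a, ay a, aw a) = ψ (0, 0, 0, aw a) := fun a => by
    rw [D.wt_split ρ h]
    simp [ha, hb', show ((0 : F), (0 : K), (0 : K), (0 : F)) = 0 from rfl, D.wt_zero ρ h]
  have h00 : ψ (0, 0, 0, aw 0) = 1 := by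
    have := D.wt_zero ρ hS
    simp only [ψ₁, Prod.fst_zero, Prod.snd_zero, mul_zero] at this
    rw [D.wt_add ρ h, D.wt_add ρ h, D.wt_add ρ h, haz, D.wt_split ρ h 0 (my 0)] at this
    simpa [hC, ha, hb', show ((0 : F), (0 : K), (0 : K), (0 : F)) = 0 from rfl, D.wt_zero ρ h]
      using this
  have hμ₁ : ∀ t, ψ₁ (t, 0, 0, 0) = 1 := by
    intro t
    simp only [ψ₁]
    rw [D.wt_add ρ h, D.wt_add ρ h, D.wt_add ρ h, haz, h00, hC, D.wt_split ρ h t, hp', ← hr,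
      AddChar.inv_apply']
    simp only [ha, hb', show ((0 : F), (0 : K), (0 : K), (0 : F)) = 0 from rfl, D.wt_zero ρ h,
      mul_one]
    exact mul_inv_cancel₀ (μ.val_isUnit t).ne_zero
  have hπ₁ : ∀ w, ψ₁ (0, 0, 0, w) = π w := by
    intro w
    simp only [ψ₁]
    rw [D.wt_add ρ h, D.wt_add ρ h, D.wt_add ρ h, haz, h00, hC, D.wt_split ρ h 0 (my 0), hp', hp']
    simp [ha, hb', hp']
  -- the reflection swaps the slots `m` and `p`
  choose na hna using D.n_a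
  choose nb hnb using D.n_b
  choose np hnp using D.n_p
  have hN : D.Wt ρ fun i => ψ₁ ((0, 0, 0, D.nm i.1) + (0, 0, na i.2.1, 0) +
      (0, nb i.2.2.1, 0, 0) + (np i.2.2.2, 0, 0, 0)) :=
    D.wt_conj ρ hS D.n D.n_z' (fun t => (0, 0, 0, D.nm t)) (fun a => (0, 0, na a, 0))
      (fun y => (0, nb y, 0, 0)) (fun w => (np w, 0, 0, 0))
      (fun t => ⟨0, by simp [u, D.n_m]⟩) (fun a => ⟨0, by simp [u, hna]⟩)
      (fun y => ⟨0, by simp [u, hnb]⟩) (fun w => ⟨0, by simp [u, hnp]⟩)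
  set ψ₂ := fun i : F × K × K × F => ψ₁ ((0, 0, 0, D.nm i.1) + (0, 0, na i.2.1, 0) +
    (0, nb i.2.2.1, 0, 0) + (np i.2.2.2, 0, 0, 0))
  set c₀ := ψ₁ (0, 0, na 0, 0) * ψ₁ (0, nb 0, 0, 0)
  have hval : ∀ t w, ψ₂ (t, 0, 0, w) = π (D.nm t) * c₀ := by
    intro t w
    simp only [ψ₂, c₀]
    rw [D.wt_add ρ hS, D.wt_add ρ hS, D.wt_add ρ hS, hπ₁, hμ₁, mul_one, mul_assoc]
  have hc₀ : π (D.nm 0) * c₀ = 1 := (hval 0 0).symm.trans (D.wt_zero ρ hN)
  refine hA ⟨ψ₂, hN, AddChar.ext _ _ fun w => ?_, ?_⟩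
  · rw [piOf_apply, hval, hc₀]; rfl
  · obtain ⟨s, hs⟩ := AddChar.ne_zero_iff.1 hπ₀
    obtain ⟨t, ht⟩ := D.nm_surj (s + D.nm 0)
    refine ⟨(t, 0, 0, 0), ?_⟩
    rw [hval, ht, AddChar.map_add_eq_mul, mul_assoc, hc₀, mul_one]
    exact hs

/-- The fixed space of the centre. -/
theorem fixed_card_le (hne : ∃ t, ρ (D.z t) ≠ 1) (hq : Fintype.card F ≤ Fintype.card K) :
    (Fintype.card F - 1) * Fintype.card K + (Fintype.card F - 1) ≤ finrank ℂ (D.fix ρ) := by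
  classical
  let L : Finset (AddChar F ℂ × AddChar K ℂ) := (Finset.univ.erase 0) ×ˢ Finset.univ
  have hL : L.card = (Fintype.card F - 1) * Fintype.card K := by
    rw [Finset.card_product, Finset.card_erase_of_mem (Finset.mem_univ _), Finset.card_univ,
      Finset.card_univ, AddChar.card_eq, AddChar.card_eq]
  rcases dichotomy (D := D) (ρ := ρ) hne with
    ⟨ψ, h, hp, i₀, hi₀⟩ | ⟨ψ, ψ', h, h', hπ, hp', hb', hne'⟩
  · obtain ⟨ψ₀, h₀, hπ₀⟩ := exists_wt_slot_p hne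
    have hreach : ∀ l : L, ∃ (χ : F × K × K × F → ℂ) (hχ : D.Wt ρ χ),
        piOf hχ = l.1.1 ∧ betOf hχ = l.1.2 := by
      intro l
      obtain ⟨Φ, -, hΦ⟩ := exists_reach (D := D) (ρ := ρ) hπ₀
        (Finset.ne_of_mem_erase (Finset.mem_product.1 l.2).1) (betOf h₀) l.1.2
      exact ⟨_, hΦ ψ₀ h₀ rfl rfl⟩
    choose χ hχ hχp hχb using hreach
    let M : Fˣ → F × K × K × F → ℂ := fun c i =>
      ψ ((c : F) * i.1, algebraMap F K c * i.2.1, algebraMap F K c * i.2.2.1, (c : F) * i.2.2.2)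
    have hMp : ∀ c w, M c (0, 0, 0, w) = 1 := fun c w => by
      simp only [M, mul_zero]
      rw [← piOf_apply h, hp]; rfl
    have hMinj : Function.Injective M := by
      intro c c' hcc
      by_contra hne''
      have hd : (c : F) - c' ≠ 0 := sub_ne_zero.2 fun e => hne'' (Units.ext e)
      set d := (c : F) - c'
      set dK := algebraMap F K d
      have hdK : dK ≠ 0 := (map_ne_zero _).2 hd
      have e := congrFun hcc (d⁻¹ * i₀.1, dK⁻¹ * i₀.2.1, dK⁻¹ * i₀.2.2.1, d⁻¹ * i₀.2.2.2)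
      simp only [M] at e
      have hsum : ((c : F) * (d⁻¹ * i₀.1), algebraMap F K c * (dK⁻¹ * i₀.2.1),
            algebraMap F K c * (dK⁻¹ * i₀.2.2.1), (c : F) * (d⁻¹ * i₀.2.2.2)) =
          i₀ + ((c' : F) * (d⁻¹ * i₀.1), algebraMap F K c' * (dK⁻¹ * i₀.2.1),
            algebraMap F K c' * (dK⁻¹ * i₀.2.2.1), (c' : F) * (d⁻¹ * i₀.2.2.2)) := by
        have hc : (c : F) = d + c' := (sub_add_cancel _ _).symm
        rw [hc, map_add]
        ext <;> simp [add_mul, mul_inv_cancel_left₀ hd, mul_inv_cancel_left₀ hdK, dK]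
      rw [hsum, D.wt_add ρ h] at e
      exact hi₀ ((mul_eq_right₀ ((wtChar h).val_isUnit _).ne_zero).1 e)
    have hχinj : Function.Injective χ := by
      intro l l' e
      refine Subtype.ext (Prod.ext ?_ ?_)
      · rw [← hχp l, ← hχp l']
        exact AddChar.ext _ _ fun w => congrFun e (0, 0, 0, w)
      · rw [← hχb l, ← hχb l']
        exact AddChar.ext _ _ fun y => congrFun e (0, 0, y, 0)
    have hdisj : Disjoint (Finset.univ.image χ) (Finset.univ.image M) := by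
      rw [Finset.disjoint_left]
      rintro f hf hf'
      obtain ⟨l, -, rfl⟩ := Finset.mem_image.1 hf
      obtain ⟨c, -, e⟩ := Finset.mem_image.1 hf'
      refine Finset.ne_of_mem_erase (Finset.mem_product.1 l.2).1 ?_
      rw [← hχp l]
      exact AddChar.ext _ _ fun w => (congrFun e (0, 0, 0, w)).symm.trans (hMp c w)
    have hcard := card_wt_le ρ D.u (D.fix ρ) (Finset.univ.image χ ∪ Finset.univ.image M) fun f hf => by
      rcases Finset.mem_union.1 hf with hf | hf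
      · obtain ⟨l, -, rfl⟩ := Finset.mem_image.1 hf; exact hχ l
      · obtain ⟨c, -, rfl⟩ := Finset.mem_image.1 hf; exact wt_scale h c
    rwa [Finset.card_union_of_disjoint hdisj, Finset.card_image_of_injective _ hχinj,
      Finset.card_image_of_injective _ hMinj, Finset.card_univ, Finset.card_univ,
      Fintype.card_coe, hL, Fintype.card_units] at hcard
  · have hreach : ∀ l : L, ∃ Φ : F × K × K × F → F × K × K × F, Function.Surjective Φ ∧
        ∀ (χ : F × K × K × F → ℂ) (hχ : D.Wt ρ χ), piOf hχ = piOf h → betOf hχ = betOf h →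
          ∃ h'' : D.Wt ρ (χ ∘ Φ), piOf h'' = l.1.1 ∧ betOf h'' = l.1.2 := fun l =>
      exists_reach hπ (Finset.ne_of_mem_erase (Finset.mem_product.1 l.2).1) (betOf h) l.1.2
    choose Φ hΦs hΦ using hreach
    let T : L × Bool → F × K × K × F → ℂ := fun lb => (bif lb.2 then ψ else ψ') ∘ Φ lb.1
    have hT : ∀ lb, ∃ hh : D.Wt ρ (T lb), piOf hh = lb.1.1.1 ∧ betOf hh = lb.1.1.2 := by
      rintro ⟨l, _ | _⟩
      · exact hΦ l ψ' h' hp' hb'
      · exact hΦ l ψ h rfl rfl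
    have hTinj : Function.Injective T := by
      rintro ⟨l, b⟩ ⟨l', b'⟩ e
      obtain ⟨_, ep, eb⟩ := hT (l, b)
      obtain ⟨_, ep', eb'⟩ := hT (l', b')
      obtain rfl : l = l' := Subtype.ext (Prod.ext
        (ep.symm.trans ((AddChar.ext _ _ fun w => congrFun e (0, 0, 0, w)).trans ep'))
        (eb.symm.trans ((AddChar.ext _ _ fun y => congrFun e (0, 0, y, 0)).trans eb')))
      refine Prod.ext rfl ?_
      have e' := (hΦs l).injective_comp_right e
      cases b <;> cases b' <;> first | rfl | exact absurd e' hne' | exact absurd e'.symm hne'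
    have hcard := card_wt_le ρ D.u (D.fix ρ) (Finset.univ.image T) fun f hf => by
      obtain ⟨lb, -, rfl⟩ := Finset.mem_image.1 hf; exact (hT lb).1
    rw [Finset.card_image_of_injective _ hTinj, Finset.card_univ, Fintype.card_prod,
      Fintype.card_coe, hL, Fintype.card_bool] at hcard
    have : (Fintype.card F - 1) * 1 ≤ (Fintype.card F - 1) * Fintype.card K :=
      Nat.mul_le_mul_left _ Fintype.card_pos
    omega

/-- The degree bound. -/
theorem degree_le (D : TriData F K G) (ρ : Representation ℂ G V)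
    (hne : ∃ t, ρ (D.z t) ≠ 1) (hq : Fintype.card F ≤ Fintype.card K) :
    (Fintype.card F - 1) * (Fintype.card K * Fintype.card F) +
      ((Fintype.card F - 1) * Fintype.card K + (Fintype.card F - 1)) ≤ finrank ℂ V := by
  have h := Submodule.finrank_sup_add_finrank_inf_eq (LinearMap.ker (D.zSum ρ)) (D.fix ρ)
  rw [inf_comm, fix_inf_ker, finrank_bot, add_zero] at h
  calc _ ≤ finrank ℂ (LinearMap.ker (D.zSum ρ)) + finrank ℂ (D.fix ρ) :=
        Nat.add_le_add (D.moved_card_le ρ hne) (fixed_card_le hne hq)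
    _ = _ := h.symm
    _ ≤ _ := Submodule.finrank_le _

end CfsgLib.MinDeg.TriData
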