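import Cfsg.Agent.Lib.MinDeg.TriRel
import Cfsg.Agent.Lib.MinDeg.TriFix
import Cfsg.Agent.Lib.Twisted.D4Torus
import Mathlib.Algebra.Polynomial.Roots

/-!
The radical data of `³D₄(q)`.
-/

set_option autoImplicit false
set_option linter.unusedSectionVars false

namespace CfsgLib.Twisted.D4

open Cfsg.Lie CfsgLib.Chev CfsgLib.Chevalley CfsgLib.MinDeg

variable {K : Type*} [Field K] [Fintype K] {q : ℕ}

theorem orbit_facts :
    sym.olen 14 = 1 ∧ sym.olen 22 = 1 ∧ sym.olen 23 = 1 ∧
    sym.olen 15 = 3 ∧ sym.olen 17 = 3 ∧ sym.olen 18 = 3 ∧ sym.olen 19 = 3 ∧ sym.olen 21 = 3 ∧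
    (List.range 3).map (fun k => (sym.imgIter k 15, sym.sgnIter k 15)) = [(15, 1), (19, -1), (16, 1)] ∧
    (List.range 3).map (fun k => (sym.imgIter k 17, sym.sgnIter k 17)) = [(17, 1), (20, -1), (21, -1)] ∧
    (List.range 3).map (fun k => (sym.imgIter k 18, sym.sgnIter k 18)) = [(18, 1), (13, 1), (12, 1)] ∧
    sym.img 19 = 16 ∧ sym.img 16 = 15 ∧ sym.img 21 = 17 := by decide +kernel

theorem reflect_facts :
    sym.wO 3 14 = 22 ∧ sym.wO 3 22 = 14 ∧ sym.wO 3 15 = 21 ∧ sym.wO 3 17 = 19 ∧ sym.wO 3 23 = 23 ∧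
    sym.wO 1 23 = 22 := by decide +kernel

theorem cartan_facts :
    (List.range 4).map (fun i => chevD4.cartan i 14) = [-1, 2, -1, -1] ∧
    (List.range 4).map (fun i => chevD4.cartan i 15) = [-1, 1, -1, 1] ∧
    (List.range 4).map (fun i => chevD4.cartan i 17) = [-1, 0, 1, 1] ∧
    (List.range 4).map (fun i => chevD4.cartan i 22) = [1, -1, 1, 1] ∧
    (List.range 4).map (fun i => chevD4.cartan i 23) = [0, 1, 0, 0] := by decide +kernel

variable (φ : K ≃+* K)

theorem orbX_three {r r₁ r₂ : ℕ} {s₁ s₂ : ℤ} (hr : r < chevD4.nroots) (hl : sym.olen r = 3)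
    (h : (List.range 3).map (fun k => (sym.imgIter k r, sym.sgnIter k r)) =
      [(r, 1), (r₁, s₁), (r₂, s₂)]) (t : K) :
    orbX sym_test φ r t = X r t * X r₁ ((s₁ : K) * φ t) * X r₂ ((s₂ : K) * φ (φ t)) := by
  rw [orbX_eq_prod CfsgLib.Chev.D4.checked sym_test φ hr, hl]
  simp only [List.range_succ, List.range_zero, List.nil_append, List.map_append, List.map_cons,
    List.map_nil, List.cons_append, List.cons.injEq, Prod.mk.injEq, and_true] at h ⊢
  obtain ⟨⟨h1, h2⟩, ⟨h3, h4⟩, h5, h6⟩ := h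
  rw [h1, h2, h3, h4, h5, h6]
  simp [mul_assoc]

theorem orbX_A (t : K) : orbX sym_test φ 15 t = gA φ t := by
  rw [orbX_three φ (by decide +kernel) orbit_facts.2.2.2.1 orbit_facts.2.2.2.2.2.2.2.2.1, gA]
  simp

theorem orbX_B (t : K) : orbX sym_test φ 17 t = gB φ t := by
  rw [orbX_three φ (by decide +kernel) orbit_facts.2.2.2.2.1 orbit_facts.2.2.2.2.2.2.2.2.2.1, gB]
  simp

theorem orbX_S (t : K) : orbX sym_test φ 18 t = gS φ t := by
  rw [orbX_three φ (by decide +kernel) orbit_facts.2.2.2.2.2.1 orbit_facts.2.2.2.2.2.2.2.2.2.2.1, gS]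
  simp

theorem orbX_single {r : ℕ} (h : sym.olen r = 1) (t : K) : orbX sym_test φ r t = X r t := by
  rw [orbX, h, orbProd_one]

/-- The element of the diagonal part with parameters `u` at the central node and `a` on the orbit
of the others. -/
noncomputable def tPar (u a : Kˣ) : Fin chevD4.rank → Kˣ := fun i =>
  if i.1 = 1 then u else if i.1 = 3 then a
  else if i.1 = 0 then Units.map φ.toRingHom.toMonoidHom a
  else Units.map φ.toRingHom.toMonoidHom (Units.map φ.toRingHom.toMonoidHom a)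

theorem tPar_mem {u a : Kˣ} (hu : φ (u : K) = u) (h3 : ∀ t, φ (φ (φ t)) = t) :
    tPar φ u a ∈ fixPar sym_test φ := by
  have hpre : ∀ j : Fin chevD4.rank, (preNode sym_test j).1 = [3, 1, 0, 2].getD j.1 0 := by
    decide +kernel
  rw [mem_fixPar]
  funext j
  obtain ⟨j, hj⟩ := j
  apply Units.ext
  change φ ((tPar φ u a (preNode sym_test ⟨j, hj⟩) : Kˣ) : K) = _
  have hj4 : j < 4 := hj
  rw [tPar, hpre]
  interval_cases j <;> simp [tPar, hu, h3]

theorem chi_tPar (u a : Kˣ) {r : ℕ} (hr : r < chevD4.nroots) {e₀ e₁ e₂ e₃ : ℤ}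
    (he : (List.range 4).map (fun i => chevD4.cartan i r) = [e₀, e₁, e₂, e₃]) :
    (chi (hPar chevD4 K (tPar φ u a)) (rv chevD4 tb r) : K) =
      φ a ^ e₀ * (u : K) ^ e₁ * φ (φ a) ^ e₂ * (a : K) ^ e₃ := by
  have hc := CfsgLib.Chev.D4.checked
  rw [hPar_eq_corChar hc]
  have hprod : ∀ s : Finset (Fin chevD4.rank),
      chi (∏ i ∈ s, corChar chevD4 tb (chevD4.simple i.val) (tPar φ u a i)) (rv chevD4 tb r) =
        ∏ i ∈ s, tPar φ u a i ^ chevD4.cartan i.1 r := by
    intro s
    induction s using Finset.induction with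
    | empty => simp [chi_one]
    | insert i s hi ih =>
      rw [Finset.prod_insert hi, Finset.prod_insert hi, chi_mul, ih, chi_corChar_simple hc i hr]
  rw [hprod]
  simp only [List.range_succ, List.range_zero, List.nil_append, List.map_append, List.map_cons,
    List.map_nil, List.cons_append, List.cons.injEq, and_true] at he
  obtain ⟨h0, h1, h2, h3⟩ := he
  change ((∏ i : Fin 4, tPar φ u a i ^ chevD4.cartan i.1 r : Kˣ) : K) = _
  rw [Fin.prod_univ_four]
  simp [tPar, h0, h1, h2, h3]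

/-- The fixed field. -/
abbrev Fix : Subfield K := φ.toRingHom.eqLocusField (RingHom.id K)

theorem mem_Fix {t : K} : t ∈ Fix φ ↔ φ t = t := Iff.rfl

theorem Fix.eq (t : Fix φ) : φ (t : K) = t := t.2

theorem card_Fix (hq : IsPrimePow q) (hK : Fintype.card K = q ^ 3) (hφ : ∀ x, φ x = x ^ q) :
    Nat.card (Fix φ) = q := by
  rw [← card_fixed hq three_ne_zero hK]
  exact Nat.card_congr (Equiv.subtypeEquivRight fun x => by rw [mem_Fix, hφ])

theorem frob_three (hK : Fintype.card K = q ^ 3) (hφ : ∀ x, φ x = x ^ q) (t : K) :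
    φ (φ (φ t)) = t := iterate_frob_card hφ hK t

theorem exists_trace_one (hq : IsPrimePow q) (hK : Fintype.card K = q ^ 3)
    (hφ : ∀ x, φ x = x ^ q) : ∃ w : K, w + φ w + φ (φ w) = 1 := by
  classical
  have h3 := frob_three φ hK hφ
  obtain ⟨w, hw⟩ : ∃ w : K, w + φ w + φ (φ w) ≠ 0 := by
    by_contra hcon
    push Not at hcon
    let P : Polynomial K := Polynomial.X + Polynomial.X ^ q + Polynomial.X ^ (q * q)
    have hq2 := hq.two_le
    have hlt : q < q * q := by nlinarith
    have hP0 : P.coeff (q * q) = 1 := by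
      simp [P, Polynomial.coeff_X, Polynomial.coeff_X_pow, show (1 : ℕ) ≠ q * q by omega,
        show q * q ≠ q by omega]
    have hne : P ≠ 0 := fun h => by simp [h] at hP0
    have hdeg : P.natDegree ≤ q * q := by
      refine le_trans (Polynomial.natDegree_add_le _ _) (max_le ?_ (by simp))
      exact le_trans (Polynomial.natDegree_add_le _ _) (max_le (by simp; omega) (by simp; omega))
    have hle : Fintype.card K ≤ P.natDegree := by
      rw [← Finset.card_univ]
      refine Polynomial.card_le_degree_of_subset_roots ?_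
      intro x _
      rw [Polynomial.mem_roots hne, Polynomial.IsRoot.def]
      have := hcon x
      rw [hφ, hφ, ← pow_mul] at this
      simpa [P] using this
    rw [hK] at hle
    have : q * q < q ^ 3 := by rw [pow_succ q 2, sq]; exact lt_mul_of_one_lt_right (by positivity) hq2
    omega
  set T := w + φ w + φ (φ w) with hT
  have hTf : φ T = T := by rw [hT, map_add, map_add, h3]; ring
  exact ⟨w / T, by simp only [map_div₀, hTf]; rw [← add_div, ← add_div, ← hT, div_self hw]⟩

theorem orderOf_genK {k : Kˣ} (hk : ∀ u : Kˣ, u ∈ Subgroup.zpowers k) :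
    orderOf k = Fintype.card K - 1 := by
  classical
  rw [orderOf_eq_card_of_forall_mem_zpowers hk, Nat.card_eq_fintype_card, Fintype.card_units]

theorem exists_norm (hq : IsPrimePow q) (hK : Fintype.card K = q ^ 3)
    (hφ : ∀ x, φ x = x ^ q) (r : K) (hr : φ r = r) : ∃ x : K, x * φ x * φ (φ x) = r := by
  classical
  by_cases h0 : r = 0
  · exact ⟨0, by simp [h0]⟩
  obtain ⟨g, hg⟩ := IsCyclic.exists_generator (α := Kˣ)
  obtain ⟨k, hk⟩ := Subgroup.mem_zpowers_iff.1 (hg (Units.mk0 r h0))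
  have hq1 : 1 ≤ q := hq.one_lt.le
  have h1 : (Units.mk0 r h0) ^ (q - 1) = 1 := Units.ext (by
    rw [Units.val_pow_eq_pow_val, Units.val_mk0, Units.val_one]
    refine mul_right_cancel₀ h0 ?_
    rw [← pow_succ, Nat.sub_add_cancel hq1, ← hφ, hr, one_mul])
  have hN : ((Fintype.card K - 1 : ℕ) : ℤ) = ((q : ℤ) * q + q + 1) * ((q - 1 : ℕ) : ℤ) := by
    rw [hK, Nat.cast_sub (Nat.one_le_pow _ _ hq1), Nat.cast_sub hq1]
    push_cast; ring
  rw [← hk, ← zpow_natCast, ← zpow_mul, ← orderOf_dvd_iff_zpow_eq_one, orderOf_genK hg, hN] at h1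
  obtain ⟨l, hl⟩ := Int.dvd_of_mul_dvd_mul_right
    (by exact_mod_cast (show q - 1 ≠ 0 by have := hq.two_le; omega)) h1
  refine ⟨((g ^ l : Kˣ) : K), ?_⟩
  have e : Units.mk0 r h0 = (g ^ l) ^ (q * q + q + 1) := by
    rw [← hk, hl, ← zpow_natCast, ← zpow_mul]; push_cast; ring_nf
  have := congrArg Units.val e
  rw [Units.val_mk0, Units.val_pow_eq_pow_val] at this
  rw [this, hφ, hφ, ← pow_mul]
  ring

theorem exists_norm_one (hq : IsPrimePow q) (hK : Fintype.card K = q ^ 3)
    (hφ : ∀ x, φ x = x ^ q) : ∃ a : Kˣ, (a : K) * φ a * φ (φ a) = 1 ∧ (a : K) ^ 2 ≠ 1 := by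
  classical
  obtain ⟨g, hg⟩ := IsCyclic.exists_generator (α := Kˣ)
  have hq2 := hq.two_le
  refine ⟨g ^ (q - 1), ?_, ?_⟩
  · rw [hφ, hφ, ← pow_mul, ← pow_succ', ← pow_add, ← Units.val_pow_eq_pow_val, ← pow_mul,
      ← Units.val_one (α := K), Units.val_inj, ← orderOf_dvd_iff_pow_eq_one, orderOf_genK hg, hK]
    refine dvd_of_eq ?_
    zify [hq.one_lt.le, Nat.one_le_pow 3 q (by omega)]
    ring
  · rw [← Units.val_pow_eq_pow_val, ← Units.val_one (α := K), Ne, Units.val_inj, ← pow_mul,
      ← orderOf_dvd_iff_pow_eq_one, orderOf_genK hg, hK]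
    intro h
    have hle := Nat.le_of_dvd (by omega) h
    have : q * q * 2 ≤ q ^ 3 := by rw [pow_succ q 2, sq]; exact Nat.mul_le_mul_left _ hq2
    have : q * 2 ≤ q * q := Nat.mul_le_mul_left _ hq2
    omega

variable (hq : IsPrimePow q) (hK : Fintype.card K = q ^ 3) (hφ : ∀ x, φ x = x ^ q)

section
include hq hK hφ

/-- The group in question. -/
local notation "Γ" => twistGrp sym_test φ

theorem orbX_mem_grp {r : ℕ} (hr : r < chevD4.nroots) {t : K} (ht : sym.olen r = 3 ∨ φ t = t) :
    orbX sym_test φ r t ∈ twistGrp sym_test φ := by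
  refine orbX_mem CfsgLib.Chev.D4.checked sym_test φ sym_nodeTest hr ?_
  rcases ht with h | h
  · rw [IsPar, h]; exact iterate_frob_card hφ hK t
  · exact Function.iterate_fixed h _

theorem X_mem_grp {r : ℕ} (hr : r < chevD4.nroots) (hl : sym.olen r = 1) (t : Fix φ) :
    X r (t : K) ∈ twistGrp sym_test φ :=
  orbX_single φ hl (t : K) ▸ orbX_mem_grp φ hq hK hφ hr (Or.inr t.2)

theorem tPar_mem_grp {u a : Kˣ} (hu : φ (u : K) = u) :
    torus chevD4 tb K (hPar chevD4 K (tPar φ u a)) ∈ twistGrp sym_test φ :=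
  torus_fixPar_mem CfsgLib.Chev.D4.checked sym_test φ orbit_ok sym_nodeTest sym_bnTest
    (tPar_mem φ hu (frob_three φ hK hφ))

theorem torus_conj_orb {u a : Kˣ} (hu : φ (u : K) = u) {r : ℕ} (hr : r < chevD4.nroots)
    {e₀ e₁ e₂ e₃ : ℤ} (he : (List.range 4).map (fun i => chevD4.cartan i r) = [e₀, e₁, e₂, e₃])
    (t : K) :
    torus chevD4 tb K (hPar chevD4 K (tPar φ u a)) * orbX sym_test φ r t *
        (torus chevD4 tb K (hPar chevD4 K (tPar φ u a)))⁻¹ =
      orbX sym_test φ r (φ a ^ e₀ * (u : K) ^ e₁ * φ (φ a) ^ e₂ * (a : K) ^ e₃ * t) := by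
  have hf := twistGrp_le_fixed CfsgLib.Chev.D4.checked sym_test φ (tPar_mem_grp φ hq hK hφ (a := a) hu)
  refine conj_orbX CfsgLib.Chev.D4.checked sym_test φ hf ?_ rfl
  rw [torus_conj_elX CfsgLib.Chev.D4.checked _ hr, chi_tPar φ u a hr he]

theorem nOrb_mem_grp {i : ℕ} (hi : i < chevD4.rank) : nOrb sym_test φ i ∈ twistGrp sym_test φ :=
  nOrb_mem CfsgLib.Chev.D4.checked sym_test φ sym_nodeTest hi

theorem nOrb_conj_grp {i s s' : ℕ} (hi : i < chevD4.rank) (hs : s < chevD4.nroots)
    (hw : sym.wO i s = s') {t : K} (ht : sym.olen s = 3 ∨ φ t = t) :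
    ∃ e : ℤ, (e = 1 ∨ e = -1) ∧
      nOrb sym_test φ i * orbX sym_test φ s t * (nOrb sym_test φ i)⁻¹ =
        orbX sym_test φ s' ((e : K) * t) := by
  have hp : IsPar sym φ s t := by
    rcases ht with h | h
    · rw [IsPar, h]; exact iterate_frob_card hφ hK t
    · exact Function.iterate_fixed h _
  obtain ⟨-, -, e, he, -, h⟩ :=
    nOrb_conj CfsgLib.Chev.D4.checked sym_test φ sym_nodeTest hi hs hp
  exact ⟨e, he, hw ▸ h⟩

end

section Data

/-- The root element with fixed parameter as an element of the group. -/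
noncomputable def singleChar (hq : IsPrimePow q) (hK : Fintype.card K = q ^ 3)
    (hφ : ∀ x, φ x = x ^ q) {r : ℕ} (hr : r < chevD4.nroots) (hl : sym.olen r = 1) :
    AddChar (Fix φ) ↥(twistGrp sym_test φ) where
  toFun t := ⟨X r (t : K), X_mem_grp φ hq hK hφ hr hl t⟩
  map_zero_eq_one' := Subtype.ext (elX_zero (T := tb) CfsgLib.Chev.D4.checked K hr)
  map_add_eq_mul' t u := Subtype.ext (by
    show X r (((t + u : Fix φ) : K)) = X r (t : K) * X r (u : K)
    rw [Subfield.coe_add]
    exact (elX_add (T := tb) CfsgLib.Chev.D4.checked K hr _ _).symm)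

/-- The orbit product at an orbit of three roots as an element of the group. -/
noncomputable def tripleChar (hq : IsPrimePow q) (hK : Fintype.card K = q ^ 3)
    (hφ : ∀ x, φ x = x ^ q) {r : ℕ} (hr : r < chevD4.nroots) (hl : sym.olen r = 3) :
    AddChar K ↥(twistGrp sym_test φ) where
  toFun t := ⟨orbX sym_test φ r t, orbX_mem_grp φ hq hK hφ hr (Or.inl hl)⟩
  map_zero_eq_one' := Subtype.ext (orbX_zero CfsgLib.Chev.D4.checked sym_test φ hr)
  map_add_eq_mul' t u := Subtype.ext (orbX_add CfsgLib.Chev.D4.checked sym_test φ hr t u).symm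

theorem commute_root {r s : ℕ} (h : r < chevD4.nroots ∧ s < chevD4.nroots ∧ s ≠ chevD4.neg r ∧
    chevD4.chainEntry r s = []) (t u : K) : Commute (X r t) (X s u) :=
  commute_elX CfsgLib.Chev.D4.checked h.1 h.2.1 h.2.2.1 h.2.2.2 t u

theorem conj_X14_X22 (t u : K) : X 14 t * X 22 u * (X 14 t)⁻¹ = X 22 u * X 23 (1 * t * u) := by
  have h := swap_term (i := 14) (j := 22) (k := 23) (e := 1) (by decide +kernel) (by decide +kernel)
    (by decide +kernel) (by decide +kernel) (by decide +kernel) (by decide +kernel) t u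
    (X 14 t)⁻¹
  rw [mul_assoc, h, mul_inv_cancel, mul_one, Int.cast_one]

theorem exists_triData (hq : IsPrimePow q) (hK : Fintype.card K = q ^ 3)
    (hφ : ∀ x, φ x = x ^ q) :
    ∃ D : TriData (Fix φ) K ↥(twistGrp sym_test φ),
      ∀ t : Fix φ, ((D.z t : ↥(twistGrp sym_test φ)) : GL chevD4.Idx K) = X 23 (t : K) := by
  classical
  have h3 := frob_three φ hK hφ
  obtain ⟨l14, l22, l23, l15, l17, l18, l19, l21, -, -, -, i19, i16, i21⟩ := orbit_facts
  obtain ⟨w14, w22, w15, w17, w23, w1⟩ := reflect_facts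
  obtain ⟨c14, c15, c17, c22, c23⟩ := cartan_facts
  obtain ⟨w₀, hw₀⟩ := exists_trace_one φ hq hK hφ
  obtain ⟨a₀, ha₀, ha₀'⟩ := exists_norm_one φ hq hK hφ
  have hc := CfsgLib.Chev.D4.checked
  have r12 : 12 < chevD4.nroots := by decide +kernel
  have r14 : 14 < chevD4.nroots := by decide +kernel
  have r15 : 15 < chevD4.nroots := by decide +kernel
  have r16 : 16 < chevD4.nroots := by decide +kernel
  have r17 : 17 < chevD4.nroots := by decide +kernel
  have r18 : 18 < chevD4.nroots := by decide +kernel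
  have r19 : 19 < chevD4.nroots := by decide +kernel
  have r21 : 21 < chevD4.nroots := by decide +kernel
  have r22 : 22 < chevD4.nroots := by decide +kernel
  have r23 : 23 < chevD4.nroots := by decide +kernel
  have n1 : 1 < chevD4.rank := by decide +kernel
  have n3 : 3 < chevD4.rank := by decide +kernel
  let zc := singleChar φ hq hK hφ r23 l23
  let mc := singleChar φ hq hK hφ r14 l14
  let pc := singleChar φ hq hK hφ r22 l22
  let ac := tripleChar φ hq hK hφ r15 l15
  let bc := tripleChar φ hq hK hφ r17 l17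
  have za : ∀ t, ((ac t : ↥(twistGrp sym_test φ)) : GL chevD4.Idx K) = gA φ t := orbX_A φ
  have zb : ∀ t, ((bc t : ↥(twistGrp sym_test φ)) : GL chevD4.Idx K) = gB φ t := orbX_B φ
  let sc : K → ↥(twistGrp sym_test φ) := fun x =>
    ⟨gS φ x, orbX_S φ x ▸ orbX_mem_grp φ hq hK hφ r18 (Or.inl l18)⟩
  let hsE : (Fix φ)ˣ → ↥(twistGrp sym_test φ) := fun c =>
    ⟨torus chevD4 tb K (hPar chevD4 K (tPar φ (Units.map (Fix φ).subtype.toMonoidHom c ^ 2)
      (Units.map (Fix φ).subtype.toMonoidHom c))), tPar_mem_grp φ hq hK hφ (by simp [Fix.eq])⟩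
  let hzE : (Fix φ)ˣ → ↥(twistGrp sym_test φ) := fun c =>
    ⟨torus chevD4 tb K (hPar chevD4 K (tPar φ (Units.map (Fix φ).subtype.toMonoidHom c) 1)),
      tPar_mem_grp φ hq hK hφ (by simp [Fix.eq])⟩
  let htE : ↥(twistGrp sym_test φ) :=
    ⟨torus chevD4 tb K (hPar chevD4 K (tPar φ 1 a₀)), tPar_mem_grp φ hq hK hφ (by simp)⟩
  let nE : ↥(twistGrp sym_test φ) := ⟨nOrb sym_test φ 3, nOrb_mem_grp φ hq hK hφ n3⟩
  let dE : ↥(twistGrp sym_test φ) := ⟨nOrb sym_test φ 1, nOrb_mem_grp φ hq hK hφ n1⟩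
  have single : ∀ {r : ℕ}, sym.olen r = 1 → ∀ t : K, orbX sym_test φ r t = X r t :=
    fun h t => orbX_single φ h t
  have sFix : ∀ (e : ℤ) (t : Fix φ), ∃ t' : Fix φ, (t' : K) = (e : K) * t :=
    fun e t => ⟨(e : Fix φ) * t, by simp⟩
  have hnm : ∀ t : Fix φ, ∃ t' : Fix φ, nE * mc t * nE⁻¹ = pc t' := by
    intro t
    obtain ⟨e, -, h⟩ := nOrb_conj_grp φ hq hK hφ n3 r14 w14 (t := (t : K)) (Or.inr t.2)
    obtain ⟨t', ht'⟩ := sFix e t
    rw [single l14, single l22, ← ht'] at h
    exact ⟨t', Subtype.ext h⟩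
  choose nm hnm using hnm
  have nm_inj : Function.Injective nm := by
    intro t t' e
    have h : nE * mc t * nE⁻¹ = nE * mc t' * nE⁻¹ := by rw [hnm, hnm, e]
    have h2 := congrArg Subtype.val (mul_left_cancel (mul_right_cancel h))
    exact Subtype.ext (elX_injective hc sym_test r14 h2)
  let Bf : K → K → Fix φ := fun x y => ⟨x * φ (φ y) + φ x * y + φ (φ x) * φ y, by
    rw [mem_Fix]; simp only [map_add, map_mul, h3]; ring⟩
  let Cf : K → K → Fix φ := fun x y => ⟨-(x * y + φ x * φ y + φ (φ x) * φ (φ y)), by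
    rw [mem_Fix]; simp only [map_neg, map_add, map_mul, h3]; ring⟩
  refine ⟨{
    z := zc, m := mc, a := ac, b := bc, p := pc
    z_m := fun t u => Subtype.ext (commute_root (by decide +kernel) (t : K) (u : K)).eq
    z_a := fun t u => Subtype.ext (by
      show X 23 (t : K) * (ac u : GL chevD4.Idx K) = (ac u : GL chevD4.Idx K) * X 23 (t : K)
      rw [za]
      exact (((commute_root (by decide +kernel) _ _).mul_right
        (commute_root (by decide +kernel) _ _)).mul_right (commute_root (by decide +kernel) _ _)).eq)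
    z_b := fun t u => Subtype.ext (by
      show X 23 (t : K) * (bc u : GL chevD4.Idx K) = (bc u : GL chevD4.Idx K) * X 23 (t : K)
      rw [zb]
      exact (((commute_root (by decide +kernel) _ _).mul_right
        (commute_root (by decide +kernel) _ _)).mul_right (commute_root (by decide +kernel) _ _)).eq)
    z_p := fun t u => Subtype.ext (commute_root (by decide +kernel) (t : K) (u : K)).eq
    m_a := fun t u => Subtype.ext (by
      show X 14 (t : K) * (ac u : GL chevD4.Idx K) = (ac u : GL chevD4.Idx K) * X 14 (t : K)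
      rw [za]
      exact (((commute_root (by decide +kernel) _ _).mul_right
        (commute_root (by decide +kernel) _ _)).mul_right (commute_root (by decide +kernel) _ _)).eq)
    m_b := fun t u => Subtype.ext (by
      show X 14 (t : K) * (bc u : GL chevD4.Idx K) = (bc u : GL chevD4.Idx K) * X 14 (t : K)
      rw [zb]
      exact (((commute_root (by decide +kernel) _ _).mul_right
        (commute_root (by decide +kernel) _ _)).mul_right (commute_root (by decide +kernel) _ _)).eq)
    a_p := fun t u => Subtype.ext (by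
      show (ac t : GL chevD4.Idx K) * X 22 (u : K) = X 22 (u : K) * (ac t : GL chevD4.Idx K)
      rw [za]
      exact (((commute_root (by decide +kernel) _ _).mul_left
        (commute_root (by decide +kernel) _ _)).mul_left (commute_root (by decide +kernel) _ _)).eq)
    b_p := fun t u => Subtype.ext (by
      show (bc t : GL chevD4.Idx K) * X 22 (u : K) = X 22 (u : K) * (bc t : GL chevD4.Idx K)
      rw [zb]
      exact (((commute_root (by decide +kernel) _ _).mul_left
        (commute_root (by decide +kernel) _ _)).mul_left (commute_root (by decide +kernel) _ _)).eq)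
    e := 1, e_ne := one_ne_zero
    m_p := fun t u => Subtype.ext (by
      show X 14 (t : K) * X 22 (u : K) * (X 14 (t : K))⁻¹ = X 22 (u : K) * X 23 ((1 * t * u : Fix φ) : K)
      rw [conj_X14_X22]; simp)
    B := Bf
    B_add := fun x x' y => Subtype.ext (by simp [Bf]; ring)
    B_add' := fun x y y' => Subtype.ext (by simp [Bf]; ring)
    B_nd := fun x hx r => ⟨φ ((r : K) * w₀ / x), Subtype.ext (by
      simp only [Bf, map_div₀, map_mul, h3, Fix.eq]
      have h1 : φ x ≠ 0 := (map_ne_zero _).2 hx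
      have h2 : φ (φ x) ≠ 0 := (map_ne_zero _).2 h1
      field_simp
      linear_combination (r : K) * hw₀)⟩
    a_b := fun x y => Subtype.ext (by
      show (ac x : GL chevD4.Idx K) * (bc y : GL chevD4.Idx K) * (ac x : GL chevD4.Idx K)⁻¹ =
        (bc y : GL chevD4.Idx K) * X 23 (Bf x y : K)
      rw [za, zb, gA_mul_gB, mul_inv_cancel_right])
    s := sc
    s_z := fun x t => Subtype.ext
      (((commute_root (by decide +kernel) _ _).mul_left (commute_root (by decide +kernel) _ _)).mul_left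
        (commute_root (by decide +kernel) (φ (φ x)) (t : K))).eq
    s_p := fun x t => Subtype.ext
      (((commute_root (by decide +kernel) _ _).mul_left (commute_root (by decide +kernel) _ _)).mul_left
        (commute_root (by decide +kernel) (φ (φ x)) (t : K))).eq
    C := Cf
    C_add := fun x x' y => Subtype.ext (by simp [Cf]; ring)
    C_add' := fun x y y' => Subtype.ext (by simp [Cf]; ring)
    C_nd := fun x hx r => ⟨-((r : K) * w₀ / x), Subtype.ext (by
      simp only [Cf, map_neg, map_div₀, map_mul, Fix.eq]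
      have h1 : φ x ≠ 0 := (map_ne_zero _).2 hx
      have h2 : φ (φ x) ≠ 0 := (map_ne_zero _).2 h1
      field_simp
      linear_combination (r : K) * hw₀)⟩
    s_b := fun x y => Subtype.ext (by
      show gS φ x * (bc y : GL chevD4.Idx K) * (gS φ x)⁻¹ =
        (bc y : GL chevD4.Idx K) * X 22 (Cf x y : K)
      rw [zb, gS_mul_gB, mul_inv_cancel_right])
    s_a := fun x y => ⟨φ (φ x) * φ (φ y) + φ x * y,
      ⟨-(x * φ x * y + x * φ (φ x) * φ (φ y) + φ x * φ (φ x) * φ y), by
        rw [mem_Fix]; simp only [map_neg, map_add, map_mul, h3]; ring⟩,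
      ⟨-(x * y * φ (φ y) + y * φ y * φ x + φ (φ x) * φ y * φ (φ y)), by
        rw [mem_Fix]; simp only [map_neg, map_add, map_mul, h3]; ring⟩, Subtype.ext (by
      show gS φ x * (ac y : GL chevD4.Idx K) * (gS φ x)⁻¹ = (ac y : GL chevD4.Idx K) *
        (bc _ : GL chevD4.Idx K) * X 22 _ * X 23 _
      rw [za, zb, gS_mul_gA φ h3, mul_inv_cancel_right])⟩
    s_m := fun x t => ⟨φ (φ x) * t, φ x * φ (φ x) * t,
      ⟨-(x * φ x * φ (φ x)) * t, by
        rw [mem_Fix]; simp only [map_neg, map_mul, h3, Fix.eq]; ring⟩,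
      ⟨-(x * φ x * φ (φ x) * (t : K) ^ 2), by
        rw [mem_Fix]; simp only [map_neg, map_pow, map_mul, h3, Fix.eq]; ring⟩, Subtype.ext (by
      show gS φ x * X 14 (t : K) * (gS φ x)⁻¹ = X 14 (t : K) * (ac _ : GL chevD4.Idx K) *
        (bc _ : GL chevD4.Idx K) * X 22 _ * X 23 _
      rw [za, zb, gS_mul_X14 φ h3 x _ t.2, mul_inv_cancel_right])⟩
    cubic := fun r => by
      obtain ⟨x, hx⟩ := exists_norm φ hq hK hφ (-(r : K)) (by rw [map_neg, Fix.eq])
      refine ⟨x, fun t => ⟨φ (φ x) * t, φ x * φ (φ x) * t,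
        ⟨-(x * φ x * φ (φ x) * (t : K) ^ 2), by
          rw [mem_Fix]; simp only [map_neg, map_pow, map_mul, h3, Fix.eq]; ring⟩, Subtype.ext ?_⟩⟩
      show gS φ x * X 14 (t : K) * (gS φ x)⁻¹ = X 14 (t : K) * (ac _ : GL chevD4.Idx K) *
        (bc _ : GL chevD4.Idx K) * X 22 ((r * t : Fix φ) : K) * X 23 _
      rw [za, zb, gS_mul_X14 φ h3 x _ t.2, mul_inv_cancel_right,
        show ((r * t : Fix φ) : K) = -(x * φ x * φ (φ x)) * t by rw [Subfield.coe_mul, hx, neg_neg]]
    hs := hsE
    hs_zi := fun c t => ⟨(c : Fix φ) ^ 2 * t, Subtype.ext (by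
      show _ * X 23 (t : K) * _ = X 23 _
      rw [← single l23, ← single l23]
      refine (torus_conj_orb φ hq hK hφ (by simp [Fix.eq]) r23 c23 _).trans (congrArg _ ?_)
      simp [Fix.eq])⟩
    hs_m := fun c t => Subtype.ext (by
      show _ * X 14 (t : K) * _ = X 14 _
      rw [← single l14, ← single l14]
      refine (torus_conj_orb φ hq hK hφ (by simp [Fix.eq]) r14 c14 _).trans (congrArg _ ?_)
      have h0 : ((c : Fix φ) : K) ≠ 0 := by simp
      simp [Fix.eq]; field_simp; simp)
    hs_a := fun c x => Subtype.ext (by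
      refine (torus_conj_orb φ hq hK hφ (by simp [Fix.eq]) r15 c15 _).trans (congrArg _ ?_)
      have h0 : ((c : Fix φ) : K) ≠ 0 := by simp
      show _ = ((c : Fix φ) : K) * x
      simp [Fix.eq]; field_simp; simp)
    hs_b := fun c x => Subtype.ext (by
      refine (torus_conj_orb φ hq hK hφ (by simp [Fix.eq]) r17 c17 _).trans (congrArg _ ?_)
      have h0 : ((c : Fix φ) : K) ≠ 0 := by simp
      show _ = ((c : Fix φ) : K) * x
      simp [Fix.eq]; try field_simp; simp)
    hs_p := fun c t => Subtype.ext (by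
      show _ * X 22 (t : K) * _ = X 22 _
      rw [← single l22, ← single l22]
      refine (torus_conj_orb φ hq hK hφ (by simp [Fix.eq]) r22 c22 _).trans (congrArg _ ?_)
      have h0 : ((c : Fix φ) : K) ≠ 0 := by simp
      simp [Fix.eq]; field_simp; simp)
    hz := hzE
    hz_z := fun c t => Subtype.ext (by
      show _ * X 23 (t : K) * _ = X 23 _
      rw [← single l23, ← single l23]
      refine (torus_conj_orb φ hq hK hφ (by simp [Fix.eq]) r23 c23 _).trans (congrArg _ ?_)
      simp [Fix.eq])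
    hz_b := fun c x => ⟨_, Subtype.ext (torus_conj_orb φ hq hK hφ (by simp [Fix.eq]) r17 c17 _)⟩
    hz_p := fun c t => ⟨(c : Fix φ)⁻¹ * t, Subtype.ext (by
      show _ * X 22 (t : K) * _ = X 22 _
      rw [← single l22, ← single l22]
      refine (torus_conj_orb φ hq hK hφ (by simp [Fix.eq]) r22 c22 _).trans (congrArg _ ?_)
      simp)⟩
    ht := htE
    w := (a₀ : K) ^ 2
    w_ne := ha₀'
    ht_zi := fun t => ⟨t, Subtype.ext (by
      show _ * X 23 (t : K) * _ = X 23 _
      rw [← single l23]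
      refine (torus_conj_orb φ hq hK hφ (by simp) r23 c23 _).trans (congrArg _ ?_)
      simp)⟩
    ht_m := fun t => ⟨t, Subtype.ext (by
      show _ * X 14 (t : K) * _ = X 14 _
      rw [← single l14]
      refine (torus_conj_orb φ hq hK hφ (by simp) r14 c14 _).trans (congrArg _ ?_)
      have h1 : φ (a₀ : K) ≠ 0 := (map_ne_zero _).2 a₀.ne_zero
      have h2 : φ (φ (a₀ : K)) ≠ 0 := (map_ne_zero _).2 h1
      simp; field_simp
      linear_combination (-(t : K)) * ha₀)⟩
    ht_a := fun x => Subtype.ext (by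
      refine (torus_conj_orb φ hq hK hφ (by simp) r15 c15 _).trans (congrArg _ ?_)
      have h1 : φ (a₀ : K) ≠ 0 := (map_ne_zero _).2 a₀.ne_zero
      have h2 : φ (φ (a₀ : K)) ≠ 0 := (map_ne_zero _).2 h1
      simp; field_simp
      left
      linear_combination (-1 : K) * ha₀)
    ht_b := fun x => ⟨_, Subtype.ext (torus_conj_orb φ hq hK hφ (by simp) r17 c17 _)⟩
    ht_p := fun t => Subtype.ext (by
      show _ * X 22 (t : K) * _ = X 22 _
      rw [← single l22]
      refine (torus_conj_orb φ hq hK hφ (by simp) r22 c22 _).trans (congrArg _ ?_)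
      simp
      linear_combination (t : K) * ha₀)
    n := nE
    n_z' := fun t => by
      obtain ⟨e, -, h⟩ := nOrb_conj_grp φ hq hK hφ n3 r23 w23 (t := (t : K)) (Or.inr t.2)
      obtain ⟨t', ht'⟩ := sFix e t
      rw [single l23, single l23, ← ht'] at h
      exact ⟨t', Subtype.ext h⟩
    nm := nm
    nm_surj := Finite.injective_iff_surjective.1 nm_inj
    n_m := hnm
    n_a := fun x => by
      obtain ⟨e, -, h⟩ := nOrb_conj_grp φ hq hK hφ n3 r15 w15 (t := x) (Or.inl l15)
      refine ⟨((sym.sgn 21 : ℤ) : K) * φ ((e : K) * x), Subtype.ext (h.trans ?_)⟩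
      rw [← orbX_img hc sym_test φ r21 (t := (e : K) * x)
        (by rw [IsPar, l21]; exact iterate_frob_card hφ hK _), i21]
      rfl
    n_b := fun x => by
      obtain ⟨e, -, h⟩ := nOrb_conj_grp φ hq hK hφ n3 r17 w17 (t := x) (Or.inl l17)
      refine ⟨((sym.sgn 16 : ℤ) : K) * φ (((sym.sgn 19 : ℤ) : K) * φ ((e : K) * x)),
        Subtype.ext (h.trans ?_)⟩
      rw [← orbX_img hc sym_test φ r19 (t := (e : K) * x)
        (by rw [IsPar, l19]; exact iterate_frob_card hφ hK _), i19,
        ← orbX_img hc sym_test φ r16 (by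
          rw [IsPar, show sym.olen 16 = 3 by decide +kernel]; exact iterate_frob_card hφ hK _), i16]
      rfl
    n_p := fun t => by
      obtain ⟨e, -, h⟩ := nOrb_conj_grp φ hq hK hφ n3 r22 w22 (t := (t : K)) (Or.inr t.2)
      obtain ⟨t', ht'⟩ := sFix e t
      rw [single l22, single l14, ← ht'] at h
      exact ⟨t', Subtype.ext h⟩
    d := dE⁻¹
    d_p := fun t => by
      obtain ⟨e, -, h⟩ := nOrb_conj_grp φ hq hK hφ n1 r23 w1 (t := (t : K)) (Or.inr t.2)
      obtain ⟨t', ht'⟩ := sFix e t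
      rw [single l23, single l22, ← ht'] at h
      exact ⟨t', Subtype.ext (by rw [inv_inv]; exact h)⟩ }, fun t => rfl⟩

end Data

end CfsgLib.Twisted.D4
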