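import Cfsg.Agent.Lib.MinDeg.TriSort

/-!
The relations between the slots of the radical in the twisted group of type D4, at the level of
matrices over the cubic extension.
-/

set_option autoImplicit false
set_option maxHeartbeats 1600000
set_option linter.unusedSimpArgs false

namespace CfsgLib.Twisted.D4

open Cfsg.Lie CfsgLib.Chev CfsgLib.Chevalley

variable {K : Type*} [Field K] (φ : K ≃+* K)

/-- The slot `a`. -/
noncomputable def gA (x : K) : GL chevD4.Idx K := X 15 x * X 19 (-φ x) * X 16 (φ (φ x))

/-- The slot `b`. -/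
noncomputable def gB (y : K) : GL chevD4.Idx K := X 17 y * X 20 (-φ y) * X 21 (-φ (φ y))

/-- The unipotent element of the Levi part. -/
noncomputable def gS (x : K) : GL chevD4.Idx K := X 18 x * X 13 (φ x) * X 12 (φ (φ x))

theorem X_congr {i : ℕ} {a b : K} {r s : GL chevD4.Idx K} (h : a = b) (h' : r = s) :
    X i a * r = X i b * s := by
  rw [h, h']

theorem X_congr_last {i : ℕ} {a b : K} {r : GL chevD4.Idx K} (h : a = b) :
    X i a * r = X i b * r := by
  rw [h]

theorem eq_X_of_zero {i : ℕ} (hi : i < chevD4.nroots) {a : K} (h : a = 0)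
    (r : GL chevD4.Idx K) : r = X i a * r := by
  show r = elX chevD4 K i a * r
  rw [h, elX_zero (T := tb) CfsgLib.Chev.D4.checked K hi, one_mul]

theorem gA_mul_gB (x y : K) : gA φ x * gB φ y =
    gB φ y * X 23 (x * φ (φ y) + φ x * y + φ (φ x) * φ y) * gA φ x := by
  rw [← mul_one (gA φ x * gB φ y), ← mul_one (gB φ y * _ * gA φ x)]
  simp only [gA, gB, mul_assoc,
    merge_14, swap_15_14, swap_19_14, swap_16_14, swap_17_14, swap_20_14, swap_21_14,
    swap_22_14, swap_23_14, swap_18_14, swap_13_14, swap_12_14, merge_15, swap_19_15,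
    swap_16_15, swap_17_15, swap_20_15, swap_21_15, swap_22_15, swap_23_15, swap_18_15,
    swap_13_15, swap_12_15, merge_19, swap_16_19, swap_17_19, swap_20_19, swap_21_19,
    swap_22_19, swap_23_19, swap_18_19, swap_13_19, swap_12_19, merge_16, swap_17_16,
    swap_20_16, swap_21_16, swap_22_16, swap_23_16, swap_18_16, swap_13_16, swap_12_16,
    merge_17, swap_20_17, swap_21_17, swap_22_17, swap_23_17, swap_18_17, swap_13_17,
    swap_12_17, merge_20, swap_21_20, swap_22_20, swap_23_20, swap_18_20, swap_13_20,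
    swap_12_20, merge_21, swap_22_21, swap_23_21, swap_18_21, swap_13_21, swap_12_21, merge_22,
    swap_23_22, swap_18_22, swap_13_22, swap_12_22, merge_23, swap_18_23, swap_13_23,
    swap_12_23, merge_18, swap_13_18, swap_12_18, merge_13, swap_12_13, merge_12]
  repeat' apply X_congr
  all_goals first | rfl | exact eq_X_of_zero (i := 23) (by decide +kernel) (by ring) _ | ring

theorem gS_mul_gB (x y : K) : gS φ x * gB φ y =
    gB φ y * X 22 (-(x * y + φ x * φ y + φ (φ x) * φ (φ y))) * gS φ x := by
  rw [← mul_one (gS φ x * gB φ y), ← mul_one (gB φ y * _ * gS φ x)]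
  simp only [gS, gB, mul_assoc,
    merge_14, swap_15_14, swap_19_14, swap_16_14, swap_17_14, swap_20_14, swap_21_14,
    swap_22_14, swap_23_14, swap_18_14, swap_13_14, swap_12_14, merge_15, swap_19_15,
    swap_16_15, swap_17_15, swap_20_15, swap_21_15, swap_22_15, swap_23_15, swap_18_15,
    swap_13_15, swap_12_15, merge_19, swap_16_19, swap_17_19, swap_20_19, swap_21_19,
    swap_22_19, swap_23_19, swap_18_19, swap_13_19, swap_12_19, merge_16, swap_17_16,
    swap_20_16, swap_21_16, swap_22_16, swap_23_16, swap_18_16, swap_13_16, swap_12_16,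
    merge_17, swap_20_17, swap_21_17, swap_22_17, swap_23_17, swap_18_17, swap_13_17,
    swap_12_17, merge_20, swap_21_20, swap_22_20, swap_23_20, swap_18_20, swap_13_20,
    swap_12_20, merge_21, swap_22_21, swap_23_21, swap_18_21, swap_13_21, swap_12_21, merge_22,
    swap_23_22, swap_18_22, swap_13_22, swap_12_22, merge_23, swap_18_23, swap_13_23,
    swap_12_23, merge_18, swap_13_18, swap_12_18, merge_13, swap_12_13, merge_12]
  repeat' apply X_congr
  all_goals first | rfl | ring

theorem gS_mul_gA (h3 : ∀ t, φ (φ (φ t)) = t) (x y : K) : gS φ x * gA φ y =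
    gA φ y * gB φ (φ (φ x) * φ (φ y) + φ x * y) * X 22 (-(x * φ x * y + x * φ (φ x) * φ (φ y) + φ x * φ (φ x) * φ y)) *
      X 23 (-(x * y * φ (φ y) + y * φ y * φ x + φ (φ x) * φ y * φ (φ y))) * gS φ x := by
  rw [← mul_one (gS φ x * gA φ y), ← mul_one (gA φ y * _ * _ * _ * gS φ x)]
  simp only [gS, gA, gB, mul_assoc, map_add, map_mul, h3,
    merge_14, swap_15_14, swap_19_14, swap_16_14, swap_17_14, swap_20_14, swap_21_14,
    swap_22_14, swap_23_14, swap_18_14, swap_13_14, swap_12_14, merge_15, swap_19_15,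
    swap_16_15, swap_17_15, swap_20_15, swap_21_15, swap_22_15, swap_23_15, swap_18_15,
    swap_13_15, swap_12_15, merge_19, swap_16_19, swap_17_19, swap_20_19, swap_21_19,
    swap_22_19, swap_23_19, swap_18_19, swap_13_19, swap_12_19, merge_16, swap_17_16,
    swap_20_16, swap_21_16, swap_22_16, swap_23_16, swap_18_16, swap_13_16, swap_12_16,
    merge_17, swap_20_17, swap_21_17, swap_22_17, swap_23_17, swap_18_17, swap_13_17,
    swap_12_17, merge_20, swap_21_20, swap_22_20, swap_23_20, swap_18_20, swap_13_20,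
    swap_12_20, merge_21, swap_22_21, swap_23_21, swap_18_21, swap_13_21, swap_12_21, merge_22,
    swap_23_22, swap_18_22, swap_13_22, swap_12_22, merge_23, swap_18_23, swap_13_23,
    swap_12_23, merge_18, swap_13_18, swap_12_18, merge_13, swap_12_13, merge_12]
  repeat' apply X_congr
  all_goals first | rfl | ring

theorem gS_mul_X14 (h3 : ∀ t, φ (φ (φ t)) = t) (x t : K) (ht : φ t = t) : gS φ x * X 14 t =
    X 14 t * gA φ (φ (φ x) * t) * gB φ (φ x * φ (φ x) * t) * X 22 (-(x * φ x * φ (φ x)) * t) *
      X 23 (-(x * φ x * φ (φ x) * t ^ 2)) * gS φ x := by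
  rw [← mul_one (gS φ x * X 14 t), ← mul_one (X 14 t * _ * _ * _ * _ * gS φ x)]
  simp only [gS, gA, gB, mul_assoc, map_mul, map_neg, ht, h3,
    merge_14, swap_15_14, swap_19_14, swap_16_14, swap_17_14, swap_20_14, swap_21_14,
    swap_22_14, swap_23_14, swap_18_14, swap_13_14, swap_12_14, merge_15, swap_19_15,
    swap_16_15, swap_17_15, swap_20_15, swap_21_15, swap_22_15, swap_23_15, swap_18_15,
    swap_13_15, swap_12_15, merge_19, swap_16_19, swap_17_19, swap_20_19, swap_21_19,
    swap_22_19, swap_23_19, swap_18_19, swap_13_19, swap_12_19, merge_16, swap_17_16,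
    swap_20_16, swap_21_16, swap_22_16, swap_23_16, swap_18_16, swap_13_16, swap_12_16,
    merge_17, swap_20_17, swap_21_17, swap_22_17, swap_23_17, swap_18_17, swap_13_17,
    swap_12_17, merge_20, swap_21_20, swap_22_20, swap_23_20, swap_18_20, swap_13_20,
    swap_12_20, merge_21, swap_22_21, swap_23_21, swap_18_21, swap_13_21, swap_12_21, merge_22,
    swap_23_22, swap_18_22, swap_13_22, swap_12_22, merge_23, swap_18_23, swap_13_23,
    swap_12_23, merge_18, swap_13_18, swap_12_18, merge_13, swap_12_13, merge_12]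
  repeat' apply X_congr
  all_goals first | rfl | ring

end CfsgLib.Twisted.D4
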