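import Cfsg.Agent.Lib.Twisted.D4Group
import Cfsg.Agent.Lib.Twisted.Commute
import Cfsg.Agent.Lib.Chev.Comm
import Cfsg.Agent.Lib.Chev.Gen.CommD4
import Cfsg.Agent.Lib.Twisted.D4U

/-!
Rewriting rules that sort products of root elements in the unipotent radical of the parabolic
subgroup of the central node of D4, extended by three commuting root elements of its Levi part.
-/

set_option autoImplicit false

namespace CfsgLib.Twisted.D4

open Cfsg.Lie CfsgLib.Chev CfsgLib.Chevalley

variable {K : Type*} [Field K]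

/-- A root element of D4. -/
noncomputable abbrev X (r : ℕ) (t : K) : GL chevD4.Idx K := elX chevD4 K r t

theorem merge {l : ℕ} (h : l < chevD4.nroots) (a b : K) (r : GL chevD4.Idx K) :
    X l a * (X l b * r) = X l (a + b) * r := by
  rw [← mul_assoc, elX_add CfsgLib.Chev.D4.checked K h]

theorem swap_zero {i j : ℕ} (h : i < chevD4.nroots ∧ j < chevD4.nroots ∧ j ≠ chevD4.neg i ∧
      chevD4.chainEntry i j = []) (a b : K) (r : GL chevD4.Idx K) :
    X i a * (X j b * r) = X j b * (X i a * r) := by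
  rw [← mul_assoc, (commute_elX CfsgLib.Chev.D4.checked h.1 h.2.1 h.2.2.1 h.2.2.2 a b).eq, mul_assoc]

theorem swap_term {i j k : ℕ} {e : ℤ} (hi : i < chevD4.nroots) (hj : j < chevD4.nroots)
    (hk : k < chevD4.nroots) (hne : j ≠ i) (hneg : j ≠ chevD4.neg i)
    (hterm : chevD4.commTerms i j = [(k, e, 1, 1)]) (a b : K) (r : GL chevD4.Idx K) :
    X i a * (X j b * r) = X j b * (X k ((e : K) * a * b) * (X i a * r)) := by
  have h := elX_conj_elX CfsgLib.Chev.D4.checked comm_one (F := K) hi hj hne hneg a b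
  rw [ChevalleyDatum.commWord, hterm, wordGL, mul_inv_eq_iff_eq_mul] at h
  simp only [List.map_cons, List.map_nil, List.prod_cons, List.prod_nil, mul_one, pow_one,
    neg_neg] at h
  rw [← mul_assoc, h]
  simp only [mul_assoc]

theorem swap_pos {i j k : ℕ} (h : i < chevD4.nroots ∧ j < chevD4.nroots ∧ k < chevD4.nroots ∧
      j ≠ i ∧ j ≠ chevD4.neg i ∧ chevD4.commTerms i j = [(k, 1, 1, 1)])
    (a b : K) (r : GL chevD4.Idx K) :
    X i a * (X j b * r) = X j b * (X k (a * b) * (X i a * r)) := by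
  rw [swap_term h.1 h.2.1 h.2.2.1 h.2.2.2.1 h.2.2.2.2.1 h.2.2.2.2.2, Int.cast_one, one_mul]

theorem swap_neg {i j k : ℕ} (h : i < chevD4.nroots ∧ j < chevD4.nroots ∧ k < chevD4.nroots ∧
      j ≠ i ∧ j ≠ chevD4.neg i ∧ chevD4.commTerms i j = [(k, -1, 1, 1)])
    (a b : K) (r : GL chevD4.Idx K) :
    X i a * (X j b * r) = X j b * (X k (-(a * b)) * (X i a * r)) := by
  rw [swap_term h.1 h.2.1 h.2.2.1 h.2.2.2.1 h.2.2.2.2.1 h.2.2.2.2.2, Int.cast_neg, Int.cast_one,
    neg_one_mul, neg_mul]

theorem merge_14 (a b : K) (r : GL chevD4.Idx K) : X 14 a * (X 14 b * r) = X 14 (a + b) * r :=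
  merge (by decide +kernel) a b r
theorem swap_15_14 (a b : K) (r : GL chevD4.Idx K) :
    X 15 a * (X 14 b * r) = X 14 b * (X 15 a * r) :=
  swap_zero (by decide +kernel) a b r
theorem swap_19_14 (a b : K) (r : GL chevD4.Idx K) :
    X 19 a * (X 14 b * r) = X 14 b * (X 19 a * r) :=
  swap_zero (by decide +kernel) a b r
theorem swap_16_14 (a b : K) (r : GL chevD4.Idx K) :
    X 16 a * (X 14 b * r) = X 14 b * (X 16 a * r) :=
  swap_zero (by decide +kernel) a b r
theorem swap_17_14 (a b : K) (r : GL chevD4.Idx K) :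
    X 17 a * (X 14 b * r) = X 14 b * (X 17 a * r) :=
  swap_zero (by decide +kernel) a b r
theorem swap_20_14 (a b : K) (r : GL chevD4.Idx K) :
    X 20 a * (X 14 b * r) = X 14 b * (X 20 a * r) :=
  swap_zero (by decide +kernel) a b r
theorem swap_21_14 (a b : K) (r : GL chevD4.Idx K) :
    X 21 a * (X 14 b * r) = X 14 b * (X 21 a * r) :=
  swap_zero (by decide +kernel) a b r
theorem swap_22_14 (a b : K) (r : GL chevD4.Idx K) :
    X 22 a * (X 14 b * r) = X 14 b * (X 23 (-(a * b)) * (X 22 a * r)) :=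
  swap_neg (by decide +kernel) a b r
theorem swap_23_14 (a b : K) (r : GL chevD4.Idx K) :
    X 23 a * (X 14 b * r) = X 14 b * (X 23 a * r) :=
  swap_zero (by decide +kernel) a b r
theorem swap_18_14 (a b : K) (r : GL chevD4.Idx K) :
    X 18 a * (X 14 b * r) = X 14 b * (X 19 (-(a * b)) * (X 18 a * r)) :=
  swap_neg (by decide +kernel) a b r
theorem swap_13_14 (a b : K) (r : GL chevD4.Idx K) :
    X 13 a * (X 14 b * r) = X 14 b * (X 16 (a * b) * (X 13 a * r)) :=
  swap_pos (by decide +kernel) a b r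
theorem swap_12_14 (a b : K) (r : GL chevD4.Idx K) :
    X 12 a * (X 14 b * r) = X 14 b * (X 15 (a * b) * (X 12 a * r)) :=
  swap_pos (by decide +kernel) a b r
theorem merge_15 (a b : K) (r : GL chevD4.Idx K) : X 15 a * (X 15 b * r) = X 15 (a + b) * r :=
  merge (by decide +kernel) a b r
theorem swap_19_15 (a b : K) (r : GL chevD4.Idx K) :
    X 19 a * (X 15 b * r) = X 15 b * (X 19 a * r) :=
  swap_zero (by decide +kernel) a b r
theorem swap_16_15 (a b : K) (r : GL chevD4.Idx K) :
    X 16 a * (X 15 b * r) = X 15 b * (X 16 a * r) :=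
  swap_zero (by decide +kernel) a b r
theorem swap_17_15 (a b : K) (r : GL chevD4.Idx K) :
    X 17 a * (X 15 b * r) = X 15 b * (X 17 a * r) :=
  swap_zero (by decide +kernel) a b r
theorem swap_20_15 (a b : K) (r : GL chevD4.Idx K) :
    X 20 a * (X 15 b * r) = X 15 b * (X 20 a * r) :=
  swap_zero (by decide +kernel) a b r
theorem swap_21_15 (a b : K) (r : GL chevD4.Idx K) :
    X 21 a * (X 15 b * r) = X 15 b * (X 23 (a * b) * (X 21 a * r)) :=
  swap_pos (by decide +kernel) a b r
theorem swap_22_15 (a b : K) (r : GL chevD4.Idx K) :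
    X 22 a * (X 15 b * r) = X 15 b * (X 22 a * r) :=
  swap_zero (by decide +kernel) a b r
theorem swap_23_15 (a b : K) (r : GL chevD4.Idx K) :
    X 23 a * (X 15 b * r) = X 15 b * (X 23 a * r) :=
  swap_zero (by decide +kernel) a b r
theorem swap_18_15 (a b : K) (r : GL chevD4.Idx K) :
    X 18 a * (X 15 b * r) = X 15 b * (X 20 (-(a * b)) * (X 18 a * r)) :=
  swap_neg (by decide +kernel) a b r
theorem swap_13_15 (a b : K) (r : GL chevD4.Idx K) :
    X 13 a * (X 15 b * r) = X 15 b * (X 17 (a * b) * (X 13 a * r)) :=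
  swap_pos (by decide +kernel) a b r
theorem swap_12_15 (a b : K) (r : GL chevD4.Idx K) :
    X 12 a * (X 15 b * r) = X 15 b * (X 12 a * r) :=
  swap_zero (by decide +kernel) a b r
theorem merge_19 (a b : K) (r : GL chevD4.Idx K) : X 19 a * (X 19 b * r) = X 19 (a + b) * r :=
  merge (by decide +kernel) a b r
theorem swap_16_19 (a b : K) (r : GL chevD4.Idx K) :
    X 16 a * (X 19 b * r) = X 19 b * (X 16 a * r) :=
  swap_zero (by decide +kernel) a b r
theorem swap_17_19 (a b : K) (r : GL chevD4.Idx K) :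
    X 17 a * (X 19 b * r) = X 19 b * (X 23 (a * b) * (X 17 a * r)) :=
  swap_pos (by decide +kernel) a b r
theorem swap_20_19 (a b : K) (r : GL chevD4.Idx K) :
    X 20 a * (X 19 b * r) = X 19 b * (X 20 a * r) :=
  swap_zero (by decide +kernel) a b r
theorem swap_21_19 (a b : K) (r : GL chevD4.Idx K) :
    X 21 a * (X 19 b * r) = X 19 b * (X 21 a * r) :=
  swap_zero (by decide +kernel) a b r
theorem swap_22_19 (a b : K) (r : GL chevD4.Idx K) :
    X 22 a * (X 19 b * r) = X 19 b * (X 22 a * r) :=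
  swap_zero (by decide +kernel) a b r
theorem swap_23_19 (a b : K) (r : GL chevD4.Idx K) :
    X 23 a * (X 19 b * r) = X 19 b * (X 23 a * r) :=
  swap_zero (by decide +kernel) a b r
theorem swap_18_19 (a b : K) (r : GL chevD4.Idx K) :
    X 18 a * (X 19 b * r) = X 19 b * (X 18 a * r) :=
  swap_zero (by decide +kernel) a b r
theorem swap_13_19 (a b : K) (r : GL chevD4.Idx K) :
    X 13 a * (X 19 b * r) = X 19 b * (X 21 (a * b) * (X 13 a * r)) :=
  swap_pos (by decide +kernel) a b r
theorem swap_12_19 (a b : K) (r : GL chevD4.Idx K) :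
    X 12 a * (X 19 b * r) = X 19 b * (X 20 (a * b) * (X 12 a * r)) :=
  swap_pos (by decide +kernel) a b r
theorem merge_16 (a b : K) (r : GL chevD4.Idx K) : X 16 a * (X 16 b * r) = X 16 (a + b) * r :=
  merge (by decide +kernel) a b r
theorem swap_17_16 (a b : K) (r : GL chevD4.Idx K) :
    X 17 a * (X 16 b * r) = X 16 b * (X 17 a * r) :=
  swap_zero (by decide +kernel) a b r
theorem swap_20_16 (a b : K) (r : GL chevD4.Idx K) :
    X 20 a * (X 16 b * r) = X 16 b * (X 23 (a * b) * (X 20 a * r)) :=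
  swap_pos (by decide +kernel) a b r
theorem swap_21_16 (a b : K) (r : GL chevD4.Idx K) :
    X 21 a * (X 16 b * r) = X 16 b * (X 21 a * r) :=
  swap_zero (by decide +kernel) a b r
theorem swap_22_16 (a b : K) (r : GL chevD4.Idx K) :
    X 22 a * (X 16 b * r) = X 16 b * (X 22 a * r) :=
  swap_zero (by decide +kernel) a b r
theorem swap_23_16 (a b : K) (r : GL chevD4.Idx K) :
    X 23 a * (X 16 b * r) = X 16 b * (X 23 a * r) :=
  swap_zero (by decide +kernel) a b r
theorem swap_18_16 (a b : K) (r : GL chevD4.Idx K) :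
    X 18 a * (X 16 b * r) = X 16 b * (X 21 (-(a * b)) * (X 18 a * r)) :=
  swap_neg (by decide +kernel) a b r
theorem swap_13_16 (a b : K) (r : GL chevD4.Idx K) :
    X 13 a * (X 16 b * r) = X 16 b * (X 13 a * r) :=
  swap_zero (by decide +kernel) a b r
theorem swap_12_16 (a b : K) (r : GL chevD4.Idx K) :
    X 12 a * (X 16 b * r) = X 16 b * (X 17 (a * b) * (X 12 a * r)) :=
  swap_pos (by decide +kernel) a b r
theorem merge_17 (a b : K) (r : GL chevD4.Idx K) : X 17 a * (X 17 b * r) = X 17 (a + b) * r :=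
  merge (by decide +kernel) a b r
theorem swap_20_17 (a b : K) (r : GL chevD4.Idx K) :
    X 20 a * (X 17 b * r) = X 17 b * (X 20 a * r) :=
  swap_zero (by decide +kernel) a b r
theorem swap_21_17 (a b : K) (r : GL chevD4.Idx K) :
    X 21 a * (X 17 b * r) = X 17 b * (X 21 a * r) :=
  swap_zero (by decide +kernel) a b r
theorem swap_22_17 (a b : K) (r : GL chevD4.Idx K) :
    X 22 a * (X 17 b * r) = X 17 b * (X 22 a * r) :=
  swap_zero (by decide +kernel) a b r
theorem swap_23_17 (a b : K) (r : GL chevD4.Idx K) :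
    X 23 a * (X 17 b * r) = X 17 b * (X 23 a * r) :=
  swap_zero (by decide +kernel) a b r
theorem swap_18_17 (a b : K) (r : GL chevD4.Idx K) :
    X 18 a * (X 17 b * r) = X 17 b * (X 22 (-(a * b)) * (X 18 a * r)) :=
  swap_neg (by decide +kernel) a b r
theorem swap_13_17 (a b : K) (r : GL chevD4.Idx K) :
    X 13 a * (X 17 b * r) = X 17 b * (X 13 a * r) :=
  swap_zero (by decide +kernel) a b r
theorem swap_12_17 (a b : K) (r : GL chevD4.Idx K) :
    X 12 a * (X 17 b * r) = X 17 b * (X 12 a * r) :=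
  swap_zero (by decide +kernel) a b r
theorem merge_20 (a b : K) (r : GL chevD4.Idx K) : X 20 a * (X 20 b * r) = X 20 (a + b) * r :=
  merge (by decide +kernel) a b r
theorem swap_21_20 (a b : K) (r : GL chevD4.Idx K) :
    X 21 a * (X 20 b * r) = X 20 b * (X 21 a * r) :=
  swap_zero (by decide +kernel) a b r
theorem swap_22_20 (a b : K) (r : GL chevD4.Idx K) :
    X 22 a * (X 20 b * r) = X 20 b * (X 22 a * r) :=
  swap_zero (by decide +kernel) a b r
theorem swap_23_20 (a b : K) (r : GL chevD4.Idx K) :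
    X 23 a * (X 20 b * r) = X 20 b * (X 23 a * r) :=
  swap_zero (by decide +kernel) a b r
theorem swap_18_20 (a b : K) (r : GL chevD4.Idx K) :
    X 18 a * (X 20 b * r) = X 20 b * (X 18 a * r) :=
  swap_zero (by decide +kernel) a b r
theorem swap_13_20 (a b : K) (r : GL chevD4.Idx K) :
    X 13 a * (X 20 b * r) = X 20 b * (X 22 (a * b) * (X 13 a * r)) :=
  swap_pos (by decide +kernel) a b r
theorem swap_12_20 (a b : K) (r : GL chevD4.Idx K) :
    X 12 a * (X 20 b * r) = X 20 b * (X 12 a * r) :=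
  swap_zero (by decide +kernel) a b r
theorem merge_21 (a b : K) (r : GL chevD4.Idx K) : X 21 a * (X 21 b * r) = X 21 (a + b) * r :=
  merge (by decide +kernel) a b r
theorem swap_22_21 (a b : K) (r : GL chevD4.Idx K) :
    X 22 a * (X 21 b * r) = X 21 b * (X 22 a * r) :=
  swap_zero (by decide +kernel) a b r
theorem swap_23_21 (a b : K) (r : GL chevD4.Idx K) :
    X 23 a * (X 21 b * r) = X 21 b * (X 23 a * r) :=
  swap_zero (by decide +kernel) a b r
theorem swap_18_21 (a b : K) (r : GL chevD4.Idx K) :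
    X 18 a * (X 21 b * r) = X 21 b * (X 18 a * r) :=
  swap_zero (by decide +kernel) a b r
theorem swap_13_21 (a b : K) (r : GL chevD4.Idx K) :
    X 13 a * (X 21 b * r) = X 21 b * (X 13 a * r) :=
  swap_zero (by decide +kernel) a b r
theorem swap_12_21 (a b : K) (r : GL chevD4.Idx K) :
    X 12 a * (X 21 b * r) = X 21 b * (X 22 (a * b) * (X 12 a * r)) :=
  swap_pos (by decide +kernel) a b r
theorem merge_22 (a b : K) (r : GL chevD4.Idx K) : X 22 a * (X 22 b * r) = X 22 (a + b) * r :=
  merge (by decide +kernel) a b r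
theorem swap_23_22 (a b : K) (r : GL chevD4.Idx K) :
    X 23 a * (X 22 b * r) = X 22 b * (X 23 a * r) :=
  swap_zero (by decide +kernel) a b r
theorem swap_18_22 (a b : K) (r : GL chevD4.Idx K) :
    X 18 a * (X 22 b * r) = X 22 b * (X 18 a * r) :=
  swap_zero (by decide +kernel) a b r
theorem swap_13_22 (a b : K) (r : GL chevD4.Idx K) :
    X 13 a * (X 22 b * r) = X 22 b * (X 13 a * r) :=
  swap_zero (by decide +kernel) a b r
theorem swap_12_22 (a b : K) (r : GL chevD4.Idx K) :
    X 12 a * (X 22 b * r) = X 22 b * (X 12 a * r) :=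
  swap_zero (by decide +kernel) a b r
theorem merge_23 (a b : K) (r : GL chevD4.Idx K) : X 23 a * (X 23 b * r) = X 23 (a + b) * r :=
  merge (by decide +kernel) a b r
theorem swap_18_23 (a b : K) (r : GL chevD4.Idx K) :
    X 18 a * (X 23 b * r) = X 23 b * (X 18 a * r) :=
  swap_zero (by decide +kernel) a b r
theorem swap_13_23 (a b : K) (r : GL chevD4.Idx K) :
    X 13 a * (X 23 b * r) = X 23 b * (X 13 a * r) :=
  swap_zero (by decide +kernel) a b r
theorem swap_12_23 (a b : K) (r : GL chevD4.Idx K) :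
    X 12 a * (X 23 b * r) = X 23 b * (X 12 a * r) :=
  swap_zero (by decide +kernel) a b r
theorem merge_18 (a b : K) (r : GL chevD4.Idx K) : X 18 a * (X 18 b * r) = X 18 (a + b) * r :=
  merge (by decide +kernel) a b r
theorem swap_13_18 (a b : K) (r : GL chevD4.Idx K) :
    X 13 a * (X 18 b * r) = X 18 b * (X 13 a * r) :=
  swap_zero (by decide +kernel) a b r
theorem swap_12_18 (a b : K) (r : GL chevD4.Idx K) :
    X 12 a * (X 18 b * r) = X 18 b * (X 12 a * r) :=
  swap_zero (by decide +kernel) a b r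
theorem merge_13 (a b : K) (r : GL chevD4.Idx K) : X 13 a * (X 13 b * r) = X 13 (a + b) * r :=
  merge (by decide +kernel) a b r
theorem swap_12_13 (a b : K) (r : GL chevD4.Idx K) :
    X 12 a * (X 13 b * r) = X 13 b * (X 12 a * r) :=
  swap_zero (by decide +kernel) a b r
theorem merge_12 (a b : K) (r : GL chevD4.Idx K) : X 12 a * (X 12 b * r) = X 12 (a + b) * r :=
  merge (by decide +kernel) a b r

end CfsgLib.Twisted.D4
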