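import Mathlib.Algebra.IsPrimePow
import Mathlib.RingTheory.Coprime.Lemmas
import Mathlib.Tactic

/-!
# Arithmetic excluding two degrees for the twisted groups of type E6
-/

set_option autoImplicit false
set_option maxHeartbeats 800000

namespace CfsgLib.MinDeg.TwE6

/-- A multiple of the order, without the power of `q`. -/
def ordE6 (x : ℤ) : ℤ :=
  (x ^ 2 - 1) * (x ^ 5 + 1) * (x ^ 6 - 1) * (x ^ 8 - 1) * (x ^ 9 + 1) * (x ^ 12 - 1)

/-- The factor of the smaller degree to be excluded. -/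
def excA (x : ℤ) : ℤ := x ^ 10 + x ^ 9 + x ^ 8 + x ^ 6 + x ^ 5 + 2 * x ^ 4 + x ^ 3 + x ^ 2 + x + 2

/-- The factor of the larger degree to be excluded. -/
def excB (x : ℤ) : ℤ := x ^ 7 + x ^ 5 - x ^ 4 + x ^ 3 - x ^ 2 + x - 1

theorem excB_small : ∀ q ∈ List.range 131, 2 ≤ q →
    ¬ excB (q : ℤ) ∣ (q : ℤ) ^ 36 * ordE6 q := by decide +kernel

theorem excA_small : ∀ q ∈ List.range 281, 2 ≤ q →
    ¬ excA (q : ℤ) ∣ (q : ℤ) ^ 36 * ordE6 q := by decide +kernel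

theorem excB_not_dvd (q : ℕ) (hq : 2 ≤ q) : ¬ excB (q : ℤ) ∣ (q : ℤ) ^ 36 * ordE6 q := by
  by_cases hs : q < 131
  · exact excB_small q (List.mem_range.2 hs) hq
  intro h
  have hx : (131 : ℤ) ≤ (q : ℤ) := by exact_mod_cast (show 131 ≤ q by omega)
  generalize (q : ℤ) = x at h hx
  have hc : IsCoprime (excB x) x :=
    ⟨-1, x ^ 6 + x ^ 4 - x ^ 3 + x ^ 2 - x + 1, by unfold excB; ring⟩
  have h1 := hc.pow_right.dvd_of_dvd_mul_left h
  have e : ordE6 x = excB x * (x ^ 35 - 2 * x ^ 33 + x ^ 32 + x ^ 31 - x ^ 30 - x ^ 28 + x ^ 27 + x ^ 26 - 2 * x ^ 25 + x ^ 24 - x ^ 23 - 2 * x ^ 22 + 6 * x ^ 21 - 2 * x ^ 20 - 5 * x ^ 19 + 5 * x ^ 18 - 2 * x ^ 17 + 2 * x ^ 16 + x ^ 15 - 8 * x ^ 14 + 10 * x ^ 13 - 2 * x ^ 12 - 9 * x ^ 11 + 16 * x ^ 10 - 12 * x ^ 9 - 4 * x ^ 8 + 20 * x ^ 7 - 21 * x ^ 6 + 10 * x ^ 5 + 6 * x ^ 4 - 26 * x ^ 3 + 38 * x ^ 2 - 23 * x - 20) + (61 * x ^ 6 - 62 * x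 ^ 5 + 73 * x ^ 4 - 67 * x ^ 3 + 40 * x ^ 2 - 3 * x - 19) := by
    unfold ordE6 excB; ring
  rw [e, dvd_add_right (dvd_mul_right _ _)] at h1
  have hp : ∀ n : ℕ, 131 * x ^ n ≤ x ^ (n + 1) := fun n => by
    rw [pow_succ']; exact mul_le_mul_of_nonneg_right hx (pow_nonneg (by linarith) n)
  have := hp 0; have := hp 1; have := hp 2; have := hp 3; have := hp 4; have := hp 5; have := hp 6
  norm_num at *
  have hpos : 0 < 61 * x ^ 6 - 62 * x ^ 5 + 73 * x ^ 4 - 67 * x ^ 3 + 40 * x ^ 2 - 3 * x - 19 := by linarith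
  have hle := Int.le_of_dvd hpos h1
  unfold excB at hle
  linarith

theorem excA_not_dvd (q : ℕ) (hq : IsPrimePow q) :
    ¬ excA (q : ℤ) ∣ (q : ℤ) ^ 36 * ordE6 q := by
  by_cases hs : q < 281
  · exact excA_small q (List.mem_range.2 hs) hq.two_le
  intro h
  set A : ℤ → ℤ := fun x =>
    x ^ 9 + x ^ 8 + x ^ 7 + x ^ 5 + x ^ 4 + 2 * x ^ 3 + x ^ 2 + x + 1 with hA
  have h2 : excA (q : ℤ) ∣ 2 * ordE6 q := by
    rcases Nat.even_or_odd q with he | ⟨t, ht⟩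
    · have h4 : 4 ∣ q := by
        obtain ⟨p, k, hp, hk, rfl⟩ := (isPrimePow_nat_iff q).1 hq
        obtain rfl : p = 2 := ((Nat.prime_two.dvd_of_dvd_pow (m := p) he.two_dvd |>
          (Nat.prime_dvd_prime_iff_eq Nat.prime_two hp).1)).symm
        refine Nat.pow_dvd_pow 2 (show 2 ≤ k from ?_)
        by_contra hlt
        obtain rfl : k = 1 := by omega
        omega
      obtain ⟨t, ht⟩ := h4
      have hx : (q : ℤ) = 4 * (t : ℤ) := by exact_mod_cast ht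
      rw [hx] at h ⊢
      generalize (t : ℤ) = s at h
      have hm : excA (4 * s) = 2 * (1 + 2 * s * A (4 * s)) := by simp only [excA, hA]; ring
      rw [hm] at h ⊢
      have hc : IsCoprime (1 + 2 * s * A (4 * s)) (4 * s) :=
        IsCoprime.mul_right (show IsCoprime _ (4 : ℤ) from by
          rw [show (4 : ℤ) = 2 * 2 from rfl]
          exact IsCoprime.mul_right ⟨1, -(s * A (4 * s)), by ring⟩ ⟨1, -(s * A (4 * s)), by ring⟩)
          ⟨1, -2 * A (4 * s), by ring⟩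
      exact mul_dvd_mul_left 2 (hc.pow_right.dvd_of_dvd_mul_left ((dvd_mul_left _ _).trans h))
    · have hx : (q : ℤ) = 2 * (t : ℤ) + 1 := by exact_mod_cast ht
      rw [hx] at h ⊢
      generalize (t : ℤ) = s at h
      have hc : IsCoprime (excA (2 * s + 1)) (2 * s + 1) :=
        ⟨-s, 1 + s * A (2 * s + 1), by simp only [excA, hA]; ring⟩
      exact (hc.pow_right.dvd_of_dvd_mul_left h).mul_left 2
  have hx : (281 : ℤ) ≤ (q : ℤ) := by exact_mod_cast (show 281 ≤ q by omega)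
  clear h hA A
  generalize (q : ℤ) = x at h2 hx
  have e : 2 * ordE6 x = excA x * (2 * (x ^ 32 - x ^ 31 - x ^ 30 + 2 * x ^ 29 - 2 * x ^ 28 + x ^ 27 - 2 * x ^ 25 + 4 * x ^ 24 - 3 * x ^ 23 + x ^ 22 + 3 * x ^ 21 - 6 * x ^ 20 + 3 * x ^ 19 + 5 * x ^ 18 - 10 * x ^ 17 + 5 * x ^ 16 + 3 * x ^ 15 - 12 * x ^ 14 + 19 * x ^ 13 - 15 * x ^ 12 - 2 * x ^ 11 + 29 * x ^ 10 - 43 * x ^ 9 + 27 * x ^ 8 + 18 * x ^ 7 - 64 * x ^ 6 + 66 * x ^ 5 - 19 * x ^ 4 - 56 * x ^ 3 + 112 * x ^ 2 - 105 * x + 15)) + 2 * (139 * x ^ 9 - 107 * x ^ 8 + 85 * x ^ 7 + 2 * x ^ 6 + 27 * x ^ 5 + 57 * x ^ 4 + 90 * x ^ 3 - 135 * x ^ 2 + 195 * x - 29) := by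
    unfold ordE6 excA; ring
  rw [e, dvd_add_right (dvd_mul_right _ _)] at h2
  have hp : ∀ n : ℕ, 281 * x ^ n ≤ x ^ (n + 1) := fun n => by
    rw [pow_succ']; exact mul_le_mul_of_nonneg_right hx (pow_nonneg (by linarith) n)
  have := hp 0; have := hp 1; have := hp 2; have := hp 3; have := hp 4; have := hp 5; have := hp 6
  have := hp 7; have := hp 8; have := hp 9
  norm_num at *
  have hpos : 0 < 2 * (139 * x ^ 9 - 107 * x ^ 8 + 85 * x ^ 7 + 2 * x ^ 6 + 27 * x ^ 5 + 57 * x ^ 4 + 90 * x ^ 3 - 135 * x ^ 2 + 195 * x - 29) := by linarith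
  have hle := Int.le_of_dvd hpos h2
  unfold excA at hle
  linarith

end CfsgLib.MinDeg.TwE6
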