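import Cfsg.Agent.Lib.MinDeg.TwE6Slots
import Mathlib.Data.Fintype.BigOperators

/-!
# The degree bound for the twisted groups of type E6

For a representation non-trivial on a long root subgroup: the weights of an abelian subgroup of
order `q^11` of the radical of the parabolic subgroup of the highest root have constant
multiplicity off the centre; if it is one, a vector with degenerate character of the unipotent
group exists, and the orbits of two such characters supply the bound.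
-/

set_option autoImplicit false
set_option linter.unusedSectionVars false
set_option maxHeartbeats 800000

namespace CfsgLib.MinDeg.TwE6

open Module Cfsg.Lie CfsgLib.Chev CfsgLib.Chevalley CfsgLib.Twisted
open CfsgLib.Twisted.E6 (sym sym_test sym_nodeTest tb)
open CfsgLib.MinDeg.Slots

variable {K : Type*} [Field K] [Fintype K] (φ : K ≃+* K) [hinv : Fact (∀ x : K, φ (φ x) = x)]
variable {V : Type*} [AddCommGroup V] [Module ℂ V] [FiniteDimensional ℂ V]
  (ρ : Representation ℂ (Γ φ) V)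

local notation "Sp" => eigSp ρ (sl φ)

/-! ### Moving weights by torus and Weyl elements -/

/-- A weight which is supported on `e` in `L`, with a non-zero eigenspace of dimension `≥ d`. -/
def Supp (L : Set ℕ) (e : ℕ) (d : ℕ) (lam : AddChar (Par φ e) ℂ) : Prop :=
  ∃ θ : Wgt (fun r => Par φ r), θ e = lam ∧ (∀ x ∈ L, x ≠ e → θ x = 0) ∧
    d ≤ finrank ℂ (Sp L θ)

theorem scale {L : Set ℕ} (hL : ∀ x ∈ L, x < 72) {e : ℕ} (he : e ∈ L) (hel : sym.img e = e)
    (k : Fin 6) (hk : sym.node k.1 = k.1)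
    (hexp : chevE6.cartan k.1 e = 1 ∨ chevE6.cartan k.1 e = -1)
    {θ : Wgt (fun r => Par φ r)} (hθe : θ e ≠ 0) (hW : Sp L θ ≠ ⊥)
    (lam : AddChar (Par φ e) ℂ) (hlam : lam ≠ 0) :
    ∃ θ' : Wgt (fun r => Par φ r), θ' e = lam ∧ (∀ x ∈ L, θ x = 0 → θ' x = 0) ∧
      finrank ℂ (Sp L θ) ≤ finrank ℂ (Sp L θ') := by
  classical
  have he72 := hL e he
  -- the character is a multiple of the given one
  let C : Par φ e → Par φ e → Par φ e := fun r y =>
    ⟨(r : K) * (y : K), fun h => by rw [map_mul, r.2 h, y.2 h]⟩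
  obtain ⟨r, hr⟩ := exists_pairing_char rfl C
    (fun a b c => Subtype.ext (by simp [C, add_mul])) (fun a b c => Subtype.ext (by simp [C, mul_add]))
    (fun a ha z => ⟨⟨(a : K)⁻¹ * (z : K), fun h => by rw [map_mul, map_inv₀, a.2 h, z.2 h]⟩,
      Subtype.ext (mul_inv_cancel_left₀ (fun h => ha (Subtype.ext h)) _)⟩) (θ e) hθe lam
  have hr0 : (r : K) ≠ 0 := by
    intro h0
    refine hlam (AddChar.ext _ _ fun y => ?_)
    rw [hr y, show C r y = 0 from Subtype.ext (by simp [C, h0]), AddChar.map_zero_eq_one,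
      AddChar.zero_apply]
  obtain ⟨c, hc, hcr⟩ : ∃ c : Kˣ, φ (c : K) = c ∧ (c : K) ^ chevE6.cartan k.1 e = r := by
    rcases hexp with h | h
    · exact ⟨Units.mk0 _ hr0, r.2 hel, by rw [h, zpow_one]; rfl⟩
    · exact ⟨(Units.mk0 _ hr0)⁻¹, by simp [map_inv₀, r.2 hel], by simp [h]⟩
  obtain ⟨g, hg⟩ := exists_scale φ c hc k hk
  obtain ⟨θ', hθ', -, hle⟩ := exists_moved ρ (sl φ) hW g (fun x hx u => by
    obtain ⟨t', h1, -⟩ := hg x (hL x hx) u
    rw [h1]; exact sl_mem (sl φ) hx t')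
  obtain ⟨w, hw, hw0⟩ := Submodule.exists_mem_ne_zero_of_ne_bot hW
  have hval : ∀ x ∈ L, ∀ u : Par φ x, ∃ t' : Par φ x, θ' x u = θ x t' ∧
      (t' : K) = (c : K) ^ chevE6.cartan k.1 x * (u : K) := by
    intro x hx u
    obtain ⟨t', h1, h2⟩ := hg x (hL x hx) u
    refine ⟨t', smul_left_injective ℂ hw0 ?_, h2⟩
    show _ • w = _ • w
    rw [← hθ' x hx u w hw, h1, (mem_eigSp ρ (sl φ)).1 hw x hx]
  refine ⟨θ', AddChar.ext _ _ fun u => ?_, fun x hx h0 => AddChar.ext _ _ fun u => ?_, hle⟩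
  · obtain ⟨t', h1, h2⟩ := hval e he u
    rw [h1, hr u, show t' = C r u from Subtype.ext (by rw [h2, hcr])]
  · obtain ⟨t', h1, -⟩ := hval x hx u
    rw [h1, h0]; rfl

/-- A long slot is the image of another one under a word. -/
theorem weyl_slot (l : List ℕ) (hl : ∀ i ∈ l, i < 6) {L : List ℕ}
    (hL : ∀ x ∈ L, x < 72 ∧ rep (wW l x) ∈ L) {e f : ℕ} (he : e ∈ L)
    (hef : rep (wW l e) = f) (hel : sym.img e = e) (hfl : sym.img f = f)
    (hoth : ∀ x ∈ L, x ≠ e → rep (wW l x) ≠ f) {d : ℕ} (hd : 0 < d)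
    (h : ∀ lam : AddChar (Par φ f) ℂ, lam ≠ 0 → Supp φ ρ {x | x ∈ L} f d lam)
    (k : Fin 6) (hk : sym.node k.1 = k.1)
    (hexp : chevE6.cartan k.1 e = 1 ∨ chevE6.cartan k.1 e = -1)
    (lam : AddChar (Par φ e) ℂ) (hlam : lam ≠ 0) : Supp φ ρ {x | x ∈ L} e d lam := by
  classical
  subst hef
  obtain ⟨g, hg⟩ := exists_weyl φ l hl
  have he72 := (hL e he).1
  have hf72 : rep (wW l e) < 72 := (hL _ (hL e he).2).1
  choose T hT using (hg e he72).2
  have hTinj : Function.Injective T := by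
    intro a b hab
    have h1 : g * sl φ e a * g⁻¹ = g * sl φ e b * g⁻¹ := by rw [hT, hT, hab]
    have h2 := congrArg Subtype.val (mul_left_cancel (mul_right_cancel h1))
    rw [sl_coe φ he72, sl_coe φ he72, O_one φ hel, O_one φ hel] at h2
    exact Subtype.ext (elX_injective CfsgLib.Chev.E6.checked sym_test he72 h2)
  have hTsur : Function.Surjective T := by
    refine (Fintype.bijective_iff_injective_and_card T).2 ⟨hTinj, ?_⟩ |>.2
    rw [← Nat.card_eq_fintype_card, ← Nat.card_eq_fintype_card]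
    exact Nat.card_congr (Equiv.subtypeEquivRight fun t =>
      ⟨fun h _ => h hel, fun h _ => h hfl⟩)
  obtain ⟨mu, hmu⟩ : ∃ mu : AddChar (Par φ (rep (wW l e))) ℂ, mu ≠ 0 := by
    obtain ⟨mu, hmu⟩ := (AddChar.exists_apply_ne_zero
      (α := Par φ (rep (wW l e))) (a := ⟨1, fun _ => map_one φ⟩)).2
      (fun h => one_ne_zero (congrArg Subtype.val h))
    exact ⟨mu, fun h => hmu (by simp [h])⟩
  obtain ⟨θ, hθf, hθ0, hθd⟩ := h mu hmu
  have hW : Sp {x | x ∈ L} θ ≠ ⊥ := fun hb => by rw [hb, finrank_bot] at hθd; omega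
  obtain ⟨θ', hθ', -, hle⟩ := exists_moved ρ (sl φ) hW g (fun x hx u => by
    obtain ⟨t', h1⟩ := (hg x (hL x hx).1).2 u
    rw [h1]; exact sl_mem (sl φ) (hL x hx).2 t')
  obtain ⟨w, hw, hw0⟩ := Submodule.exists_mem_ne_zero_of_ne_bot hW
  have hval : ∀ x ∈ L, ∀ (u : Par φ x) (t' : Par φ (rep (wW l x))),
      g * sl φ x u * g⁻¹ = sl φ _ t' → θ' x u = θ _ t' := by
    intro x hx u t' h1
    refine smul_left_injective ℂ hw0 ?_
    show _ • w = _ • w
    rw [← hθ' x hx u w hw, h1, (mem_eigSp ρ (sl φ)).1 hw _ (hL x hx).2]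
  have hθ'e : θ' e ≠ 0 := by
    intro h0
    refine hmu (AddChar.ext _ _ fun z => ?_)
    obtain ⟨u, rfl⟩ := hTsur z
    rw [← hθf, ← hval e he u _ (hT u), h0]; rfl
  obtain ⟨θ'', h1, h2, h3⟩ := scale φ ρ (L := {x | x ∈ L}) (fun x hx => (hL x hx).1) he hel k hk
    hexp hθ'e (fun hb => by rw [hb, finrank_bot] at hle; omega) lam hlam
  refine ⟨θ'', h1, fun x hx hxe => h2 x hx (AddChar.ext _ _ fun u => ?_),
    (hθd.trans hle).trans h3⟩
  obtain ⟨t', ht'⟩ := (hg x (hL x hx).1).2 u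
  rw [hval x hx u t' ht', hθ0 _ (hL x hx).2 (hoth x hx hxe)]; rfl

/-- The vectors fixed by the slots of a list. -/
noncomputable abbrev Fixd (A : List ℕ) : Submodule ℂ V := Sp {x | x ∈ A} 0

theorem mem_Fixd {A : List ℕ} {v : V} :
    v ∈ Fixd φ ρ A ↔ ∀ x ∈ A, ∀ u, ρ (sl φ x u) v = v := by
  simp [Fixd, mem_eigSp]

theorem fixd_mono {A B : List ℕ} (h : A ⊆ B) : Fixd φ ρ B ≤ Fixd φ ρ A :=
  fun v hv => (mem_Fixd φ ρ).2 fun x hx => (mem_Fixd φ ρ).1 hv x (h hx)

theorem finrank_fixd_le (l : List ℕ) (hl : ∀ i ∈ l, i < 6) {A B : List ℕ}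
    (h : ∀ x ∈ A, x < 72 ∧ rep (wW l x) ∈ B) :
    finrank ℂ (Fixd φ ρ B) ≤ finrank ℂ (Fixd φ ρ A) := by
  obtain ⟨g, hg⟩ := exists_weyl φ l hl
  have hmaps : ∀ v ∈ Fixd φ ρ B, ρ g⁻¹ v ∈ Fixd φ ρ A := by
    intro v hv
    rw [mem_Fixd]
    intro x hx u
    obtain ⟨t', ht'⟩ := (hg x (h x hx).1).2 u
    have e : sl φ x u * g⁻¹ = g⁻¹ * sl φ _ t' := by rw [← ht']; group
    rw [← Module.End.mul_apply, ← map_mul, e, map_mul, Module.End.mul_apply,
      (mem_Fixd φ ρ).1 hv _ (h x hx).2]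
  exact LinearMap.finrank_le_finrank_of_injective (f := (ρ g⁻¹).restrict hmaps)
    fun _ _ e => Subtype.ext (rep_injective ρ g⁻¹ (congrArg Subtype.val e))

/-- A slot normalising the slots of a list preserves their fixed vectors. -/
theorem fixd_stable {A : List ℕ} {γ : ℕ} (hA : ∀ x ∈ A, Ok γ x ∧ ∀ z ∈ news γ x, z ∈ A)
    (t : Par φ γ) {v : V} (hv : v ∈ Fixd φ ρ A) : ρ (sl φ γ t) v ∈ Fixd φ ρ A := by
  rw [mem_Fixd]
  intro x hx u
  obtain ⟨y, hy, e⟩ := conj_news φ (hA x hx).1 (-t) u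
  rw [AddChar.map_neg_eq_inv, inv_inv] at e
  have e' : sl φ x u * sl φ γ t = sl φ γ t * (sl φ x u * y) := by rw [← e]; group
  have hyv : ρ y v = v := fix_of_triv ρ (sl φ) (L := {z | z ∈ A}) (N := {z | z ∈ news γ x})
    (fun z hz => (hA x hx).2 z hz) (fun _ _ => rfl) hy hv
  rw [← Module.End.mul_apply, ← map_mul, e', map_mul, Module.End.mul_apply, map_mul,
    Module.End.mul_apply, hyv, (mem_Fixd φ ρ).1 hv x hx]

/-! ### Families of cells -/

/-- Data of a cell: the long slot, its translations (later ones first) and the slots kept trivial. -/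
structure CellData where
  e : ℕ
  tr : List (ℕ × ℕ)
  Z : List ℕ

/-- The conditions on one cell in `L`. -/
def CellData.Good (L : List ℕ) (c : CellData) : Prop :=
  c.e ∈ L ∧ sym.img c.e = c.e ∧ (∀ z ∈ c.Z, z ∈ L ∧ z ≠ c.e) ∧
    (∀ a ∈ c.tr.map Prod.snd, a ∈ L) ∧ (c.tr.map Prod.snd).Nodup ∧ CellOK L c.Z c.e c.tr

instance (L : List ℕ) (c : CellData) : Decidable (c.Good L) := by
  unfold CellData.Good; infer_instance

/-- The exponent of `q` in the number of weights of a cell. -/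
def CellData.wt (c : CellData) : ℕ :=
  ∑ i : Fin (c.tr.map Prod.snd).length,
    if sym.img ((c.tr.map Prod.snd).get i) = (c.tr.map Prod.snd).get i then 1 else 2

variable {q : ℕ}

theorem card_par' (hF : Nat.card {t : K // φ t = t} = q) (hK : Fintype.card K = q ^ 2) (r : ℕ) :
    Fintype.card (Par φ r) = q ^ (if sym.img r = r then 1 else 2) := by
  rw [← Nat.card_eq_fintype_card]
  split_ifs with h
  · rw [pow_one, ← hF]
    exact Nat.card_congr (Equiv.subtypeEquivRight fun t => ⟨fun ht => ht h, fun ht _ => ht⟩)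
  · rw [← hK, ← Nat.card_eq_fintype_card]
    exact Nat.card_congr (Equiv.subtypeUnivEquiv fun t h' => absurd h' h)

/-- The indices of the weights of a family of cells. -/
abbrev CellIdx (cs : List CellData) :=
  Σ j : Fin cs.length, {l : AddChar (Par φ (cs.get j).e) ℂ // l ≠ 0} ×
    ∀ i : Fin ((cs.get j).tr.map Prod.snd).length,
      AddChar (Par φ (((cs.get j).tr.map Prod.snd).get i)) ℂ

open Classical in
theorem cells_le (hne : NonTriv φ) (hF : Nat.card {t : K // φ t = t} = q)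
    (hK : Fintype.card K = q ^ 2) (L : List ℕ) (cs : List CellData) (hgood : ∀ c ∈ cs, c.Good L)
    (hsep : ∀ i j : Fin cs.length, i ≠ j →
      (cs.get i).e ∈ (cs.get j).Z ∨ (cs.get j).e ∈ (cs.get i).Z)
    (hsupp : ∀ c ∈ cs, ∀ lam, lam ≠ 0 → Supp φ ρ {x | x ∈ L} c.e 1 lam)
    (B : List ℕ) (hB : B ⊆ L) (hBZ : ∀ c ∈ cs, B ⊆ c.Z) :
    (q - 1) * ((cs.map fun c => q ^ c.wt).sum) + finrank ℂ (Fixd φ ρ L) ≤
      finrank ℂ (Fixd φ ρ B) := by
  have hex : ∀ a : CellIdx φ cs, ∃ θ : Wgt (fun r => Par φ r),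
      θ (cs.get a.1).e = a.2.1.1 ∧ (∀ z ∈ (cs.get a.1).Z, θ z = 0) ∧
      (∀ i, θ (((cs.get a.1).tr.map Prod.snd).get i) = a.2.2 i) ∧
      Sp {x | x ∈ L} θ ≠ ⊥ := by
    rintro ⟨j, ⟨lam, hlam⟩, f⟩
    have hc := List.get_mem cs j
    obtain ⟨he, -, hZ, htr, hnd, hok⟩ := hgood _ hc
    obtain ⟨θ, hθe, hθ0, hθd⟩ := hsupp _ hc lam hlam
    let fW : Wgt (fun r => Par φ r) := fun r =>
      if h : ∃ i, ((cs.get j).tr.map Prod.snd).get i = r then h.choose_spec ▸ f h.choose else 0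
    obtain ⟨θ', h1, h2, h3, h4⟩ := cell ρ (sl φ) (L := {x | x ∈ L})
      (Z := {x | x ∈ (cs.get j).Z}) he (fun z hz => (hZ z hz).1) (hθe ▸ hlam)
      (fun z hz => hθ0 z (hZ z hz).1 (hZ z hz).2) one_pos hθd _ htr hnd (isCell φ hne hok) fW
    refine ⟨θ', h1.trans hθe, h2, fun i => ?_, fun hb => by rw [hb, finrank_bot] at h4; omega⟩
    rw [h3 _ (List.get_mem _ i)]
    have h : ∃ i', ((cs.get j).tr.map Prod.snd).get i' = ((cs.get j).tr.map Prod.snd).get i :=
      ⟨i, rfl⟩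
    have key : ∀ (i' : Fin ((cs.get j).tr.map Prod.snd).length)
        (e : ((cs.get j).tr.map Prod.snd).get i' = ((cs.get j).tr.map Prod.snd).get i),
        i' = i → e ▸ f i' = f i := by
      intro i' e hi; subst hi; rfl
    simp only [fW, dif_pos h]
    exact key _ h.choose_spec (List.nodup_iff_injective_get.1 hnd h.choose_spec)
  choose Θ hΘe hΘZ hΘa hΘb using hex
  have hmain := card_add_le_finrank ρ (sl φ) (L := {x | x ∈ L}) Θ (Fixd φ ρ B) (fun a => ?_) ?_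
    (fun a => ⟨(cs.get a.1).e, (hgood _ (List.get_mem cs a.1)).1, fun h => a.2.1.2
      ((hΘe a).symm.trans h)⟩) (fixd_mono φ ρ hB)
  · refine le_of_eq_of_le (congrArg (· + finrank ℂ (Fixd φ ρ L)) ?_) hmain
    rw [Fintype.card_sigma, ← Fin.sum_univ_fun_getElem cs (fun c => q ^ c.wt), Finset.mul_sum]
    refine Finset.sum_congr rfl fun j _ => ?_
    rw [Fintype.card_prod, Fintype.card_pi, Fintype.card_subtype_compl, Fintype.card_subtype_eq,
      AddChar.card_eq, card_par' φ hF hK, if_pos (hgood _ (List.get_mem cs j)).2.1, pow_one]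
    congr 1
    rw [Finset.prod_congr rfl fun i _ => (AddChar.card_eq.trans (card_par' φ hF hK _)),
      Finset.prod_pow_eq_pow_sum]
    rfl
  · obtain ⟨v, hv, hv0⟩ := Submodule.exists_mem_ne_zero_of_ne_bot (hΘb a)
    refine Submodule.ne_bot_iff _ |>.2 ⟨v, ⟨hv, (mem_Fixd φ ρ).2 fun x hx u => ?_⟩, hv0⟩
    rw [(mem_eigSp ρ (sl φ)).1 hv x (hB hx) u, hΘZ a x (hBZ _ (List.get_mem cs a.1) hx),
      AddChar.zero_apply, one_smul]
  · rintro ⟨j, l, f⟩ ⟨j', l', f'⟩ hab
    have hgj := hgood _ (List.get_mem cs j)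
    have hgj' := hgood _ (List.get_mem cs j')
    by_contra hcon
    push Not at hcon
    by_cases hj : j = j'
    · subst hj
      refine hab (Sigma.ext rfl (heq_of_eq (Prod.ext (Subtype.ext ?_) (funext fun i => ?_))))
      · exact (hΘe ⟨j, l, f⟩).symm.trans ((hcon _ hgj.1).trans (hΘe ⟨j, l', f'⟩))
      · exact (hΘa ⟨j, l, f⟩ i).symm.trans
          ((hcon _ (hgj.2.2.2.1 _ (List.get_mem _ i))).trans (hΘa ⟨j, l', f'⟩ i))
    · rcases hsep j j' hj with h | h
      · exact l.2 ((hΘe ⟨j, l, f⟩).symm.trans ((hcon _ hgj.1).trans (hΘZ ⟨j', l', f'⟩ _ h)))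
      · exact l'.2 ((hΘe ⟨j', l', f'⟩).symm.trans
          ((hcon _ hgj'.1).symm.trans (hΘZ ⟨j, l, f⟩ _ h)))

/-! ### The vector with degenerate character -/

/-- The instructions for finding the slots fixing a vector. -/
inductive Step where
  | eig (γ : ℕ) : Step
  | triv (γ x w : ℕ) : Step

/-- The conditions for the instructions: `A` is the abelian subgroup, `T` the slots known to fix
the vector, `E` the slots known to act by scalars. -/
def StepsOK (A : List ℕ) : List ℕ → List ℕ → List Step → Prop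
  | _, _, [] => True
  | T, E, Step.eig γ :: l => (∀ x ∈ A, Ok γ x ∧ ∀ z ∈ news γ x, z ∈ T) ∧ StepsOK A T (γ :: E) l
  | T, E, Step.triv γ x w :: l =>
    γ ∈ E ∧ x ∈ E ∧ w ∈ E ∧ TrivOK γ x w T ∧ StepsOK A (w :: T) E l

instance decStepsOK (A : List ℕ) : ∀ T E l, Decidable (StepsOK A T E l)
  | _, _, [] => isTrue trivial
  | T, E, Step.eig γ :: l => @instDecidableAnd _ _ inferInstance (decStepsOK A T (γ :: E) l)
  | T, E, Step.triv γ x w :: l =>
    @instDecidableAnd _ _ inferInstance (@instDecidableAnd _ _ inferInstance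
      (@instDecidableAnd _ _ inferInstance (@instDecidableAnd _ _ inferInstance
        (decStepsOK A (w :: T) E l))))

/-- The slots shown to fix the vector. -/
def stepsT : List ℕ → List Step → List ℕ
  | T, [] => T
  | T, Step.eig _ :: l => stepsT T l
  | T, Step.triv _ _ w :: l => stepsT (w :: T) l

theorem steps_fix (hne : NonTriv φ) (A : List ℕ) (θ : Wgt (fun r => Par φ r))
    (hW : finrank ℂ (Sp {x | x ∈ A} θ) ≤ 1) {v : V} (hv : v ∈ Sp {x | x ∈ A} θ) (hv0 : v ≠ 0) :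
    ∀ (l : List Step) (T E : List ℕ), StepsOK A T E l →
      (∀ x ∈ T, ∀ u, ρ (sl φ x u) v = v) → (∀ x ∈ E, ∀ u, ∃ c : ℂ, ρ (sl φ x u) v = c • v) →
      ∀ x ∈ stepsT T l, ∀ u, ρ (sl φ x u) v = v
  | [], _, _, _, hT, _ => hT
  | Step.eig γ :: l, T, E, ⟨h, hl⟩, hT, hE => by
    refine steps_fix hne A θ hW hv hv0 l T (γ :: E) hl hT ?_
    intro x hx u
    rcases List.mem_cons.1 hx with rfl | hx
    · have hspan : Sp {z | z ∈ A} θ = ℂ ∙ v :=
        (Submodule.eq_of_le_of_finrank_le ((Submodule.span_singleton_le_iff_mem _ _).2 hv)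
          (by rw [finrank_span_singleton hv0]; exact hW)).symm
      have hmem : ρ (sl φ x u) v ∈ Sp {z | z ∈ A} θ := by
        rw [mem_eigSp]
        intro a ha b
        obtain ⟨y, hy, e⟩ := conj_news φ (h a ha).1 (-u) b
        rw [AddChar.map_neg_eq_inv, inv_inv] at e
        have e' : sl φ a b * sl φ x u = sl φ x u * (sl φ a b * y) := by rw [← e]; group
        have hyv : ρ y v = v := fix_of_triv ρ (sl φ) (L := {z | z ∈ T}) (N := {z | z ∈ news x a})
          (θ := 0) (fun z hz => (h a ha).2 z hz) (fun _ _ => rfl) hy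
          ((mem_eigSp ρ (sl φ)).2 fun z hz w => by
            rw [hT z hz w, Pi.zero_apply, AddChar.zero_apply, one_smul])
        rw [← Module.End.mul_apply, ← map_mul, e', map_mul, Module.End.mul_apply, map_mul,
          Module.End.mul_apply, hyv, (mem_eigSp ρ (sl φ)).1 hv a ha, map_smul]
      rw [hspan, Submodule.mem_span_singleton] at hmem
      obtain ⟨c, hc⟩ := hmem
      exact ⟨c, hc.symm⟩
    · exact hE x hx u
  | Step.triv γ x w :: l, T, E, ⟨hγ, hx, hw, hok, hl⟩, hT, hE => by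
    refine steps_fix hne A θ hW hv hv0 l (w :: T) E hl ?_ hE
    intro z hz u
    rcases List.mem_cons.1 hz with rfl | hz
    · obtain ⟨t, s, y, hy, e⟩ := exists_comm φ hok hne u
      obtain ⟨c, hc⟩ := hE z hw u
      rw [hc, triv_of_comm ρ (sl φ) hv0 hT u hc (hE γ hγ t) (hE x hx s) hy e, one_smul]
    · exact hT z hz u

/-! ### The data -/

/-- The abelian half of the radical, with the centre. -/
abbrev LA : Fin 8 → ℕ := ![71, 46, 47, 48, 49, 51, 52, 63]

/-- Its slots as a list. -/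
def listA : List ℕ := [71, 46, 47, 48, 49, 51, 52, 63]

/-- The slots of the radical. -/
def listQ : List ℕ := [46, 47, 48, 49, 51, 52, 53, 54, 55, 63, 65, 66, 69, 70, 71]

/-- The slots of the radical and of the abelian radical in its Levi part. -/
def listQX : List ℕ := listQ ++ [39, 40, 41, 44, 45, 60]

/-- The slots of the radical of the parabolic subgroup of type A2. -/
def list12 : List ℕ :=
  [36, 37, 38, 40, 41, 44, 45, 48, 49, 51, 52, 53, 54, 55, 60, 63, 65, 66, 69, 70, 71]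

/-- The instructions. -/
def steps : List Step :=
  [.eig 14, .eig 15, .eig 29, .eig 36, .eig 37, .eig 38, .eig 53, .eig 54, .eig 55, .eig 65,
    .eig 66, .eig 69, .eig 70, .triv 29 38 36, .triv 15 38 37, .triv 36 37 38, .triv 14 55 53,
    .triv 14 66 54, .triv 14 69 55, .triv 29 66 65, .triv 29 69 66, .triv 37 66 69, .eig 39,
    .eig 44, .eig 60, .triv 39 69 70, .eig 40, .eig 41, .eig 45, .triv 14 41 39, .triv 14 45 40,
    .triv 14 60 41, .triv 15 45 44, .triv 15 60 45, .triv 36 45 60]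

/-- The cells of the orbit in the radical. -/
def cellsQ : List CellData :=
  [⟨46, [(11, 63), (12, 52), (27, 51), (13, 49), (28, 48), (32, 47)], [71]⟩,
   ⟨47, [(11, 65), (12, 54), (27, 53), (14, 49), (29, 48)], [46, 71]⟩,
   ⟨51, [(11, 69), (13, 55), (32, 53), (15, 52)], [46, 47, 48, 49, 71]⟩,
   ⟨53, [(11, 70), (14, 55), (15, 54)], [46, 47, 48, 49, 51, 52, 63, 71]⟩,
   ⟨63, [(27, 69), (28, 66), (32, 65)], [46, 47, 48, 49, 51, 52, 53, 54, 55, 71]⟩,
   ⟨65, [(27, 70), (29, 66)], [46, 47, 48, 49, 51, 52, 53, 54, 55, 63, 71]⟩,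
   ⟨69, [(32, 70)], [46, 47, 48, 49, 51, 52, 53, 54, 55, 63, 65, 66, 71]⟩,
   ⟨70, [], [46, 47, 48, 49, 51, 52, 53, 54, 55, 63, 65, 66, 69, 71]⟩]

/-- The cells of the orbit in the Levi part. -/
def cellsX : List CellData :=
  [⟨39, [(14, 41), (29, 40)], listQ⟩, ⟨44, [(15, 45)], [39, 40, 41] ++ listQ⟩,
   ⟨60, [], [39, 40, 41, 44, 45] ++ listQ⟩]

/-- The words carrying the slots of the orbit in the radical to the first one. -/
def wordsQ : List (List ℕ × Fin 6) :=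
  [([], 3), ([3], 1), ([3, 4], 1), ([3, 4, 3], 3), ([3, 4, 5], 1), ([3, 4, 3, 5], 3),
    ([3, 4, 3, 5, 4], 3), ([3, 4, 3, 5, 4, 3], 3)]

/-- The words carrying the slots of the orbit in the Levi part to the first one. -/
def wordsX : List (List ℕ × Fin 6) := [([], 1), ([4], 1), ([4, 5], 1)]

/-- The conditions relating cells and words. -/
def WordsOK (L : List ℕ) (f : ℕ) (cs : List CellData) (ws : List (List ℕ × Fin 6)) : Prop :=
  sym.img f = f ∧ ∀ c ∈ cs, sym.img c.e = c.e ∧ c.e ∈ L ∧ ∃ w ∈ ws, (∀ i ∈ w.1, i < 6) ∧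
    (∀ x ∈ L, x < 72 ∧ rep (wW w.1 x) ∈ L) ∧ rep (wW w.1 c.e) = f ∧
    (∀ x ∈ L, x ≠ c.e → rep (wW w.1 x) ≠ f) ∧ sym.node w.2.1 = w.2.1 ∧
    (chevE6.cartan w.2.1 c.e = 1 ∨ chevE6.cartan w.2.1 c.e = -1)

instance (L : List ℕ) (f : ℕ) (cs : List CellData) (ws : List (List ℕ × Fin 6)) :
    Decidable (WordsOK L f cs ws) := by unfold WordsOK; infer_instance

theorem supp_cells {L : List ℕ} {f : ℕ} {cs : List CellData} {ws : List (List ℕ × Fin 6)}
    (hok : WordsOK L f cs ws)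
    (h : ∀ lam : AddChar (Par φ f) ℂ, lam ≠ 0 → Supp φ ρ {x | x ∈ L} f 1 lam) :
    ∀ c ∈ cs, ∀ lam, lam ≠ 0 → Supp φ ρ {x | x ∈ L} c.e 1 lam := by
  intro c hc lam hlam
  obtain ⟨hel, he, w, -, hl, hL, hef, hoth, hk, hexp⟩ := hok.2 c hc
  exact weyl_slot φ ρ w.1 hl hL he hef hel hok.1 hoth one_pos h w.2 hk hexp lam hlam

theorem cellsQ_good : ∀ c ∈ cellsQ, c.Good listQ ∧ [71] ⊆ c.Z := by decide +kernel

theorem cellsX_good : ∀ c ∈ cellsX, c.Good listQX ∧ listQ ⊆ c.Z := by decide +kernel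

theorem cellsQ_sep : ∀ i j : Fin cellsQ.length, i ≠ j →
    (cellsQ.get i).e ∈ (cellsQ.get j).Z ∨ (cellsQ.get j).e ∈ (cellsQ.get i).Z := by decide +kernel

theorem cellsX_sep : ∀ i j : Fin cellsX.length, i ≠ j →
    (cellsX.get i).e ∈ (cellsX.get j).Z ∨ (cellsX.get j).e ∈ (cellsX.get i).Z := by decide +kernel

theorem cellsQ_wt : cellsQ.map CellData.wt = [9, 8, 6, 5, 4, 3, 1, 0] := by decide +kernel

theorem cellsX_wt : cellsX.map CellData.wt = [4, 2, 0] := by decide +kernel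

theorem wordsQ_ok : WordsOK listQ 46 cellsQ wordsQ := by decide +kernel

theorem wordsX_ok : WordsOK listQX 39 cellsX wordsX := by decide +kernel

theorem steps_ok :
    StepsOK listA [71, 47, 48, 49, 51, 52, 63] [71, 46, 47, 48, 49, 51, 52, 63] steps := by
  decide +kernel

theorem steps_all : ∀ x ∈ listQX ++ list12, x = 46 ∨
    x ∈ stepsT [71, 47, 48, 49, 51, 52, 63] steps := by decide +kernel

/-- The translations by the other half of the radical, and by the Levi part. -/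
theorem cellA_ok :
    CellOK listA [] 71 [(53, 63), (54, 52), (65, 51), (55, 49), (66, 48), (69, 47), (70, 46)] ∧
    CellOK listA [71] 46 [(11, 63), (12, 52), (27, 51), (13, 49), (28, 48), (32, 47)] := by
  decide +kernel

theorem cartan_facts : chevE6.cartan 1 71 = 1 ∧ chevE6.cartan 3 46 = -1 ∧
    chevE6.cartan 1 39 = -1 ∧ sym.node 1 = 1 ∧ sym.node 3 = 3 ∧
    sym.img 71 = 71 ∧ sym.img 46 = 46 ∧ sym.img 39 = 39 ∧ sym.img 47 = 47 := by decide +kernel

theorem conjA_facts :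
    (∀ x ∈ ([71] : List ℕ), x < 72 ∧ rep (wW [3, 4, 5, 3, 4, 3, 1] x) ∈ [46]) ∧
    (∀ x ∈ ([46] : List ℕ), x < 72 ∧ rep (wW [1, 3, 4, 3, 5, 4, 3] x) ∈ [71]) := by decide +kernel

theorem conj12_facts :
    (∀ x ∈ list12 ++ [39], x < 72 ∧ rep (wW [1] x) ∈ list12 ++ [47]) ∧
    (∀ x ∈ list12 ++ [47], x < 72 ∧ rep (wW [1] x) ∈ list12 ++ [39]) ∧
    (∀ x ∈ list12 ++ [46], x < 72 ∧ rep (wW [3] x) ∈ list12 ++ [47]) ∧
    (∀ x ∈ list12 ++ [47], x < 72 ∧ rep (wW [3] x) ∈ list12 ++ [46]) := by decide +kernel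

theorem shear_facts :
    (∀ g ∈ [39, 46, 47], ∀ x ∈ list12, Ok g x ∧ ∀ z ∈ news g x, z ∈ list12) ∧
    Targ 46 39 47 ∧ Targ 39 46 47 ∧ Ok 39 47 ∧ news 39 47 = [] ∧ Ok 46 47 ∧ news 46 47 = [] ∧
    (∀ x ∈ list12 ++ [46, 47], Ok 39 x ∧ ∀ z ∈ news 39 x, z ∈ list12 ++ [46, 47]) := by
  decide +kernel

end CfsgLib.MinDeg.TwE6
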