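import Cfsg.Agent.Lib.MinDeg.TwE6Bound

/-!
# The main count for the twisted groups of type E6
-/

set_option autoImplicit false
set_option linter.unusedSectionVars false
set_option maxHeartbeats 1600000

namespace CfsgLib.MinDeg.TwE6

open Module Cfsg.Lie CfsgLib.Chev CfsgLib.Chevalley CfsgLib.Twisted
open CfsgLib.Twisted.E6 (sym sym_test sym_nodeTest tb)
open CfsgLib.MinDeg.Slots

variable {K : Type*} [Field K] [Fintype K] (φ : K ≃+* K) [hinv : Fact (∀ x : K, φ (φ x) = x)]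
variable {V : Type*} [AddCommGroup V] [Module ℂ V] [FiniteDimensional ℂ V]
  (ρ : Representation ℂ (Γ φ) V)

local notation "Sp" => eigSp ρ (sl φ)

theorem la_facts : (∀ i j : Fin 8, i ≠ j → Ok (LA i) (LA j) ∧ news (LA i) (LA j) = []) ∧
    Function.Injective LA ∧ (∀ i, LA i ∈ listA) ∧ (∀ x ∈ listA, ∃ i, LA i = x) := by decide +kernel

theorem list_facts : (∀ x ∈ listA, x < 72) ∧ (∀ x ∈ listQX, x < 72) ∧ listQ ⊆ listQX ∧ [71] ⊆ listQ ∧
    (∀ x ∈ listQX, x ≠ 39 → x ∈ list12 ++ [46, 47]) ∧ (39 ∈ listQX ∧ 46 ∈ listQ ∧ 47 ∈ listQX ∧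
    46 ∈ listA ∧ 71 ∈ listA) ∧
    (∀ x ∈ listQ, x ≠ 46 → x ∈ stepsT [71, 47, 48, 49, 51, 52, 63] steps) := by decide +kernel

theorem commute_of_nil {γ x : ℕ} (h : Ok γ x) (hn : news γ x = []) (t : Par φ γ) (u : Par φ x) :
    Commute (sl φ γ t) (sl φ x u) := by
  obtain ⟨y, hy, e⟩ := conj_news φ h t u
  have hy1 : y = 1 := by
    have hS : {z : ℕ | z ∈ news γ x} = (∅ : Set ℕ) := by simp [hn]
    rw [hS, slG] at hy
    simpa using hy
  rw [hy1, mul_one, mul_inv_eq_iff_eq_mul] at e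
  exact e

/-- The abelian subgroup as a character. -/
noncomputable def uA : AddChar (∀ i : Fin 8, Par φ (LA i)) (Γ φ) :=
  prodChar (fun i => sl φ (LA i)) fun i j hij a b =>
    commute_of_nil φ (la_facts.1 i j hij).1 (la_facts.1 i j hij).2 a b

theorem uA_single (i : Fin 8) (u : Par φ (LA i)) : uA φ (Pi.single i u) = sl φ (LA i) u :=
  prodChar_single (fun i => sl φ (LA i)) _ i u

/-- A character from its restrictions to the slots. -/
noncomputable def mkA (f : ∀ i : Fin 8, AddChar (Par φ (LA i)) ℂ) :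
    AddChar (∀ i : Fin 8, Par φ (LA i)) ℂ where
  toFun a := ∏ i, f i (a i)
  map_zero_eq_one' := Finset.prod_eq_one fun i _ => AddChar.map_zero_eq_one _
  map_add_eq_mul' a b := by
    rw [← Finset.prod_mul_distrib]
    exact Finset.prod_congr rfl fun i _ => AddChar.map_add_eq_mul _ _ _

theorem mkA_single (f : ∀ i : Fin 8, AddChar (Par φ (LA i)) ℂ) (i : Fin 8) (u : Par φ (LA i)) :
    mkA φ f (Pi.single i u) = f i u := by
  show ∏ j, f j ((Pi.single i u : ∀ j, Par φ (LA j)) j) = f i u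
  rw [Finset.prod_eq_single i (fun j _ hj => by rw [Pi.single_eq_of_ne hj, AddChar.map_zero_eq_one])
    (by simp), Pi.single_eq_same]

theorem char_sum {A : Type*} [AddCommGroup A] {ι : Type*} (ψ : AddChar A ℂ) (s : Finset ι)
    (g : ι → A) : ψ (∑ i ∈ s, g i) = ∏ i ∈ s, ψ (g i) := by
  classical
  induction s using Finset.induction with
  | empty => simp
  | insert i s hi ih => rw [Finset.sum_insert hi, Finset.prod_insert hi, AddChar.map_add_eq_mul, ih]

theorem mkA_bijective : Function.Bijective (mkA φ) := by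
  refine ⟨fun f g h => funext fun i => AddChar.ext _ _ fun u => ?_, fun ψ => ?_⟩
  · rw [← mkA_single φ f, ← mkA_single φ g, h]
  · refine ⟨fun i => ψ.compAddMonoidHom (AddMonoidHom.single (fun i => ↥(Par φ (LA i))) i),
      AddChar.ext _ _ fun a => ?_⟩
    conv_rhs => rw [← Finset.univ_sum_single a, char_sum]
    rfl

/-- A weight with given values on the abelian subgroup. -/
noncomputable def thetaOf (f : ∀ i : Fin 8, AddChar (Par φ (LA i)) ℂ) :
    Wgt (fun r => Par φ r) := fun r =>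
  if h : ∃ i, LA i = r then h.choose_spec ▸ f h.choose else 0

theorem thetaOf_LA (f : ∀ i : Fin 8, AddChar (Par φ (LA i)) ℂ) (i : Fin 8) :
    thetaOf φ f (LA i) = f i := by
  have h : ∃ i', LA i' = LA i := ⟨i, rfl⟩
  have key : ∀ (i' : Fin 8) (e : LA i' = LA i), i' = i → e ▸ f i' = f i := by
    intro i' e hi; subst hi; rfl
  rw [thetaOf, dif_pos h]
  exact key _ h.choose_spec (la_facts.2.1 h.choose_spec)

/-- The multiplicity of a weight of the abelian subgroup. -/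
noncomputable def dA (f : ∀ i : Fin 8, AddChar (Par φ (LA i)) ℂ) : ℕ :=
  finrank ℂ (weightSpace (resChar ρ (uA φ)) (mkA φ f))

theorem weightSpace_eq {f : ∀ i : Fin 8, AddChar (Par φ (LA i)) ℂ} {θ : Wgt (fun r => Par φ r)}
    (h : ∀ i, θ (LA i) = f i) :
    weightSpace (resChar ρ (uA φ)) (mkA φ f) = Sp {x | x ∈ listA} θ := by
  ext v
  rw [mem_weightSpace, mem_eigSp]
  constructor
  · intro hv x hx u
    obtain ⟨i, rfl⟩ := la_facts.2.2.2 x hx
    have := hv (Pi.single i u)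
    rw [resChar_apply, uA_single, mkA_single] at this
    rw [this, h i]
  · intro hv a
    rw [resChar_apply, ← Finset.univ_sum_single a]
    generalize (Finset.univ : Finset (Fin 8)) = s
    induction s using Finset.induction with
    | empty => simp
    | insert i s hi ih =>
      rw [Finset.sum_insert hi, AddChar.map_add_eq_mul, AddChar.map_add_eq_mul, map_mul,
        Module.End.mul_apply, ih, map_smul, uA_single, mkA_single,
        hv _ (la_facts.2.2.1 i), smul_smul, h i, mul_comm]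

open Classical in
theorem sum_dA (S : Set (∀ i : Fin 8, Par φ (LA i))) (U : Submodule ℂ V)
    (hU : ∀ v, v ∈ U ↔ ∀ a ∈ S, ρ (uA φ a) v = v) :
    finrank ℂ U = ∑ f ∈ Finset.univ.filter (fun f => ∀ a ∈ S, mkA φ f a = 1), dA φ ρ f := by
  rw [finrank_fixed_eq (resChar ρ (uA φ)) S U hU]
  refine (Finset.sum_bij (fun f _ => mkA φ f) (fun f hf => by simpa using hf)
    (fun f _ g _ h => (mkA_bijective φ).1 h) (fun ψ hψ => ?_) fun f _ => rfl).symm
  obtain ⟨f, rfl⟩ := (mkA_bijective φ).2 ψ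
  exact ⟨f, by simpa using hψ, rfl⟩

open Classical in
theorem sum_slot (i : Fin 8) :
    finrank ℂ (Fixd φ ρ [LA i]) =
      ∑ f ∈ Finset.univ.filter (fun f : ∀ i : Fin 8, AddChar (Par φ (LA i)) ℂ => f i = 0),
        dA φ ρ f := by
  rw [sum_dA φ ρ (Set.range fun u => Pi.single i u) _ fun v => ?_]
  · refine Finset.sum_congr (Finset.ext fun f => ?_) fun _ _ => rfl
    simp only [Finset.mem_filter, Finset.mem_univ, true_and, Set.forall_mem_range, mkA_single]
    exact ⟨fun h => AddChar.ext _ _ fun u => (h u).trans rfl, fun h u => by rw [h]; rfl⟩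
  · rw [mem_Fixd]
    constructor
    · rintro h _ ⟨u, rfl⟩
      rw [uA_single]; exact h _ (List.mem_singleton.2 rfl) u
    · intro h x hx u
      obtain rfl := List.mem_singleton.1 hx
      have := h _ ⟨u, rfl⟩
      rwa [uA_single] at this

open Classical in
theorem sum_all : finrank ℂ V = ∑ f, dA φ ρ f := by
  rw [← finrank_top ℂ V, sum_dA φ ρ ∅ ⊤ (by simp)]
  simp

variable {q : ℕ}

open Classical in
/-- The weights with prescribed vanishing on the first two slots. -/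
theorem card_weights (hF : Nat.card {t : K // φ t = t} = q) (hK : Fintype.card K = q ^ 2) :
    (Finset.univ.filter (fun f : ∀ i : Fin 8, AddChar (Par φ (LA i)) ℂ => f 0 ≠ 0)).card =
      (q - 1) * q ^ 10 ∧
    (Finset.univ.filter (fun f : ∀ i : Fin 8, AddChar (Par φ (LA i)) ℂ => f 0 ≠ 0 ∧ f 1 = 0)).card =
      (q - 1) * q ^ 9 ∧
    (Finset.univ.filter (fun f : ∀ i : Fin 8, AddChar (Par φ (LA i)) ℂ => f 0 = 0 ∧ f 1 ≠ 0)).card =
      (q - 1) * q ^ 9 := by
  have hc : ∀ i : Fin 8, Fintype.card (AddChar (Par φ (LA i)) ℂ) =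
      q ^ ([1, 1, 1, 2, 2, 1, 2, 1].getD i.1 0) := by
    intro i
    rw [AddChar.card_eq, card_par' φ hF hK]
    congr 1
    revert i
    decide +kernel
  have key : ∀ (p : ∀ i : Fin 8, AddChar (Par φ (LA i)) ℂ → Prop),
      (Finset.univ.filter (fun f : ∀ i : Fin 8, AddChar (Par φ (LA i)) ℂ => ∀ i, p i (f i))).card =
        ∏ i, (Finset.univ.filter (p i)).card := by
    intro p
    rw [← Fintype.card_piFinset]
    congr 1
    ext f
    simp [Fintype.mem_piFinset]
  have count : ∀ (p : ∀ i : Fin 8, AddChar (Par φ (LA i)) ℂ → Prop) (c : Fin 8 → ℕ),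
      (∀ i, (Finset.univ.filter (p i)).card = c i) →
      ∀ (s : Finset (∀ i : Fin 8, AddChar (Par φ (LA i)) ℂ)), (∀ f, f ∈ s ↔ ∀ i, p i (f i)) →
      s.card = ∏ i, c i := by
    intro p c hp s hs
    rw [show s = Finset.univ.filter (fun f => ∀ i, p i (f i)) from Finset.ext fun f => by simp [hs],
      key]
    exact Finset.prod_congr rfl fun i _ => hp i
  have hne0 : ∀ (i : Fin 8) (s : Finset (AddChar (Par φ (LA i)) ℂ)), (∀ x, x ∈ s ↔ x ≠ 0) →
      i.1 < 2 → s.card = q - 1 := fun i s hs hi => by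
    rw [show s = Finset.univ.erase 0 from Finset.ext fun x => by simp [hs], Finset.card_erase_of_mem
      (Finset.mem_univ _), Finset.card_univ, hc]
    obtain ⟨v, hv⟩ := i
    interval_cases v <;> simp
  have heq0 : ∀ (i : Fin 8) (s : Finset (AddChar (Par φ (LA i)) ℂ)), (∀ x, x ∈ s ↔ x = 0) →
      s.card = 1 := fun i s hs => by
    rw [show s = {0} from Finset.ext fun x => by simp [hs], Finset.card_singleton]
  refine ⟨?_, ?_, ?_⟩
  · rw [count (fun i x => i = 0 → x ≠ 0)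
      (fun i => if i = 0 then q - 1 else q ^ ([1, 1, 1, 2, 2, 1, 2, 1].getD i.1 0)) (fun i => ?_) _
      (fun f => ?_)]
    · simp [Fin.prod_univ_eight]; ring
    · by_cases hi : i = 0
      · subst hi; simp; exact hne0 0 _ (fun x => Finset.mem_filter.trans (and_iff_right (Finset.mem_univ _))) (by decide)
      · simp [hi, hc, Finset.card_univ]
    · rw [Finset.mem_filter]
      exact ⟨fun h i hi => by subst hi; exact h.2, fun h => ⟨Finset.mem_univ _, h 0 rfl⟩⟩
  · rw [count (fun i x => (i = 0 → x ≠ 0) ∧ (i = 1 → x = 0))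
      (fun i => if i = 0 then q - 1 else if i = 1 then 1 else
        q ^ ([1, 1, 1, 2, 2, 1, 2, 1].getD i.1 0)) (fun i => ?_) _ (fun f => ?_)]
    · simp [Fin.prod_univ_eight]; ring
    · by_cases hi : i = 0
      · subst hi; simp; exact hne0 0 _ (fun x => Finset.mem_filter.trans (and_iff_right (Finset.mem_univ _))) (by decide)
      · by_cases hi1 : i = 1
        · subst hi1; simp; exact heq0 1 _ (fun x => Finset.mem_filter.trans (and_iff_right (Finset.mem_univ _)))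
        · simp [hi, hi1, hc, Finset.card_univ]
    · rw [Finset.mem_filter]
      exact ⟨fun h i => ⟨fun hi => by subst hi; exact h.2.1, fun hi => by subst hi; exact h.2.2⟩,
        fun h => ⟨Finset.mem_univ _, (h 0).1 rfl, (h 1).2 rfl⟩⟩
  · rw [count (fun i x => (i = 0 → x = 0) ∧ (i = 1 → x ≠ 0))
      (fun i => if i = 0 then 1 else if i = 1 then q - 1 else
        q ^ ([1, 1, 1, 2, 2, 1, 2, 1].getD i.1 0)) (fun i => ?_) _ (fun f => ?_)]
    · simp [Fin.prod_univ_eight]; ring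
    · by_cases hi : i = 0
      · subst hi; simp; exact heq0 0 _ (fun x => Finset.mem_filter.trans (and_iff_right (Finset.mem_univ _)))
      · by_cases hi1 : i = 1
        · subst hi1; simp; exact hne0 1 _ (fun x => Finset.mem_filter.trans (and_iff_right (Finset.mem_univ _))) (by decide)
        · simp [hi, hi1, hc, Finset.card_univ]
    · rw [Finset.mem_filter]
      exact ⟨fun h i => ⟨fun hi => by subst hi; exact h.2.1, fun hi => by subst hi; exact h.2.2⟩,
        fun h => ⟨Finset.mem_univ _, (h 0).1 rfl, (h 1).2 rfl⟩⟩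

/-- Translations carry a weight to all weights of its kind. -/
theorem translate (hne : NonTriv φ) (i : Fin 8) (k : Fin 6) (hk : sym.node k.1 = k.1)
    (hexp : chevE6.cartan k.1 (LA i) = 1 ∨ chevE6.cartan k.1 (LA i) = -1)
    (hl : sym.img (LA i) = LA i) (Z : List ℕ) (hZ : ∀ z ∈ Z, z ∈ listA)
    (tr : List (ℕ × ℕ)) (htr : ∀ a ∈ tr.map Prod.snd, a ∈ listA) (hnd : (tr.map Prod.snd).Nodup)
    (hcell : CellOK listA Z (LA i) tr)
    (hcov : ∀ j, LA j ∈ Z ∨ LA j = LA i ∨ LA j ∈ tr.map Prod.snd)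
    (f f' : ∀ i : Fin 8, AddChar (Par φ (LA i)) ℂ) (hf : f i ≠ 0) (hf' : f' i ≠ 0)
    (hfZ : ∀ j, LA j ∈ Z → f j = 0) (hfZ' : ∀ j, LA j ∈ Z → f' j = 0) :
    dA φ ρ f ≤ dA φ ρ f' := by
  by_cases h0 : dA φ ρ f = 0
  · omega
  have he := la_facts.2.2.1 i
  have hWeq := weightSpace_eq φ ρ (thetaOf_LA φ f)
  have hW : Sp {x | x ∈ listA} (thetaOf φ f) ≠ ⊥ := fun hb => by
    apply h0; rw [dA, hWeq, hb, finrank_bot]
  obtain ⟨θ₁, h1, h1Z, h1d⟩ := scale φ ρ (L := {x | x ∈ listA}) list_facts.1 he hl k hk hexp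
    (θ := thetaOf φ f) (by rw [thetaOf_LA]; exact hf) hW (f' i) hf'
  have hZ0 : ∀ z ∈ Z, θ₁ z = 0 := fun z hz => by
    obtain ⟨j, rfl⟩ := la_facts.2.2.2 z (hZ z hz)
    exact h1Z _ (la_facts.2.2.1 j) (by rw [thetaOf_LA]; exact hfZ j hz)
  obtain ⟨θ', h2e, h2Z, h2a, h2d⟩ := cell ρ (sl φ) (L := {x | x ∈ listA}) (Z := {x | x ∈ Z}) he
    (fun z hz => hZ z hz) (h1 ▸ hf') hZ0 (d := dA φ ρ f) (by omega)
    (by rw [dA, hWeq]; exact h1d) _ htr hnd (isCell φ hne hcell) (thetaOf φ f')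
  have heq : ∀ j, θ' (LA j) = f' j := by
    intro j
    rcases hcov j with h | h | h
    · rw [h2Z _ h, hfZ' j h]
    · obtain rfl := la_facts.2.1 h
      exact h2e.trans h1
    · rw [h2a _ h, thetaOf_LA]
  calc dA φ ρ f ≤ _ := h2d
    _ = dA φ ρ f' := by rw [dA, weightSpace_eq φ ρ heq]

theorem cell_facts :
    (∀ j : Fin 8, LA j ∈ ([] : List ℕ) ∨ LA j = LA 0 ∨ LA j ∈
      ([(53, 63), (54, 52), (65, 51), (55, 49), (66, 48), (69, 47), (70, 46)] : List (ℕ × ℕ)).map Prod.snd) ∧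
    (∀ j : Fin 8, LA j ∈ [71] ∨ LA j = LA 1 ∨ LA j ∈
      ([(11, 63), (12, 52), (27, 51), (13, 49), (28, 48), (32, 47)] : List (ℕ × ℕ)).map Prod.snd) ∧
    (∀ a ∈ ([(53, 63), (54, 52), (65, 51), (55, 49), (66, 48), (69, 47), (70, 46)] : List (ℕ × ℕ)).map Prod.snd,
      a ∈ listA) ∧
    (∀ a ∈ ([(11, 63), (12, 52), (27, 51), (13, 49), (28, 48), (32, 47)] : List (ℕ × ℕ)).map Prod.snd,
      a ∈ listA) ∧
    (∀ j : Fin 8, LA j ∈ [71] → j = 0) ∧
    (∀ x ∈ ([71, 47, 48, 49, 51, 52, 63] : List ℕ), x ∈ listA ∧ x ≠ 46) := by decide +kernel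

open Classical in
/-- The count. -/
theorem degree_bound (hne : NonTriv φ) (hF : Nat.card {t : K // φ t = t} = q)
    (hK : Fintype.card K = q ^ 2) (hq : 2 ≤ q) (hnt : ∃ t, ρ (sl φ 71 t) ≠ 1) :
    2 * ((q - 1) * q ^ 10) ≤ finrank ℂ V ∨
      (q - 1) * q ^ 10 + (q - 1) * ([9, 8, 6, 5, 4, 3, 1, 0].map (q ^ ·)).sum +
        (q - 1) * ([4, 2, 0].map (q ^ ·)).sum ≤ finrank ℂ V := by
  obtain ⟨hcard0, hcardA, hcardB⟩ := card_weights φ hF hK
  obtain ⟨k1, k3, k39, n1, n3, l71, l46, l39, l47⟩ := cartan_facts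
  obtain ⟨cov0, cov1, tr0, tr1, z71, hT0⟩ := cell_facts
  -- all weights non-trivial on the centre have equal multiplicity
  have tA : ∀ f f' : ∀ i : Fin 8, AddChar (Par φ (LA i)) ℂ, f 0 ≠ 0 → f' 0 ≠ 0 →
      dA φ ρ f ≤ dA φ ρ f' := fun f f' hf hf' =>
    translate φ ρ hne 0 1 n1 (Or.inl k1) l71 [] (by simp) _ tr0 (by decide) cellA_ok.1 cov0
      f f' hf hf' (by simp) (by simp)
  obtain ⟨f₁, hf₁, hd₁⟩ : ∃ f : ∀ i : Fin 8, AddChar (Par φ (LA i)) ℂ, f 0 ≠ 0 ∧ 1 ≤ dA φ ρ f := by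
    obtain ⟨t, ht⟩ : ∃ t : Par φ (LA 0), ρ (sl φ (LA 0) t) ≠ 1 := hnt
    obtain ⟨ψ, hψ, hW⟩ := exists_weight_apply_ne_one (resChar ρ (uA φ))
      (a := Pi.single (0 : Fin 8) t) (by rw [resChar_apply, uA_single]; exact ht)
    obtain ⟨f, rfl⟩ := (mkA_bijective φ).2 ψ
    exact ⟨f, fun h => hψ (by rw [mkA_single, h]; rfl), one_le_finrank_of_ne_bot hW⟩
  have hall := sum_all φ ρ
  rw [← Finset.sum_filter_add_sum_filter_not _ (fun f => f 0 ≠ 0)] at hall
  by_cases hbig : 2 ≤ dA φ ρ f₁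
  · left
    rw [hall]
    refine le_trans ?_ (Nat.le_add_right _ _)
    rw [← hcard0, mul_comm, ← smul_eq_mul, ← Finset.sum_const]
    exact Finset.sum_le_sum fun f hf => hbig.trans (tA f₁ f hf₁ (Finset.mem_filter.1 hf).2)
  right
  have hone : ∀ f : ∀ i : Fin 8, AddChar (Par φ (LA i)) ℂ, f 0 ≠ 0 → dA φ ρ f = 1 := fun f hf => by
    have := tA f₁ f hf₁ hf
    have := tA f f₁ hf hf₁
    omega
  have hz : finrank ℂ V = (q - 1) * q ^ 10 + finrank ℂ (Fixd φ ρ [71]) := by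
    rw [hall, Finset.sum_congr rfl (fun f hf => hone f (Finset.mem_filter.1 hf).2),
      Finset.sum_const, smul_eq_mul, mul_one, hcard0, show Fixd φ ρ [71] = Fixd φ ρ [LA 0] from rfl,
      sum_slot φ ρ 0]
    congr 1
    exact Finset.sum_congr (Finset.filter_congr fun f _ => not_not) fun _ _ => rfl
  -- the weights trivial on the centre and not on the first slot have multiplicity one
  have tB : ∀ f f' : ∀ i : Fin 8, AddChar (Par φ (LA i)) ℂ, f 0 = 0 → f 1 ≠ 0 → f' 0 = 0 → f' 1 ≠ 0 →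
      dA φ ρ f ≤ dA φ ρ f' := fun f f' h0 h1 h0' h1' =>
    translate φ ρ hne 1 3 n3 (Or.inr k3) l46 [71]
      (fun z hz => by rw [List.mem_singleton.1 hz]; exact list_facts.2.2.2.2.2.1.2.2.2.2) _ tr1
      (by decide) cellA_ok.2 cov1 f f' h1 h1'
      (fun j hj => by obtain rfl := z71 j hj; exact h0) (fun j hj => by obtain rfl := z71 j hj; exact h0')
  set SB := Finset.univ.filter (fun f : ∀ i : Fin 8, AddChar (Par φ (LA i)) ℂ => f 0 = 0 ∧ f 1 ≠ 0)
    with hSB
  have hB : ∑ f ∈ SB, dA φ ρ f = (q - 1) * q ^ 9 := by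
    have e71 := sum_slot φ ρ 0
    have e46 := sum_slot φ ρ 1
    have heq : finrank ℂ (Fixd φ ρ [LA 0]) = finrank ℂ (Fixd φ ρ [LA 1]) :=
      le_antisymm (finrank_fixd_le φ ρ [1, 3, 4, 3, 5, 4, 3] (by decide) conjA_facts.2)
        (finrank_fixd_le φ ρ [3, 4, 5, 3, 4, 3, 1] (by decide) conjA_facts.1)
    rw [e71, e46, ← Finset.sum_filter_add_sum_filter_not
        (Finset.univ.filter fun f : ∀ i : Fin 8, AddChar (Par φ (LA i)) ℂ => f 0 = 0) (fun f => f 1 = 0),
      ← Finset.sum_filter_add_sum_filter_not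
        (Finset.univ.filter fun f : ∀ i : Fin 8, AddChar (Par φ (LA i)) ℂ => f 1 = 0) (fun f => f 0 = 0),
      Finset.filter_filter, Finset.filter_filter, Finset.filter_filter, Finset.filter_filter,
      Finset.filter_congr (p := fun f : ∀ i : Fin 8, AddChar (Par φ (LA i)) ℂ => f 1 = 0 ∧ f 0 = 0)
        (q := fun f => f 0 = 0 ∧ f 1 = 0) (fun f _ => and_comm),
      Finset.filter_congr (p := fun f : ∀ i : Fin 8, AddChar (Par φ (LA i)) ℂ => f 1 = 0 ∧ ¬f 0 = 0)
        (q := fun f => f 0 ≠ 0 ∧ f 1 = 0) (fun f _ => and_comm)] at heq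
    have h2 := Nat.add_left_cancel heq
    refine h2.trans ?_
    rw [Finset.sum_congr rfl (fun f hf => hone f (Finset.mem_filter.1 hf).2.1), Finset.sum_const,
      smul_eq_mul, mul_one, hcardA]
  have honeB : ∀ f ∈ SB, dA φ ρ f = 1 := by
    intro f hf
    have hf' := (Finset.mem_filter.1 hf).2
    have hconst : ∀ g ∈ SB, dA φ ρ g = dA φ ρ f := fun g hg => by
      have hg' := (Finset.mem_filter.1 hg).2
      exact le_antisymm (tB g f hg'.1 hg'.2 hf'.1 hf'.2) (tB f g hf'.1 hf'.2 hg'.1 hg'.2)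
    rw [Finset.sum_congr rfl hconst, Finset.sum_const, smul_eq_mul, hcardB] at hB
    refine Nat.eq_of_mul_eq_mul_left ?_ (hB.trans (mul_one _).symm)
    exact Nat.mul_pos (by omega) (pow_pos (by omega) _)
  -- the vector with degenerate character
  have hline : ∀ lam : AddChar (Par φ 46) ℂ, lam ≠ 0 → ∃ v : V, v ≠ 0 ∧
      (∀ u, ρ (sl φ 46 u) v = lam u • v) ∧
      ∀ x ∈ stepsT [71, 47, 48, 49, 51, 52, 63] steps, ∀ u, ρ (sl φ x u) v = v := by
    intro lam hlam
    let f : ∀ i : Fin 8, AddChar (Par φ (LA i)) ℂ :=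
      Function.update (β := fun i : Fin 8 => AddChar (Par φ (LA i)) ℂ) 0 1 lam
    have hf0 : f 0 = 0 := Function.update_of_ne (by decide) _ _
    have hf1 : f 1 = lam := Function.update_self _ _ _
    have hmem : f ∈ SB := Finset.mem_filter.2 ⟨Finset.mem_univ _, hf0, hf1 ▸ hlam⟩
    have hd := honeB f hmem
    rw [dA, weightSpace_eq φ ρ (thetaOf_LA φ f)] at hd
    obtain ⟨v, hv, hv0⟩ := Submodule.exists_mem_ne_zero_of_ne_bot
      (p := Sp {x | x ∈ listA} (thetaOf φ f)) (fun hb => by rw [hb, finrank_bot] at hd; omega)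
    have hv' := (mem_eigSp ρ (sl φ)).1 hv
    refine ⟨v, hv0, fun u => ?_, steps_fix φ ρ hne listA (thetaOf φ f) hd.le hv hv0 steps _ _
      steps_ok (fun x hx u => ?_) (fun x hx u => ⟨_, hv' x hx u⟩)⟩
    · rw [hv' 46 (la_facts.2.2.1 1) u, show thetaOf φ f 46 = lam from (thetaOf_LA φ f 1).trans hf1]
    · obtain ⟨hxA, hx46⟩ := hT0 x hx
      obtain ⟨j, rfl⟩ := la_facts.2.2.2 x hxA
      have hj : j ≠ 1 := fun h => hx46 (by rw [h]; rfl)
      rw [hv' _ hxA u, thetaOf_LA, show f j = 0 from Function.update_of_ne hj _ _,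
        AddChar.zero_apply, one_smul]
  have hsuppQ : ∀ lam, lam ≠ 0 → Supp φ ρ {x | x ∈ listQ} 46 1 lam := by
    intro lam hlam
    obtain ⟨v, hv0, hv46, hvT⟩ := hline lam hlam
    refine ⟨Function.update (β := fun r => AddChar (Par φ r) ℂ) 0 46 lam, Function.update_self _ _ _,
      fun x _ hx => Function.update_of_ne hx _ _, one_le_finrank_of_ne_bot ?_⟩
    refine Submodule.ne_bot_iff _ |>.2 ⟨v, (mem_eigSp ρ (sl φ)).2 fun x hx u => ?_, hv0⟩
    by_cases h : x = 46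
    · subst h; rw [hv46, Function.update_self]
    · rw [hvT x (list_facts.2.2.2.2.2.2 x hx h) u, Function.update_of_ne h, Pi.zero_apply,
        AddChar.zero_apply, one_smul]
  -- the switch in the parabolic of type A2
  obtain ⟨lam₀, hlam₀⟩ : ∃ lam : AddChar (Par φ 46) ℂ, lam ≠ 0 := by
    obtain ⟨mu, hmu⟩ := (AddChar.exists_apply_ne_zero
      (α := Par φ 46) (a := ⟨1, fun _ => map_one φ⟩)).2
      (fun h => one_ne_zero (congrArg Subtype.val h))
    exact ⟨mu, fun h => hmu (by simp [h])⟩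
  obtain ⟨v, hv0, hv46, hvT⟩ := hline lam₀ hlam₀
  obtain ⟨hst, htA, htB, ok39, nil39, ok46, nil46, hst39⟩ := shear_facts
  have hstab : ∀ g ∈ [39, 46, 47], ∀ (t : Par φ g) (w : V), w ∈ Fixd φ ρ list12 →
      ρ (sl φ g t) w ∈ Fixd φ ρ list12 := fun g hg t w hw => fixd_stable φ ρ (hst g hg) t hw
  have mem_app : ∀ (A : List ℕ) (r : ℕ) (w : V), w ∈ Fixd φ ρ (A ++ [r]) ↔
      w ∈ Fixd φ ρ A ∧ ∀ u, ρ (sl φ r u) w = w := by
    intro A r w; simp [mem_Fixd, or_imp, forall_and]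
  have mem_app2 : ∀ (a : ℕ) (w : V), w ∈ Fixd φ ρ (list12 ++ [a, 47]) ↔
      w ∈ Fixd φ ρ (list12 ++ [a]) ∧ w ∈ Fixd φ ρ (list12 ++ [47]) := by
    intro a w
    constructor
    · intro h
      exact ⟨fixd_mono φ ρ (by simp) h, fixd_mono φ ρ (by simp) h⟩
    · intro ⟨h1, h2⟩
      rw [mem_Fixd] at h1 h2 ⊢
      intro x hx u
      simp only [List.mem_append, List.mem_cons, List.not_mem_nil, or_false] at hx
      rcases hx with h | h | h
      · exact h1 x (by simp [h]) u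
      · exact h1 x (by simp [h]) u
      · exact h2 x (by simp [h]) u
  have hcardP : ∀ r, sym.img r = r → Fintype.card (Par φ r) = q := fun r hr => by
    rw [card_par' φ hF hK, if_pos hr, pow_one]
  have hshear : ∀ γ a, γ ∈ [39, 46, 47] → a ∈ [39, 46, 47] → Targ γ a 47 → Ok γ 47 →
      news γ 47 = [] → (∀ x y, Commute (sl φ a x) (sl φ 47 y)) →
      Fintype.card (Par φ a) * finrank ℂ (Fixd φ ρ (list12 ++ [a])) +
        finrank ℂ (Fixd φ ρ (list12 ++ [47])) = finrank ℂ (Fixd φ ρ list12) +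
        Fintype.card (Par φ a) * finrank ℂ (Fixd φ ρ (list12 ++ [a, 47])) := by
    intro γ a hγ ha htg hok hnil hcomm
    refine shear ρ _ _ _ _ (sl φ a) (sl φ 47) hcomm (fun x w hw => hstab a ha x w hw)
      (fun y w hw => hstab 47 (by simp) y w hw) (mem_app list12 a) (mem_app list12 47)
      (mem_app2 a) fun lam hlam χ => ?_
    obtain ⟨C, hadd, hadd', hsur, hcard, hconj⟩ := pairing φ htg hne
    obtain ⟨t, ht⟩ := exists_pairing_char hcard C hadd hadd' hsur lam hlam χ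
    refine ⟨sl φ γ t, C t, fun w hw => ?_, hconj t, fun y => ?_, ht⟩
    · rw [← AddChar.map_neg_eq_inv]; exact hstab γ hγ (-t) w hw
    · rw [(commute_of_nil φ hok hnil t y).eq, mul_inv_cancel_right]
  have c3947 : ∀ x y, Commute (sl φ 39 x) (sl φ 47 y) := commute_of_nil φ ok39 nil39
  have c4647 : ∀ x y, Commute (sl φ 46 x) (sl φ 47 y) := commute_of_nil φ ok46 nil46
  have e1 := hshear 46 39 (by simp) (by simp) htA ok46 nil46 c3947
  have e2 := hshear 39 46 (by simp) (by simp) htB ok39 nil39 c4647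
  rw [hcardP 39 l39] at e1
  rw [hcardP 46 l46] at e2
  obtain ⟨c1, c2, c3, c4⟩ := conj12_facts
  have hy39 : finrank ℂ (Fixd φ ρ (list12 ++ [39])) = finrank ℂ (Fixd φ ρ (list12 ++ [47])) :=
    le_antisymm (finrank_fixd_le φ ρ [1] (by simp) c2) (finrank_fixd_le φ ρ [1] (by simp) c1)
  have hy46 : finrank ℂ (Fixd φ ρ (list12 ++ [46])) = finrank ℂ (Fixd φ ρ (list12 ++ [47])) :=
    le_antisymm (finrank_fixd_le φ ρ [3] (by simp) c4) (finrank_fixd_le φ ρ [3] (by simp) c3)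
  rw [hy39] at e1
  rw [hy46] at e2
  have hC : finrank ℂ (Fixd φ ρ (list12 ++ [39, 47])) = finrank ℂ (Fixd φ ρ (list12 ++ [46, 47])) :=
    Nat.eq_of_mul_eq_mul_left (by omega : 0 < q) (by omega)
  have hv12 : v ∈ Fixd φ ρ (list12 ++ [39, 47]) := by
    refine (mem_Fixd φ ρ).2 fun x hx u => hvT x ?_ u
    have hx' : x ∈ listQX ++ list12 := by
      simp only [List.mem_append, List.mem_cons, List.not_mem_nil, or_false] at hx ⊢
      rcases hx with h | h | h
      · exact Or.inr h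
      · exact Or.inl (h ▸ list_facts.2.2.2.2.2.1.1)
      · exact Or.inl (h ▸ list_facts.2.2.2.2.2.1.2.2.1)
    refine (steps_all x hx').resolve_left fun h46 => ?_
    subst h46
    revert hx; decide
  obtain ⟨w, hw, t₀, hwt⟩ : ∃ w ∈ Fixd φ ρ (list12 ++ [46, 47]), ∃ t, ρ (sl φ 39 t) w ≠ w := by
    by_contra hcon
    push Not at hcon
    have hle : Fixd φ ρ (list12 ++ [46, 47]) ≤ Fixd φ ρ (list12 ++ [39, 47]) := by
      intro w hw
      rw [mem_Fixd] at hw ⊢
      intro x hx u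
      simp only [List.mem_append, List.mem_cons, List.not_mem_nil, or_false] at hx
      rcases hx with h | h | h
      · exact hw x (by simp [h]) u
      · subst h; exact hcon w ((mem_Fixd φ ρ).2 hw) u
      · exact hw x (by simp [h]) u
    have heq := Submodule.eq_of_le_of_finrank_le hle hC.le
    rw [← heq, mem_Fixd] at hv12
    obtain ⟨u, hu⟩ := AddChar.ne_zero_iff.1 hlam₀
    apply hu
    refine smul_left_injective ℂ hv0 ?_
    show lam₀ u • v = (1 : ℂ) • v
    rw [← hv46, one_smul, hv12 46 (by simp) u]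
  obtain ⟨mu, hmu, w', hw', hw'0, hw'39⟩ : ∃ mu : AddChar (Par φ 39) ℂ, mu ≠ 0 ∧
      ∃ w' ∈ Fixd φ ρ (list12 ++ [46, 47]), w' ≠ 0 ∧ ∀ u, ρ (sl φ 39 u) w' = mu u • w' := by
    by_contra hcon
    push Not at hcon
    apply hwt
    have hproj : ∀ ψ, weightProj (resChar ρ (sl φ 39)) ψ w ∈ Fixd φ ρ (list12 ++ [46, 47]) := by
      intro ψ
      rw [weightProj_apply]
      exact Submodule.smul_mem _ _ (Submodule.sum_mem _ fun u _ =>
        Submodule.smul_mem _ _ (fixd_stable φ ρ hst39 u hw))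
    conv_rhs => rw [← sum_weightProj (resChar ρ (sl φ 39)) w]
    conv_lhs => rw [← sum_weightProj (resChar ρ (sl φ 39)) w]
    rw [map_sum]
    refine Finset.sum_congr rfl fun ψ _ => ?_
    have hm := weightProj_mem (resChar ρ (sl φ 39)) ψ w
    rw [mem_weightSpace] at hm
    by_cases h0 : weightProj (resChar ρ (sl φ 39)) ψ w = 0
    · rw [h0, map_zero]
    · by_cases hψ : ψ = 0
      · have e := hm t₀
        rw [resChar_apply, hψ, AddChar.zero_apply, one_smul] at e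
        rw [hψ]; exact e
      · obtain ⟨u, hu⟩ := hcon ψ hψ _ (hproj ψ) h0
        exact absurd (hm u) hu
  have hsuppX : ∀ lam, lam ≠ 0 → Supp φ ρ {x | x ∈ listQX} 39 1 lam := by
    intro lam hlam
    set θ₀ : Wgt (fun r => Par φ r) := Function.update (β := fun r => AddChar (Par φ r) ℂ) 0 39 mu
      with hθ₀
    have h39 : θ₀ 39 = mu := Function.update_self _ _ _
    have hmemw : w' ∈ Sp {x | x ∈ listQX} θ₀ := (mem_eigSp ρ (sl φ)).2 fun x hx u => by
      by_cases h : x = 39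
      · subst h; rw [h39, hw'39]
      · rw [hθ₀, Function.update_of_ne h, Pi.zero_apply, AddChar.zero_apply, one_smul]
        exact (mem_Fixd φ ρ).1 hw' x (list_facts.2.2.2.2.1 x hx h) u
    have hW : Sp {x | x ∈ listQX} θ₀ ≠ ⊥ := Submodule.ne_bot_iff _ |>.2 ⟨w', hmemw, hw'0⟩
    obtain ⟨θ', h1, h2, h3⟩ := scale φ ρ (L := {x | x ∈ listQX}) list_facts.2.1
      list_facts.2.2.2.2.2.1.1 l39 1 n1 (Or.inr k39) (θ := θ₀) (h39 ▸ hmu) hW lam hlam
    exact ⟨θ', h1, fun x hx hne' => h2 x hx (by rw [hθ₀, Function.update_of_ne hne']; rfl),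
      (one_le_finrank_of_ne_bot hW).trans h3⟩
  -- counting
  have hQ := cells_le φ ρ hne hF hK listQ cellsQ (fun c hc => (cellsQ_good c hc).1) cellsQ_sep
    (supp_cells φ ρ wordsQ_ok hsuppQ) [71] list_facts.2.2.2.1 (fun c hc => (cellsQ_good c hc).2)
  have hX := cells_le φ ρ hne hF hK listQX cellsX (fun c hc => (cellsX_good c hc).1) cellsX_sep
    (supp_cells φ ρ wordsX_ok hsuppX) listQ list_facts.2.2.1 (fun c hc => (cellsX_good c hc).2)
  rw [show (cellsQ.map fun c => q ^ c.wt) = (cellsQ.map CellData.wt).map (q ^ ·) by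
    rw [List.map_map]; rfl, cellsQ_wt] at hQ
  rw [show (cellsX.map fun c => q ^ c.wt) = (cellsX.map CellData.wt).map (q ^ ·) by
    rw [List.map_map]; rfl, cellsX_wt] at hX
  omega

end CfsgLib.MinDeg.TwE6
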