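import Cfsg.Agent.Lib.Twisted.E6Order
import Cfsg.Agent.Lib.Twisted.Commute

/-!
Conjugation of the orbit products of root elements of the twisted group of type E6 by one another,
in the five shapes that occur in the parabolic subgroup of the node of the highest root.
-/

set_option autoImplicit false
set_option linter.unusedSectionVars false

namespace CfsgLib.MinDeg.TwE6

open Cfsg.Lie CfsgLib.Chev CfsgLib.Chevalley CfsgLib.Twisted
open CfsgLib.Twisted.E6 (sym sym_test sym_nodeTest tb comm_one)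

variable {K : Type*} [Field K] (φ : K ≃+* K)

/-- A root element of E6. -/
noncomputable abbrev X (r : ℕ) (t : K) : GL chevE6.Idx K := elX chevE6 K r t

/-- The orbit product of a root. -/
noncomputable abbrev O (r : ℕ) (t : K) : GL chevE6.Idx K := orbX sym_test φ r t

/-- The root elements of `a` and `b` commute. -/
def Co (a b : ℕ) : Prop :=
  a < 72 ∧ b < 72 ∧ b ≠ chevE6.neg a ∧ chevE6.chainEntry a b = []

instance (a b : ℕ) : Decidable (Co a b) := inferInstanceAs (Decidable (_ ∧ _ ∧ _ ∧ _))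

/-- The commutator of the root elements of `a` and `b` lies in the root subgroup of `w`. -/
def Cm (a b w : ℕ) (e : ℤ) : Prop :=
  a < 72 ∧ b < 72 ∧ b ≠ a ∧ b ≠ chevE6.neg a ∧ chevE6.commTerms a b = [(w, e, 1, 1)] ∧
    w < 72 ∧ (e = 1 ∨ e = -1)

instance (a b w : ℕ) (e : ℤ) : Decidable (Cm a b w e) :=
  inferInstanceAs (Decidable (_ ∧ _ ∧ _ ∧ _ ∧ _ ∧ _ ∧ _))

theorem nroots_eq : chevE6.nroots = 72 := rfl

theorem co_comm {a b : ℕ} (h : Co a b) (t u : K) : Commute (X a t) (X b u) :=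
  commute_elX CfsgLib.Chev.E6.checked h.1 h.2.1 h.2.2.1 h.2.2.2 t u

theorem co_conj {a b : ℕ} (h : Co a b) (t u : K) : X a t * X b u * (X a t)⁻¹ = X b u := by
  rw [(co_comm h t u).eq, mul_inv_cancel_right]

theorem cm_conj {a b w : ℕ} {e : ℤ} (h : Cm a b w e) (t u : K) :
    X a t * X b u * (X a t)⁻¹ = X b u * X w ((e : K) * t * u) := by
  obtain ⟨ha, hb, hne, hneg, hterm, -, -⟩ := h
  rw [elX_conj_elX CfsgLib.Chev.E6.checked comm_one (F := K) ha hb hne hneg t u,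
    ChevalleyDatum.commWord, hterm, wordGL]
  simp only [List.map_cons, List.map_nil, List.prod_cons, List.prod_nil, mul_one, pow_one, neg_neg]

theorem O_one {r : ℕ} (h : sym.img r = r) (t : K) : O φ r t = X r t := by
  rw [O, orbX, TwistSym.olen, if_pos h, orbProd_one]

theorem O_two {r : ℕ} (hr : r < 72) (h : sym.img r ≠ r) (t : K) :
    O φ r t = X r t * X (sym.img r) ((sym.sgn r : ℤ) * φ t) := by
  rw [O, orbX, TwistSym.olen, if_neg h, show sym.d = 2 from rfl, orbProd_succ, orbProd_one,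
    Function.iterate_one, twistSigma_elX CfsgLib.Chev.E6.checked sym_test φ hr]

/-- Parameters of the fixed orbit products. -/
def Fx (r : ℕ) (t : K) : Prop := sym.img r = r → φ t = t

theorem fx_isPar (h2 : ∀ x, φ (φ x) = x) {r : ℕ} {t : K} (h : Fx φ r t) : IsPar sym φ r t := by
  rw [IsPar, TwistSym.olen]
  split_ifs with hr
  · exact h hr
  · exact h2 t

theorem O_fixed (h2 : ∀ x, φ (φ x) = x) {r : ℕ} (hr : r < 72) {t : K} (ht : Fx φ r t) :
    O φ r t ∈ fixedSub sym sym_test φ :=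
  orbX_fixed CfsgLib.Chev.E6.checked sym_test φ hr (fx_isPar φ h2 ht)

theorem fx_of_X_fixed {r : ℕ} (hr : r < 72) (h : sym.img r = r) (hs : sym.sgn r = 1) {t : K}
    (ht : X r t ∈ fixedSub sym sym_test φ) : φ t = t := by
  rw [mem_fixedSub, twistSigma_elX CfsgLib.Chev.E6.checked sym_test φ hr, h, hs, Int.cast_one,
    one_mul] at ht
  exact elX_injective CfsgLib.Chev.E6.checked sym_test hr ht

theorem sgn_long : ∀ r < 72, sym.img r = r → sym.sgn r = 1 := by decide +kernel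

/-- Two long roots. -/
structure ShLL (γ r w : ℕ) (e : ℤ) : Prop where
  hγ : sym.img γ = γ
  hr : sym.img r = r
  hw : sym.img w = w
  h : Cm γ r w e

theorem conj_LL (h2 : ∀ x, φ (φ x) = x) {γ r w : ℕ} {e : ℤ} (d : ShLL γ r w e) {t u : K}
    (ht : Fx φ γ t) (hu : Fx φ r u) :
    Fx φ w ((e : K) * t * u) ∧
      O φ γ t * O φ r u * (O φ γ t)⁻¹ = O φ r u * O φ w ((e : K) * t * u) := by
  refine ⟨fun _ => by simp [map_mul, ht d.hγ, hu d.hr], ?_⟩
  rw [O_one φ d.hγ, O_one φ d.hr, O_one φ d.hw, cm_conj d.h]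

/-- A long root acting on a short one; `f` is the possible long root of second order. -/
structure ShLS (γ r w : ℕ) (e e' : ℤ) (f : ℕ) (e'' : ℤ) : Prop where
  hγ : sym.img γ = γ
  hr : sym.img r ≠ r
  hw : sym.img w ≠ w
  h : Cm γ r w e
  h' : Cm γ (sym.img r) (sym.img w) e'
  hsgn : e' * sym.sgn r = sym.sgn w * e
  hf : (Co w (sym.img r) ∧ f = w ∧ e'' = 0) ∨
    (Cm w (sym.img r) f e'' ∧ sym.img f = f ∧ Co f w ∧ Co f (sym.img w))

theorem conj_LS (h2 : ∀ x, φ (φ x) = x) {γ r w f : ℕ} {e e' e'' : ℤ}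
    (d : ShLS γ r w e e' f e'') {t u : K} (ht : Fx φ γ t) :
    ∃ c, Fx φ f c ∧
      O φ γ t * O φ r u * (O φ γ t)⁻¹ = O φ r u * (O φ w ((e : K) * t * u) * O φ f c) := by
  obtain ⟨hlt, -, -, -, -, hw72, -⟩ := d.h
  have hr72 : r < 72 := d.h.2.1
  have ht' := ht d.hγ
  have hsg : ((e' : K) * t * ((sym.sgn r : ℤ) * φ u)) =
      (sym.sgn w : ℤ) * φ ((e : K) * t * u) := by
    rw [map_mul, map_mul, map_intCast, ht', ← mul_assoc, ← mul_assoc, ← mul_assoc,
      mul_right_comm (e' : K) t, ← Int.cast_mul, d.hsgn, Int.cast_mul]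
  have main : O φ γ t * O φ r u * (O φ γ t)⁻¹ =
      X r u * (X w ((e : K) * t * u) * X (sym.img r) ((sym.sgn r : ℤ) * φ u)) *
        X (sym.img w) ((sym.sgn w : ℤ) * φ ((e : K) * t * u)) := by
    rw [O_one φ d.hγ, O_two φ hr72 d.hr, ← hsg,
      show X γ t * (X r u * X (sym.img r) ((sym.sgn r : ℤ) * φ u)) * (X γ t)⁻¹ =
        (X γ t * X r u * (X γ t)⁻¹) *
          (X γ t * X (sym.img r) ((sym.sgn r : ℤ) * φ u) * (X γ t)⁻¹) by group,
      cm_conj d.h, cm_conj d.h']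
    simp only [mul_assoc]
  rcases d.hf with ⟨hco, rfl, rfl⟩ | ⟨hcm, hff, hfw, hfw'⟩
  · refine ⟨0, fun _ => map_zero φ, ?_⟩
    rw [main, (co_comm hco _ _).eq,
      show O φ f 0 = 1 from orbX_zero CfsgLib.Chev.E6.checked sym_test φ hw72, mul_one,
      O_two φ hr72 d.hr, O_two φ hw72 d.hw]
    simp only [mul_assoc]
  · set a := (e : K) * t * u
    set b := ((sym.sgn r : ℤ) : K) * φ u
    have hs : X w a * X (sym.img r) b = X (sym.img r) b * X f ((e'' : K) * a * b) * X w a := by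
      rw [← cm_conj hcm a b, inv_mul_cancel_right]
    have e1 : O φ γ t * O φ r u * (O φ γ t)⁻¹ =
        O φ r u * (O φ w a * O φ f ((e'' : K) * a * b)) := by
      rw [main, hs, O_two φ hr72 d.hr, O_two φ hw72 d.hw, O_one φ hff]
      simp only [mul_assoc]
      congr 2
      exact ((co_comm hfw _ _).mul_right (co_comm hfw' _ _)).eq.trans (mul_assoc _ _ _)
    refine ⟨(e'' : K) * a * b, fun _ => ?_, e1⟩
    refine fx_of_X_fixed φ hcm.2.2.2.2.2.1 hff (sgn_long _ hcm.2.2.2.2.2.1 hff) ?_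
    rw [← O_one φ hff]
    have hg := O_fixed φ h2 hlt ht
    have hx := O_fixed φ h2 hr72 (t := u) (fun h => absurd h d.hr)
    have hwf := O_fixed φ h2 hw72 (t := a) (fun h => absurd h d.hw)
    rw [show O φ f ((e'' : K) * a * b) = (O φ w a)⁻¹ * ((O φ r u)⁻¹ *
      (O φ γ t * O φ r u * (O φ γ t)⁻¹)) by rw [e1]; group]
    exact mul_mem (inv_mem hwf) (mul_mem (inv_mem hx) (mul_mem (mul_mem hg hx) (inv_mem hg)))

/-- A short root acting on a long one. -/
structure ShSL (γ r w : ℕ) (e e' : ℤ) (f : ℕ) (e'' : ℤ) : Prop where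
  hγ : sym.img γ ≠ γ
  hr : sym.img r = r
  hw : sym.img w ≠ w
  h : Cm γ r w e
  h' : Cm (sym.img γ) r (sym.img w) e'
  hsgn : e' * sym.sgn γ = sym.sgn w * e
  hf : Cm γ (sym.img w) f e'' ∧ sym.img f = f

theorem conj_SL (h2 : ∀ x, φ (φ x) = x) {γ r w f : ℕ} {e e' e'' : ℤ}
    (d : ShSL γ r w e e' f e'') {t u : K} (hu : Fx φ r u) :
    ∃ c, Fx φ f c ∧
      O φ γ t * O φ r u * (O φ γ t)⁻¹ = O φ r u * (O φ w ((e : K) * t * u) * O φ f c) := by
  obtain ⟨hlt, hr72, -, -, -, hw72, -⟩ := d.h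
  obtain ⟨hcm, hff⟩ := d.hf
  have hu' := hu d.hr
  set a := (e : K) * t * u
  set b := ((sym.sgn w : ℤ) : K) * φ a
  have hsg : (e' : K) * ((sym.sgn γ : ℤ) * φ t) * u = b := by
    simp only [b, a]
    rw [map_mul, map_mul, map_intCast, hu', ← mul_assoc, ← mul_assoc, ← mul_assoc,
      ← Int.cast_mul, d.hsgn, Int.cast_mul]
  have e1 : O φ γ t * O φ r u * (O φ γ t)⁻¹ = O φ r u * (O φ w a * O φ f ((e'' : K) * t * b)) := by
    rw [O_two φ hlt d.hγ, O_one φ d.hr, O_two φ hw72 d.hw, O_one φ hff]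
    calc X γ t * X (sym.img γ) ((sym.sgn γ : ℤ) * φ t) * X r u *
          (X γ t * X (sym.img γ) ((sym.sgn γ : ℤ) * φ t))⁻¹
        = X γ t * (X (sym.img γ) ((sym.sgn γ : ℤ) * φ t) * X r u *
            (X (sym.img γ) ((sym.sgn γ : ℤ) * φ t))⁻¹) * (X γ t)⁻¹ := by group
      _ = (X γ t * X r u * (X γ t)⁻¹) * (X γ t * X (sym.img w) b * (X γ t)⁻¹) := by
          rw [cm_conj d.h', hsg]; group
      _ = _ := by rw [cm_conj d.h, cm_conj hcm]; simp only [mul_assoc, a, b]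
  refine ⟨(e'' : K) * t * b, fun _ => ?_, e1⟩
  refine fx_of_X_fixed φ hcm.2.2.2.2.2.1 hff (sgn_long _ hcm.2.2.2.2.2.1 hff) ?_
  rw [← O_one φ hff]
  have hg := O_fixed φ h2 hlt (t := t) (fun h => absurd h d.hγ)
  have hx := O_fixed φ h2 hr72 hu
  have hwf := O_fixed φ h2 hw72 (t := a) (fun h => absurd h d.hw)
  rw [show O φ f ((e'' : K) * t * b) = (O φ w a)⁻¹ * ((O φ r u)⁻¹ *
    (O φ γ t * O φ r u * (O φ γ t)⁻¹)) by rw [e1]; group]
  exact mul_mem (inv_mem hwf) (mul_mem (inv_mem hx) (mul_mem (mul_mem hg hx) (inv_mem hg)))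

/-- Two short roots. -/
structure ShSS (γ r w : ℕ) (e e' : ℤ) : Prop where
  hγ : sym.img γ ≠ γ
  hr : sym.img r ≠ r
  h : Cm γ r w e
  h' : Cm (sym.img γ) (sym.img r) (sym.img w) e'
  c1 : Co (sym.img γ) r
  c2 : Co γ (sym.img r)
  c3 : Co γ (sym.img w)
  c4 : Co w (sym.img r)
  hsgn : sym.img w = w ∨ e' * sym.sgn γ * sym.sgn r = sym.sgn w * e

/-- The coefficient produced by two short roots. -/
noncomputable def cSS (γ r w : ℕ) (e e' : ℤ) (t u : K) : K :=
  if sym.img w = w then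
    (e : K) * t * u + (e' : K) * ((sym.sgn γ : ℤ) * φ t) * ((sym.sgn r : ℤ) * φ u)
  else (e : K) * t * u

theorem conj_SS (h2 : ∀ x, φ (φ x) = x) {γ r w : ℕ} {e e' : ℤ} (d : ShSS γ r w e e') (t u : K) :
    Fx φ w (cSS φ γ r w e e' t u) ∧
      O φ γ t * O φ r u * (O φ γ t)⁻¹ = O φ r u * O φ w (cSS φ γ r w e e' t u) := by
  obtain ⟨hlt, hr72, -, -, -, hw72, -⟩ := d.h
  set t' := ((sym.sgn γ : ℤ) : K) * φ t with ht'
  set u' := ((sym.sgn r : ℤ) : K) * φ u with hu'
  have e1 : O φ γ t * O φ r u * (O φ γ t)⁻¹ =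
      O φ r u * (X w ((e : K) * t * u) * X (sym.img w) ((e' : K) * t' * u')) := by
    rw [O_two φ hlt d.hγ, O_two φ hr72 d.hr]
    calc X γ t * X (sym.img γ) t' * (X r u * X (sym.img r) u') * (X γ t * X (sym.img γ) t')⁻¹
        = X γ t * ((X (sym.img γ) t' * X r u * (X (sym.img γ) t')⁻¹) *
            (X (sym.img γ) t' * X (sym.img r) u' * (X (sym.img γ) t')⁻¹)) * (X γ t)⁻¹ := by group
      _ = (X γ t * X r u * (X γ t)⁻¹) * (X γ t * X (sym.img r) u' * (X γ t)⁻¹) *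
            (X γ t * X (sym.img w) ((e' : K) * t' * u') * (X γ t)⁻¹) := by
          rw [co_conj d.c1, cm_conj d.h']; group
      _ = X r u * X w ((e : K) * t * u) * X (sym.img r) u' *
            X (sym.img w) ((e' : K) * t' * u') := by
          rw [cm_conj d.h, co_conj d.c2, co_conj d.c3]
      _ = _ := by
          rw [mul_assoc (X r u), (co_comm d.c4 _ _).eq]
          simp only [mul_assoc]
          rfl
  by_cases hw : sym.img w = w
  · have hc : cSS φ γ r w e e' t u = (e : K) * t * u + (e' : K) * t' * u' := by rw [cSS, if_pos hw]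
    rw [hw, elX_add CfsgLib.Chev.E6.checked K hw72, ← hc,
      show elX chevE6 K w (cSS φ γ r w e e' t u) = O φ w (cSS φ γ r w e e' t u) from
        (O_one φ hw _).symm] at e1
    refine ⟨fun _ => fx_of_X_fixed φ hw72 hw (sgn_long _ hw72 hw) ?_, e1⟩
    rw [← O_one φ hw, show O φ w (cSS φ γ r w e e' t u) =
      (O φ r u)⁻¹ * (O φ γ t * O φ r u * (O φ γ t)⁻¹) by rw [e1]; group]
    have hg := O_fixed φ h2 hlt (t := t) (fun h => absurd h d.hγ)
    have hx := O_fixed φ h2 hr72 (t := u) (fun h => absurd h d.hr)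
    exact mul_mem (inv_mem hx) (mul_mem (mul_mem hg hx) (inv_mem hg))
  · refine ⟨fun h => absurd h hw, e1.trans ?_⟩
    rw [O_two φ hw72 hw, cSS, if_neg hw]
    congr 3
    simp only [t', u']
    rw [map_mul, map_mul, map_intCast, show
      (e' : K) * ((sym.sgn γ : ℤ) * φ t) * ((sym.sgn r : ℤ) * φ u) =
        ((e' * sym.sgn γ * sym.sgn r : ℤ) : K) * (φ t * φ u) by push_cast; ring,
      d.hsgn.resolve_left hw]
    push_cast
    ring

end CfsgLib.MinDeg.TwE6
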