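import Cfsg.Agent.Lib.MinDeg.TwE6Rel
import Cfsg.Agent.Lib.MinDeg.EigenSlots
import Cfsg.Agent.Lib.Twisted.E6Torus
import Cfsg.Agent.Lib.Char.Integral

/-!
The orbit products as slots of the twisted group of type E6: decidable descriptions of the
conjugates of one slot by another, translations, torus and Weyl elements.
-/

set_option autoImplicit false
set_option linter.unusedSectionVars false

namespace CfsgLib.MinDeg.TwE6

open Cfsg.Lie CfsgLib.Chev CfsgLib.Chevalley CfsgLib.Twisted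
open CfsgLib.Twisted.E6 (sym sym_test sym_nodeTest tb comm_one)
open CfsgLib.MinDeg.Slots

/-- The representative of the orbit of a root. -/
def rep (r : ℕ) : ℕ := min r (sym.img r)

/-- The root and the sign of a commutator with one term. -/
def w₁ (a b : ℕ) : ℕ := match chevE6.commTerms a b with | [(w, _, 1, 1)] => w | _ => 0

/-- The sign of a commutator with one term. -/
def e₁ (a b : ℕ) : ℤ := match chevE6.commTerms a b with | [(_, e, 1, 1)] => e | _ => 0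

/-- All roots of the two orbits commute. -/
def ChkNone (γ x : ℕ) : Prop :=
  Co γ x ∧ Co γ (sym.img x) ∧ Co (sym.img γ) x ∧ Co (sym.img γ) (sym.img x)

/-- The shape of two long roots. -/
def ChkLL (γ x : ℕ) : Prop :=
  sym.img γ = γ ∧ sym.img x = x ∧ sym.img (w₁ γ x) = w₁ γ x ∧ Cm γ x (w₁ γ x) (e₁ γ x)

/-- The long root of second order, if there is one. -/
def fLS (γ x : ℕ) : ℕ :=
  if Co (w₁ γ x) (sym.img x) then w₁ γ x else w₁ (w₁ γ x) (sym.img x)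

/-- The sign of the long root of second order. -/
def eLS (γ x : ℕ) : ℤ :=
  if Co (w₁ γ x) (sym.img x) then 0 else e₁ (w₁ γ x) (sym.img x)

/-- The shape of a long root acting on a short one. -/
def ChkLS (γ x : ℕ) : Prop :=
  sym.img γ = γ ∧ sym.img x ≠ x ∧ sym.img (w₁ γ x) ≠ w₁ γ x ∧ Cm γ x (w₁ γ x) (e₁ γ x) ∧
  Cm γ (sym.img x) (sym.img (w₁ γ x)) (e₁ γ (sym.img x)) ∧
  e₁ γ (sym.img x) * sym.sgn x = sym.sgn (w₁ γ x) * e₁ γ x ∧
  ((Co (w₁ γ x) (sym.img x) ∧ fLS γ x = w₁ γ x ∧ eLS γ x = 0) ∨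
    (Cm (w₁ γ x) (sym.img x) (fLS γ x) (eLS γ x) ∧ sym.img (fLS γ x) = fLS γ x ∧
      Co (fLS γ x) (w₁ γ x) ∧ Co (fLS γ x) (sym.img (w₁ γ x))))

/-- The long root of second order for a short root acting on a long one. -/
def fSL (γ x : ℕ) : ℕ := w₁ γ (sym.img (w₁ γ x))

/-- The shape of a short root acting on a long one. -/
def ChkSL (γ x : ℕ) : Prop :=
  sym.img γ ≠ γ ∧ sym.img x = x ∧ sym.img (w₁ γ x) ≠ w₁ γ x ∧ Cm γ x (w₁ γ x) (e₁ γ x) ∧
  Cm (sym.img γ) x (sym.img (w₁ γ x)) (e₁ (sym.img γ) x) ∧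
  e₁ (sym.img γ) x * sym.sgn γ = sym.sgn (w₁ γ x) * e₁ γ x ∧
  (Cm γ (sym.img (w₁ γ x)) (fSL γ x) (e₁ γ (sym.img (w₁ γ x))) ∧
    sym.img (fSL γ x) = fSL γ x)

/-- The shape of two short roots. -/
def ChkSS (γ r : ℕ) : Prop :=
  sym.img γ ≠ γ ∧ sym.img r ≠ r ∧ Cm γ r (w₁ γ r) (e₁ γ r) ∧
  Cm (sym.img γ) (sym.img r) (sym.img (w₁ γ r)) (e₁ (sym.img γ) (sym.img r)) ∧
  Co (sym.img γ) r ∧ Co γ (sym.img r) ∧ Co γ (sym.img (w₁ γ r)) ∧ Co (w₁ γ r) (sym.img r) ∧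
  (sym.img (w₁ γ r) = w₁ γ r ∨
    e₁ (sym.img γ) (sym.img r) * sym.sgn γ * sym.sgn r = sym.sgn (w₁ γ r) * e₁ γ r)

instance (γ x : ℕ) : Decidable (ChkNone γ x) := by unfold ChkNone; infer_instance
instance (γ x : ℕ) : Decidable (ChkLL γ x) := by unfold ChkLL; infer_instance
instance (γ x : ℕ) : Decidable (ChkLS γ x) := by unfold ChkLS; infer_instance
instance (γ x : ℕ) : Decidable (ChkSL γ x) := by unfold ChkSL; infer_instance
instance (γ x : ℕ) : Decidable (ChkSS γ x) := by unfold ChkSS; infer_instance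

/-- The slots gained by conjugating the slot `x` by an element of the slot `γ`. -/
def news (γ x : ℕ) : List ℕ :=
  if ChkNone γ x then []
  else if ChkLL γ x then [rep (w₁ γ x)]
  else if ChkLS γ x then [rep (w₁ γ x), rep (fLS γ x)]
  else if ChkSL γ x then [rep (w₁ γ x), rep (fSL γ x)]
  else if ChkSS γ x then [rep (w₁ γ x)]
  else if ChkSS γ (sym.img x) then [rep (w₁ γ (sym.img x))]
  else []

/-- One of the shapes applies. -/
def Ok (γ x : ℕ) : Prop :=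
  γ < 72 ∧ x < 72 ∧ (ChkNone γ x ∨ ChkLL γ x ∨ ChkLS γ x ∨ ChkSL γ x ∨ ChkSS γ x ∨
    ChkSS γ (sym.img x))

instance (γ x : ℕ) : Decidable (Ok γ x) := by unfold Ok; infer_instance

theorem img_facts : ∀ r < 72, sym.img r < 72 ∧ sym.img (sym.img r) = r ∧
    sym.sgn r * sym.sgn (sym.img r) = 1 := by decide +kernel

variable {K : Type*} [Field K] [Fintype K] (φ : K ≃+* K)

/-- The parameters of a slot. -/
def Par (r : ℕ) : AddSubgroup K where
  carrier := {t | Fx φ r t}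
  zero_mem' := fun _ => map_zero φ
  add_mem' := fun {a b} ha hb h => by rw [map_add, ha h, hb h]
  neg_mem' := fun {a} ha h => by rw [map_neg, ha h]

noncomputable instance (r : ℕ) : Fintype (Par φ r) := Fintype.ofFinite _

/-- The twisted group. -/
noncomputable abbrev Γ : Subgroup (GL chevE6.Idx K) := twistGrp sym_test φ

variable [hinv : Fact (∀ x : K, φ (φ x) = x)]

theorem O_mem {r : ℕ} (hr : r < 72) {t : K} (ht : Fx φ r t) : O φ r t ∈ Γ φ :=
  orbX_mem CfsgLib.Chev.E6.checked sym_test φ sym_nodeTest hr (fx_isPar φ hinv.out ht)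

/-- The slot of a root. -/
noncomputable def sl (r : ℕ) : AddChar (Par φ r) (Γ φ) :=
  if h : r < 72 then
    { toFun := fun t => ⟨O φ r (t : K), O_mem φ h t.2⟩
      map_zero_eq_one' := Subtype.ext (orbX_zero CfsgLib.Chev.E6.checked sym_test φ h)
      map_add_eq_mul' := fun t u =>
        Subtype.ext (orbX_add CfsgLib.Chev.E6.checked sym_test φ h (t : K) (u : K)).symm }
  else 1

theorem sl_coe {r : ℕ} (h : r < 72) (t : Par φ r) :
    ((sl φ r t : Γ φ) : GL chevE6.Idx K) = O φ r (t : K) := by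
  unfold sl
  rw [dif_pos h]
  rfl

theorem O_img {r : ℕ} (hr : r < 72) {t : K} (ht : Fx φ r t) :
    O φ (sym.img r) ((sym.sgn r : ℤ) * φ t) = O φ r t :=
  orbX_img CfsgLib.Chev.E6.checked sym_test φ hr (fx_isPar φ hinv.out ht)

theorem fx_img {r : ℕ} (hr : r < 72) {t : K} (ht : Fx φ r t) :
    Fx φ (sym.img r) ((sym.sgn r : ℤ) * φ t) := fun h => by
  obtain ⟨-, h2, -⟩ := img_facts r hr
  rw [h2] at h
  rw [map_mul, map_intCast, ht h.symm, ht h.symm]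

/-- An orbit product is the element of the slot of its representative. -/
theorem exists_rep {w : ℕ} (hw : w < 72) {b : K} (hb : Fx φ w b) :
    ∃ z : Par φ (rep w), ((sl φ (rep w) z : Γ φ) : GL chevE6.Idx K) = O φ w b := by
  have h1 := (img_facts w hw).1
  rcases min_choice w (sym.img w) with h | h <;> rw [rep, h]
  · exact ⟨⟨b, hb⟩, sl_coe φ hw _⟩
  · exact ⟨⟨_, fx_img φ hw hb⟩, (sl_coe φ h1 _).trans (O_img φ hw hb)⟩

theorem slot_mem {w : ℕ} (hw : w < 72) {b : K} (hb : Fx φ w b) {N : Set ℕ} (hN : rep w ∈ N)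
    (g : Γ φ) (hg : (g : GL chevE6.Idx K) = O φ w b) : g ∈ slG (sl φ) N := by
  obtain ⟨z, hz⟩ := exists_rep φ hw hb
  rw [show g = sl φ (rep w) z from Subtype.ext (hg.trans hz.symm)]
  exact sl_mem (sl φ) hN z

/-- Conjugation of one slot by another. -/
theorem conj_news {γ x : ℕ} (h : Ok γ x) (t : Par φ γ) (u : Par φ x) :
    ∃ y ∈ slG (sl φ) {z | z ∈ news γ x},
      sl φ γ t * sl φ x u * (sl φ γ t)⁻¹ = sl φ x u * y := by
  obtain ⟨hγ, hx, hcase⟩ := h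
  have h2 := hinv.out
  have fin : ∀ (w : ℕ) (b : K), w < 72 → Fx φ w b → rep w ∈ news γ x → ∀ (f : ℕ) (c : K), f < 72 →
      Fx φ f c → rep f ∈ news γ x →
      O φ γ t * O φ x u * (O φ γ t)⁻¹ = O φ x u * (O φ w b * O φ f c) →
      ∃ y ∈ slG (sl φ) {z | z ∈ news γ x},
        sl φ γ t * sl φ x u * (sl φ γ t)⁻¹ = sl φ x u * y := by
    intro w b hw hb hwN f c hf hc hfN e
    refine ⟨⟨O φ w b, O_mem φ hw hb⟩ * ⟨O φ f c, O_mem φ hf hc⟩,
      mul_mem (slot_mem φ hw hb hwN _ rfl) (slot_mem φ hf hc hfN _ rfl), Subtype.ext ?_⟩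
    simpa [sl_coe φ hγ, sl_coe φ hx] using e
  have fin1 : ∀ (w : ℕ) (b : K), w < 72 → Fx φ w b → rep w ∈ news γ x →
      O φ γ t * O φ x u * (O φ γ t)⁻¹ = O φ x u * O φ w b →
      ∃ y ∈ slG (sl φ) {z | z ∈ news γ x},
        sl φ γ t * sl φ x u * (sl φ γ t)⁻¹ = sl φ x u * y := by
    intro w b hw hb hwN e
    refine fin w b hw hb hwN w 0 hw (fun _ => map_zero φ) hwN (e.trans ?_)
    rw [show O φ w (0 : K) = 1 from orbX_zero CfsgLib.Chev.E6.checked sym_test φ hw, mul_one]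
  by_cases p0 : ChkNone γ x
  · obtain ⟨c1, c2, c3, c4⟩ := p0
    refine ⟨1, one_mem _, Subtype.ext ?_⟩
    have hcm : Commute (O φ γ (t : K)) (O φ x (u : K)) := by
      by_cases a : sym.img γ = γ <;> by_cases b : sym.img x = x
      · rw [O_one φ a, O_one φ b]; exact co_comm c1 _ _
      · rw [O_one φ a, O_two φ hx b]
        exact (co_comm c1 _ _).mul_right (co_comm c2 _ _)
      · rw [O_two φ hγ a, O_one φ b]
        exact (co_comm c1 _ _).mul_left (co_comm c3 _ _)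
      · rw [O_two φ hγ a, O_two φ hx b]
        exact ((co_comm c1 _ _).mul_right (co_comm c2 _ _)).mul_left
          ((co_comm c3 _ _).mul_right (co_comm c4 _ _))
    simpa [sl_coe φ hγ, sl_coe φ hx, mul_inv_eq_iff_eq_mul] using hcm.eq
  by_cases p1 : ChkLL γ x
  · obtain ⟨a, b, c, d⟩ := p1
    obtain ⟨h1, e⟩ := conj_LL φ h2 ⟨a, b, c, d⟩ t.2 u.2
    refine fin1 _ _ d.2.2.2.2.2.1 h1 ?_ e
    simp [news, p0, show ChkLL γ x from ⟨a, b, c, d⟩]
  by_cases p2 : ChkLS γ x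
  · obtain ⟨a, b, c, d, d', s, f⟩ := p2
    obtain ⟨z, hz, e⟩ := conj_LS φ h2 (u := (u : K)) ⟨a, b, c, d, d', s, f⟩ t.2
    have hf72 : fLS γ x < 72 := by
      rcases f with ⟨-, h, -⟩ | ⟨h, -⟩
      · rw [h]; exact d.2.2.2.2.2.1
      · exact h.2.2.2.2.2.1
    refine fin _ _ d.2.2.2.2.2.1 (fun h => absurd h c) ?_ _ _ hf72 hz ?_ e <;>
      simp [news, p0, p1, show ChkLS γ x from ⟨a, b, c, d, d', s, f⟩]
  by_cases p3 : ChkSL γ x
  · obtain ⟨a, b, c, d, d', s, f⟩ := p3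
    obtain ⟨z, hz, e⟩ := conj_SL φ h2 (t := (t : K)) ⟨a, b, c, d, d', s, f⟩ u.2
    refine fin _ _ d.2.2.2.2.2.1 (fun h => absurd h c) ?_ _ _ f.1.2.2.2.2.2.1 hz ?_ e <;>
      simp [news, p0, p1, p2, show ChkSL γ x from ⟨a, b, c, d, d', s, f⟩]
  by_cases p4 : ChkSS γ x
  · obtain ⟨a, b, d, d', c1, c2, c3, c4, s⟩ := p4
    obtain ⟨h1, e⟩ := conj_SS φ h2 ⟨a, b, d, d', c1, c2, c3, c4, s⟩ (t : K) (u : K)
    refine fin1 _ _ d.2.2.2.2.2.1 h1 ?_ e
    simp [news, p0, p1, p2, p3, show ChkSS γ x from ⟨a, b, d, d', c1, c2, c3, c4, s⟩]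
  have p5 : ChkSS γ (sym.img x) := by
    rcases hcase with h | h | h | h | h | h
    exacts [absurd h p0, absurd h p1, absurd h p2, absurd h p3, absurd h p4, h]
  obtain ⟨a, b, d, d', c1, c2, c3, c4, s⟩ := p5
  obtain ⟨h1, e⟩ := conj_SS φ h2 ⟨a, b, d, d', c1, c2, c3, c4, s⟩ (t : K)
    ((sym.sgn x : ℤ) * φ (u : K))
  rw [O_img φ hx u.2] at e
  refine fin1 _ _ d.2.2.2.2.2.1 h1 ?_ e
  simp [news, p0, p1, p2, p3, p4, show ChkSS γ (sym.img x) from ⟨a, b, d, d', c1, c2, c3, c4, s⟩]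

theorem conj_mem_slG {γ x : ℕ} (h : Ok γ x) {L : Set ℕ} (hx : x ∈ L)
    (hL : ∀ z ∈ news γ x, z ∈ L) (t : Par φ γ) (u : Par φ x) :
    sl φ γ t * sl φ x u * (sl φ γ t)⁻¹ ∈ slG (sl φ) L := by
  obtain ⟨y, hy, e⟩ := conj_news φ h t u
  rw [e]
  exact mul_mem (sl_mem (sl φ) hx u) (slG_mono (sl φ) hL hy)

theorem keeps {γ x : ℕ} (h : Ok γ x) {Z : Set ℕ} (hZ : ∀ z ∈ news γ x, z ∈ Z) (t : Par φ γ) :
    Keeps (sl φ) (sl φ γ t) x Z := fun u => by
  obtain ⟨y, hy, e⟩ := conj_news φ h t u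
  exact ⟨y, slG_mono _ hZ hy, e⟩

/-! ### Translations -/

/-- The field automorphism is not trivial. -/
def NonTriv : Prop := ∃ x : K, φ x ≠ x

theorem trace_surj {a b : K} (ha : a ≠ 0) (hne : NonTriv φ) (hab : ∀ x, φ (a * x + b * φ x) = a * x + b * φ x)
    {z : K} (hz : φ z = z) : ∃ u, a * u + b * φ u = z := by
  obtain ⟨u₀, hu₀⟩ : ∃ u, a * u + b * φ u ≠ 0 := by
    by_contra hcon
    push Not at hcon
    obtain ⟨x, hx⟩ := hne
    have h1 := hcon 1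
    rw [mul_one, map_one, mul_one] at h1
    have hb : b = -a := eq_neg_of_add_eq_zero_right h1
    have h3 := hcon x
    rw [hb, neg_mul, ← sub_eq_add_neg, sub_eq_zero] at h3
    exact hx (mul_left_cancel₀ ha h3).symm
  refine ⟨z / (a * u₀ + b * φ u₀) * u₀, ?_⟩
  rw [map_mul, map_div₀, hz, hab]
  field_simp

/-- The translation data: `γ` moves the slot `x` along the long slot `e`. -/
def Targ (γ x e : ℕ) : Prop :=
  γ < 72 ∧ x < 72 ∧ sym.img e = e ∧
    ((ChkLL γ x ∧ w₁ γ x = e) ∨ (ChkSS γ x ∧ w₁ γ x = e) ∨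
      (ChkSS γ (sym.img x) ∧ w₁ γ (sym.img x) = e))

instance (γ x e : ℕ) : Decidable (Targ γ x e) := by unfold Targ; infer_instance

theorem e_ne_zero {e : ℤ} (he : e = 1 ∨ e = -1) : ((e : ℤ) : K) ≠ 0 := by
  rcases he with rfl | rfl <;> simp

theorem sgn_ne_zero {r : ℕ} (hr : r < 72) : ((sym.sgn r : ℤ) : K) ≠ 0 := fun h => by
  have h1 := congrArg (fun k : ℤ => (k : K)) (img_facts r hr).2.2
  simp only [Int.cast_mul, h, zero_mul, Int.cast_one] at h1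
  exact zero_ne_one h1

/-- The values of the pairing of two slots on a long slot. -/
theorem pairing {γ x e : ℕ} (h : Targ γ x e) (hne : NonTriv φ) :
    ∃ C : Par φ γ → Par φ x → Par φ e,
      (∀ t t' u, C (t + t') u = C t u + C t' u) ∧ (∀ t u u', C t (u + u') = C t u + C t u') ∧
      (∀ t, t ≠ 0 → ∀ z, ∃ u, C t u = z) ∧ Nat.card (Par φ γ) = Nat.card (Par φ x) ∧
      ∀ t u, sl φ γ t * sl φ x u * (sl φ γ t)⁻¹ = sl φ x u * sl φ e (C t u) := by
  obtain ⟨hγ, hx, he, hcase⟩ := h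
  have h2 := hinv.out
  rcases hcase with ⟨⟨a, b, c, d⟩, rfl⟩ | hss
  · have hF := fun t u => (conj_LL φ h2 ⟨a, b, c, d⟩ (Subtype.prop (t : Par φ γ))
      (Subtype.prop (u : Par φ x))).1
    refine ⟨fun t u => ⟨_, hF t u⟩, fun t t' u => Subtype.ext (by simp [mul_add, add_mul]),
      fun t u u' => Subtype.ext (by simp [mul_add]), fun t ht z => ?_, ?_, fun t u => ?_⟩
    · have ht0 : (t : K) ≠ 0 := fun h => ht (Subtype.ext h)
      refine ⟨⟨(z : K) / ((e₁ γ x : K) * (t : K)), fun _ => ?_⟩, Subtype.ext ?_⟩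
      · rw [map_div₀, map_mul, map_intCast, t.2 a, z.2 c]
      · show (e₁ γ x : K) * (t : K) * _ = (z : K)
        exact mul_div_cancel₀ _ (mul_ne_zero (e_ne_zero d.2.2.2.2.2.2) ht0)
    · exact Nat.card_congr (Equiv.subtypeEquivRight fun t =>
        ⟨fun h _ => h a, fun h _ => h b⟩)
    · apply Subtype.ext
      simpa [sl_coe φ hγ, sl_coe φ hx, sl_coe φ d.2.2.2.2.2.1] using
        (conj_LL φ h2 ⟨a, b, c, d⟩ t.2 u.2).2
  · obtain ⟨r, hr, ψ, hψ, hψf, hψb, hψadd⟩ : ∃ r, (ChkSS γ r ∧ w₁ γ r = e) ∧ ∃ ψ : K → K,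
        (∀ u : Par φ x, O φ r (ψ u) = O φ x u) ∧ (sym.img x ≠ x ∧ ∀ u, φ (ψ u) = ψ (φ u)) ∧
        Function.Surjective ψ ∧ ∀ a b, ψ (a + b) = ψ a + ψ b := by
      rcases hss with hh | hh
      · exact ⟨x, hh, id, fun _ => rfl, ⟨hh.1.2.1, fun _ => rfl⟩, Function.surjective_id,
          fun _ _ => rfl⟩
      · refine ⟨sym.img x, hh, fun a => (sym.sgn x : ℤ) * φ a, fun u => O_img φ hx u.2,
          ⟨fun h' => hh.1.2.1 (congrArg sym.img h'), fun u => ?_⟩, fun a => ?_, fun a b => ?_⟩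
        · simp [map_mul]
        · refine ⟨φ (a / (sym.sgn x : ℤ)), ?_⟩
          show ((sym.sgn x : ℤ) : K) * φ (φ _) = a
          rw [h2, mul_div_cancel₀ _ (sgn_ne_zero hx)]
        · simp [mul_add]
    obtain ⟨⟨a, b, d, d', c1, c2, c3, c4, s⟩, rfl⟩ := hr
    have hsx := hψf.1
    have hC := fun t u => conj_SS φ h2 ⟨a, b, d, d', c1, c2, c3, c4, s⟩ t u
    have hform : ∀ t u, cSS φ γ r (w₁ γ r) (e₁ γ r) (e₁ (sym.img γ) (sym.img r)) t u =
        (e₁ γ r : K) * t * u + ((e₁ (sym.img γ) (sym.img r) : K) * ((sym.sgn γ : ℤ) * φ t) *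
          (sym.sgn r : ℤ)) * φ u := fun t u => by
      rw [cSS, if_pos he]; ring
    refine ⟨fun t u => ⟨_, (hC (t : K) (ψ u)).1⟩, fun t t' u => Subtype.ext ?_,
      fun t u u' => Subtype.ext ?_, fun t ht z => ?_, ?_, fun t u => ?_⟩
    · simp only [AddSubgroup.coe_add, hform, map_add]; ring
    · simp only [AddSubgroup.coe_add, hform, hψadd, map_add]; ring
    · have ht0 : (t : K) ≠ 0 := fun h => ht (Subtype.ext h)
      obtain ⟨v, hv⟩ := trace_surj φ (mul_ne_zero (e_ne_zero d.2.2.2.2.2.2) ht0) hne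
        (fun y => by rw [← hform]; exact (hC (t : K) y).1 he) (z.2 he)
      obtain ⟨u, rfl⟩ := hψb v
      exact ⟨⟨u, fun h => absurd h hsx⟩, Subtype.ext ((hform _ _).trans hv)⟩
    · exact Nat.card_congr (Equiv.subtypeEquivRight fun t =>
        ⟨fun _ h => absurd h hsx, fun _ h => absurd h a⟩)
    · apply Subtype.ext
      have e := (hC (t : K) (ψ u)).2
      rw [hψ u] at e
      simpa [sl_coe φ hγ, sl_coe φ hx, sl_coe φ d.2.2.2.2.2.1] using e

/-- The conditions for translating the slot `a` along `e` by elements of the slot `γ`. -/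
def TransOK (L Z : List ℕ) (e : ℕ) (prev : List ℕ) (γ a : ℕ) : Prop :=
  Targ γ a e ∧ (∀ x ∈ L, Ok γ x ∧ ∀ z ∈ news γ x, z ∈ L) ∧
    ∀ x ∈ e :: (Z ++ prev), Ok γ x ∧ ∀ z ∈ news γ x, z ∈ Z

instance (L Z : List ℕ) (e : ℕ) (prev : List ℕ) (γ a : ℕ) : Decidable (TransOK L Z e prev γ a) := by
  unfold TransOK; infer_instance

theorem isTrans {L Z : List ℕ} {e γ a : ℕ} {prev : List ℕ} (h : TransOK L Z e prev γ a)
    (hne : NonTriv φ) :
    IsTrans (sl φ) {x | x ∈ L} {x | x ∈ Z} e {x | x ∈ prev} a := by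
  obtain ⟨htg, hL, hkeep⟩ := h
  intro lam hlam χ
  obtain ⟨C, hadd, hadd', hsur, hcard, hconj⟩ := pairing φ htg hne
  obtain ⟨t, ht⟩ := exists_pairing_char hcard C hadd hadd' hsur lam hlam χ
  refine ⟨sl φ γ t, C t, fun x hx u => conj_mem_slG φ (hL x hx).1 hx (hL x hx).2 t u,
    fun x hx => ?_, fun u => ⟨1, one_mem _, by rw [hconj, mul_one]⟩, ht⟩
  have hx' : x ∈ e :: (Z ++ prev) := by simpa [Set.mem_insert_iff] using hx
  exact keeps φ (hkeep x hx').1 (hkeep x hx').2 t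

/-- The conditions for all translations of a cell; the later slots come first. -/
def CellOK (L Z : List ℕ) (e : ℕ) : List (ℕ × ℕ) → Prop
  | [] => True
  | p :: l => CellOK L Z e l ∧ TransOK L Z e (l.map Prod.snd) p.1 p.2

instance decCellOK (L Z : List ℕ) (e : ℕ) : ∀ l, Decidable (CellOK L Z e l)
  | [] => isTrue trivial
  | _ :: l => @instDecidableAnd _ _ (decCellOK L Z e l) inferInstance

theorem isCell {L Z : List ℕ} {e : ℕ} (hne : NonTriv φ) : ∀ {l : List (ℕ × ℕ)},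
    CellOK L Z e l → IsCell (sl φ) {x | x ∈ L} {x | x ∈ Z} e (l.map Prod.snd)
  | [], _ => trivial
  | _ :: _, h => ⟨isCell hne h.1, isTrans φ h.2 hne⟩

/-! ### Commutators -/

/-- Every value of the slot `w` is gained, up to slots in `N`, in conjugating the slot `x` by the
slot `γ`. -/
def TrivOK (γ x w : ℕ) (N : List ℕ) : Prop :=
  γ < 72 ∧ x < 72 ∧ w < 72 ∧ rep w = w ∧
    ((ChkLL γ x ∧ w₁ γ x = w) ∨ (ChkSL γ x ∧ rep (w₁ γ x) = w ∧ rep (fSL γ x) ∈ N) ∨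
      (ChkSS γ x ∧ rep (w₁ γ x) = w) ∨ (ChkSS γ (sym.img x) ∧ rep (w₁ γ (sym.img x)) = w))

instance (γ x w : ℕ) (N : List ℕ) : Decidable (TrivOK γ x w N) := by unfold TrivOK; infer_instance

/-- The parameter at `v` giving an element of the slot of its representative. -/
theorem exists_par {v : ℕ} (hv : v < 72) (z : Par φ (rep v)) :
    ∃ a, Fx φ v a ∧ O φ v a = ((sl φ (rep v) z : Γ φ) : GL chevE6.Idx K) := by
  obtain ⟨h1, h2, h3⟩ := img_facts v hv
  have key : ∀ s, rep v = s → ∀ z : Par φ s, ∃ a, Fx φ v a ∧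
      O φ v a = ((sl φ s z : Γ φ) : GL chevE6.Idx K) := by
    intro s hs z
    rcases min_choice v (sym.img v) with h | h <;> rw [rep, h] at hs <;> subst hs
    · exact ⟨z, z.2, (sl_coe φ hv z).symm⟩
    · have e := O_img φ h1 z.2
      have f := fx_img φ h1 z.2
      rw [h2] at e f
      exact ⟨_, f, e.trans (sl_coe φ h1 z).symm⟩
  exact key _ rfl z

theorem exists_comm {γ x w : ℕ} {N : List ℕ} (h : TrivOK γ x w N) (hne : NonTriv φ)
    (z : Par φ w) : ∃ t u, ∃ y ∈ slG (sl φ) {i | i ∈ N},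
      sl φ γ t * sl φ x u * (sl φ γ t)⁻¹ = sl φ x u * sl φ w z * y := by
  obtain ⟨hγ, hx, hw, hrw, hcase⟩ := h
  have h2 := hinv.out
  have ss : ∀ r, ChkSS γ r → rep (w₁ γ r) = w →
      (∀ v, ∃ u : Par φ x, O φ r v = O φ x u) → ∃ t u, ∃ y ∈ slG (sl φ) {i | i ∈ N},
        sl φ γ t * sl φ x u * (sl φ γ t)⁻¹ = sl φ x u * sl φ w z * y := by
    intro r hr hrep hψ
    obtain ⟨a, b, d, d', c1, c2, c3, c4, s⟩ := hr
    subst hrep
    obtain ⟨p, hp, hpz⟩ := exists_par φ d.2.2.2.2.2.1 z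
    have hC := fun u => conj_SS φ h2 ⟨a, b, d, d', c1, c2, c3, c4, s⟩ (1 : K) u
    have he0 : ((e₁ γ r : ℤ) : K) ≠ 0 := e_ne_zero d.2.2.2.2.2.2
    obtain ⟨v, hv⟩ : ∃ v, cSS φ γ r (w₁ γ r) (e₁ γ r) (e₁ (sym.img γ) (sym.img r)) 1 v = p := by
      by_cases hl : sym.img (w₁ γ r) = w₁ γ r
      · have hform : ∀ u, cSS φ γ r (w₁ γ r) (e₁ γ r) (e₁ (sym.img γ) (sym.img r)) 1 u =
            (e₁ γ r : K) * u + ((e₁ (sym.img γ) (sym.img r) : K) * (sym.sgn γ : ℤ) *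
              (sym.sgn r : ℤ)) * φ u := fun u => by
          rw [cSS, if_pos hl, map_one]; ring
        obtain ⟨v, hv⟩ := trace_surj φ he0 hne (fun y => by rw [← hform]; exact (hC y).1 hl) (hp hl)
        exact ⟨v, (hform v).trans hv⟩
      · exact ⟨p / (e₁ γ r : K), by rw [cSS, if_neg hl, mul_one, mul_div_cancel₀ _ he0]⟩
    obtain ⟨u, hu⟩ := hψ v
    refine ⟨⟨1, fun _ => map_one φ⟩, u, 1, one_mem _, Subtype.ext ?_⟩
    have e := (hC v).2
    rw [hv, hpz, hu] at e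
    simpa [sl_coe φ hγ, sl_coe φ hx] using e
  rcases hcase with ⟨⟨a, b, c, d⟩, rfl⟩ | ⟨⟨a, b, c, d, d', s, f⟩, hrep, hfN⟩ | ⟨hh, hr⟩ | ⟨hh, hr⟩
  · have he0 : ((e₁ γ x : ℤ) : K) ≠ 0 := e_ne_zero d.2.2.2.2.2.2
    refine ⟨⟨1, fun _ => map_one φ⟩, ⟨(z : K) / (e₁ γ x : K), fun _ => ?_⟩, 1, one_mem _,
      Subtype.ext ?_⟩
    · rw [map_div₀, map_intCast, z.2 c]
    · have e := (conj_LL φ h2 ⟨a, b, c, d⟩ (t := (1 : K)) (u := (z : K) / (e₁ γ x : K))
        (fun _ => map_one φ) (fun _ => by rw [map_div₀, map_intCast, z.2 c])).2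
      rw [mul_one, mul_div_cancel₀ _ he0] at e
      simpa [sl_coe φ hγ, sl_coe φ hx, sl_coe φ hw] using e
  · subst hrep
    obtain ⟨p, hp, hpz⟩ := exists_par φ d.2.2.2.2.2.1 z
    have he0 : ((e₁ γ x : ℤ) : K) ≠ 0 := e_ne_zero d.2.2.2.2.2.2
    obtain ⟨cc, hcc, e⟩ := conj_SL φ h2 (t := p / (e₁ γ x : K)) (u := (1 : K))
      ⟨a, b, c, d, d', s, f⟩ (fun _ => map_one φ)
    refine ⟨⟨p / (e₁ γ x : K), fun h => absurd h a⟩, ⟨1, fun _ => map_one φ⟩,
      ⟨O φ (fSL γ x) cc, O_mem φ f.1.2.2.2.2.2.1 hcc⟩,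
      slot_mem φ f.1.2.2.2.2.2.1 hcc hfN _ rfl, Subtype.ext ?_⟩
    rw [mul_one, mul_div_cancel₀ _ he0, hpz] at e
    simpa [sl_coe φ hγ, sl_coe φ hx, mul_assoc] using e
  · exact ss x hh hr fun v => ⟨⟨v, fun h => absurd h hh.2.1⟩, rfl⟩
  · refine ss _ hh hr fun v => ?_
    have h1 : sym.img x ≠ x := fun h' => hh.2.1 (congrArg sym.img h')
    have e := O_img φ (img_facts x hx).1 (t := v) (fun h => absurd h hh.2.1)
    rw [(img_facts x hx).2.1] at e
    exact ⟨⟨_, fun h => absurd h h1⟩, e.symm⟩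

/-! ### Torus and Weyl elements -/

theorem exists_scale (c : Kˣ) (hc : φ (c : K) = c) (k : Fin 6)
    (hk : sym.node k.1 = k.1) :
    ∃ g : Γ φ, ∀ r < 72, ∀ t : Par φ r, ∃ t' : Par φ r,
      g * sl φ r t * g⁻¹ = sl φ r t' ∧ (t' : K) = (c : K) ^ chevE6.cartan k.1 r * (t : K) := by
  have hck := CfsgLib.Chev.E6.checked
  let k' : Fin chevE6.rank := k
  have hmem : Pi.mulSingle k' c ∈ fixPar sym_test φ := by
    rw [mem_fixPar, tauPar_single, show imgNode sym_test k' = k' from Fin.ext hk]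
    congr 1
    exact Units.ext hc
  have hG := torus_fixPar_mem hck sym_test φ CfsgLib.Twisted.E6.orbit_ok sym_nodeTest
    CfsgLib.Twisted.E6.sym_bnTest hmem
  refine ⟨⟨_, hG⟩, fun r hr t => ?_⟩
  have hchi : chi (hPar chevE6 K (Pi.mulSingle k' c)) (rv chevE6 tb r) =
      c ^ chevE6.cartan k.1 r := by
    have hprod : ∀ s : Finset (Fin chevE6.rank),
        chi (∏ i ∈ s, corChar chevE6 tb (chevE6.simple i.val) ((Pi.mulSingle k' c : _ → Kˣ) i))
          (rv chevE6 tb r) = ∏ i ∈ s, (Pi.mulSingle k' c : _ → Kˣ) i ^ chevE6.cartan i.1 r := by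
      intro s
      induction s using Finset.induction with
      | empty => simp [chi_one]
      | insert i s hi ih =>
        rw [Finset.prod_insert hi, Finset.prod_insert hi, chi_mul, ih, chi_corChar_simple hck i hr]
    rw [hPar_eq_corChar hck, hprod, Finset.prod_eq_single k', Pi.mulSingle_eq_same]
    · intro i _ hi
      rw [Pi.mulSingle_eq_of_ne hi, one_zpow]
    · simp
  have hval : ((c ^ chevE6.cartan k.1 r : Kˣ) : K) = (c : K) ^ chevE6.cartan k.1 r :=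
    Units.val_zpow_eq_zpow_val c _
  refine ⟨⟨(c : K) ^ chevE6.cartan k.1 r * (t : K), fun h => ?_⟩, Subtype.ext ?_, rfl⟩
  · rw [map_mul, map_zpow₀, hc, t.2 h]
  · show torus chevE6 tb K _ * ((sl φ r t : Γ φ) : GL chevE6.Idx K) * _ = ((sl φ r _ : Γ φ) : GL _ K)
    rw [sl_coe φ hr, sl_coe φ hr]
    refine conj_orbX hck sym_test φ (twistGrp_le_fixed hck sym_test φ hG) ?_ rfl
    rw [torus_conj_elX hck _ hr, hchi, hval]

/-- The image of a slot under a word of nodes. -/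
def wW : List ℕ → ℕ → ℕ
  | [], r => r
  | i :: l, r => sym.wO i (wW l r)

theorem exists_weyl : ∀ l : List ℕ, (∀ i ∈ l, i < 6) → ∃ g : Γ φ, ∀ r < 72, wW l r < 72 ∧
    ∀ t : Par φ r, ∃ t' : Par φ (rep (wW l r)),
      g * sl φ r t * g⁻¹ = sl φ (rep (wW l r)) t'
  | [], _ => ⟨1, fun r hr => ⟨hr, fun t => by
      obtain ⟨z, hz⟩ := exists_rep φ hr t.2
      exact ⟨z, Subtype.ext ((by simp : ((1 * sl φ r t * 1⁻¹ : Γ φ) : GL chevE6.Idx K) = _).trans ((sl_coe φ hr t).trans hz.symm))⟩⟩⟩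
  | i :: l, hl => by
    obtain ⟨g, hg⟩ := exists_weyl l fun j hj => hl j (List.mem_cons_of_mem _ hj)
    have hi : i < chevE6.rank := hl i (List.mem_cons_self ..)
    have hck := CfsgLib.Chev.E6.checked
    refine ⟨⟨nOrb sym_test φ i, nOrb_mem hck sym_test φ sym_nodeTest hi⟩ * g, fun r hr => ?_⟩
    obtain ⟨hw, hg⟩ := hg r hr
    refine ⟨wO_lt hck sym_test hi hw, fun t => ?_⟩
    obtain ⟨t₁, h1⟩ := hg t
    obtain ⟨a, ha, hza⟩ := exists_par φ hw t₁
    obtain ⟨hw', hl', e, -, hp, he⟩ :=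
      nOrb_conj hck sym_test φ sym_nodeTest hi hw (fx_isPar φ hinv.out ha)
    have hfx : Fx φ (sym.wO i (wW l r)) ((e : K) * a) := fun h => by
      have h' := hp
      rw [IsPar, TwistSym.olen, if_pos h] at h'
      exact h'
    obtain ⟨t', ht'⟩ := exists_rep φ hw' hfx
    refine ⟨t', ?_⟩
    rw [mul_inv_rev, show ∀ n x : Γ φ, n * g * x * (g⁻¹ * n⁻¹) = n * (g * x * g⁻¹) * n⁻¹ from
      fun n x => by group, h1]
    apply Subtype.ext
    show nOrb sym_test φ i * ((sl φ _ t₁ : Γ φ) : GL chevE6.Idx K) * (nOrb sym_test φ i)⁻¹ = _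
    rw [← hza, he]
    exact ht'.symm

end CfsgLib.MinDeg.TwE6
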