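import Mathlib
import Cfsg.Prelude.Def_Classical
import Cfsg.Agent.Lib.MinDeg.HermOrbit

/-!
# The Siegel data of `SU_n(q)` for even `n`
-/

set_option autoImplicit false

namespace CfsgLib.MinDeg

open Matrix

variable {F : Type*} [Field F] [Fintype F] {q : ℕ}

/-- The involution `x ↦ x ^ q` as a star ring structure. -/
theorem exists_frob_star (hF : Fintype.card F = q ^ 2) :
    ∃ S : StarRing F, ∀ x : F, @star F S.toStar x = x ^ q := by
  obtain ⟨p, hp⟩ := CharP.exists F
  obtain ⟨⟨r, hr⟩, hpr, hcard⟩ := FiniteField.card F p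
  haveI : Fact p.Prime := ⟨hpr⟩
  have hdvd : q ∣ p ^ r := by
    simp only [PNat.mk_coe] at hcard
    rw [← hcard, hF]
    exact ⟨q, by ring⟩
  obtain ⟨l, -, rfl⟩ := (Nat.dvd_prime_pow hpr).1 hdvd
  have hinv : ∀ x : F, (x ^ p ^ l) ^ p ^ l = x := fun x => by
    rw [← pow_mul, ← sq, ← hF, FiniteField.pow_card]
  exact ⟨{ star := fun x => x ^ p ^ l
           star_involutive := hinv
           star_mul := fun x y => by rw [mul_pow, mul_comm]
           star_add := fun x y => add_pow_char_pow x y p l }, fun x => rfl⟩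

section

variable [StarRing F] {n : ℕ}

omit [Fintype F] in
theorem hermForm_eq_dot (hs : ∀ x : F, star x = x ^ q) (u v : Fin n → F) :
    Cfsg.hermForm n F q u v = star v ⬝ᵥ u := by
  simp [Cfsg.hermForm, dotProduct, hs, mul_comm]

omit [Fintype F] in
theorem mem_SU_iff (hs : ∀ x : F, star x = x ^ q) (g : Matrix.SpecialLinearGroup (Fin n) F) :
    g ∈ Cfsg.SU n F q ↔ (g : Matrix (Fin n) (Fin n) F)ᴴ * g = 1 := by
  have hval : Cfsg.slToMat n F g = (g : Matrix (Fin n) (Fin n) F) := rfl
  change (∀ u v, _) ↔ _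
  simp only [hval, hermForm_eq_dot hs, star_mulVec, ← dotProduct_mulVec, mulVec_mulVec]
  refine ⟨fun h => ?_, fun h u v => by rw [h, one_mulVec]⟩
  ext i j
  have := h (Pi.single j 1) (Pi.single i 1)
  simpa [Pi.star_single, Matrix.one_apply, Pi.single_apply, eq_comm] using this

theorem exists_isotropic_pair (hF : Fintype.card F = q ^ 2) (hs : ∀ x : F, star x = x ^ q) :
    ∃ a b : F, a * star a = -1 ∧ b * star b = -1 ∧ 1 + star a * b ≠ 0 := by
  classical
  obtain ⟨a, ha⟩ := exists_norm_eq hF hs (a := (-1 : F)) (by simp)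
  obtain ⟨x, hx⟩ := exists_star_ne hF hs
  have hx0 : x ≠ 0 := fun h => hx (by simp [h])
  refine ⟨a, a * (star x / x), ha, ?_, ?_⟩
  · rw [star_mul', star_div₀, star_star]
    have : star x / x * (x / star x) = 1 := by field_simp [star_ne_zero.2 hx0]
    linear_combination (a * star a) * this + ha
  · intro h
    apply hx
    have e : (1 : F) - star x / x = 0 := by linear_combination h - (star x / x) * ha
    rw [sub_eq_zero, eq_comm, div_eq_one_iff_eq hx0] at e
    exact e

/-- A hyperbolic basis of the standard Hermitian space of dimension `2m`. -/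
theorem exists_hyperbolic_basis (hF : Fintype.card F = q ^ 2) (hs : ∀ x : F, star x = x ^ q)
    (m : ℕ) : ∃ M : Matrix (Fin m ⊕ Fin m) (Fin m ⊕ Fin m) F, Mᴴ * M = formJ m 1 := by
  obtain ⟨a, b, ha, hb, hab⟩ := exists_isotropic_pair hF hs
  refine ⟨fromBlocks 1 ((1 + star a * b)⁻¹ • 1) (a • 1) (((1 + star a * b)⁻¹ * b) • 1), ?_⟩
  have hd : (1 : F) + star b * a ≠ 0 := by
    intro h; apply hab
    have := congrArg star h
    simpa [mul_comm] using this
  have e1 : (1 : F) + star a * a = 0 := by linear_combination ha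
  have e2 : (1 : F) + star b * b = 0 := by linear_combination hb
  rw [fromBlocks_conjTranspose, fromBlocks_multiply, formJ]
  simp only [conjTranspose_smul, conjTranspose_one, Matrix.one_mul, Matrix.mul_one, Matrix.smul_mul,
    Matrix.mul_smul, smul_smul, star_mul', star_inv₀, star_add, star_one, star_star]
  have l1 : ∀ c : F, (1 : Matrix (Fin m) (Fin m) F) + c • 1 = (1 + c) • 1 := fun c => by
    rw [add_smul, one_smul]
  simp only [l1, ← add_smul]
  have z : ∀ c : F, c = 0 → c • (1 : Matrix (Fin m) (Fin m) F) = 0 := fun c h => by simp [h]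
  have o : ∀ c : F, c = 1 → c • (1 : Matrix (Fin m) (Fin m) F) = 1 := fun c h => by simp [h]
  rw [z, o, o, z]
  · simp
  · have : ((1 + a * star b)⁻¹ * (1 + star a * b)⁻¹) * (1 + star b * b) = 0 := by rw [e2, mul_zero]
    linear_combination this
  · have hd' : (1 : F) + a * star b ≠ 0 := by rwa [mul_comm]
    field_simp
  · have hd' : (1 : F) + a * star b ≠ 0 := by rwa [mul_comm]
    field_simp
  · linear_combination e1

theorem su_two_mul_degree_bound (hF : Fintype.card F = q ^ 2) (hs : ∀ x : F, star x = x ^ q) (m : ℕ)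
    (hm : 2 ≤ m) (hn : n = 2 * m) {k : ℕ} (ρ : Representation ℂ (Cfsg.SU n F q) (Fin k → ℂ))
    (hρ : ρ.IsIrreducible) (hk : 2 ≤ k) : (q ^ n - 1) / (q + 1) ≤ k := by
  classical
  obtain ⟨M, hM⟩ := exists_hyperbolic_basis hF hs m
  let e : Fin n ≃ Fin m ⊕ Fin m := (finCongr (by omega : n = m + m)).trans finSumFinEquiv.symm
  have hMd : IsUnit M.det := by
    rw [isUnit_iff_ne_zero]
    intro h0
    have hJ := congrArg det hM
    rw [det_mul, h0, mul_zero] at hJ
    have : formJ m (1 : F) * formJ m (1 : F) = 1 := by simp [formJ, fromBlocks_multiply]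
    have := congrArg det this
    rw [det_mul, ← hJ] at this
    simp at this
  let c : Cfsg.SU n F q → Matrix (Fin m ⊕ Fin m) (Fin m ⊕ Fin m) F :=
    fun g => (g.1 : Matrix (Fin n) (Fin n) F).submatrix e.symm e.symm
  have hc : ∀ g h, c (g * h) = c g * c h := fun g h => (submatrix_mul_equiv _ _ _ e.symm _).symm
  have hMi : (M⁻¹)ᴴ * formJ m 1 * M⁻¹ = 1 := by
    rw [← hM, ← Matrix.mul_assoc, ← conjTranspose_mul, mul_nonsing_inv _ hMd, conjTranspose_one,
      Matrix.one_mul, mul_nonsing_inv _ hMd]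
  let f : Cfsg.SU n F q →* Matrix (Fin m ⊕ Fin m) (Fin m ⊕ Fin m) F :=
    { toFun := fun g => M⁻¹ * c g * M
      map_one' := by simp [c, nonsing_inv_mul _ hMd]
      map_mul' := fun g h => by
        rw [hc]; simp only [Matrix.mul_assoc, mul_nonsing_inv_cancel_left _ _ hMd] }
  have hc1 : ∀ g, (c g)ᴴ * c g = 1 := fun g => by
    rw [conjTranspose_submatrix, submatrix_mul_equiv, (mem_SU_iff hs g.1).1 g.2, submatrix_one_equiv]
  have lift : ∀ U : Matrix (Fin m ⊕ Fin m) (Fin m ⊕ Fin m) F, Uᴴ * formJ m 1 * U = formJ m 1 →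
      U.det = 1 → ∃ g, f g = U := by
    intro U hU hUd
    set V := M * U * M⁻¹ with hV
    have hVd : V.det = 1 := by
      rw [hV, det_mul, det_mul, hUd, mul_one, ← det_mul, mul_nonsing_inv _ hMd, det_one]
    have hVu : Vᴴ * V = 1 := by
      rw [hV, conjTranspose_mul, conjTranspose_mul]
      calc (M⁻¹)ᴴ * (Uᴴ * Mᴴ) * (M * U * M⁻¹) = (M⁻¹)ᴴ * (Uᴴ * (Mᴴ * M) * U) * M⁻¹ := by
            simp only [Matrix.mul_assoc]
        _ = 1 := by rw [hM, hU, hMi]
    refine ⟨⟨⟨V.submatrix e e, by rw [det_submatrix_equiv_self, hVd]⟩, (mem_SU_iff hs _).2 ?_⟩, ?_⟩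
    · show (V.submatrix e e)ᴴ * V.submatrix e e = 1
      rw [conjTranspose_submatrix, submatrix_mul_equiv, hVu, submatrix_one_equiv]
    · show M⁻¹ * (V.submatrix e e).submatrix e.symm e.symm * M = U
      rw [submatrix_submatrix]
      simp only [Equiv.self_comp_symm, submatrix_id_id, hV, Matrix.mul_assoc,
        nonsing_inv_mul _ hMd, Matrix.mul_one, nonsing_inv_mul_cancel_left _ _ hMd]
  have hup : ∀ H : skewPart m (1 : F), ∃ g, f g = upperU H.1 := fun H => lift _ (by
    have hH := mem_skewPart.1 H.2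
    simp [formJ, upperU, fromBlocks_conjTranspose, fromBlocks_multiply, hH]) (by simp [upperU])
  have hlo : ∀ H : skewPart m (1 : F), ∃ g, f g = lowerU H.1 := fun H => lift _ (by
    have hH := mem_skewPart.1 H.2
    simp [formJ, lowerU, fromBlocks_conjTranspose, fromBlocks_multiply, hH]) (by simp [lowerU])
  choose u hu using hup
  choose l hl using hlo
  let D : SiegelData (Cfsg.SU n F q) F m 1 :=
    { f := f
      inj := fun g h hgh => by
        have h1 : M⁻¹ * c g * M = M⁻¹ * c h * M := hgh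
        have h2 : c g = c h := by
          have := congrArg (fun X => M * X * M⁻¹) h1
          simpa [Matrix.mul_assoc, mul_nonsing_inv_cancel_left _ _ hMd, mul_nonsing_inv _ hMd] using this
        apply Subtype.ext; apply Subtype.ext
        have := congrArg (fun X => X.submatrix e e) h2
        simpa [c, submatrix_submatrix] using this
      isometry := fun g => by
        show (M⁻¹ * c g * M)ᴴ * formJ m 1 * (M⁻¹ * c g * M) = formJ m 1
        rw [conjTranspose_mul, conjTranspose_mul]
        calc Mᴴ * ((c g)ᴴ * (M⁻¹)ᴴ) * formJ m 1 * (M⁻¹ * c g * M)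
            = Mᴴ * ((c g)ᴴ * ((M⁻¹)ᴴ * formJ m 1 * M⁻¹) * c g) * M := by simp only [Matrix.mul_assoc]
          _ = formJ m 1 := by rw [hMi, Matrix.mul_one, hc1, Matrix.mul_one, hM]
      detCond := fun g => Or.inl <| by
        show (M⁻¹ * c g * M).det = 1
        rw [det_mul, det_mul, det_submatrix_equiv_self, g.1.2, mul_one, ← det_mul,
          nonsing_inv_mul _ hMd, det_one]
      upper := u, upper_spec := hu, lower := l, lower_spec := hl }
  rw [hn]
  exact D.herm_degree_bound hF hs hm ρ hρ hk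

end

end CfsgLib.MinDeg
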