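import Cfsg.Agent.Lib.MinDeg.UnitaryGroup
import Cfsg.Agent.Lib.Classical.Herm.Std

/-!
# Smallest degree of `SU_n(q)` for odd `n`

The Siegel radical is a two-step group with centre the skew-Hermitian `m × m` matrices; every
non-trivial central character has multiplicity at least `q`.
-/

set_option autoImplicit false

namespace CfsgLib.MinDeg

open Matrix Finset

section Dual

variable {F : Type*} [Field F] [StarRing F] [Fintype F] {q m : ℕ}

/-- Characters of the skew-Hermitian matrices are `H ↦ e (tr (H X))`. -/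
theorem exists_skew_dual (hF : Fintype.card F = q ^ 2) (hs : ∀ x : F, star x = x ^ q) :
    ∃ (e : AddChar F ℂ) (χ : skewPart m (1 : F) → AddChar (skewPart m (1 : F)) ℂ),
      Function.Bijective χ ∧ (∀ X H, χ X H = e (H.1 * X.1).trace) ∧
        ∃ r : F, e (r + star r) ≠ 1 := by
  classical
  haveI : Fintype (skewPart m (1 : F)) := Fintype.ofFinite _
  obtain ⟨r, hr⟩ := exists_trace_ne_zero hF hs
  obtain ⟨e, he⟩ : ∃ e : AddChar F ℂ, e (r + star r) ≠ 1 := AddChar.exists_apply_ne_zero.2 hr
  let χ : skewPart m (1 : F) → AddChar (skewPart m (1 : F)) ℂ := fun X =>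
    { toFun := fun H => e (H.1 * X.1).trace
      map_zero_eq_one' := by simp [e.map_zero_eq_one]
      map_add_eq_mul' := fun H K => by simp [Matrix.add_mul, e.map_add_eq_mul] }
  have hskew : ∀ X : skewPart m (1 : F), X.1ᴴ = -X.1 := fun X => by
    simpa using mem_skewPart.1 X.2
  have hinj : Function.Injective χ := by
    intro X X' h
    by_contra hne
    have hd : X.1 - X'.1 ≠ 0 := sub_ne_zero.2 fun h => hne (Subtype.ext h)
    obtain ⟨i, j, hij⟩ : ∃ i j, (X.1 - X'.1) i j ≠ 0 := by
      by_contra hall; push Not at hall; exact hd (Matrix.ext hall)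
    set Y : Matrix (Fin m) (Fin m) F := single j i (r / (X.1 - X'.1) i j) with hY
    have htr : (Y * (X.1 - X'.1)).trace = r := by
      rw [hY, trace_single_mul, smul_eq_mul, div_mul_cancel₀ _ hij]
    have hmem : Y - Yᴴ ∈ skewPart m (1 : F) := by simp [mem_skewPart]
    have hH := DFunLike.congr_fun h ⟨Y - Yᴴ, hmem⟩
    change e ((Y - Yᴴ) * X.1).trace = e ((Y - Yᴴ) * X'.1).trace at hH
    apply he
    have e2 : ((Y - Yᴴ) * X.1).trace = ((Y - Yᴴ) * X'.1).trace + (r + star r) := by
      have hst : (Yᴴ * (X.1 - X'.1)).trace = -star r := by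
        rw [← htr, ← trace_conjTranspose, conjTranspose_mul, conjTranspose_sub, hskew, hskew,
          trace_mul_comm (-X.1 - -X'.1) Yᴴ, ← trace_neg, ← Matrix.mul_neg]
        congr 2; abel
      rw [← sub_eq_iff_eq_add', ← trace_sub, ← Matrix.mul_sub, Matrix.sub_mul, trace_sub, hst, htr,
        sub_neg_eq_add]
    rw [e2, e.map_add_eq_mul] at hH
    exact (mul_eq_left₀ (e.val_isUnit _).ne_zero).1 hH
  exact ⟨e, χ, (Fintype.bijective_iff_injective_and_card χ).2 ⟨hinj, AddChar.card_eq.symm⟩,
    fun _ _ => rfl, r, he⟩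

/-- A nonzero skew-Hermitian matrix has an anisotropic vector. -/
theorem exists_anisotropic (hF : Fintype.card F = q ^ 2) (hs : ∀ x : F, star x = x ^ q)
    (X : Matrix (Fin m) (Fin m) F) (hX0 : X ≠ 0) : ∃ v : Fin m → F, star v ⬝ᵥ X *ᵥ v ≠ 0 := by
  classical
  by_contra hall
  push Not at hall
  obtain ⟨t, ht⟩ := exists_star_ne hF hs
  apply hX0
  ext i j
  simp only [Matrix.zero_apply]
  have e : ∀ c : F, c * X i j + star c * X j i = 0 := by
    intro c
    have := hall (Pi.single i 1 + c • Pi.single j 1)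
    have hi := hall (Pi.single i 1)
    have hj := hall (Pi.single j 1)
    simp only [star_add, star_smul, Pi.star_single, star_one, mulVec_add, mulVec_smul,
      mulVec_single_one, add_dotProduct, dotProduct_add, smul_dotProduct, dotProduct_smul,
      single_one_dotProduct, col_apply, smul_eq_mul] at this hi hj
    rw [hi, hj] at this
    linear_combination this
  have e1 := e 1
  rw [one_mul, star_one, one_mul] at e1
  have e2 := e t
  have : (t - star t) * X i j = 0 := by linear_combination e2 - star t * e1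
  exact (mul_eq_zero.1 this).resolve_left (sub_ne_zero.2 fun h => ht h.symm)

/-- Orbits of skew-Hermitian matrices under all invertible congruences. -/
theorem exists_orbit_full (hF : Fintype.card F = q ^ 2) (hs : ∀ x : F, star x = x ^ q) (hm : 1 ≤ m)
    (X : Matrix (Fin m) (Fin m) F) (hX : Xᴴ = -X) (hX0 : X ≠ 0) :
    ∃ O : Finset (Matrix (Fin m) (Fin m) F), q ^ (2 * m) - 1 ≤ (q + 1) * O.card ∧
      ∀ Y ∈ O, ∃ B : Matrix (Fin m) (Fin m) F, B.det ≠ 0 ∧ Y = B * X * Bᴴ := by
  classical
  rcases Nat.lt_or_ge m 2 with hm2 | hm2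
  · obtain rfl : m = 1 := by omega
    refine ⟨(({c : F | star c = c} : Finset F).erase 0).image fun c => c • X, ?_, ?_⟩
    · rw [card_image_of_injective _ (smul_left_injective F hX0), card_erase_of_mem (by simp),
        (card_fixed_skew hF hs).1, mul_one, sq_sub_one, mul_comm]
    · intro Y hY
      obtain ⟨c, hc, rfl⟩ := mem_image.1 hY
      simp only [mem_erase, mem_filter, mem_univ, true_and] at hc
      obtain ⟨b, hb⟩ := exists_norm_eq hF hs hc.2
      refine ⟨b • 1, by simp; rintro rfl; simp at hb; exact hc.1 hb.symm, ?_⟩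
      simp [smul_smul, hb, mul_comm (star b)]
  · exact ⟨realOrbit X, card_realOrbit hF hs hm2 X hX hX0, fun Y hY => by
      obtain ⟨B, hB, -, hY⟩ := mem_realOrbit.1 hY; exact ⟨B, hB, hY⟩⟩

end Dual

section Scalar

/-- An irreducible representation with commutative image has degree one. -/
theorem le_one_of_commute {G : Type*} [Group G] {k : ℕ} (ρ : Representation ℂ G (Fin k → ℂ))
    (hρ : ρ.IsIrreducible) (hc : ∀ a b, ρ a * ρ b = ρ b * ρ a) : k ≤ 1 := by
  by_contra hk
  haveI : NeZero k := ⟨by omega⟩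
  have hscal : ∀ g, ∃ c : ℂ, ρ g = c • 1 := by
    intro g
    obtain ⟨c, hev⟩ := Module.End.exists_eigenvalue (ρ g)
    let W : Subrepresentation ρ := ⟨Module.End.eigenspace (ρ g) c, fun h x hx => by
      rw [Module.End.mem_eigenspace_iff] at hx ⊢
      rw [← Module.End.mul_apply, hc, Module.End.mul_apply, hx, map_smul]⟩
    rcases hρ.eq_bot_or_eq_top W with hW | hW
    · exact absurd (congrArg Subrepresentation.toSubmodule hW) hev
    · refine ⟨c, LinearMap.ext fun x => ?_⟩
      have hx : x ∈ Module.End.eigenspace (ρ g) c := by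
        have := congrArg Subrepresentation.toSubmodule hW
        rw [show Module.End.eigenspace (ρ g) c = ⊤ from this]; trivial
      simpa using Module.End.mem_eigenspace_iff.1 hx
  let v : Fin k → ℂ := Pi.single 0 1
  have hv : v ≠ 0 := by simp [v]
  let W : Subrepresentation ρ := ⟨ℂ ∙ v, fun g x hx => by
    obtain ⟨c, hc⟩ := hscal g
    rw [hc]
    exact Submodule.smul_mem _ c (by simpa using hx)⟩
  rcases hρ.eq_bot_or_eq_top W with hW | hW
  · exact hv ((Submodule.mem_bot ℂ).1 <| by
      have h : v ∈ W.toSubmodule := Submodule.mem_span_singleton_self v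
      rw [hW] at h; exact h)
  · have h1 : Module.finrank ℂ (ℂ ∙ v) = 1 := finrank_span_singleton hv
    have h2 : (ℂ ∙ v) = ⊤ := congrArg Subrepresentation.toSubmodule hW
    rw [h2, finrank_top, Module.finrank_fin_fun] at h1
    omega

/-- In a group simple modulo the centre, a non-central element is non-trivial in every irreducible
representation of degree at least two. -/
theorem rep_ne_one_of_simple_quotient {G : Type*} [Group G]
    (hs : IsSimpleGroup (G ⧸ Subgroup.center G)) {k : ℕ} (ρ : Representation ℂ G (Fin k → ℂ))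
    (hρ : ρ.IsIrreducible) (hk : 2 ≤ k) {g : G} (hg : g ∉ Subgroup.center G) : ρ g ≠ 1 := by
  intro h
  let π := QuotientGroup.mk' (Subgroup.center G)
  have hN : ((MonoidHom.ker ρ).map π).Normal :=
    (MonoidHom.normal_ker ρ).map _ (QuotientGroup.mk'_surjective _)
  rcases hN.eq_bot_or_eq_top with h0 | h0
  · have : π g ∈ (MonoidHom.ker ρ).map π := ⟨g, h, rfl⟩
    rw [h0, Subgroup.mem_bot] at this
    exact hg ((QuotientGroup.eq_one_iff g).1 this)
  · have hdec : ∀ a, ∃ z ∈ Subgroup.center G, ρ a = ρ z := by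
      intro a
      obtain ⟨n, hn, e⟩ := (h0.symm ▸ Subgroup.mem_top (π a) : π a ∈ (MonoidHom.ker ρ).map π)
      refine ⟨n⁻¹ * a, QuotientGroup.eq.1 e, ?_⟩
      rw [map_mul, show ρ n⁻¹ = 1 from (MonoidHom.ker ρ).inv_mem hn, one_mul]
    have := le_one_of_commute ρ hρ fun a b => by
      obtain ⟨z, hz, ha⟩ := hdec a
      rw [ha, ← map_mul, ← map_mul, Subgroup.mem_center_iff.1 hz b]
    omega

end Scalar

section Main

variable {F : Type*} [Field F] [StarRing F] [Fintype F] {q n : ℕ}

/-- The extended form. -/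
def formJ' (m : ℕ) : Matrix ((Fin m ⊕ Fin m) ⊕ Unit) ((Fin m ⊕ Fin m) ⊕ Unit) F :=
  fromBlocks (formJ m 1) 0 0 1

/-- Coordinates in a hyperbolic basis. -/
theorem exists_su_coords (hF : Fintype.card F = q ^ 2) (hs : ∀ x : F, star x = x ^ q) (m : ℕ)
    (hn : n = 2 * m + 1) :
    ∃ f : Cfsg.SU n F q →* Matrix ((Fin m ⊕ Fin m) ⊕ Unit) ((Fin m ⊕ Fin m) ⊕ Unit) F,
      Function.Injective f ∧ ∀ U, Uᴴ * formJ' m * U = formJ' m → U.det = 1 → ∃ g, f g = U := by
  classical
  obtain ⟨M₀, hM₀⟩ := exists_hyperbolic_basis hF hs m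
  set M : Matrix ((Fin m ⊕ Fin m) ⊕ Unit) ((Fin m ⊕ Fin m) ⊕ Unit) F := fromBlocks M₀ 0 0 1
  have hM : Mᴴ * M = formJ' m := by simp [M, formJ', fromBlocks_conjTranspose, fromBlocks_multiply, hM₀]
  let e : Fin n ≃ (Fin m ⊕ Fin m) ⊕ Unit := Fintype.equivOfCardEq (by simp [hn]; omega)
  have hMd : IsUnit M.det := by
    rw [isUnit_iff_ne_zero]
    intro h0
    have hJ := congrArg det hM
    rw [det_mul, h0, mul_zero] at hJ
    have : formJ' m * formJ' (F := F) m = 1 := by simp [formJ', formJ, fromBlocks_multiply]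
    have := congrArg det this
    rw [det_mul, ← hJ] at this
    simp at this
  let c : Cfsg.SU n F q → Matrix ((Fin m ⊕ Fin m) ⊕ Unit) ((Fin m ⊕ Fin m) ⊕ Unit) F :=
    fun g => (g.1 : Matrix (Fin n) (Fin n) F).submatrix e.symm e.symm
  have hc : ∀ g h, c (g * h) = c g * c h := fun g h => (submatrix_mul_equiv _ _ _ e.symm _).symm
  have hMi : (M⁻¹)ᴴ * formJ' m * M⁻¹ = 1 := by
    rw [← hM, ← Matrix.mul_assoc, ← conjTranspose_mul, mul_nonsing_inv _ hMd, conjTranspose_one,
      Matrix.one_mul, mul_nonsing_inv _ hMd]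
  refine ⟨{ toFun := fun g => M⁻¹ * c g * M
            map_one' := by simp [c, nonsing_inv_mul _ hMd]
            map_mul' := fun g h => by
              rw [hc]; simp only [Matrix.mul_assoc, mul_nonsing_inv_cancel_left _ _ hMd] },
    fun g h hgh => ?_, fun U hU hUd => ?_⟩
  · have h1 : M⁻¹ * c g * M = M⁻¹ * c h * M := hgh
    have h2 : c g = c h := by
      have := congrArg (fun X => M * X * M⁻¹) h1
      simpa [Matrix.mul_assoc, mul_nonsing_inv_cancel_left _ _ hMd, mul_nonsing_inv _ hMd] using this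
    apply Subtype.ext; apply Subtype.ext
    have := congrArg (fun X => X.submatrix e e) h2
    simpa [c, submatrix_submatrix] using this
  · set V := M * U * M⁻¹ with hV
    have hVd : V.det = 1 := by
      rw [hV, det_mul, det_mul, hUd, mul_one, ← det_mul, mul_nonsing_inv _ hMd, det_one]
    have hVu : Vᴴ * V = 1 := by
      rw [hV, conjTranspose_mul, conjTranspose_mul]
      calc (M⁻¹)ᴴ * (Uᴴ * Mᴴ) * (M * U * M⁻¹) = (M⁻¹)ᴴ * (Uᴴ * (Mᴴ * M) * U) * M⁻¹ := by
            simp only [Matrix.mul_assoc]
        _ = 1 := by rw [hM, hU, hMi]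
    refine ⟨⟨⟨V.submatrix e e, by rw [det_submatrix_equiv_self, hVd]⟩, (mem_SU_iff hs _).2 ?_⟩, ?_⟩
    · show (V.submatrix e e)ᴴ * V.submatrix e e = 1
      rw [conjTranspose_submatrix, submatrix_mul_equiv, hVu, submatrix_one_equiv]
    · show M⁻¹ * (V.submatrix e e).submatrix e.symm e.symm * M = U
      rw [submatrix_submatrix]
      simp only [Equiv.self_comp_symm, submatrix_id_id, hV, Matrix.mul_assoc,
        nonsing_inv_mul _ hMd, Matrix.mul_one, nonsing_inv_mul_cancel_left _ _ hMd]

/-- The degree bound. -/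
theorem su_odd_degree_bound (hF : Fintype.card F = q ^ 2) (hs : ∀ x : F, star x = x ^ q) (m : ℕ)
    (hm : 1 ≤ m) (hn : n = 2 * m + 1) (hex : ¬ (n = 3 ∧ q = 2)) {k : ℕ}
    (ρ : Representation ℂ (Cfsg.SU n F q) (Fin k → ℂ)) (hρ : ρ.IsIrreducible) (hk : 2 ≤ k) :
    (q ^ n - q) / (q + 1) ≤ k := by
  classical
  obtain ⟨f, hinj, hlift⟩ := exists_su_coords hF hs m hn
  haveI : Fintype (skewPart m (1 : F)) := Fintype.ofFinite _
  obtain ⟨t, ht0, ht⟩ := exists_skew_ne_zero hF hs
  obtain ⟨r, hr⟩ := exists_trace_ne_zero hF hs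
  set r' := r / (r + star r) with hr'def
  have hr' : r' + star r' = 1 := by
    rw [hr'def, star_div₀, star_add, star_star, add_comm (star r) r, ← add_div, div_self hr]
  -- the centre of the radical
  have hZ : ∀ H : skewPart m (1 : F), ∃ g, f g = fromBlocks (upperU H.1) 0 0 1 := fun H => hlift _
    (by
      have hH := mem_skewPart.1 H.2
      simp [formJ', formJ, upperU, fromBlocks_conjTranspose, fromBlocks_multiply, hH])
    (by simp [upperU])
  choose z hz using hZ
  let u : AddChar (skewPart m (1 : F)) (Cfsg.SU n F q) :=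
    { toFun := z
      map_zero_eq_one' := hinj (by rw [hz, map_one, ZeroMemClass.coe_zero, upperU_zero, fromBlocks_one])
      map_add_eq_mul' := fun a b => hinj (by
        rw [map_mul, hz, hz, hz, fromBlocks_multiply, AddMemClass.coe_add, ← upperU_mul]
        simp) }
  -- the root elements outside the centre
  let xc : (Fin m → F) → Matrix (Fin m ⊕ Fin m) Unit F := fun w => Matrix.of fun i _ =>
    Sum.elim (fun j => -star (w j)) (fun _ => 0) i
  let wr : (Fin m → F) → Matrix Unit (Fin m ⊕ Fin m) F := fun w => Matrix.of fun _ i =>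
    Sum.elim (fun _ => 0) (fun j => w j) i
  let P : (Fin m → F) → Matrix (Fin m) (Fin m) F := fun w => (-r') • vecMulVec (star w) w
  let Xm : (Fin m → F) → Matrix ((Fin m ⊕ Fin m) ⊕ Unit) ((Fin m ⊕ Fin m) ⊕ Unit) F := fun w =>
    fromBlocks (upperU (P w)) (xc w) (wr w) 1
  have hX : ∀ w, ∃ g, f g = Xm w := by
    intro w
    refine hlift _ ?_ ?_
    · have hP : (P w)ᴴ + P w + vecMulVec (star w) w = 0 := by
        simp only [P, conjTranspose_smul, conjTranspose_vecMulVec, star_star, star_neg,
          ← add_smul]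
        rw [show -star r' + -r' = (-1 : F) by linear_combination -hr']
        simp
      simp only [Xm, formJ', formJ, upperU, fromBlocks_conjTranspose, fromBlocks_multiply]
      ext i j
      rcases i with (i | i) | i <;> rcases j with (j | j) | j <;>
        simp [Matrix.mul_apply, xc, wr, Matrix.one_apply, Fintype.sum_sum_type,
          fromBlocks_apply₁₁, fromBlocks_apply₁₂, fromBlocks_apply₂₁, fromBlocks_apply₂₂]
      have := congrFun (congrFun hP i) j
      simp [vecMulVec_apply] at this
      linear_combination this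
    · simp only [Xm]
      rw [det_fromBlocks_one₂₂]
      have : upperU (P w) - xc w * wr w = upperU (P w + vecMulVec (star w) w) := by
        ext i j
        rcases i with i | i <;> rcases j with j | j <;>
          simp [upperU, xc, wr, Matrix.mul_apply, Matrix.one_apply, vecMulVec_apply]
      rw [this]; simp [upperU]
  choose x hx using hX
  have hzx : ∀ (H : skewPart m (1 : F)) w, u H * x w = x w * u H := by
    intro H w
    refine hinj ?_
    rw [map_mul, map_mul, show f (u H) = _ from hz H, hx]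
    simp only [Xm]
    ext i j
    rcases i with (i | i) | i <;> rcases j with (j | j) | j <;>
      simp [Matrix.mul_apply, xc, wr, upperU, Matrix.one_apply, Fintype.sum_sum_type, add_comm]
  let C : (Fin m → F) → (Fin m → F) → skewPart m (1 : F) := fun a b =>
    ⟨vecMulVec (star b) a - vecMulVec (star a) b, by
      rw [mem_skewPart]; simp [conjTranspose_sub, conjTranspose_vecMulVec]⟩
  have hcomm : ∀ a b, x a * x b = u (C a b) * (x b * x a) := by
    intro a b
    refine hinj ?_
    rw [map_mul, map_mul, map_mul, show f (u (C a b)) = _ from hz (C a b), hx, hx]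
    simp only [Xm, C]
    ext i j
    rcases i with (i | i) | i <;> rcases j with (j | j) | j <;>
      simp [Matrix.mul_apply, xc, wr, upperU, Matrix.one_apply, Fintype.sum_sum_type, vecMulVec_apply] <;>
      ring
  -- the centre is not in the kernel
  obtain ⟨i₀⟩ : Nonempty (Fin m) := ⟨⟨0, hm⟩⟩
  let H₀ : skewPart m (1 : F) := ⟨t • 1, scalarSkew_mem (by simp [ht])⟩
  have hnc : u H₀ ∉ Subgroup.center (Cfsg.SU n F q) := by
    intro hcen
    obtain ⟨l, hl⟩ := hlift (fromBlocks (lowerU H₀.1) 0 0 1) (by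
      have hH := mem_skewPart.1 H₀.2
      simp [formJ', formJ, lowerU, fromBlocks_conjTranspose, fromBlocks_multiply, hH])
      (by simp [lowerU])
    have := congrArg f (Subgroup.mem_center_iff.1 hcen l)
    rw [map_mul, map_mul, show f (u H₀) = _ from hz H₀, hl] at this
    have h2 := congrFun (congrFun this (.inl (.inl i₀))) (.inl (.inl i₀))
    simp [upperU, lowerU, fromBlocks_multiply, H₀, ht0] at h2
  have hne := rep_ne_one_of_simple_quotient
    (CfsgLib.Classical.Herm.isSimpleGroup_psu hF (by omega) hex) ρ hρ hk hnc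
  obtain ⟨ψ, hψ, hW⟩ := exists_weight_ne_zero (resChar ρ u) (a := H₀) hne
  obtain ⟨e, χ, hbij, hχ, r₁, hr₁⟩ := exists_skew_dual (m := m) hF hs
  obtain ⟨X, rfl⟩ := hbij.2 ψ
  have hX0 : X.1 ≠ 0 := fun h => hψ <| DFunLike.ext _ _ fun H => by
    rw [hχ]; simp [h, e.map_zero_eq_one]
  have hXs : X.1ᴴ = -X.1 := by simpa using mem_skewPart.1 X.2
  -- multiplicity
  set W := weightSpace (resChar ρ u) (χ X) with hWdef
  obtain ⟨v, hv⟩ := exists_anisotropic hF hs X.1 hX0
  set a := star v ⬝ᵥ X.1 *ᵥ v
  have hsa : star a = -a := dot_skew X.1 hXs v v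
  have hstab : ∀ b, ∀ w ∈ W, ρ (x b) w ∈ W := fun b w hw =>
    mapsTo_weightSpace ρ u (x b) (AddEquiv.refl _) (fun H => (hzx H b).symm) _ _ (fun _ => rfl) w hw
  have hstab' : ∀ b, ∀ w ∈ W, ρ (x b)⁻¹ w ∈ W := fun b w hw =>
    mapsTo_weightSpace ρ u (x b)⁻¹ (AddEquiv.refl _) (fun H => by
      rw [AddEquiv.refl_apply, eq_comm, eq_inv_mul_iff_mul_eq, ← mul_assoc, ← hzx,
        mul_inv_cancel_right]) _ _ (fun _ => rfl) w hw
  have hr' : q ≤ Module.finrank ℂ W := by
    have h := card_le_sq_finrank ρ W hW (fun c : F => x (c • star v)) (fun d : F => x (d • star v))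
      (fun d c => χ X (C (d • star v) (c • star v))) (fun c => hstab _) (fun d => hstab _)
      (fun d => hstab' _) (fun d c w hw => ?_) (fun c c' hne => ?_)
    · rw [hF, sq] at h
      exact Nat.mul_self_le_mul_self_iff.1 h
    · rw [hcomm, mul_assoc, mul_inv_cancel_right, map_mul, Module.End.mul_apply]
      exact mem_weightSpace.1 (hstab _ w hw) _
    · have htr : ∀ d c : F, ((C (d • star v) (c • star v)).1 * X.1).trace =
          star c * d * a + star (star c * d * a) := by
        intro d c
        have key : ∀ y z : Fin m → F, (vecMulVec y z * X.1).trace = z ⬝ᵥ X.1 *ᵥ y := by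
          intro y z
          rw [vecMulVec_mul, trace_vecMulVec, dotProduct_comm, dotProduct_mulVec]
        simp only [C, Matrix.sub_mul, trace_sub, key, star_smul, star_star, mulVec_smul,
          dotProduct_smul, smul_dotProduct, smul_eq_mul, star_mul', hsa]
        ring
      have hc : star c - star c' ≠ 0 := sub_ne_zero.2 fun h => hne (star_injective h)
      refine ⟨r₁ / ((star c - star c') * a), fun heq => hr₁ ?_⟩
      rw [hχ, hχ, htr, htr] at heq
      set d := r₁ / ((star c - star c') * a)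
      have hd : star c * d * a = star c' * d * a + r₁ := by
        have : (star c - star c') * a * d = r₁ := mul_div_cancel₀ _ (mul_ne_zero hc hv)
        linear_combination this
      rw [hd, star_add, show star c' * d * a + r₁ + (star (star c' * d * a) + star r₁) =
        star c' * d * a + star (star c' * d * a) + (r₁ + star r₁) by ring, e.map_add_eq_mul] at heq
      exact (mul_eq_left₀ (e.val_isUnit _).ne_zero).1 heq
  -- the orbit
  obtain ⟨O, hO, hOB⟩ := exists_orbit_full hF hs hm X.1 hXs hX0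
  have horb : ∀ Y ∈ O, Y ∈ skewPart m (1 : F) := fun Y hY => by
    obtain ⟨B, -, rfl⟩ := hOB Y hY; exact congr_mem B X.2
  let T := O.attach.image fun Y => χ ⟨Y.1, horb _ Y.2⟩
  have hT : T.card = O.card := by
    rw [card_image_of_injective, card_attach]
    exact fun Y Y' h => Subtype.ext (Subtype.mk.inj (hbij.1 h))
  have h1 := orbit_mul_le_finrank ρ u (χ X) q hr' T fun ψ' hψ' => by
    obtain ⟨⟨Y, hY⟩, -, rfl⟩ := mem_image.1 hψ'
    obtain ⟨B, hB, rfl⟩ := hOB Y hY
    have hBu := Ne.isUnit hB
    set A := (Bᴴ)⁻¹ with hAdef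
    have hA : A.det ≠ 0 := by simp [hAdef, det_conjTranspose, hB]
    set μ := star A.det / A.det with hμ
    obtain ⟨g, hg⟩ := hlift (fromBlocks (leviM A) 0 0 (μ • 1)) (by
        have hAA : (A⁻¹ : Matrix (Fin m) (Fin m) F) * A = 1 := nonsing_inv_mul A (Ne.isUnit hA)
        have hμμ : star μ * μ = 1 := by
          rw [hμ, star_div₀, star_star, div_mul_div_comm, mul_comm, div_self]
          exact mul_ne_zero (star_ne_zero.2 hA) hA
        simp [formJ', formJ, leviM, fromBlocks_conjTranspose, fromBlocks_multiply, hAA, hμμ,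
          (mul_comm μ (star μ)).trans hμμ, smul_smul, ← conjTranspose_mul])
      (by
        simp [leviM, det_conjTranspose, det_nonsing_inv, hμ]
        field_simp [star_ne_zero.2 hA])
    refine ⟨g, congrEquiv 1 A hA, fun H => hinj ?_, fun H => ?_⟩
    · rw [map_mul, map_mul, hg, show f (u H) = _ from hz H, show f (u _) = _ from hz _,
        fromBlocks_multiply, fromBlocks_multiply]
      have := leviM_mul_upperU A H.1 hA
      simp [this, congrEquiv]
    · rw [hχ, hχ]
      congr 1
      show ((A * H.1 * Aᴴ) * (B * X.1 * Bᴴ)).trace = (H.1 * X.1).trace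
      rw [hAdef, conjTranspose_nonsing_inv, conjTranspose_conjTranspose,
        Matrix.mul_assoc (Bᴴ⁻¹ * H.1), ← Matrix.mul_assoc B⁻¹, ← Matrix.mul_assoc B⁻¹,
        nonsing_inv_mul B hBu, Matrix.one_mul, ← Matrix.mul_assoc, trace_mul_comm,
        ← Matrix.mul_assoc, ← Matrix.mul_assoc,
        mul_nonsing_inv _ (by rw [det_conjTranspose]; exact (Ne.isUnit (star_ne_zero.2 hB))),
        Matrix.one_mul]
  rw [Module.finrank_fin_fun, hT] at h1
  refine Nat.div_le_of_le_mul ?_
  calc q ^ n - q = q * (q ^ (2 * m) - 1) := by rw [hn, pow_succ', Nat.mul_sub, mul_one]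
    _ ≤ q * ((q + 1) * O.card) := Nat.mul_le_mul_left _ hO
    _ = (q + 1) * (O.card * q) := by ring
    _ ≤ (q + 1) * k := Nat.mul_le_mul_left _ h1

end Main

end CfsgLib.MinDeg
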